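/-
Concrete (elementwise) description of Mathlib's Čech complex `cechComplexFunctor U` of a presheaf of
abelian groups on a topological space, for a family of opens `V : ι → Opens X`.

Main API (namespace `Groth.Agent.Lib.Cohomology`):
* `CC V P n`        : the Pi type `∀ a : Fin (n+1) → ι, P(∏ᶜ (V ∘ a))` of Čech `n`-cochains.
* `dC V P n`        : the concrete Čech differential `CC V P n →+ CC V P (n+1)`.
* `cechEquiv V P n` : additive equivalence between the degree-`n` term of Mathlib's complex and `CC V P n`,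
                      compatible with the differentials (`cechEquiv_d`).
* `isZero_cech_homology_succ` : vanishing of `H^{n+1}` from elementwise exactness of `dC`.
* `CC.at` : restriction of a component of a cochain to a smaller open, with `dC_at`.
-/
import Mathlib.CategoryTheory.Sites.SheafCohomology.Cech
import Mathlib.Algebra.Category.Grp.Abelian
import Mathlib.Algebra.Category.Grp.Limits
import Mathlib.Algebra.Homology.ShortComplex.Ab
import Mathlib.Algebra.Homology.ShortComplex.HomologicalComplex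
import Mathlib.Topology.Category.TopCat.Opens
import Mathlib.CategoryTheory.Limits.Lattice
import Mathlib.CategoryTheory.Limits.Shapes.ConcreteCategory

set_option autoImplicit false
universe u

namespace Groth.Agent.Lib.Cohomology

open CategoryTheory Limits Opposite TopologicalSpace

variable {X : TopCat.{u}} {ι : Type u} (V : ι → Opens X) (P : (Opens X)ᵒᵖ ⥤ AddCommGrpCat.{u})

/-- The degree `n` term of the Čech complex, as a categorical product. -/
noncomputable abbrev cechX (n : ℕ) : AddCommGrpCat.{u} :=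
  ∏ᶜ fun (a : Fin (n + 1) → ι) => P.obj (op (∏ᶜ (V ∘ a)))

/-- The inclusion of an `(n+2)`-fold intersection into the `(n+1)`-fold intersection omitting `k`. -/
noncomputable def cechRes {n : ℕ} (i : Fin (n + 2) → ι) (k : Fin (n + 2)) :
    ∏ᶜ (V ∘ i) ⟶ ∏ᶜ (V ∘ i ∘ k.succAbove) :=
  Pi.lift (fun a => Pi.π (V ∘ i) (k.succAbove a))

/-- The `k`-th coface map of the Čech cosimplicial object. -/
noncomputable def cechδ (n : ℕ) (k : Fin (n + 2)) : cechX V P n ⟶ cechX V P (n + 1) :=
  Pi.lift (fun i => Pi.π _ (i ∘ k.succAbove) ≫ P.map (cechRes V i k).op)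

/-- The Čech differential, as an alternating sum of cofaces. -/
noncomputable def cechD (n : ℕ) : cechX V P n ⟶ cechX V P (n + 1) :=
  ∑ k : Fin (n + 2), (-1 : ℤ) ^ (k : ℕ) • cechδ V P n k

lemma cech_X_eq (n : ℕ) : ((cechComplexFunctor V).obj P).X n = cechX V P n := rfl

lemma cech_d_eq (n : ℕ) : ((cechComplexFunctor V).obj P).d n (n + 1) = cechD V P n := by
  simp [cechComplexFunctor]
  rfl

/-- Concrete Čech cochains. -/
abbrev CC (n : ℕ) : Type u := ∀ a : Fin (n + 1) → ι, P.obj (op (∏ᶜ (V ∘ a)))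

/-- Concrete Čech differential. -/
noncomputable def dC (n : ℕ) : CC V P n →+ CC V P (n + 1) where
  toFun s i := ∑ k : Fin (n + 2), (-1 : ℤ) ^ (k : ℕ) • (P.map (cechRes V i k).op) (s (i ∘ k.succAbove))
  map_zero' := by
    funext i
    simp
  map_add' s t := by
    funext i
    simp [Finset.sum_add_distrib]

lemma dC_apply (n : ℕ) (s : CC V P n) (i : Fin (n + 2) → ι) :
    dC V P n s i =
      ∑ k : Fin (n + 2), (-1 : ℤ) ^ (k : ℕ) • (P.map (cechRes V i k).op) (s (i ∘ k.succAbove)) := rfl

/-- The comparison between the abstract and the concrete Čech cochains. -/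
noncomputable def cechEquiv (n : ℕ) : cechX V P n ≃+ CC V P n where
  toEquiv := Concrete.productEquiv (fun (a : Fin (n + 1) → ι) => P.obj (op (∏ᶜ (V ∘ a))))
  map_add' s t := by
    funext a
    simp [Concrete.productEquiv_apply_apply]

lemma cechEquiv_apply (n : ℕ) (s : cechX V P n) (a : Fin (n + 1) → ι) :
    cechEquiv V P n s a = Pi.π (fun (a : Fin (n + 1) → ι) => P.obj (op (∏ᶜ (V ∘ a)))) a s :=
  Concrete.productEquiv_apply_apply _ _ _

/-- Evaluating a finite sum of morphisms of abelian groups. -/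
lemma ab_sum_apply {M N : AddCommGrpCat.{u}} {κ : Type*} (s : Finset κ) (f : κ → (M ⟶ N)) (x : M) :
    (∑ k ∈ s, f k) x = ∑ k ∈ s, (f k) x := by
  classical
  induction s using Finset.induction_on with
  | empty => simp
  | insert a s ha ih =>
    rw [Finset.sum_insert ha, Finset.sum_insert ha, AddCommGrpCat.hom_add_apply, ih]

lemma cechEquiv_cechD (n : ℕ) (s : cechX V P n) :
    cechEquiv V P (n + 1) (cechD V P n s) = dC V P n (cechEquiv V P n s) := by
  funext i
  rw [cechEquiv_apply, dC_apply, cechD]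
  rw [← ConcreteCategory.comp_apply, Preadditive.sum_comp, ab_sum_apply]
  refine Finset.sum_congr rfl (fun k _ => ?_)
  rw [Preadditive.zsmul_comp, cechδ, Pi.lift_π, cechEquiv_apply]
  rfl

lemma cechEquiv_d (n : ℕ) (s : ((cechComplexFunctor V).obj P).X n) :
    cechEquiv V P (n + 1) (((cechComplexFunctor V).obj P).d n (n + 1) s) =
      dC V P n (cechEquiv V P n s) := by
  rw [cech_d_eq]
  exact cechEquiv_cechD V P n s

/-- Vanishing of Čech cohomology in degree `n+1` from elementwise exactness of the concrete complex. -/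
lemma isZero_cech_homology_succ (n : ℕ)
    (h : ∀ s : CC V P (n + 1), dC V P (n + 1) s = 0 → ∃ t : CC V P n, dC V P n t = s) :
    IsZero (((cechComplexFunctor V).obj P).homology (n + 1)) := by
  rw [← HomologicalComplex.exactAt_iff_isZero_homology,
    HomologicalComplex.exactAt_iff' _ n (n + 1) (n + 2) (by simp) (by simp),
    ShortComplex.ab_exact_iff]
  intro x hx
  have hx' : ((cechComplexFunctor V).obj P).d (n + 1) (n + 2)
      (x : ((cechComplexFunctor V).obj P).X (n + 1)) = 0 := hx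
  obtain ⟨t, ht⟩ := h (cechEquiv V P (n + 1) x) (by
    rw [← cechEquiv_d V P (n + 1) x, hx']
    exact map_zero (cechEquiv V P (n + 2)))
  refine ⟨(cechEquiv V P n).symm t, ?_⟩
  apply (cechEquiv V P (n + 1)).injective
  refine Eq.trans (cechEquiv_d V P n ((cechEquiv V P n).symm t)) ?_
  rw [AddEquiv.apply_symm_apply, ht]

/-- Conversely, vanishing of `H^{n+1}` gives elementwise exactness. -/
lemma exists_of_isZero_cech_homology_succ (n : ℕ)
    (h : IsZero (((cechComplexFunctor V).obj P).homology (n + 1)))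
    (s : CC V P (n + 1)) (hs : dC V P (n + 1) s = 0) : ∃ t : CC V P n, dC V P n t = s := by
  rw [← HomologicalComplex.exactAt_iff_isZero_homology,
    HomologicalComplex.exactAt_iff' _ n (n + 1) (n + 2) (by simp) (by simp),
    ShortComplex.ab_exact_iff] at h
  obtain ⟨y, hy⟩ := h ((cechEquiv V P (n + 1)).symm s) (by
    apply (cechEquiv V P (n + 2)).injective
    refine Eq.trans (cechEquiv_d V P (n + 1) ((cechEquiv V P (n + 1)).symm s)) ?_
    rw [AddEquiv.apply_symm_apply, hs]
    exact (map_zero (cechEquiv V P (n + 2))).symm)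
  have hy' : ((cechComplexFunctor V).obj P).d n (n + 1)
      (y : ((cechComplexFunctor V).obj P).X n) = (cechEquiv V P (n + 1)).symm s := hy
  refine ⟨cechEquiv V P n y, ?_⟩
  rw [← cechEquiv_d, hy', AddEquiv.apply_symm_apply]

section At

variable {V P}

/-- The component `s a` of a cochain restricted to a smaller open `W`. -/
noncomputable def CC.at {n : ℕ} (s : CC V P n) (a : Fin (n + 1) → ι) (W : Opens X)
    (hW : W ≤ ∏ᶜ (V ∘ a)) : P.obj (op W) :=
  P.map (homOfLE hW).op (s a)

lemma CC.at_self {n : ℕ} (s : CC V P n) (a : Fin (n + 1) → ι) :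
    s.at a (∏ᶜ (V ∘ a)) le_rfl = s a := by
  have : (homOfLE (le_refl (∏ᶜ (V ∘ a)))).op = 𝟙 _ := Subsingleton.elim _ _
  rw [CC.at, this, P.map_id]
  rfl

lemma CC.at_congr {n : ℕ} (s : CC V P n) {a b : Fin (n + 1) → ι} (hab : a = b) (W : Opens X)
    (hW : W ≤ ∏ᶜ (V ∘ a)) : s.at a W hW = s.at b W (hab ▸ hW) := by
  subst hab
  rfl

lemma CC.map_at {n : ℕ} (s : CC V P n) (a : Fin (n + 1) → ι) (W W' : Opens X)
    (hW : W ≤ ∏ᶜ (V ∘ a)) (φ : op W ⟶ op W') :
    P.map φ (s.at a W hW) = s.at a W' ((leOfHom φ.unop).trans hW) := by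
  rw [CC.at, CC.at, ← ConcreteCategory.comp_apply, ← P.map_comp]
  rfl

lemma CC.map_apply {n : ℕ} (s : CC V P n) (a : Fin (n + 1) → ι) (W : Opens X)
    (φ : op (∏ᶜ (V ∘ a)) ⟶ op W) :
    P.map φ (s a) = s.at a W (leOfHom φ.unop) := rfl

@[simp] lemma CC.add_at {n : ℕ} (s t : CC V P n) (a : Fin (n + 1) → ι) (W : Opens X)
    (hW : W ≤ ∏ᶜ (V ∘ a)) : (s + t).at a W hW = s.at a W hW + t.at a W hW := by
  simp [CC.at]

@[simp] lemma CC.sub_at {n : ℕ} (s t : CC V P n) (a : Fin (n + 1) → ι) (W : Opens X)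
    (hW : W ≤ ∏ᶜ (V ∘ a)) : (s - t).at a W hW = s.at a W hW - t.at a W hW := by
  simp [CC.at]

@[simp] lemma CC.zero_at {n : ℕ} (a : Fin (n + 1) → ι) (W : Opens X)
    (hW : W ≤ ∏ᶜ (V ∘ a)) : (0 : CC V P n).at a W hW = 0 := by
  simp [CC.at]

lemma le_cechOpen_succAbove {n : ℕ} (i : Fin (n + 2) → ι) (k : Fin (n + 2)) :
    ∏ᶜ (V ∘ i) ≤ ∏ᶜ (V ∘ i ∘ k.succAbove) := leOfHom (cechRes V i k)

lemma dC_at (n : ℕ) (s : CC V P n) (i : Fin (n + 2) → ι) (W : Opens X) (hW : W ≤ ∏ᶜ (V ∘ i)) :
    (dC V P n s).at i W hW =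
      ∑ k : Fin (n + 2), (-1 : ℤ) ^ (k : ℕ) •
        s.at (i ∘ k.succAbove) W (hW.trans (le_cechOpen_succAbove i k)) := by
  rw [CC.at, dC_apply, map_sum]
  refine Finset.sum_congr rfl (fun k _ => ?_)
  rw [map_zsmul, CC.map_apply, CC.map_at]

end At

end Groth.Agent.Lib.Cohomology
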