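/-
Abstract vanishing of Čech cohomology for a "localizing" presheaf with respect to a finite family of opens.

`X` a topological space, `P` a presheaf of abelian groups whose sections are modules over a commutative
ring `R` with `R`-linear restrictions, `V : ι → Opens X` a finite family, `f : ι → R`.
Hypotheses: restriction from `V_a` to `V_j ∩ V_a` behaves like localization at `f j` (sections lift up to a
power of `f j`, sections restricting to zero are killed by a power of `f j`).  Then every Čech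
cocycle of positive degree becomes a coboundary after multiplication by elements of the ideal generated by
suitable powers of the `f j` (`exists_pow_smul_eq_dC`), and consequently Čech cohomology vanishes in positive degrees if
some `g` in the radical of `(f j)_j` acts bijectively on all sections (`isZero_cech_homology_succ_of_localizing`).
-/
import Groth.Agent.Lib.Cohomology.Helper1_CechConcrete
import Mathlib.RingTheory.Ideal.Operations
import Mathlib.RingTheory.Nilpotent.Lemmas
import Mathlib.RingTheory.Ideal.Maps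

set_option autoImplicit false
universe u v

namespace Groth.Agent.Lib.Cohomology

open CategoryTheory Limits Opposite TopologicalSpace

variable {X : TopCat.{u}} {ι : Type u} (V : ι → Opens X)

lemma cechOpen_le {n : ℕ} (a : Fin n → ι) (k : Fin n) : ∏ᶜ (V ∘ a) ≤ V (a k) :=
  leOfHom (Pi.π (V ∘ a) k)

lemma le_cechOpen {n : ℕ} (a : Fin n → ι) (W : Opens X) (h : ∀ k, W ≤ V (a k)) : W ≤ ∏ᶜ (V ∘ a) :=
  leOfHom (Pi.lift (fun k => homOfLE (h k)))

lemma cechOpen_cons_le {n : ℕ} (j : ι) (a : Fin n → ι) : ∏ᶜ (V ∘ Fin.cons j a) ≤ ∏ᶜ (V ∘ a) :=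
  le_cechOpen V a _ (fun k => cechOpen_le V (Fin.cons j a) k.succ)

lemma cechOpen_eq_iInf {n : ℕ} (a : Fin n → ι) : ∏ᶜ (V ∘ a) = ⨅ k, V (a k) :=
  le_antisymm (le_iInf (cechOpen_le V a)) (le_cechOpen V a _ (fun k => iInf_le _ k))

lemma mem_cechOpen {n : ℕ} (a : Fin n → ι) (x : X) :
    x ∈ (∏ᶜ (V ∘ a) : Opens X) ↔ ∀ k, x ∈ V (a k) := by
  rw [cechOpen_eq_iInf, ← SetLike.mem_coe, Opens.coe_iInf]
  simp

lemma cons_comp_succAbove_zero {n : ℕ} (j : ι) (i : Fin (n + 1) → ι) :
    (Fin.cons j i : Fin (n + 2) → ι) ∘ (0 : Fin (n + 2)).succAbove = i := by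
  funext x
  simp

lemma cons_comp_succAbove_succ {n : ℕ} (j : ι) (i : Fin (n + 2) → ι) (k : Fin (n + 2)) :
    (Fin.cons j i : Fin (n + 3) → ι) ∘ k.succ.succAbove = Fin.cons j (i ∘ k.succAbove) := by
  funext x
  refine Fin.cases ?_ (fun y => ?_) x
  · simp
  · simp

variable (P : (Opens X)ᵒᵖ ⥤ AddCommGrpCat.{u})
  (R : Type v) [CommRing R] [∀ (n : ℕ) (a : Fin (n + 1) → ι), Module R (P.obj (op (∏ᶜ (V ∘ a))))]

/-- `R`-linearity of the restriction maps of `P` between the finite intersections of the family `V`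
(only on these opens a module structure is required). -/
def LinearRes : Prop :=
  ∀ (n m : ℕ) (a : Fin (n + 1) → ι) (b : Fin (m + 1) → ι)
    (φ : op (∏ᶜ (V ∘ a)) ⟶ op (∏ᶜ (V ∘ b))) (r : R) (x : P.obj (op (∏ᶜ (V ∘ a)))),
    P.map φ (r • x) = r • P.map φ x

variable {V P R}

lemma CC.smul_at (hlin : LinearRes V P R) {n m : ℕ} (r : R) (s : CC V P n) (a : Fin (n + 1) → ι)
    (b : Fin (m + 1) → ι) (hW : ∏ᶜ (V ∘ b) ≤ ∏ᶜ (V ∘ a)) :
    (r • s).at a (∏ᶜ (V ∘ b)) hW = r • s.at a (∏ᶜ (V ∘ b)) hW :=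
  hlin _ _ _ _ _ r (s a)

lemma dC_smul (hlin : LinearRes V P R) (n : ℕ) (r : R) (s : CC V P n) :
    dC V P n (r • s) = r • dC V P n s := by
  funext i
  rw [dC_apply, Pi.smul_apply, dC_apply, Finset.smul_sum]
  refine Finset.sum_congr rfl (fun k _ => ?_)
  rw [Pi.smul_apply, hlin, smul_comm]

/-- The linear version of the concrete differential. -/
noncomputable def dCₗ (hlin : LinearRes V P R) (n : ℕ) : CC V P n →ₗ[R] CC V P (n + 1) where
  toFun := dC V P n
  map_add' := map_add _
  map_smul' r s := dC_smul hlin n r s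

/-- Restriction from `V_a` to `V_j ∩ V_a` looks like localization at `r`: lifting property. -/
def LiftProp (V : ι → Opens X) (P : (Opens X)ᵒᵖ ⥤ AddCommGrpCat.{u}) (R : Type v) [CommRing R]
    [∀ (n : ℕ) (a : Fin (n + 1) → ι), Module R (P.obj (op (∏ᶜ (V ∘ a))))] (j : ι) (r : R) : Prop :=
  ∀ (n : ℕ) (a : Fin (n + 1) → ι) (t : P.obj (op (∏ᶜ (V ∘ Fin.cons j a)))),
    ∃ (k : ℕ) (t' : P.obj (op (∏ᶜ (V ∘ a)))),
      P.map (homOfLE (cechOpen_cons_le V j a)).op t' = r ^ k • t

/-- Restriction from `V_a` to `V_j ∩ V_a` looks like localization at `r`: kernel property. -/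
def KerProp (V : ι → Opens X) (P : (Opens X)ᵒᵖ ⥤ AddCommGrpCat.{u}) (R : Type v) [CommRing R]
    [∀ (n : ℕ) (a : Fin (n + 1) → ι), Module R (P.obj (op (∏ᶜ (V ∘ a))))] (j : ι) (r : R) : Prop :=
  ∀ (n : ℕ) (a : Fin (n + 1) → ι) (t' : P.obj (op (∏ᶜ (V ∘ a)))),
    P.map (homOfLE (cechOpen_cons_le V j a)).op t' = 0 → ∃ k : ℕ, r ^ k • t' = 0

/-- Key step: a cocycle of positive degree becomes a coboundary after multiplication by a power of `r`. -/
theorem exists_pow_smul_eq_dC [Finite ι] (hlin : LinearRes V P R) (j : ι) (r : R)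
    (h1 : LiftProp V P R j r) (h2 : KerProp V P R j r)
    (q : ℕ) (s : CC V P (q + 1)) (hs : dC V P (q + 1) s = 0) :
    ∃ (K : ℕ) (t : CC V P q), dC V P q t = r ^ K • s := by
  classical
  -- Step 1: choose lifts
  choose k t' ht' using fun a : Fin (q + 1) → ι => h1 q a (s (Fin.cons j a))
  obtain ⟨K, hK⟩ := (Set.finite_range k).bddAbove
  have hK' : ∀ a, k a ≤ K := fun a => hK ⟨a, rfl⟩
  let t : CC V P q := fun a => r ^ (K - k a) • t' a
  have ht : ∀ a, P.map (homOfLE (cechOpen_cons_le V j a)).op (t a) = r ^ K • s (Fin.cons j a) := by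
    intro a
    change P.map _ (r ^ (K - k a) • t' a) = _
    rw [hlin, ht', ← mul_smul, ← pow_add, Nat.sub_add_cancel (hK' a)]
  -- restriction of `t` to smaller opens
  have ht_at : ∀ (a : Fin (q + 1) → ι) (m : ℕ) (b : Fin (m + 1) → ι)
      (hW : ∏ᶜ (V ∘ b) ≤ ∏ᶜ (V ∘ Fin.cons j a)),
      t.at a (∏ᶜ (V ∘ b)) (hW.trans (cechOpen_cons_le V j a)) =
        r ^ K • s.at (Fin.cons j a) (∏ᶜ (V ∘ b)) hW := by
    intro a m b hW
    have h3 : P.map (homOfLE hW).op (P.map (homOfLE (cechOpen_cons_le V j a)).op (t a)) =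
        t.at a (∏ᶜ (V ∘ b)) (hW.trans (cechOpen_cons_le V j a)) := by
      rw [CC.map_apply, CC.map_at]
    rw [← h3, ht, hlin]
    rfl
  -- Step 2
  have key : ∀ i : Fin (q + 2) → ι,
      P.map (homOfLE (cechOpen_cons_le V j i)).op ((dC V P q t - r ^ K • s) i) = 0 := by
    intro i
    rw [CC.map_apply, CC.sub_at, CC.smul_at hlin, dC_at]
    have hcoc : (dC V P (q + 1) s).at (Fin.cons j i) (∏ᶜ (V ∘ Fin.cons j i)) le_rfl = 0 := by
      rw [hs, CC.zero_at]
    rw [dC_at, Fin.sum_univ_succ] at hcoc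
    have e0 : s.at ((Fin.cons j i : Fin (q + 3) → ι) ∘ (0 : Fin (q + 3)).succAbove)
        (∏ᶜ (V ∘ Fin.cons j i)) (le_rfl.trans (le_cechOpen_succAbove _ _)) =
        s.at i (∏ᶜ (V ∘ Fin.cons j i)) (cechOpen_cons_le V j i) :=
      CC.at_congr s (cons_comp_succAbove_zero j i) _ _
    have e1 : ∀ k : Fin (q + 2), s.at ((Fin.cons j i : Fin (q + 3) → ι) ∘ k.succ.succAbove)
        (∏ᶜ (V ∘ Fin.cons j i)) (le_rfl.trans (le_cechOpen_succAbove _ _)) =
        s.at (Fin.cons j (i ∘ k.succAbove)) (∏ᶜ (V ∘ Fin.cons j i))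
          (le_cechOpen V _ _ (fun x => by
            refine Fin.cases ?_ (fun y => ?_) x
            · exact cechOpen_le V (Fin.cons j i) 0
            · exact cechOpen_le V (Fin.cons j i) (k.succAbove y).succ)) :=
      fun k => CC.at_congr s (cons_comp_succAbove_succ j i k) _ _
    simp only [Fin.val_zero, pow_zero, one_smul, e0, e1, Fin.val_succ, pow_succ, mul_neg, mul_one,
      neg_smul] at hcoc
    rw [Finset.sum_neg_distrib, add_neg_eq_zero] at hcoc
    rw [hcoc, Finset.smul_sum, sub_eq_zero]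
    refine Finset.sum_congr rfl (fun k _ => ?_)
    rw [smul_comm, ← ht_at]
  -- Step 3
  choose k' hk' using fun i : Fin (q + 2) → ι => h2 (q + 1) i _ (key i)
  obtain ⟨K', hK'b⟩ := (Set.finite_range k').bddAbove
  have hK'' : ∀ i, k' i ≤ K' := fun i => hK'b ⟨i, rfl⟩
  refine ⟨K' + K, r ^ K' • t, ?_⟩
  rw [dC_smul hlin, pow_add, mul_smul, ← sub_eq_zero, ← smul_sub]
  funext i
  rw [Pi.smul_apply, ← Nat.sub_add_cancel (hK'' i), pow_add, mul_smul, hk', smul_zero]
  rfl

/-- Elementwise exactness in positive degrees of the Čech complex of a localizing presheaf. -/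
theorem exists_dC_eq_of_localizing [Finite ι] (hlin : LinearRes V P R) (f : ι → R)
    (h1 : ∀ j, LiftProp V P R j (f j)) (h2 : ∀ j, KerProp V P R j (f j))
    (g : R) (hg : g ∈ (Ideal.span (Set.range f)).radical)
    (hbij : ∀ (n : ℕ) (a : Fin (n + 1) → ι),
      Function.Bijective (fun x : P.obj (op (∏ᶜ (V ∘ a))) => g • x))
    (q : ℕ) (s : CC V P (q + 1)) (hs : dC V P (q + 1) s = 0) :
    ∃ t : CC V P q, dC V P q t = s := by
  classical
  have : Fintype ι := Fintype.ofFinite ι
  choose K t ht using fun j => exists_pow_smul_eq_dC hlin j (f j) (h1 j) (h2 j) q s hs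
  -- `g` is in the radical of the ideal generated by the powers
  have hg' : g ∈ (Ideal.span (Set.range (fun j => f j ^ K j))).radical := by
    have hle : Ideal.span (Set.range f) ≤ (Ideal.span (Set.range (fun j => f j ^ K j))).radical := by
      rw [Ideal.span_le]
      rintro _ ⟨j, rfl⟩
      exact ⟨K j, Ideal.subset_span ⟨j, rfl⟩⟩
    exact (Ideal.radical_le_radical_iff.2 hle) hg
  obtain ⟨N, hN⟩ := hg'
  obtain ⟨c, hc⟩ := (Ideal.mem_span_range_iff_exists_fun).1 hN
  -- `g ^ N • s` is a coboundary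
  have h3 : dC V P q (∑ j, c j • t j) = g ^ N • s := by
    rw [map_sum, ← hc, Finset.sum_smul]
    refine Finset.sum_congr rfl (fun j _ => ?_)
    rw [dC_smul hlin, ht, ← mul_smul]
  -- divide by `g ^ N`
  have hbijpow : ∀ (m n : ℕ) (a : Fin (n + 1) → ι),
      Function.Bijective (fun x : P.obj (op (∏ᶜ (V ∘ a))) => g ^ m • x) := by
    intro m n a
    induction m with
    | zero =>
      simp only [pow_zero, one_smul]
      exact Function.bijective_id
    | succ m ih =>
      have : (fun x : P.obj (op (∏ᶜ (V ∘ a))) => g ^ (m + 1) • x) =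
          (fun x => g ^ m • x) ∘ (fun x => g • x) := by
        funext x
        simp [pow_succ, mul_smul]
      rw [this]
      exact ih.comp (hbij n a)
  choose u hu using fun a : Fin (q + 1) → ι => (hbijpow N q a).2 ((∑ j, c j • t j) a)
  refine ⟨u, ?_⟩
  have h4 : g ^ N • (u : CC V P q) = ∑ j, c j • t j := by
    funext a
    exact hu a
  have h5 : g ^ N • dC V P q u = g ^ N • s := by
    rw [← dC_smul hlin, h4, h3]
  funext i
  exact (hbijpow N (q + 1) i).1 (congrFun h5 i)

/-- Vanishing of Čech cohomology in positive degrees for a localizing presheaf. -/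
theorem isZero_cech_homology_succ_of_localizing [Finite ι] (hlin : LinearRes V P R) (f : ι → R)
    (h1 : ∀ j, LiftProp V P R j (f j)) (h2 : ∀ j, KerProp V P R j (f j))
    (g : R) (hg : g ∈ (Ideal.span (Set.range f)).radical)
    (hbij : ∀ (n : ℕ) (a : Fin (n + 1) → ι),
      Function.Bijective (fun x : P.obj (op (∏ᶜ (V ∘ a))) => g • x))
    (q : ℕ) : IsZero (((cechComplexFunctor V).obj P).homology (q + 1)) :=
  isZero_cech_homology_succ V P q (exists_dC_eq_of_localizing hlin f h1 h2 g hg hbij q)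

end Groth.Agent.Lib.Cohomology
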