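/-
Sections of a quasi-coherent module `N` on `Spec R` (in the form `IsLocalizing`, e.g. `tilde M`) on basic
opens: lifting and kernel properties for the restriction `D(h) ⊇ D(h g)`, and the vanishing of Čech
cohomology for standard covers.
-/
import Groth.Agent.Lib.Cohomology.Helper1_CechLocalizing
import Mathlib.AlgebraicGeometry.Modules.Tilde

set_option autoImplicit false
universe u

namespace Groth.Agent.Lib.Cohomology

open CategoryTheory Limits Opposite TopologicalSpace AlgebraicGeometry

variable {R : CommRingCat.{u}}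

section Localizing

variable (N : (Spec R).Modules)

lemma spec_map_map (U V W : (Spec R).Opens) (i : op U ⟶ op V) (j : op V ⟶ op W) (m : Γ(N, U)) :
    N.presheaf.map j (N.presheaf.map i m) = N.presheaf.map (i ≫ j) m := by
  rw [N.presheaf.map_comp]
  rfl

/-- The basic open `D(h)` as an open of the scheme `Spec R`. -/
abbrev specD (h : R) : (Spec R).Opens := PrimeSpectrum.basicOpen h

lemma smul_pow_bijective_of_le_basicOpen (U : (Spec R).Opens) (h : R)
    (hU : U ≤ specD h) (k : ℕ) :
    Function.Bijective (fun x : Γ(N, U) => h ^ k • x) := by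
  have hu := (N.isUnit_algebraMap_end_of_le_basicOpen (U := U) h hU).pow k
  rw [← map_pow, Module.End.isUnit_iff] at hu
  exact hu

/-- The restriction `Γ(N, ⊤) → Γ(N, U)` behaves like the localization at `h`. -/
structure IsLocRes (U : (Spec R).Opens) (h : R) : Prop where
  le : U ≤ specD h
  surj : ∀ t : Γ(N, U), ∃ (k : ℕ) (m : Γ(N, ⊤)),
    h ^ k • t = N.presheaf.map (homOfLE (le_top : U ≤ ⊤)).op m
  ker : ∀ m : Γ(N, ⊤), N.presheaf.map (homOfLE (le_top : U ≤ ⊤)).op m = 0 → ∃ k : ℕ, h ^ k • m = 0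

lemma isLocRes_of_isLocalizing (hN : IsLocalizing (modulesSpecToSheaf.obj N)) (h : R)
    (U : (Spec R).Opens) (hU : U = specD h) : IsLocRes N U h := by
  subst hU
  refine ⟨le_rfl, fun t => ?_, fun m hm => ?_⟩
  · have := hN h
    obtain ⟨⟨m, ⟨_, k, rfl⟩⟩, hm⟩ := IsLocalizedModule.surj (Submonoid.powers h)
      ((modulesSpecToSheaf.obj N).obj.map (Opens.leTop (specD h)).op).hom t
    exact ⟨k, m, hm⟩
  · have := hN h
    obtain ⟨⟨_, k, rfl⟩, hk⟩ := (IsLocalizedModule.eq_zero_iff (Submonoid.powers h)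
      ((modulesSpecToSheaf.obj N).obj.map (Opens.leTop (specD h)).op).hom (m := m)).1 hm
    exact ⟨k, hk⟩

variable {N}

/-- Kernel property of the restriction `D(h) ⊇ D(h g)`. -/
lemma exists_smul_eq_zero_of_res_eq_zero {V W : (Spec R).Opens} {h g : R} (hV : IsLocRes N V h)
    (hW : IsLocRes N W (h * g)) (i : op V ⟶ op W) (t : Γ(N, V))
    (ht : N.presheaf.map i t = 0) :
    ∃ (k : ℕ), g ^ k • t = 0 := by
  obtain ⟨k, m, hm⟩ := hV.surj t
  have h1 : N.presheaf.map (homOfLE (le_top : W ≤ ⊤)).op m = 0 := by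
    have : (homOfLE (le_top : W ≤ ⊤)).op = (homOfLE (le_top : V ≤ ⊤)).op ≫ i :=
      Subsingleton.elim _ _
    rw [this, ← spec_map_map, ← hm, Scheme.Modules.map_smul_Spec, ht, smul_zero]
  obtain ⟨l, hl⟩ := hW.ker m h1
  refine ⟨l, ?_⟩
  have h2 : (h * g) ^ l • N.presheaf.map (homOfLE (le_top : V ≤ ⊤)).op m = 0 := by
    rw [← Scheme.Modules.map_smul_Spec, hl, map_zero]
  apply (smul_pow_bijective_of_le_basicOpen N V h hV.le (l + k)).1
  dsimp only
  rw [smul_zero, pow_add, mul_smul, smul_comm (h ^ k), hm, ← mul_smul, ← mul_pow]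
  exact h2

/-- Lifting property of the restriction `D(h) ⊇ D(h g)`. -/
lemma exists_lift_pow_smul {V W : (Spec R).Opens} {h g : R} (hV : IsLocRes N V h)
    (hW : IsLocRes N W (h * g)) (i : op V ⟶ op W) (t : Γ(N, W)) :
    ∃ (k : ℕ) (t' : Γ(N, V)), N.presheaf.map i t' = g ^ k • t := by
  obtain ⟨k, m, hm⟩ := hW.surj t
  obtain ⟨t', ht'⟩ := (smul_pow_bijective_of_le_basicOpen N V h hV.le k).2
    (N.presheaf.map (homOfLE (le_top : V ≤ ⊤)).op m)
  refine ⟨k, t', ?_⟩
  have hle : W ≤ specD h := (leOfHom i.unop).trans hV.le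
  apply (smul_pow_bijective_of_le_basicOpen N W h hle k).1
  dsimp only at ht' ⊢
  have : (homOfLE (le_top : W ≤ ⊤)).op = (homOfLE (le_top : V ≤ ⊤)).op ≫ i :=
    Subsingleton.elim _ _
  rw [← Scheme.Modules.map_smul_Spec, ht', spec_map_map, ← this, ← hm, mul_pow, mul_smul]

end Localizing

/-- Finite intersections of basic opens are basic opens. -/
lemma cechOpen_basicOpen {ι : Type u} (f : ι → R) {n : ℕ} (a : Fin n → ι) :
    ∏ᶜ ((fun i => specD (f i)) ∘ a) = specD (∏ k, f (a k)) := by
  ext x
  rw [SetLike.mem_coe, SetLike.mem_coe, mem_cechOpen]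
  change (∀ k, f (a k) ∉ x.asIdeal) ↔ (∏ k, f (a k)) ∉ x.asIdeal
  rw [x.2.prod_mem_iff]
  simp

section

variable (N : (Spec R).Modules)

lemma spec_linearRes {ι : Type u} (V : ι → (Spec R).Opens) : LinearRes V N.presheaf R :=
  fun _ _ _ _ φ r x => Scheme.Modules.map_smul_Spec (M := N) φ r x

variable (hN : IsLocalizing (modulesSpecToSheaf.obj N))
include hN

lemma spec_liftProp {ι : Type u} (f : ι → R) (j : ι) :
    LiftProp (fun i => specD (f i)) N.presheaf R j (f j) := by
  intro n a t
  refine exists_lift_pow_smul (h := ∏ k, f (a k)) (g := f j)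
    (isLocRes_of_isLocalizing N hN _ _ (cechOpen_basicOpen f a))
    (isLocRes_of_isLocalizing N hN _ _ ?_) _ t
  rw [cechOpen_basicOpen, Fin.prod_univ_succ, mul_comm]
  rfl

lemma spec_kerProp {ι : Type u} (f : ι → R) (j : ι) :
    KerProp (fun i => specD (f i)) N.presheaf R j (f j) := by
  intro n a t ht
  refine exists_smul_eq_zero_of_res_eq_zero (h := ∏ k, f (a k)) (g := f j)
    (isLocRes_of_isLocalizing N hN _ _ (cechOpen_basicOpen f a))
    (isLocRes_of_isLocalizing N hN _ _ ?_) _ t ht
  rw [cechOpen_basicOpen, Fin.prod_univ_succ, mul_comm]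
  rfl

/-- Čech cohomology of a quasi-coherent module on `Spec R` with respect to a finite family of basic opens
`D(f_j)` whose union is a basic open `D(g)` vanishes in positive degrees. -/
theorem isZero_cech_homology_spec {ι : Type u} [Finite ι] (f : ι → R) (g : R)
    (hg : g ∈ (Ideal.span (Set.range f)).radical)
    (hle : ∀ j, specD (f j) ≤ specD g) (q : ℕ) :
    IsZero (((cechComplexFunctor
      (fun i => specD (f i))).obj N.presheaf).homology (q + 1)) := by
  refine isZero_cech_homology_succ_of_localizing (R := R) (spec_linearRes N _) f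
    (spec_liftProp N hN f) (spec_kerProp N hN f) g hg ?_ q
  intro n a
  have := smul_pow_bijective_of_le_basicOpen N
    (∏ᶜ ((fun i => specD (f i)) ∘ a)) g
    ((cechOpen_le _ a 0).trans (hle _)) 1
  simpa using this

end

/-- Čech cohomology of `tilde M` with respect to a finite family of basic opens `D(f_j)` whose union is a
basic open `D(g)` vanishes in positive degrees. -/
theorem isZero_cech_homology_tilde (M : ModuleCat.{u} R) {ι : Type u} [Finite ι] (f : ι → R) (g : R)
    (hg : g ∈ (Ideal.span (Set.range f)).radical)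
    (hle : ∀ j, specD (f j) ≤ specD g) (q : ℕ) :
    IsZero (((cechComplexFunctor
      (fun i => specD (f i))).obj (tilde M).presheaf).homology (q + 1)) :=
  isZero_cech_homology_spec (tilde M) (isLocalizing_tilde M) f g hg hle q

end Groth.Agent.Lib.Cohomology
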