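/-
Čech cohomology of a quasi-coherent module `M` on a scheme `X` with respect to a finite family of basic
opens `X.basicOpen (f i)`, `f i ∈ Γ(X, W₀)`, of an affine open `W₀`, generating the unit ideal (or with
some `g` in the radical of the ideal they generate such that all `D(f i) ⊆ D(g)`): vanishing in positive
degrees (`isZero_cech_homology_affineOpen`).
-/
import Groth.Agent.Lib.Cohomology.Helper1_TildeCech
import Mathlib.AlgebraicGeometry.AffineScheme
import Mathlib.Algebra.Module.TransferInstance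

set_option autoImplicit false
set_option linter.style.haveILetI false
universe u

namespace Groth.Agent.Lib.Cohomology

open CategoryTheory Limits Opposite TopologicalSpace AlgebraicGeometry

variable {X : Scheme.{u}} (M : X.Modules) {W₀ : X.Opens} (hW₀ : IsAffineOpen W₀)

lemma image_preimage_of_le (W : X.Opens) (hW : W ≤ W₀) :
    hW₀.fromSpec ''ᵁ (hW₀.fromSpec ⁻¹ᵁ W) = W := by
  rw [Scheme.Hom.image_preimage_eq_opensRange_inf, hW₀.opensRange_fromSpec, inf_eq_right.2 hW]

/-- Sections of `M` over `W ≤ W₀` as sections of the restriction of `M` to `Spec Γ(X, W₀)`. -/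
noncomputable def secEquiv (W : X.Opens) (hW : W ≤ W₀) :
    Γ(M, W) ≃+ Γ(M.restrict hW₀.fromSpec, hW₀.fromSpec ⁻¹ᵁ W) :=
  (M.presheaf.mapIso (eqToIso (image_preimage_of_le hW₀ W hW)).op).addCommGroupIsoToAddEquiv

lemma secEquiv_apply (W : X.Opens) (hW : W ≤ W₀) (x : Γ(M, W)) :
    secEquiv M hW₀ W hW x = M.presheaf.map (eqToHom (image_preimage_of_le hW₀ W hW)).op x := rfl

/-- Compatibility of `secEquiv` with restriction maps. -/
lemma secEquiv_map (W W' : X.Opens) (hW : W ≤ W₀) (hW' : W' ≤ W₀) (ψ : op W ⟶ op W')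
    (i : op (hW₀.fromSpec ⁻¹ᵁ W) ⟶ op (hW₀.fromSpec ⁻¹ᵁ W')) (x : Γ(M, W)) :
    secEquiv M hW₀ W' hW' (M.presheaf.map ψ x) =
      (M.restrict hW₀.fromSpec).presheaf.map i (secEquiv M hW₀ W hW x) := by
  change M.presheaf.map (eqToHom (image_preimage_of_le hW₀ W' hW')).op (M.presheaf.map ψ x) =
    M.presheaf.map ((hW₀.fromSpec.opensFunctor.map i.unop).op)
      (M.presheaf.map (eqToHom (image_preimage_of_le hW₀ W hW)).op x)
  rw [← ConcreteCategory.comp_apply, ← ConcreteCategory.comp_apply, ← M.presheaf.map_comp,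
    ← M.presheaf.map_comp]
  congr 2

section Family

variable {ι : Type u} (f : ι → Γ(X, W₀))

lemma cechOpen_basicOpen_le {n : ℕ} (a : Fin (n + 1) → ι) :
    ∏ᶜ ((fun i => X.basicOpen (f i)) ∘ a) ≤ W₀ :=
  (cechOpen_le (fun i => X.basicOpen (f i)) a 0).trans (X.basicOpen_le _)

/-- The preimage in `Spec Γ(X, W₀)` of a finite intersection of the `X.basicOpen (f i)` is a basic open. -/
lemma preimage_cechOpen_basicOpen {n : ℕ} (a : Fin (n + 1) → ι) :
    hW₀.fromSpec ⁻¹ᵁ (∏ᶜ ((fun i => X.basicOpen (f i)) ∘ a)) = specD (∏ k, f (a k)) := by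
  rw [← cechOpen_basicOpen f a]
  ext x
  change hW₀.fromSpec x ∈ (∏ᶜ ((fun i => X.basicOpen (f i)) ∘ a) : Opens X) ↔
    x ∈ (∏ᶜ ((fun i => specD (f i)) ∘ a) : (Spec Γ(X, W₀)).Opens)
  rw [mem_cechOpen, mem_cechOpen]
  refine forall_congr' (fun k => ?_)
  have := hW₀.fromSpec_preimage_basicOpen (f (a k))
  exact (SetLike.ext_iff.1 this x)

/-- The `Γ(X, W₀)`-module structure on the sections of `M` over a finite intersection of the
`X.basicOpen (f i)`, transported from the restriction of `M` to `Spec Γ(X, W₀)`. -/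
@[reducible] noncomputable def cechModule (n : ℕ) (a : Fin (n + 1) → ι) :
    Module Γ(X, W₀) (M.presheaf.obj (op (∏ᶜ ((fun i => X.basicOpen (f i)) ∘ a)))) :=
  AddEquiv.module Γ(X, W₀) (secEquiv M hW₀ _ (cechOpen_basicOpen_le f a))

lemma secEquiv_smul {n : ℕ} (a : Fin (n + 1) → ι) (r : Γ(X, W₀))
    (x : M.presheaf.obj (op (∏ᶜ ((fun i => X.basicOpen (f i)) ∘ a)))) :
    letI := cechModule M hW₀ f n a
    secEquiv M hW₀ _ (cechOpen_basicOpen_le f a) (r • x) =
      r • secEquiv M hW₀ _ (cechOpen_basicOpen_le f a) x := by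
  letI := cechModule M hW₀ f n a
  exact (secEquiv M hW₀ _ (cechOpen_basicOpen_le f a)).apply_symm_apply _

lemma isLocalizing_restrict_fromSpec [M.IsQuasicoherent] :
    IsLocalizing (modulesSpecToSheaf.obj (M.restrict hW₀.fromSpec)) :=
  (isIso_fromTildeΓ_iff_isLocalizing _).1 inferInstance

lemma affine_linearRes :
    letI := cechModule M hW₀ f
    LinearRes (fun i => X.basicOpen (f i)) M.presheaf Γ(X, W₀) := by
  letI := cechModule M hW₀ f
  intro n m a b φ r x
  apply (secEquiv M hW₀ _ (cechOpen_basicOpen_le f b)).injective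
  rw [secEquiv_map M hW₀ _ _ (cechOpen_basicOpen_le f a) (cechOpen_basicOpen_le f b) φ
    ((Opens.map hW₀.fromSpec.base).map φ.unop).op, secEquiv_smul, secEquiv_smul,
    Scheme.Modules.map_smul_Spec,
    secEquiv_map M hW₀ _ _ (cechOpen_basicOpen_le f a) (cechOpen_basicOpen_le f b) φ
    ((Opens.map hW₀.fromSpec.base).map φ.unop).op]

variable [M.IsQuasicoherent]

lemma affine_liftProp (j : ι) :
    letI := cechModule M hW₀ f
    LiftProp (fun i => X.basicOpen (f i)) M.presheaf Γ(X, W₀) j (f j) := by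
  letI := cechModule M hW₀ f
  intro n a t
  have hN := isLocalizing_restrict_fromSpec M hW₀
  have hV := isLocRes_of_isLocalizing _ hN _ _ (preimage_cechOpen_basicOpen hW₀ f a)
  have hW : IsLocRes (M.restrict hW₀.fromSpec)
      (hW₀.fromSpec ⁻¹ᵁ (∏ᶜ ((fun i => X.basicOpen (f i)) ∘ (Fin.cons j a : Fin (n + 2) → ι))))
      ((∏ k, f (a k)) * f j) := by
    refine isLocRes_of_isLocalizing _ hN _ _ ?_
    rw [preimage_cechOpen_basicOpen, Fin.prod_univ_succ, mul_comm]
    rfl
  let i : op (hW₀.fromSpec ⁻¹ᵁ (∏ᶜ ((fun i => X.basicOpen (f i)) ∘ a))) ⟶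
      op (hW₀.fromSpec ⁻¹ᵁ (∏ᶜ ((fun i => X.basicOpen (f i)) ∘ (Fin.cons j a : Fin (n + 2) → ι)))) :=
    ((Opens.map hW₀.fromSpec.base).map (homOfLE (cechOpen_cons_le _ j a))).op
  obtain ⟨k, t'', ht''⟩ := exists_lift_pow_smul hV hW i
    (secEquiv M hW₀ _ (cechOpen_basicOpen_le f _) t)
  refine ⟨k, (secEquiv M hW₀ _ (cechOpen_basicOpen_le f a)).symm t'', ?_⟩
  apply (secEquiv M hW₀ _ (cechOpen_basicOpen_le f (Fin.cons j a : Fin (n + 2) → ι))).injective
  rw [secEquiv_map M hW₀ _ _ (cechOpen_basicOpen_le f a) (cechOpen_basicOpen_le f _) _ i,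
    AddEquiv.apply_symm_apply, ht'', secEquiv_smul]

lemma affine_kerProp (j : ι) :
    letI := cechModule M hW₀ f
    KerProp (fun i => X.basicOpen (f i)) M.presheaf Γ(X, W₀) j (f j) := by
  letI := cechModule M hW₀ f
  intro n a t ht
  have hN := isLocalizing_restrict_fromSpec M hW₀
  have hV := isLocRes_of_isLocalizing _ hN _ _ (preimage_cechOpen_basicOpen hW₀ f a)
  have hW : IsLocRes (M.restrict hW₀.fromSpec)
      (hW₀.fromSpec ⁻¹ᵁ (∏ᶜ ((fun i => X.basicOpen (f i)) ∘ (Fin.cons j a : Fin (n + 2) → ι))))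
      ((∏ k, f (a k)) * f j) := by
    refine isLocRes_of_isLocalizing _ hN _ _ ?_
    rw [preimage_cechOpen_basicOpen, Fin.prod_univ_succ, mul_comm]
    rfl
  let i : op (hW₀.fromSpec ⁻¹ᵁ (∏ᶜ ((fun i => X.basicOpen (f i)) ∘ a))) ⟶
      op (hW₀.fromSpec ⁻¹ᵁ (∏ᶜ ((fun i => X.basicOpen (f i)) ∘ (Fin.cons j a : Fin (n + 2) → ι)))) :=
    ((Opens.map hW₀.fromSpec.base).map (homOfLE (cechOpen_cons_le _ j a))).op
  obtain ⟨k, hk⟩ := exists_smul_eq_zero_of_res_eq_zero hV hW i
    (secEquiv M hW₀ _ (cechOpen_basicOpen_le f a) t) (by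
      rw [← secEquiv_map M hW₀ _ _ (cechOpen_basicOpen_le f a) (cechOpen_basicOpen_le f _)
        (homOfLE (cechOpen_cons_le _ j a)).op i, ht, map_zero])
  refine ⟨k, ?_⟩
  apply (secEquiv M hW₀ _ (cechOpen_basicOpen_le f a)).injective
  rw [secEquiv_smul, hk, map_zero]

include hW₀ in
/-- **Čech vanishing on affine opens.** For a quasi-coherent module `M` on a scheme `X`, an affine open
`W₀` and finitely many `f i ∈ Γ(X, W₀)` generating the unit ideal, the Čech cohomology of `M` with respect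
to the family `X.basicOpen (f i)` vanishes in positive degrees. -/
theorem isZero_cech_homology_affineOpen [Finite ι] (hf : Ideal.span (Set.range f) = ⊤) (q : ℕ) :
    IsZero (((cechComplexFunctor (fun i => X.basicOpen (f i))).obj M.presheaf).homology (q + 1)) := by
  letI := cechModule M hW₀ f
  refine isZero_cech_homology_succ_of_localizing (R := Γ(X, W₀)) (affine_linearRes M hW₀ f) f
    (affine_liftProp M hW₀ f) (affine_kerProp M hW₀ f) 1 (by rw [hf, Ideal.radical_top]; trivial)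
    ?_ q
  intro n a
  simp only [one_smul]
  exact Function.bijective_id

end Family

end Groth.Agent.Lib.Cohomology
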