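import Mathlib.CategoryTheory.Abelian.RightDerived
import Mathlib.CategoryTheory.Abelian.Injective.Resolution
import Mathlib.CategoryTheory.Limits.Preserves.Shapes.Kernels
import Mathlib.Algebra.Homology.ShortComplex.ShortExact

/-!
# Acyclicity for right derived functors from an "adapted class" (helper3, PROJECT COHOMOLOGY)

`isZero_rightDerived_succ_of_class`: if `G` is a left exact additive functor between abelian
categories, and `P` is a class of objects containing the injectives, closed under cokernels of
monomorphisms between members, and such that `G` sends short exact sequences with kernel in `P`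
to epimorphisms, then `R^{n+1} G A = 0` for `A` in `P`.
-/

set_option autoImplicit false
universe v v' u u'
open CategoryTheory CategoryTheory.Limits ZeroObject

namespace Groth.Agent.Lib.Cohomology

section

variable {C : Type u} [Category.{v} C] [Abelian C] {D : Type u'} [Category.{v'} D] [Abelian D]

/-- The short complex `ker f ⟶ X ⟶ ker g` attached to `f ≫ g = 0`. -/
noncomputable abbrev kerSeq {X Y Z : C} (f : X ⟶ Y) (g : Y ⟶ Z) (w : f ≫ g = 0) : ShortComplex C :=
  ShortComplex.mk (kernel.ι f) (kernel.lift g f w) (by
    rw [← cancel_mono (kernel.ι g), Category.assoc, kernel.lift_ι, kernel.condition, zero_comp])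

theorem kerSeq_shortExact {X Y Z : C} (f : X ⟶ Y) (g : Y ⟶ Z) (w : f ≫ g = 0)
    (h : (ShortComplex.mk f g w).Exact) : (kerSeq f g w).ShortExact := by
  have hepi : Epi (kernel.lift g f w) := h.epi_kernelLift
  have hex : (kerSeq f g w).Exact := by
    let T : ShortComplex C := ShortComplex.mk (kernel.ι f) f (kernel.condition f)
    have hT : T.Exact := ShortComplex.exact_of_f_is_kernel _ (kernelIsKernel f)
    let φ : kerSeq f g w ⟶ T :=
      { τ₁ := 𝟙 _
        τ₂ := 𝟙 _
        τ₃ := kernel.ι g
        comm₁₂ := by simp [T]
        comm₂₃ := by simp [T] }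
    have : Epi φ.τ₁ := by dsimp [φ]; infer_instance
    have : IsIso φ.τ₂ := by dsimp [φ]; infer_instance
    have : Mono φ.τ₃ := by dsimp [φ]; infer_instance
    exact (ShortComplex.exact_iff_of_epi_of_isIso_of_mono φ).2 hT
  exact { exact := hex, mono_f := by dsimp; infer_instance, epi_g := hepi }

variable [EnoughInjectives C] (G : C ⥤ D) [G.Additive] [PreservesFiniteLimits G]
  (P : C → Prop)
  (h1 : ∀ I : C, Injective I → P I)
  (h2 : ∀ S : ShortComplex C, S.ShortExact → P S.X₁ → P S.X₂ → P S.X₃)
  (h3 : ∀ S : ShortComplex C, S.ShortExact → P S.X₁ → Epi (G.map S.g))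

omit [EnoughInjectives C] in
include h1 h2 in
theorem class_of_iso {A B : C} (e : A ≅ B) (hA : P A) : P B := by
  let S : ShortComplex C := ShortComplex.mk (0 : (0 : C) ⟶ A) e.hom zero_comp
  have hS : S.ShortExact :=
    { exact := (S.exact_iff_mono rfl).2 (by dsimp [S]; infer_instance)
      mono_f := by dsimp [S]; infer_instance
      epi_g := by dsimp [S]; infer_instance }
  exact h2 S hS (h1 _ inferInstance) hA

include h1 h2 h3 in
theorem isZero_rightDerived_succ_of_class (A : C) (hA : P A) (n : ℕ) :
    IsZero ((G.rightDerived (n + 1)).obj A) := by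
  let I : InjectiveResolution A := (HasInjectiveResolution.out (Z := A)).some
  refine IsZero.of_iso ?_ (I.isoRightDerivedObj G (n + 1))
  -- cycles of the resolution are in the class
  have hZ : ∀ k : ℕ, P (kernel (I.cocomplex.d k (k + 1))) := by
    intro k
    induction k with
    | zero =>
      let e : A ≅ kernel (I.cocomplex.d 0 1) :=
        IsLimit.conePointUniqueUpToIso I.isLimitKernelFork (limit.isLimit _)
      exact class_of_iso P h1 h2 e hA
    | succ k ih =>
      have hS := kerSeq_shortExact _ _ (I.cocomplex.d_comp_d k (k + 1) (k + 2)) (I.exact_succ k)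
      exact h2 _ hS ih (h1 _ inferInstance)
  change IsZero (((G.mapHomologicalComplex _).obj I.cocomplex).homology (n + 1))
  rw [← HomologicalComplex.exactAt_iff_isZero_homology,
    HomologicalComplex.exactAt_iff' _ n (n + 1) (n + 2) (by simp) (by simp)]
  have hS := kerSeq_shortExact _ _ (I.cocomplex.d_comp_d n (n + 1) (n + 2)) (I.exact_succ n)
  have hepi : Epi (G.map (kernel.lift (I.cocomplex.d (n + 1) (n + 2)) (I.cocomplex.d n (n + 1))
      (I.cocomplex.d_comp_d n (n + 1) (n + 2)))) := h3 _ hS (hZ n)
  rw [ShortComplex.exact_iff_epi_kernel_lift]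
  have key := map_lift_kernelComparison (f := I.cocomplex.d (n + 1) (n + 2)) (G := G)
    (I.cocomplex.d_comp_d n (n + 1) (n + 2))
  change Epi (kernel.lift (G.map (I.cocomplex.d (n + 1) (n + 2))) (G.map (I.cocomplex.d n (n + 1))) _)
  rw [← key]
  infer_instance

end

end Groth.Agent.Lib.Cohomology
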