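import Groth.Prelude.Def_CohTop
import Groth.Prelude.Def_LocCohZ
import Groth.Prelude.Def_FreeSh
import Groth.Agent.Lib.Cohomology.Helper3_Acyclic

/-!
# Flasque sheaves are acyclic (helper3, PROJECT COHOMOLOGY)

* `isFlasque_of_injective` : injective abelian sheaves are flasque.
* `ext_succ_subsingleton_of_flasque` : generic dimension shifting: if `Hom(A, -)` sends short exact
  sequences with flasque kernel to surjections, then `Ext^{n+1}(A, F) = 0` for flasque `F`.
* `HU_succ_subsingleton_of_flasque`, `H_succ_subsingleton_of_flasque`.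
-/

set_option autoImplicit false
universe u
open CategoryTheory CategoryTheory.Limits TopologicalSpace Opposite

namespace Groth.Agent.Lib.Cohomology

/-- The map `ℤ_V ⟶ ℤ_U` of free abelian sheaves is a monomorphism. -/
instance mono_freeSheafMap {X : TopCat.{u}} {U V : Opens X} (h : V ≤ U) :
    Mono (CohCx.freeSheafMap (Opens.grothendieckTopology X) (homOfLE h)) :=
  (LocCohZ.zqSeq_shortExact h).mono_f

/-- Injective abelian sheaves are flasque. -/
theorem isFlasque_of_injective {X : TopCat.{u}} (F : CohTop.Ab X) [Injective F] :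
    TopCat.Sheaf.IsFlasque F := by
  refine ⟨fun {U V} i => ?_⟩
  rw [AddCommGrpCat.epi_iff_surjective]
  intro s
  have hle : V.unop ≤ U.unop := leOfHom i.unop
  let φ := CohFree.ofSect (Opens.grothendieckTopology X) V.unop F s
  let ψ := Injective.factorThru φ (CohCx.freeSheafMap (Opens.grothendieckTopology X) (homOfLE hle))
  refine ⟨CohFree.evalGen (Opens.grothendieckTopology X) U.unop F ψ, ?_⟩
  have := CohFree.evalGen_freeSheafMap_comp (Opens.grothendieckTopology X) (homOfLE hle) F ψ
  rw [Injective.comp_factorThru, CohFree.evalGen_ofSect] at this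
  exact this.symm

/-- Generic dimension shifting: if `Hom(A, -)` sends short exact sequences with flasque kernel to
surjections, then `Ext^{n+1}(A, F) = 0` for every flasque `F`. -/
theorem ext_succ_subsingleton_of_flasque {X : TopCat.{u}} (A : CohTop.Ab X)
    (hA : ∀ (S : ShortComplex (CohTop.Ab X)) (_ : S.ShortExact) [TopCat.Sheaf.IsFlasque S.X₁]
      (φ : A ⟶ S.X₃), ∃ ψ : A ⟶ S.X₂, ψ ≫ S.g = φ)
    (n : ℕ) (F : CohTop.Ab X) [TopCat.Sheaf.IsFlasque F] :
    Subsingleton (Abelian.Ext.{u} A F (n + 1)) := by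
  induction n generalizing F with
  | zero =>
    let S := ShortComplex.mk _ _ (cokernel.condition (Injective.ι F))
    have hS : S.ShortExact :=
      { exact := ShortComplex.exact_of_g_is_cokernel _ (cokernelIsCokernel S.f) }
    have : TopCat.Sheaf.IsFlasque S.X₁ := ‹_›
    refine subsingleton_of_forall_eq 0 fun x => ?_
    obtain ⟨x₃, hx₃⟩ := Abelian.Ext.covariant_sequence_exact₁ A hS x
      (Abelian.Ext.eq_zero_of_injective _) rfl
    obtain ⟨φ, rfl⟩ := (Abelian.Ext.mk₀_bijective A S.X₃).2 x₃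
    obtain ⟨ψ, rfl⟩ := hA S hS φ
    rw [← hx₃, ← Abelian.Ext.mk₀_comp_mk₀, Abelian.Ext.comp_assoc_of_second_deg_zero,
      hS.comp_extClass, Abelian.Ext.comp_zero]
  | succ n ih =>
    let S := ShortComplex.mk _ _ (cokernel.condition (Injective.ι F))
    have hS : S.ShortExact :=
      { exact := ShortComplex.exact_of_g_is_cokernel _ (cokernelIsCokernel S.f) }
    have : TopCat.Sheaf.IsFlasque S.X₁ := ‹_›
    have : TopCat.Sheaf.IsFlasque S.X₂ := isFlasque_of_injective (Injective.under F)
    have : TopCat.Sheaf.IsFlasque S.X₃ := TopCat.Sheaf.IsFlasque.of_shortExact_of_isFlasque₁₂ hS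
    refine subsingleton_of_forall_eq 0 fun x => ?_
    obtain ⟨x₃, hx₃⟩ := Abelian.Ext.covariant_sequence_exact₁ A hS x
      (Abelian.Ext.eq_zero_of_injective _) rfl
    have := ih S.X₃
    rw [← hx₃, Subsingleton.elim x₃ 0, Abelian.Ext.zero_comp]


/-- `evalGen` is natural in the sheaf. -/
theorem evalGen_comp {X : TopCat.{u}} (U : Opens X) {F G : CohTop.Ab X}
    (φ : CohCx.freeSheaf (Opens.grothendieckTopology X) U ⟶ F) (g : F ⟶ G) :
    CohFree.evalGen (Opens.grothendieckTopology X) U G (φ ≫ g) =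
      (g.hom.app (op U)).hom (CohFree.evalGen (Opens.grothendieckTopology X) U F φ) := rfl

/-- Maps out of `ℤ_U` lift along epimorphisms with flasque kernel. -/
theorem freeSheaf_lift_of_flasque {X : TopCat.{u}} (U : Opens X)
    (S : ShortComplex (CohTop.Ab X)) (hS : S.ShortExact) [TopCat.Sheaf.IsFlasque S.X₁]
    (φ : CohCx.freeSheaf (Opens.grothendieckTopology X) U ⟶ S.X₃) :
    ∃ ψ : CohCx.freeSheaf (Opens.grothendieckTopology X) U ⟶ S.X₂, ψ ≫ S.g = φ := by
  have hepi : Epi (S.g.1.app (op U)) := TopCat.Sheaf.IsFlasque.epi_of_shortExact hS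
  rw [AddCommGrpCat.epi_iff_surjective] at hepi
  obtain ⟨t, ht⟩ := hepi (CohFree.evalGen (Opens.grothendieckTopology X) U S.X₃ φ)
  refine ⟨CohFree.ofSect (Opens.grothendieckTopology X) U S.X₂ t, ?_⟩
  apply (CohFree.homEquivSect (Opens.grothendieckTopology X) U S.X₃).injective
  rw [CohFree.homEquivSect_apply, CohFree.homEquivSect_apply, evalGen_comp, CohFree.evalGen_ofSect]
  exact ht

/-- A flasque abelian sheaf has vanishing higher cohomology on every open. -/
theorem HU_succ_subsingleton_of_flasque {X : TopCat.{u}} (F : CohTop.Ab X)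
    [TopCat.Sheaf.IsFlasque F] (U : Opens X) (n : ℕ) :
    Subsingleton (CohTop.HU F (n + 1) U) := by
  change Subsingleton (Abelian.Ext.{u} (CohCx.freeSheaf (Opens.grothendieckTopology X) U) F (n + 1))
  exact ext_succ_subsingleton_of_flasque _
    (fun S hS _ φ => freeSheaf_lift_of_flasque U S hS φ) n F


/-- The top open is terminal in `Opens X`. -/
def isTerminalTop (X : TopCat.{u}) : IsTerminal (⊤ : Opens X) :=
  IsTerminal.ofUniqueHom (fun _ => homOfLE le_top) (fun _ _ => Subsingleton.elim _ _)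

/-- Maps out of the constant sheaf `ℤ` lift along epimorphisms with flasque kernel. -/
theorem constZ_lift_of_flasque {X : TopCat.{u}}
    (S : ShortComplex (CohTop.Ab X)) (hS : S.ShortExact) [TopCat.Sheaf.IsFlasque S.X₁]
    (φ : (constantSheaf (Opens.grothendieckTopology X) AddCommGrpCat.{u}).obj
      (AddCommGrpCat.of (ULift ℤ)) ⟶ S.X₃) :
    ∃ ψ : (constantSheaf (Opens.grothendieckTopology X) AddCommGrpCat.{u}).obj
      (AddCommGrpCat.of (ULift ℤ)) ⟶ S.X₂, ψ ≫ S.g = φ := by
  have hepi : Epi (S.g.1.app (op (⊤ : Opens X))) := TopCat.Sheaf.IsFlasque.epi_of_shortExact hS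
  rw [AddCommGrpCat.epi_iff_surjective] at hepi
  have hT := isTerminalTop X
  obtain ⟨t, ht⟩ := hepi (Sheaf.H.equiv₀ S.X₃ hT (Abelian.Ext.mk₀ φ))
  refine ⟨Abelian.Ext.addEquiv₀ ((Sheaf.H.equiv₀ S.X₂ hT).symm t), ?_⟩
  apply (Abelian.Ext.mk₀_bijective _ _).1
  have h1 := Sheaf.H.equiv₀_symm_naturality hT S.g t
  rw [Sheaf.H.map_apply] at h1
  rw [← Abelian.Ext.mk₀_comp_mk₀, Abelian.Ext.mk₀_addEquiv₀_apply, h1]
  change _ = _ at ht
  rw [ht, AddEquiv.symm_apply_apply]

/-- A flasque abelian sheaf has vanishing higher cohomology. -/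
theorem H_succ_subsingleton_of_flasque {X : TopCat.{u}} (F : CohTop.Ab X)
    [TopCat.Sheaf.IsFlasque F] (n : ℕ) : Subsingleton (CohTop.H F (n + 1)) :=
  ext_succ_subsingleton_of_flasque _ (fun S hS _ φ => constZ_lift_of_flasque S hS φ) n F


/-- Pushforward sends short exact sequences with flasque kernel to epimorphisms. -/
theorem epi_push_map_of_flasque {X Y : TopCat.{u}} (f : X ⟶ Y) (S : ShortComplex (CohTop.Ab X))
    (hS : S.ShortExact) [TopCat.Sheaf.IsFlasque S.X₁] : Epi ((CohTop.push f).map S.g) := by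
  refine (TopCat.Sheaf.isLocallySurjective_iff_epi (X := Y) (C := AddCommGrpCat.{u})
    ((CohTop.push f).map S.g)).1 ?_
  rw [TopCat.Presheaf.isLocallySurjective_iff]
  intro V t x hx
  have hepi : Epi (S.g.1.app (op ((Opens.map f).obj V))) :=
    TopCat.Sheaf.IsFlasque.epi_of_shortExact hS
  rw [AddCommGrpCat.epi_iff_surjective] at hepi
  obtain ⟨s, hs⟩ := hepi t
  refine ⟨V, le_rfl, ⟨s, ?_⟩, hx⟩
  refine hs.trans ?_
  simp [TopCat.Presheaf.restrictOpen, TopCat.Presheaf.restrict]
  rfl

instance push_isRightAdjoint {X Y : TopCat.{u}} (f : X ⟶ Y) : (CohTop.push f).IsRightAdjoint :=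
  inferInstanceAs ((TopCat.Sheaf.pushforward AddCommGrpCat.{u} f).IsRightAdjoint)

instance push_preservesFiniteLimits {X Y : TopCat.{u}} (f : X ⟶ Y) :
    PreservesFiniteLimits (CohTop.push f) := by
  have : PreservesLimitsOfSize.{0, 0} (CohTop.push f) :=
    (Adjunction.ofIsRightAdjoint (CohTop.push f)).rightAdjoint_preservesLimits
  exact PreservesLimitsOfSize.preservesFiniteLimits _

/-- Higher direct images of a flasque sheaf vanish. -/
theorem isZero_Rpush_succ_of_flasque {X Y : TopCat.{u}} (f : X ⟶ Y) (F : CohTop.Ab X)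
    [TopCat.Sheaf.IsFlasque F] (q : ℕ) : IsZero ((CohTop.Rpush f (q + 1)).obj F) :=
  isZero_rightDerived_succ_of_class (CohTop.push f) (fun G => TopCat.Sheaf.IsFlasque G)
    (fun I _ => isFlasque_of_injective I)
    (fun _ hS _ _ => TopCat.Sheaf.IsFlasque.of_shortExact_of_isFlasque₁₂ hS)
    (fun S hS _ => epi_push_map_of_flasque f S hS) F ‹_› q

end Groth.Agent.Lib.Cohomology
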