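import Groth.Agent.Lib.Cohomology.Helper4_CechInj
import Groth.Agent.Lib.Cohomology.Helper3_Flasque
import Groth.Prelude.Def_CechTot
import Mathlib.Algebra.Homology.HomologySequence
import Mathlib.Algebra.Homology.HomologicalComplexAbelian

/-!
# Cartan's criterion (helper3, PROJECT COHOMOLOGY)

* `cechSC V S` : the short complex of Čech complexes attached to a short complex of sheaves.
* `cechSC_shortExact` : it is short exact if `S` is and sections of `S.g` over all finite
  intersections of members of `V` are surjective.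
* `isZero_cechH_quot` : Čech acyclicity passes to the quotient.
* `freeSheaf_lift_of_surjective`, `HU_one_subsingleton_of_surjective`, `HU_succ_shift`.
* `cartan_basis` : Cartan's criterion on a basis (given the surjectivity lemma S0466 as input).
-/

set_option autoImplicit false
universe u
open CategoryTheory CategoryTheory.Limits TopologicalSpace Opposite

namespace Groth.Agent.Lib.Cohomology

open Cech

section CechSES

variable {X : TopCat.{u}} {ι : Type u} (V : ι → Opens X) (S : ShortComplex (CohTop.Ab X))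

/-- The short complex of Čech complexes attached to a short complex of sheaves. -/
noncomputable def cechSC : ShortComplex (CochainComplex AddCommGrpCat.{u} ℕ) :=
  ShortComplex.mk ((cechComplexFunctor V).map S.f.hom) ((cechComplexFunctor V).map S.g.hom) (by
    rw [← Functor.map_comp]
    have : S.f.hom ≫ S.g.hom = 0 := by
      have h := congrArg (fun φ => φ.hom) S.zero
      exact h
    rw [this, Functor.map_zero])

/-- Sections of a monomorphism of abelian sheaves are injective. -/
theorem sections_injective_of_mono {F G : CohTop.Ab X} (f : F ⟶ G) [Mono f] (U : Opens X) :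
    Function.Injective (f.hom.app (op U)) := by
  have h1 : Mono f.hom := (Sheaf.Hom.mono_iff_presheaf_mono _ _ f).1 inferInstance
  have h2 : Mono (f.hom.app (op U)) := (NatTrans.mono_iff_mono_app f.hom).1 h1 (op U)
  exact (AddCommGrpCat.mono_iff_injective _).1 h2

variable {S}

theorem cechSC_shortExact (hS : S.ShortExact)
    (hsurj : ∀ (n : ℕ) (i : Fin (n + 1) → ι),
      Function.Surjective (S.g.hom.app (op (inter V i)))) :
    (cechSC V S).ShortExact := by
  have := hS.mono_f
  refine HomologicalComplex.shortExact_of_degreewise_shortExact _ (fun n => ?_)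
  refine
    { exact := ?_
      mono_f := ?_
      epi_g := ?_ }
  · rw [ShortComplex.ab_exact_iff]
    intro x₂ hx₂
    change ((cechComplexFunctor V).map S.g.hom).f n x₂ = 0 at hx₂
    have hcomp : ∀ i : Fin (n + 1) → ι,
        ∃ t : S.X₁.obj.obj (op (inter V i)), S.f.hom.app (op (inter V i)) t = proj S.X₂.obj V n i x₂ := by
      intro i
      apply TopCat.Sheaf.sections_exact_of_left_exact hS.exact hS.mono_f
      rw [← map_proj_apply, hx₂, map_zero]
    choose t ht using hcomp
    refine ⟨(cochEquiv S.X₁.obj V n).symm t, ?_⟩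
    change ((cechComplexFunctor V).map S.f.hom).f n _ = x₂
    apply cx_ext
    intro i
    rw [map_proj_apply, proj_cochEquiv_symm, ht]
  · change Mono (((cechComplexFunctor V).map S.f.hom).f n)
    rw [AddCommGrpCat.mono_iff_injective]
    intro x y hxy
    apply cx_ext
    intro i
    apply sections_injective_of_mono S.f (inter V i)
    rw [← map_proj_apply, ← map_proj_apply, hxy]
  · change Epi (((cechComplexFunctor V).map S.g.hom).f n)
    rw [AddCommGrpCat.epi_iff_surjective]
    intro c
    have hcomp : ∀ i : Fin (n + 1) → ι,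
        ∃ t : S.X₂.obj.obj (op (inter V i)), S.g.hom.app (op (inter V i)) t = proj S.X₃.obj V n i c :=
      fun i => hsurj n i _
    choose t ht using hcomp
    refine ⟨(cochEquiv S.X₂.obj V n).symm t, ?_⟩
    apply cx_ext
    intro i
    rw [map_proj_apply, proj_cochEquiv_symm, ht]

/-- Čech acyclicity passes to the quotient of a short exact sequence (when sections over the
finite intersections stay exact). -/
theorem isZero_cechH_quot (hS : S.ShortExact)
    (hsurj : ∀ (n : ℕ) (i : Fin (n + 1) → ι),
      Function.Surjective (S.g.hom.app (op (inter V i))))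
    (p : ℕ) (h1 : IsZero (CohTop.cechH S.X₂.obj V (p + 1)))
    (h2 : IsZero (CohTop.cechH S.X₁.obj V (p + 2))) :
    IsZero (CohTop.cechH S.X₃.obj V (p + 1)) := by
  have hSC := cechSC_shortExact V hS hsurj
  have hex := hSC.homology_exact₃ (p + 1) (p + 2) rfl
  exact hex.isZero_of_both_zeros (h1.eq_of_src _ _) (h2.eq_of_tgt _ _)

end CechSES

section Shift

variable {X : TopCat.{u}}

/-- Maps out of `ℤ_U` lift along a morphism which is surjective on sections over `U`. -/
theorem freeSheaf_lift_of_surjective (U : Opens X) {G H : CohTop.Ab X} (g : G ⟶ H)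
    (hg : Function.Surjective (g.hom.app (op U)))
    (φ : CohCx.freeSheaf (Opens.grothendieckTopology X) U ⟶ H) :
    ∃ ψ : CohCx.freeSheaf (Opens.grothendieckTopology X) U ⟶ G, ψ ≫ g = φ := by
  obtain ⟨t, ht⟩ := hg (CohFree.evalGen (Opens.grothendieckTopology X) U H φ)
  refine ⟨CohFree.ofSect (Opens.grothendieckTopology X) U G t, ?_⟩
  apply (CohFree.homEquivSect (Opens.grothendieckTopology X) U H).injective
  rw [CohFree.homEquivSect_apply, CohFree.homEquivSect_apply, evalGen_comp, CohFree.evalGen_ofSect]
  exact ht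

/-- The short exact sequence `F ⟶ I(F) ⟶ I(F)/F` with `I(F)` injective. -/
noncomputable abbrev injSeq (F : CohTop.Ab X) : ShortComplex (CohTop.Ab X) :=
  ShortComplex.mk _ _ (cokernel.condition (Injective.ι F))

theorem injSeq_shortExact (F : CohTop.Ab X) : (injSeq F).ShortExact :=
  { exact := ShortComplex.exact_of_g_is_cokernel _ (cokernelIsCokernel (injSeq F).f) }

/-- If `I(F)(U) → (I(F)/F)(U)` is surjective then `H^1(U, F) = 0`. -/
theorem HU_one_subsingleton_of_surjective (F : CohTop.Ab X) (U : Opens X)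
    (hsurj : Function.Surjective ((injSeq F).g.hom.app (op U))) :
    Subsingleton (CohTop.HU F 1 U) := by
  change Subsingleton (Abelian.Ext.{u} (CohCx.freeSheaf (Opens.grothendieckTopology X) U) F (0 + 1))
  have hS := injSeq_shortExact F
  refine subsingleton_of_forall_eq 0 fun x => ?_
  obtain ⟨x₃, hx₃⟩ := Abelian.Ext.covariant_sequence_exact₁ _ hS x
    (Abelian.Ext.eq_zero_of_injective _) rfl
  obtain ⟨φ, rfl⟩ := (Abelian.Ext.mk₀_bijective _ (injSeq F).X₃).2 x₃
  obtain ⟨ψ, rfl⟩ := freeSheaf_lift_of_surjective U (injSeq F).g hsurj φ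
  rw [← hx₃, ← Abelian.Ext.mk₀_comp_mk₀, Abelian.Ext.comp_assoc_of_second_deg_zero,
    hS.comp_extClass, Abelian.Ext.comp_zero]

/-- Dimension shifting: `H^{p+1}(U, I(F)/F) = 0` implies `H^{p+2}(U, F) = 0`. -/
theorem HU_succ_shift (F : CohTop.Ab X) (U : Opens X) (p : ℕ)
    (h : Subsingleton (CohTop.HU (injSeq F).X₃ (p + 1) U)) :
    Subsingleton (CohTop.HU F (p + 2) U) := by
  change Subsingleton (Abelian.Ext.{u} (CohCx.freeSheaf (Opens.grothendieckTopology X) U) F (p + 1 + 1))
  change Subsingleton (Abelian.Ext.{u} (CohCx.freeSheaf (Opens.grothendieckTopology X) U)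
    (injSeq F).X₃ (p + 1)) at h
  have hS := injSeq_shortExact F
  refine subsingleton_of_forall_eq 0 fun x => ?_
  obtain ⟨x₃, hx₃⟩ := Abelian.Ext.covariant_sequence_exact₁ _ hS x
    (Abelian.Ext.eq_zero_of_injective _) rfl
  rw [← hx₃, Subsingleton.elim x₃ 0, Abelian.Ext.zero_comp]

end Shift

section Cartan

variable {X : TopCat.{u}}

/-- The conclusion of the "surjectivity from vanishing Čech `H^1` on refinements" lemma. -/
def SurjLemma (X : TopCat.{u}) : Prop :=
  ∀ (S : ShortComplex (CohTop.Ab X)) (_ : S.ShortExact) (U : Opens X)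
    (_ : ∀ (ι : Type u) (V : ι → Opens X), iSup V = U →
      ∃ (κ : Type u) (W : κ → Opens X) (r : κ → ι), iSup W = U ∧ (∀ k, W k ≤ V (r k)) ∧
        IsZero (CohTop.cechH S.X₁.obj W 1)),
    Function.Surjective (S.g.hom.app (op U))

/-- Cartan's criterion on a basis. -/
theorem cartan_basis (hX : SurjLemma X)
    (B : Set (Opens X)) (Cov : ∀ (ι : Type u), (ι → Opens X) → Prop)
    (h1 : ∀ (ι : Type u) (V : ι → Opens X), Cov ι V →
      iSup V ∈ B ∧ ∀ (p : ℕ) (a : Fin (p + 1) → ι), (iInf fun k => V (a k)) ∈ B)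
    (h2 : ∀ U ∈ B, ∀ (κ : Type u) (W : κ → Opens X), iSup W = U →
      ∃ (ι : Type u) (V : ι → Opens X), Cov ι V ∧ iSup V = U ∧ ∀ i, ∃ k, V i ≤ W k)
    (p : ℕ) : ∀ (F : CohTop.Ab X)
    (_ : ∀ (ι : Type u) (V : ι → Opens X), Cov ι V → ∀ p : ℕ, IsZero (CohTop.cechH F.obj V (p + 1)))
    (U : Opens X) (_ : U ∈ B), Subsingleton (CohTop.HU F (p + 1) U) := by
  -- sections of `I(F) → I(F)/F` are surjective over members of `B`
  have step1 : ∀ (F : CohTop.Ab X)
      (_ : ∀ (ι : Type u) (V : ι → Opens X), Cov ι V → ∀ p : ℕ,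
        IsZero (CohTop.cechH F.obj V (p + 1))) (U : Opens X) (_ : U ∈ B),
      Function.Surjective ((injSeq F).g.hom.app (op U)) := by
    intro F h3 U hU
    refine hX (injSeq F) (injSeq_shortExact F) U ?_
    intro κ W hW
    obtain ⟨ι, V, hV, hVU, hr⟩ := h2 U hU κ W hW
    choose r hr using hr
    exact ⟨ι, V, r, hVU, hr, h3 ι V hV 0⟩
  -- the quotient inherits Čech acyclicity
  have step2 : ∀ (F : CohTop.Ab X)
      (_ : ∀ (ι : Type u) (V : ι → Opens X), Cov ι V → ∀ p : ℕ,
        IsZero (CohTop.cechH F.obj V (p + 1))),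
      ∀ (ι : Type u) (V : ι → Opens X), Cov ι V → ∀ p : ℕ,
        IsZero (CohTop.cechH (injSeq F).X₃.obj V (p + 1)) := by
    intro F h3 ι V hV p
    refine isZero_cechH_quot V (injSeq_shortExact F) ?_ p ?_ (h3 ι V hV (p + 1))
    · intro n i
      apply step1 F h3
      rw [inter_eq_iInf]
      exact (h1 ι V hV).2 n i
    · exact isZero_cechH_of_injective_sheaf V (Injective.under F) p
  induction p with
  | zero =>
    intro F h3 U hU
    exact HU_one_subsingleton_of_surjective F U (step1 F h3 U hU)
  | succ p ih =>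
    intro F h3 U hU
    exact HU_succ_shift F U p (ih (injSeq F).X₃ (step2 F h3) U hU)

end Cartan

end Groth.Agent.Lib.Cohomology
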