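import Groth.Prelude.Def_CohTop
import Mathlib.CategoryTheory.Limits.Shapes.ConcreteCategory
import Mathlib.Tactic

/-!
# Explicit (element level) API for Mathlib's Čech complex of a presheaf of abelian groups
on the opens of a topological space (helper4).

* `inter U i` : the open `∏ᶜ (U ∘ i)` attached to a tuple `i : Fin (n+1) → ι` (this is the open
  that literally occurs in Mathlib's complex), with `inter_le`, `le_inter`, `inter_eq_iInf`.
* `Coch P U n` : the pi type of `n`-cochains, `cochEquiv P U n : X n ≃+ Coch P U n`.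
* `cochEquiv_d` : the explicit alternating-sum formula for the differential.
* `isZero_cechH_iff` : vanishing of `cechH` in degree `n+1` ↔ every cocycle is a coboundary.
-/

universe u
open CategoryTheory TopologicalSpace Opposite CategoryTheory.Limits Simplicial

namespace Groth.Agent.Lib.Cohomology.Cech

/-- Elements of a product of abelian groups are families. -/
noncomputable def piAddEquiv {J : Type u} (F : J → AddCommGrpCat.{u}) :
    (∏ᶜ F : AddCommGrpCat.{u}) ≃+ (∀ j, F j) where
  toEquiv := Concrete.productEquiv F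
  map_add' x y := by
    funext j
    simp [Concrete.productEquiv_apply_apply]

@[simp] lemma piAddEquiv_apply {J : Type u} (F : J → AddCommGrpCat.{u})
    (x : (∏ᶜ F : AddCommGrpCat.{u})) (j : J) : piAddEquiv F x j = Pi.π F j x :=
  Concrete.productEquiv_apply_apply _ _ _

@[simp] lemma π_piAddEquiv_symm {J : Type u} (F : J → AddCommGrpCat.{u})
    (x : ∀ j, F j) (j : J) : Pi.π F j ((piAddEquiv F).symm x) = x j :=
  Concrete.productEquiv_symm_apply_π _ _ _

variable {X : TopCat.{u}} (P : (Opens X)ᵒᵖ ⥤ AddCommGrpCat.{u}) {ι : Type u} (U : ι → Opens X)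

/-- The open attached to a tuple of indices: the categorical product of the `U (i a)`. -/
noncomputable abbrev inter {n : ℕ} (i : Fin (n + 1) → ι) : Opens X := ∏ᶜ (U ∘ i)

lemma inter_le {n : ℕ} (i : Fin (n + 1) → ι) (a : Fin (n + 1)) : inter U i ≤ U (i a) :=
  leOfHom (Pi.π (U ∘ i) a)

lemma le_inter {n : ℕ} (i : Fin (n + 1) → ι) {V : Opens X} (h : ∀ a, V ≤ U (i a)) :
    V ≤ inter U i :=
  leOfHom (Pi.lift (fun a => homOfLE (h a)))

lemma inter_eq_iInf {n : ℕ} (i : Fin (n + 1) → ι) : inter U i = ⨅ a, U (i a) :=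
  le_antisymm (le_iInf (inter_le U i)) (le_inter U i (fun a => iInf_le _ a))

lemma inter_le_inter {n m : ℕ} (i : Fin (n + 1) → ι) (j : Fin (m + 1) → ι)
    (h : ∀ b, ∃ a, i a = j b) : inter U i ≤ inter U j :=
  le_inter U j (fun b => by obtain ⟨a, ha⟩ := h b; exact ha ▸ inter_le U i a)

/-- The group of Čech `n`-cochains, as a pi type. -/
abbrev Coch (n : ℕ) : Type u := ∀ i : Fin (n + 1) → ι, P.obj (op (inter U i))

/-- The Čech complex (Mathlib's) of the presheaf `P` for the family `U`. -/
noncomputable abbrev cx : CochainComplex AddCommGrpCat.{u} ℕ := (cechComplexFunctor U).obj P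

/-- The terms of the Čech complex are literally products. -/
lemma cx_X (n : ℕ) : (cx P U).X n =
    ∏ᶜ (fun i : Fin (n + 1) → ι => P.obj (op (inter U i))) := rfl

/-- Projection of a cochain to its `i`-th component. -/
noncomputable def proj (n : ℕ) (i : Fin (n + 1) → ι) : (cx P U).X n ⟶ P.obj (op (inter U i)) :=
  Pi.π (fun i : Fin (n + 1) → ι => P.obj (op (inter U i))) i

/-- Cochains are functions. -/
noncomputable def cochEquiv (n : ℕ) : (cx P U).X n ≃+ Coch P U n :=
  piAddEquiv (fun i : Fin (n + 1) → ι => P.obj (op (inter U i)))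

@[simp] lemma cochEquiv_apply (n : ℕ) (c : (cx P U).X n) (i : Fin (n + 1) → ι) :
    cochEquiv P U n c i = proj P U n i c :=
  piAddEquiv_apply _ _ _

@[simp] lemma proj_cochEquiv_symm (n : ℕ) (c : Coch P U n) (i : Fin (n + 1) → ι) :
    proj P U n i ((cochEquiv P U n).symm c) = c i :=
  π_piAddEquiv_symm _ _ _

lemma cx_ext {n : ℕ} {c c' : (cx P U).X n} (h : ∀ i, proj P U n i c = proj P U n i c') : c = c' := by
  apply (cochEquiv P U n).injective
  funext i
  simpa using h i

lemma inter_succAbove_le {n : ℕ} (i : Fin (n + 2) → ι) (k : Fin (n + 2)) :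
    inter U i ≤ inter U (i ∘ k.succAbove) :=
  inter_le_inter U _ _ (fun b => ⟨k.succAbove b, rfl⟩)

/-- The `k`-th coface restriction. -/
noncomputable def face {n : ℕ} (i : Fin (n + 2) → ι) (k : Fin (n + 2)) :
    P.obj (op (inter U (i ∘ k.succAbove))) ⟶ P.obj (op (inter U i)) :=
  P.map (homOfLE (inter_succAbove_le U i k)).op

/-- The cosimplicial object underlying the Čech complex. -/
noncomputable abbrev cosimp : CosimplicialObject AddCommGrpCat.{u} :=
  (FormalCoproduct.cosimplicialObjectFunctor (FormalCoproduct.mk _ U).cech).obj P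

lemma cx_eq : cx P U = AlgebraicTopology.AlternatingCofaceMapComplex.obj (cosimp P U) := rfl

set_option backward.isDefEq.respectTransparency false in
lemma objD_comp {C : Type*} [Category C] [Preadditive C] (Y : CosimplicialObject C) (n : ℕ)
    {Z : C} (g : Y.obj ⦋n + 1⦌ ⟶ Z) :
    (AlgebraicTopology.AlternatingCofaceMapComplex.obj Y).d n (n + 1) ≫ g =
      ∑ k : Fin (n + 2), (-1 : ℤ) ^ (k : ℕ) • (Y.δ k ≫ g) := by
  simp only [AlgebraicTopology.AlternatingCofaceMapComplex.obj, CochainComplex.of_d,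
    AlgebraicTopology.AlternatingCofaceMapComplex.objD]
  rw [Preadditive.sum_comp]
  refine Finset.sum_congr rfl fun k _ => ?_
  rw [Preadditive.zsmul_comp]

/-- projection, typed on the cosimplicial object -/
noncomputable def π' (n : ℕ) (i : Fin (n + 1) → ι) :
    (cosimp P U).obj ⦋n⦌ ⟶ P.obj (op (inter U i)) :=
  Pi.π (fun i : Fin (n + 1) → ι => P.obj (op (inter U i))) i

lemma cosimp_δ_π {n : ℕ} (k : Fin (n + 2)) (i : Fin (n + 2) → ι) :
    (cosimp P U).δ k ≫ π' P U (n + 1) i = π' P U n (i ∘ k.succAbove) ≫ face P U i k := by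
  dsimp [CosimplicialObject.δ, cosimp, FormalCoproduct.cosimplicialObjectFunctor, π']
  erw [Pi.lift_π]
  rfl

lemma d_proj (n : ℕ) (i : Fin (n + 2) → ι) :
    (cx P U).d n (n + 1) ≫ proj P U (n + 1) i =
      ∑ k : Fin (n + 2), (-1 : ℤ) ^ (k : ℕ) • (proj P U n (i ∘ k.succAbove) ≫ face P U i k) := by
  have := objD_comp (cosimp P U) n (π' P U (n + 1) i)
  simp only [cosimp_δ_π] at this
  exact this

lemma hom_sum_apply {A B : AddCommGrpCat.{u}} {κ : Type*} (s : Finset κ) (f : κ → (A ⟶ B))
    (x : A) : (∑ k ∈ s, f k) x = ∑ k ∈ s, f k x := by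
  classical
  induction s using Finset.induction_on with
  | empty => simp
  | insert a s ha ih =>
    rw [Finset.sum_insert ha, Finset.sum_insert ha, AddCommGrpCat.hom_add_apply, ih]

lemma hom_zsmul_apply {A B : AddCommGrpCat.{u}} (m : ℤ) (f : A ⟶ B) (x : A) :
    (m • f) x = m • f x := rfl

lemma proj_d_apply (n : ℕ) (c : (cx P U).X n) (i : Fin (n + 2) → ι) :
    proj P U (n + 1) i ((cx P U).d n (n + 1) c) =
      ∑ k : Fin (n + 2), (-1 : ℤ) ^ (k : ℕ) • face P U i k (proj P U n (i ∘ k.succAbove) c) := by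
  rw [← ConcreteCategory.comp_apply, d_proj, hom_sum_apply]
  refine Finset.sum_congr rfl fun k _ => ?_
  rw [hom_zsmul_apply, ConcreteCategory.comp_apply]

/-- Vanishing of Čech cohomology in degree `n+1`: every cocycle is a coboundary. -/
lemma isZero_cechH_succ_iff (n : ℕ) :
    IsZero (CohTop.cechH P U (n + 1)) ↔
      ∀ c : (cx P U).X (n + 1), (cx P U).d (n + 1) (n + 2) c = 0 →
        ∃ b : (cx P U).X n, (cx P U).d n (n + 1) b = c := by
  rw [← HomologicalComplex.exactAt_iff_isZero_homology,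
    HomologicalComplex.exactAt_iff' (cx P U) n (n + 1) (n + 2) (by simp) (by simp),
    ShortComplex.ab_exact_iff]
  rfl

variable {P} in
lemma map_proj {Q : (Opens X)ᵒᵖ ⥤ AddCommGrpCat.{u}} (φ : P ⟶ Q) (n : ℕ) (i : Fin (n + 1) → ι) :
    ((cechComplexFunctor U).map φ).f n ≫ proj Q U n i =
      proj P U n i ≫ φ.app (op (inter U i)) := by
  exact Pi.map_π (fun i : Fin (n + 1) → ι => φ.app (op (inter U i))) i

variable {P} in
lemma map_proj_apply {Q : (Opens X)ᵒᵖ ⥤ AddCommGrpCat.{u}} (φ : P ⟶ Q) (n : ℕ)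
    (i : Fin (n + 1) → ι) (c : (cx P U).X n) :
    proj Q U n i (((cechComplexFunctor U).map φ).f n c) = φ.app (op (inter U i)) (proj P U n i c) := by
  rw [← ConcreteCategory.comp_apply, map_proj, ConcreteCategory.comp_apply]

end Groth.Agent.Lib.Cohomology.Cech
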