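/-
Serre vanishing: for a quasi-coherent module `M` on a scheme `X` and an affine open `U`, the cohomology
`H^{p+1}(U, M)` vanishes (`HU_succ_subsingleton_of_isAffineOpen`); in particular `H^{p+1}(X, M) = 0` for `X`
affine (`H_succ_subsingleton_of_isAffine`).  Proof: Cartan's criterion (S0493) applied to the basis of
affine opens and the standard coverings, for which Čech cohomology vanishes (`Helper1_AffineCech`).
-/
import Groth.Agent.Lib.Cohomology.Helper1_AffineCech
import Groth.Agent.Lib.Cohomology.Helper1_HUTop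
import Groth.Agent.S0493
import Groth.Prelude.Def_Coh

set_option autoImplicit false
universe u

namespace Groth.Agent.Lib.Cohomology

open CategoryTheory Limits Opposite TopologicalSpace AlgebraicGeometry

variable {X : Scheme.{u}}

/-- Standard coverings: finite families of basic opens of an affine open generating the unit ideal. -/
def StdCov (X : Scheme.{u}) (ι : Type u) (V : ι → X.Opens) : Prop :=
  Finite ι ∧ ∃ (W₀ : X.Opens) (_ : IsAffineOpen W₀) (f : ι → Γ(X, W₀)),
    Ideal.span (Set.range f) = ⊤ ∧ V = fun i => X.basicOpen (f i)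

lemma cechOpen_basicOpen_eq {W₀ : X.Opens} (hW₀ : IsAffineOpen W₀) {ι : Type u} (f : ι → Γ(X, W₀))
    {n : ℕ} (a : Fin (n + 1) → ι) :
    ∏ᶜ ((fun i => X.basicOpen (f i)) ∘ a) = X.basicOpen (∏ k, f (a k)) := by
  rw [← image_preimage_of_le hW₀ _ (cechOpen_basicOpen_le f a), preimage_cechOpen_basicOpen,
    hW₀.fromSpec_image_basicOpen]

lemma iSup_basicOpen_of_span_range {W₀ : X.Opens} (hW₀ : IsAffineOpen W₀) {ι : Type u}
    (f : ι → Γ(X, W₀)) (hf : Ideal.span (Set.range f) = ⊤) :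
    ⨆ i, X.basicOpen (f i) = W₀ := by
  rw [← hW₀.iSup_basicOpen_eq_self_iff (s := Set.range f)] at hf
  rw [← iSup_range' (fun g : Γ(X, W₀) => X.basicOpen g) f]
  exact hf

lemma stdCov_h1 (ι : Type u) (V : ι → X.Opens) (hV : StdCov X ι V) :
    iSup V ∈ X.affineOpens ∧ ∀ (p : ℕ) (a : Fin (p + 1) → ι), (iInf fun k => V (a k)) ∈ X.affineOpens := by
  obtain ⟨_, W₀, hW₀, f, hf, rfl⟩ := hV
  refine ⟨?_, fun p a => ?_⟩
  · rw [iSup_basicOpen_of_span_range hW₀ f hf]
    exact hW₀
  · rw [← cechOpen_eq_iInf (fun i => X.basicOpen (f i)) a, cechOpen_basicOpen_eq hW₀]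
    exact hW₀.basicOpen _

lemma stdCov_h2 (U : X.Opens) (hU : U ∈ X.affineOpens) (κ : Type u) (W : κ → X.Opens)
    (hW : iSup W = U) :
    ∃ (ι : Type u) (V : ι → X.Opens), StdCov X ι V ∧ iSup V = U ∧ ∀ i, ∃ k, V i ≤ W k := by
  have hU' : IsAffineOpen U := hU
  -- choose for each point a basic open inside some member of the covering
  have hx : ∀ x : U, ∃ (k : κ) (f : Γ(X, U)), X.basicOpen f ≤ W k ∧ (x : X) ∈ X.basicOpen f := by
    intro x
    have hxU : (x : X) ∈ iSup W := hW ▸ x.2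
    obtain ⟨k, hk⟩ := Opens.mem_iSup.1 hxU
    obtain ⟨f, hf1, hf2⟩ := hU'.exists_basicOpen_le (V := W k) ⟨x, hk⟩ x.2
    exact ⟨k, f, hf1, hf2⟩
  choose k f hf1 hf2 using hx
  have hspan : Ideal.span (Set.range f) = ⊤ := by
    rw [← hU'.iSup_basicOpen_eq_self_iff (s := Set.range f)]
    apply le_antisymm
    · exact iSup_le fun g => X.basicOpen_le _
    · intro x hx
      exact Opens.mem_iSup.2 ⟨⟨f ⟨x, hx⟩, ⟨_, rfl⟩⟩, hf2 ⟨x, hx⟩⟩
  obtain ⟨s, hs1, hs2⟩ := (Ideal.span_eq_top_iff_finite (Set.range f)).1 hspan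
  refine ⟨↥s, fun i => X.basicOpen (i : Γ(X, U)), ⟨inferInstance, U, hU', fun i => (i : Γ(X, U)), ?_, rfl⟩,
    ?_, ?_⟩
  · have : (Set.range fun i : ↥s => (i : Γ(X, U))) = ↑s := Subtype.range_coe
    rwa [this]
  · apply iSup_basicOpen_of_span_range hU' (fun i : ↥s => (i : Γ(X, U)))
    have : (Set.range fun i : ↥s => (i : Γ(X, U))) = ↑s := Subtype.range_coe
    rwa [this]
  · intro i
    obtain ⟨x, hx⟩ := hs1 i.2
    refine ⟨k x, ?_⟩
    change X.basicOpen (i : Γ(X, U)) ≤ W (k x)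
    rw [← hx]
    exact hf1 x

/-- **Serre vanishing on affine opens**: `H^{p+1}(U, M) = 0` for `M` quasi-coherent and `U` affine open. -/
theorem HU_succ_subsingleton_of_isAffineOpen (M : X.Modules) [M.IsQuasicoherent] (U : X.Opens)
    (hU : IsAffineOpen U) (p : ℕ) : Subsingleton (CohTop.HU (Coh.toAb M) (p + 1) U) := by
  refine Groth.Agent.S0493.result (Coh.toAb M) X.affineOpens X.isBasis_affineOpens (StdCov X)
    stdCov_h1 stdCov_h2 ?_ U hU p
  rintro ι V ⟨_, W₀, hW₀, f, hf, rfl⟩ q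
  exact isZero_cech_homology_affineOpen M hW₀ f hf q

/-- **Serre vanishing**: `H^{p+1}(X, M) = 0` for `M` quasi-coherent on an affine scheme. -/
theorem H_succ_subsingleton_of_isAffine [IsAffine X] (M : X.Modules) [M.IsQuasicoherent] (p : ℕ) :
    Subsingleton (Coh.HH X M (p + 1)) := by
  have := HU_succ_subsingleton_of_isAffineOpen M ⊤ (isAffineOpen_top X) p
  exact (HUTopEquiv _ (Coh.toAb M) (p + 1)).symm.subsingleton

end Groth.Agent.Lib.Cohomology
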