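/-
Mayer–Vietoris vanishing lemmas for cohomology of abelian sheaves on a topological space.
-/
import Groth.Prelude.Def_CohTop
import Mathlib.CategoryTheory.Sites.SheafCohomology.MayerVietoris
import Mathlib.Topology.Sheaves.MayerVietoris

set_option autoImplicit false
universe u

namespace Groth.Agent.Lib.Cohomology

open CategoryTheory Limits Opposite TopologicalSpace

variable {X : TopCat.{u}}

/-- Mayer–Vietoris vanishing: if `H^{n}(U ∩ V)`, `H^{n+1}(U)`, `H^{n+1}(V)` vanish then so does `H^{n+1}(U ∪ V)`. -/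
theorem HU_sup_subsingleton (F : CohTop.Ab X) (U V : Opens X) (n : ℕ)
    (h₁ : Subsingleton (CohTop.HU F n (U ⊓ V))) (h₂ : Subsingleton (CohTop.HU F (n + 1) U))
    (h₃ : Subsingleton (CohTop.HU F (n + 1) V)) : Subsingleton (CohTop.HU F (n + 1) (U ⊔ V)) := by
  let S := Opens.mayerVietorisSquare U V
  have hex := (S.sequence_exact F n (n + 1) rfl).exact 2
  have z₁ : IsZero (F.H' n S.X₁) := @AddCommGrpCat.isZero_of_subsingleton _ h₁
  have z₂ : IsZero (F.H' (n + 1) S.X₂) := @AddCommGrpCat.isZero_of_subsingleton _ h₂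
  have z₃ : IsZero (F.H' (n + 1) S.X₃) := @AddCommGrpCat.isZero_of_subsingleton _ h₃
  have := hex.isZero_of_both_zeros (z₁.eq_of_src _ _) (by
    apply biprod.hom_ext
    · exact z₂.eq_of_tgt _ _
    · exact z₃.eq_of_tgt _ _)
  exact AddCommGrpCat.subsingleton_of_isZero this

lemma iSup_fin_succ' {α : Type*} [CompleteLattice α] {t : ℕ} (U : Fin (t + 1) → α) :
    ⨆ i, U i = U 0 ⊔ ⨆ i : Fin t, U i.succ := by
  apply le_antisymm
  · refine iSup_le (fun i => ?_)
    refine Fin.cases ?_ (fun j => ?_) i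
    · exact le_sup_left
    · exact le_sup_of_le_right (le_iSup (fun j : Fin t => U j.succ) j)
  · exact sup_le (le_iSup U 0) (iSup_le fun j => le_iSup U j.succ)

/-- Vanishing of cohomology in degrees `≥ t + 1` on a union of `t + 1` opens taken from a class `𝒜` of
acyclic opens closed under binary intersections (induction via Mayer–Vietoris). -/
theorem HU_iSup_subsingleton (F : CohTop.Ab X) (𝒜 : Set (Opens X))
    (hinf : ∀ V ∈ 𝒜, ∀ W ∈ 𝒜, V ⊓ W ∈ 𝒜)
    (hvan : ∀ V ∈ 𝒜, ∀ n, Subsingleton (CohTop.HU F (n + 1) V)) :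
    ∀ (t : ℕ) (U : Fin (t + 1) → Opens X), (∀ i, U i ∈ 𝒜) → ∀ n, t + 1 ≤ n →
      Subsingleton (CohTop.HU F n (⨆ i, U i)) := by
  intro t
  induction t with
  | zero =>
    intro U hU n hn
    obtain ⟨m, rfl⟩ : ∃ m, n = m + 1 := ⟨n - 1, by omega⟩
    have : ⨆ i, U i = U 0 := by
      rw [iSup_fin_succ']
      simp
    rw [this]
    exact hvan _ (hU 0) m
  | succ t ih =>
    intro U hU n hn
    obtain ⟨m, rfl⟩ : ∃ m, n = m + 1 := ⟨n - 1, by omega⟩
    rw [iSup_fin_succ']
    apply HU_sup_subsingleton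
    · rw [inf_iSup_eq]
      exact ih (fun i => U 0 ⊓ U i.succ) (fun i => hinf _ (hU 0) _ (hU i.succ)) m (by omega)
    · exact hvan _ (hU 0) m
    · exact ih (fun i => U i.succ) (fun i => hU i.succ) (m + 1) (by omega)

end Groth.Agent.Lib.Cohomology
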