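/-
`H^n(⊤, F) ≃+ H^n(X, F)` for abelian sheaves on a topological space: the free abelian sheaf on the
representable presheaf of the whole space is the constant sheaf `ℤ`.
-/
import Groth.Prelude.Def_CohTop

set_option autoImplicit false
universe u

namespace Groth.Agent.Lib.Cohomology

open CategoryTheory Limits Opposite TopologicalSpace

variable (X : TopCat.{u})

noncomputable instance yonedaTopUnique (U : (Opens X)ᵒᵖ) : Unique ((yoneda.obj (⊤ : Opens X)).obj U) :=
  ⟨⟨(homOfLE le_top : U.unop ⟶ ⊤)⟩, fun _ => Subsingleton.elim (α := (U.unop ⟶ (⊤ : Opens X))) _ _⟩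

/-- The free abelian presheaf on the representable presheaf of the whole space is the constant presheaf `ℤ`. -/
noncomputable def freePresheafTopIso :
    yoneda.obj (⊤ : Opens X) ⋙ AddCommGrpCat.free ≅
      (Functor.const (Opens X)ᵒᵖ).obj (AddCommGrpCat.of (ULift.{u} ℤ)) :=
  NatIso.ofComponents
    (fun U => ((FreeAbelianGroup.uniqueEquiv ((yoneda.obj (⊤ : Opens X)).obj U)).trans
      AddEquiv.ulift.symm).toAddCommGrpIso)
    (by
      intro U V φ
      apply AddCommGrpCat.hom_ext
      apply FreeAbelianGroup.lift_ext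
      intro a
      change AddEquiv.ulift.symm (FreeAbelianGroup.uniqueEquiv _
        (FreeAbelianGroup.map ((yoneda.obj (⊤ : Opens X)).map φ) (FreeAbelianGroup.of a))) =
        AddEquiv.ulift.symm (FreeAbelianGroup.uniqueEquiv _ (FreeAbelianGroup.of a))
      rw [FreeAbelianGroup.map_of_apply]
      simp [FreeAbelianGroup.uniqueEquiv])

/-- The free abelian sheaf on the whole space is the constant sheaf `ℤ`. -/
noncomputable def freeSheafTopIso :
    (presheafToSheaf (Opens.grothendieckTopology X) AddCommGrpCat.{u}).obj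
      (yoneda.obj (⊤ : Opens X) ⋙ AddCommGrpCat.free) ≅
    (constantSheaf (Opens.grothendieckTopology X) AddCommGrpCat.{u}).obj
      (AddCommGrpCat.of (ULift.{u} ℤ)) :=
  (presheafToSheaf _ _).mapIso (freePresheafTopIso X)

/-- `H^n(⊤, F) ≃ H^n(X, F)`. -/
noncomputable def HUTopEquiv (F : CohTop.Ab X) (n : ℕ) : CohTop.HU F n ⊤ ≃+ CohTop.H F n :=
  (((Abelian.extFunctor n).mapIso (freeSheafTopIso X).op).app F).addCommGroupIsoToAddEquiv.symm

end Groth.Agent.Lib.Cohomology
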