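import Groth.Agent.Lib.Cohomology.helper5_ExtShift
import Groth.Prelude.Def_CohSite
import Groth.Prelude.Def_FreeSh

/-!
# Basic API for `CohSite.HU` on a small site (helper5)

`sectionsEquivH0`, `sectδ` (+ surjectivity, kernel), `sections_surjective_of_H1`,
`cohomologyPresheaf_map_apply`, `ofSect_res`, `push` is a right adjoint / left exact,
`push_shortExact`.
-/

set_option autoImplicit false
universe u
open CategoryTheory CategoryTheory.Limits Opposite

namespace Groth.Agent.Lib.Cohomology.SiteH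

open Abelian Groth.Agent.Lib.Cohomology.ExtShift

variable {C : Type u} [SmallCategory C] (J : GrothendieckTopology C)

/-- the free sheaf `ℤ_W` -/
noncomputable abbrev zz (W : C) : Sheaf J AddCommGrpCat.{u} := CohCx.freeSheaf J W

lemma HU_eq (F : Sheaf J AddCommGrpCat.{u}) (n : ℕ) (V : C) :
    CohSite.HU F n V = Ext.{u} (zz J V) F n := rfl

lemma homEquivSect_comp (U : C) {F G : Sheaf J AddCommGrpCat.{u}}
    (φ : CohCx.freeSheaf J U ⟶ F) (g : F ⟶ G) :
    CohFree.homEquivSect J U G (φ ≫ g) = (g.hom.app (op U)).hom (CohFree.homEquivSect J U F φ) := rfl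

lemma evalGen_comp (U : C) {F G : Sheaf J AddCommGrpCat.{u}}
    (φ : CohCx.freeSheaf J U ⟶ F) (g : F ⟶ G) :
    CohFree.evalGen J U G (φ ≫ g) = (g.hom.app (op U)).hom (CohFree.evalGen J U F φ) := rfl

lemma ofSect_comp (U : C) {F G : Sheaf J AddCommGrpCat.{u}} (s : F.obj.obj (op U)) (g : F ⟶ G) :
    CohFree.ofSect J U F s ≫ g = CohFree.ofSect J U G ((g.hom.app (op U)).hom s) := by
  apply (CohFree.homEquivSect J U G).injective
  rw [homEquivSect_comp, CohFree.homEquivSect_apply, CohFree.homEquivSect_apply,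
    CohFree.evalGen_ofSect, CohFree.evalGen_ofSect]

lemma cohomologyPresheaf_map_apply (F : Sheaf J AddCommGrpCat.{u}) (n : ℕ) {W W' : Cᵒᵖ} (j : W ⟶ W')
    (x : Ext.{u} (zz J W.unop) F n) :
    (Sheaf.cohomologyPresheaf.{u} F n).map j x =
      (Ext.mk₀ (CohCx.freeSheafMap J j.unop)).comp x (zero_add n) :=
  rfl

lemma ofSect_res (G : Sheaf J AddCommGrpCat.{u}) {W W' : C} (j : W' ⟶ W) (t : G.obj.obj (op W)) :
    CohFree.ofSect J W' G (G.obj.map j.op t) =
      CohCx.freeSheafMap J j ≫ CohFree.ofSect J W G t := by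
  apply (CohFree.homEquivSect J W' G).injective
  rw [CohFree.homEquivSect_apply, CohFree.homEquivSect_apply, CohFree.evalGen_freeSheafMap_comp,
    CohFree.evalGen_ofSect, CohFree.evalGen_ofSect]

/-- sections over `V` as `Ext^0(ℤ_V, -)` -/
noncomputable def sectionsEquivH0 (G : Sheaf J AddCommGrpCat.{u}) (V : C) :
    G.obj.obj (op V) ≃+ CohSite.HU G 0 V :=
  (CohFree.homEquivSect J V G).symm.trans Ext.addEquiv₀.symm

lemma sectionsEquivH0_apply (G : Sheaf J AddCommGrpCat.{u}) (V : C) (s : G.obj.obj (op V)) :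
    sectionsEquivH0 J G V s = Ext.mk₀ (CohFree.ofSect J V G s) := rfl

lemma sectionsEquivH0_naturality {G G' : Sheaf J AddCommGrpCat.{u}} (φ : G ⟶ G') (V : C)
    (s : G.obj.obj (op V)) :
    sectionsEquivH0 J G' V ((φ.hom.app (op V)).hom s) =
      (sectionsEquivH0 J G V s).comp (Ext.mk₀ φ) (add_zero 0) := by
  rw [sectionsEquivH0_apply, sectionsEquivH0_apply, Ext.mk₀_comp_mk₀, ofSect_comp]

variable {J} {S : ShortComplex (Sheaf J AddCommGrpCat.{u})} (hS : S.ShortExact)

/-- the degree one connecting map on sections -/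
noncomputable def sectδ (V : C) : S.X₃.obj.obj (op V) →+ CohSite.HU S.X₁ 1 V :=
  (homδ hS (zz J V)).comp (CohFree.homEquivSect J V S.X₃).symm.toAddMonoidHom

lemma sectδ_apply (V : C) (t : S.X₃.obj.obj (op V)) :
    sectδ hS V t = (Ext.mk₀ (CohFree.ofSect J V S.X₃ t)).comp hS.extClass (zero_add 1) := rfl

lemma sectδ_surjective [Injective S.X₂] (V : C) : Function.Surjective (sectδ hS V) :=
  (homδ_surjective hS (zz J V) (fun x => Ext.eq_zero_of_injective x)).comp
    (CohFree.homEquivSect J V S.X₃).symm.surjective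

lemma sectδ_ker (V : C) :
    (sectδ hS V).ker = (S.g.hom.app (op V)).hom.range := by
  ext t
  rw [AddMonoidHom.mem_ker, AddMonoidHom.mem_range]
  change homδ hS (zz J V) (CohFree.ofSect J V S.X₃ t) = 0 ↔ _
  rw [homδ_eq_zero_iff]
  constructor
  · rintro ⟨ψ, hψ⟩
    refine ⟨CohFree.evalGen J V S.X₂ ψ, ?_⟩
    have := evalGen_comp J V ψ S.g
    rw [hψ, CohFree.evalGen_ofSect] at this
    exact this.symm
  · rintro ⟨s, rfl⟩
    exact ⟨CohFree.ofSect J V S.X₂ s, ofSect_comp J V s S.g⟩

include hS in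
/-- If `H^1(V, S.X₁) = 0` then `S.X₂(V) → S.X₃(V)` is surjective. -/
lemma sections_surjective_of_H1 (V : C) (h : Subsingleton (CohSite.HU S.X₁ 1 V)) :
    Function.Surjective (S.g.hom.app (op V)) := by
  intro t
  have h0 : t ∈ (sectδ hS V).ker := by
    rw [AddMonoidHom.mem_ker]
    exact Subsingleton.elim (α := CohSite.HU S.X₁ 1 V) _ _
  rw [sectδ_ker] at h0
  exact h0

include hS in
/-- Dimension shifting for vanishing. -/
lemma subsingleton_ext_X₃ [Injective S.X₂] (A : Sheaf J AddCommGrpCat.{u}) (q : ℕ)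
    (h : Subsingleton (Ext.{u} A S.X₁ (q + 2))) : Subsingleton (Ext.{u} A S.X₃ (q + 1)) :=
  (extδ_injective hS A q (fun x => Ext.eq_zero_of_injective x)).subsingleton

section Push

variable {D : Type u} [SmallCategory D] (J) (K : GrothendieckTopology D) (u : D ⥤ C)
  [u.IsContinuous K J]

instance : (CohSite.push J K u).IsRightAdjoint :=
  (u.sheafAdjunctionContinuous AddCommGrpCat.{u} K J).isRightAdjoint

variable {J}

include hS in
lemma push_shortExact (h : ∀ U : C, Function.Surjective (S.g.hom.app (op U))) :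
    (S.map (CohSite.push J K u)).ShortExact := by
  have hmono : Mono ((CohSite.push J K u).map S.f) := by
    have := hS.mono_f
    infer_instance
  have hepi : Epi ((CohSite.push J K u).map S.g) := by
    rw [← Sheaf.isLocallySurjective_iff_epi']
    exact Presheaf.isLocallySurjective_of_surjective K _ (fun V => h (u.obj V.unop))
  exact ShortComplex.ShortExact.mk' (hS.exact.map_of_mono_of_preservesKernel _ hS.mono_f
    inferInstance) hmono hepi

end Push

end Groth.Agent.Lib.Cohomology.SiteH
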