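/-
Ext along an exact functor (helper1).

`G : D ⥤ C` an exact functor between abelian categories, `c : B ⟶ G.obj A`.  The map
`psi G c Z n : Ext^n(A, Z) → Ext^n(B, G Z)` (apply `G`, precompose with `c`) is bijective for all `n`
as soon as it is bijective for `n = 0` and `G` sends injectives to `B`-acyclic objects
(adapted from helper10's `ExtAdj.phi`).  It is natural in `(A, B, c)`.
-/
import Mathlib

set_option autoImplicit false

open CategoryTheory Abelian Limits

namespace Groth.Agent.Lib.Cohomology.ExtPsi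

universe w w' v v' u u'

variable {C : Type u} [Category.{v} C] [Abelian C] {D : Type u'} [Category.{v'} D] [Abelian D]
  [HasExt.{w} C] [HasExt.{w'} D]
  (G : D ⥤ C) [G.Additive] [PreservesFiniteLimits G] [PreservesFiniteColimits G]
  {A : D} {B : C} (c : B ⟶ G.obj A)

/-- the comparison map `Ext^n(A, Z) → Ext^n(B, G Z)` -/
noncomputable def psi (Z : D) (n : ℕ) : Ext.{w'} A Z n →+ Ext.{w} B (G.obj Z) n :=
  ((Ext.mk₀ c).precomp (G.obj Z) (zero_add n)).comp (G.mapExtAddHom A Z n)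

lemma psi_apply (Z : D) (n : ℕ) (e : Ext.{w'} A Z n) :
    psi G c Z n e = (Ext.mk₀ c).comp (e.mapExactFunctor G) (zero_add n) := rfl

lemma psi_comp_mk₀ {Z Z' : D} (n : ℕ) (e : Ext.{w'} A Z n) (g : Z ⟶ Z') :
    psi G c Z' n (e.comp (Ext.mk₀ g) (add_zero n)) =
      (psi G c Z n e).comp (Ext.mk₀ (G.map g)) (add_zero n) := by
  rw [psi_apply, psi_apply, Ext.mapExactFunctor_comp, Ext.mapExactFunctor_mk₀, Ext.comp_assoc]
  all_goals omega

lemma psi_comp_extClass {S : ShortComplex D} (hS : S.ShortExact) (n : ℕ)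
    (e : Ext.{w'} A S.X₃ n) {m : ℕ} (h : n + 1 = m) :
    psi G c S.X₁ m (e.comp hS.extClass h) =
      (psi G c S.X₃ n e).comp (hS.map_of_exact G).extClass h := by
  subst h
  rw [psi_apply, psi_apply, Ext.mapExactFunctor_comp, Ext.mapExactFunctor_extClass]
  exact (Ext.comp_assoc _ _ _ (zero_add n) rfl (by omega)).symm

/-- naturality in the first variable -/
lemma psi_precomp {A' : D} {B' : C} (c' : B' ⟶ G.obj A') (a : A' ⟶ A) (b : B' ⟶ B)
    (hcomm : c' ≫ G.map a = b ≫ c) (Z : D) (n : ℕ) (e : Ext.{w'} A Z n) :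
    psi G c' Z n ((Ext.mk₀ a).comp e (zero_add n)) =
      (Ext.mk₀ b).comp (psi G c Z n e) (zero_add n) := by
  rw [psi_apply, psi_apply, Ext.mapExactFunctor_comp, Ext.mapExactFunctor_mk₀,
    ← Ext.comp_assoc (Ext.mk₀ c') (Ext.mk₀ (G.map a)) _ (zero_add 0) (zero_add n) (by omega),
    Ext.mk₀_comp_mk₀, hcomm,
    ← Ext.comp_assoc (Ext.mk₀ b) (Ext.mk₀ c) _ (zero_add 0) (zero_add n) (by omega),
    Ext.mk₀_comp_mk₀]

lemma psi_zero_bijective (h0 : ∀ Z : D, Function.Bijective (fun φ : A ⟶ Z => c ≫ G.map φ))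
    (Z : D) : Function.Bijective (psi G c Z 0) := by
  have h : ∀ f : A ⟶ Z, psi G c Z 0 (Ext.mk₀ f) = Ext.mk₀ (c ≫ G.map f) := by
    intro f
    rw [psi_apply, Ext.mapExactFunctor_mk₀, Ext.mk₀_comp_mk₀]
  constructor
  · intro a b hab
    obtain ⟨f, rfl⟩ := (Ext.mk₀_bijective _ _).2 a
    obtain ⟨g, rfl⟩ := (Ext.mk₀_bijective _ _).2 b
    rw [h, h] at hab
    have := (h0 Z).1 ((Ext.mk₀_bijective _ _).1 hab)
    rw [this]
  · intro y
    obtain ⟨f, rfl⟩ := (Ext.mk₀_bijective _ _).2 y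
    obtain ⟨f', hf'⟩ := (h0 Z).2 f
    exact ⟨Ext.mk₀ f', by rw [h]; exact congrArg _ hf'⟩

/-- the short exact sequence `0 → Z → J → J/Z → 0` with `J` injective -/
noncomputable def injSC [EnoughInjectives D] (Z : D) : ShortComplex D :=
  ShortComplex.mk (Injective.ι Z) (cokernel.π (Injective.ι Z)) (by simp)

omit [HasExt.{w'} D] in
lemma injSC_shortExact [EnoughInjectives D] (Z : D) : (injSC Z).ShortExact where
  exact := ShortComplex.exact_cokernel _
  mono_f := by dsimp [injSC]; infer_instance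
  epi_g := by dsimp [injSC]; infer_instance

lemma psi_bijective_step (n : ℕ) (S : ShortComplex D) (hS : S.ShortExact)
    (h₂ : Injective S.X₂) (hG₂ : ∀ y : Ext.{w} B (G.obj S.X₂) (n + 1), y = 0)
    (ih : ∀ (Z : D), Function.Bijective (psi G c Z n)) :
    Function.Bijective (psi G c S.X₁ (n + 1)) := by
  have hGS := hS.map_of_exact G
  constructor
  · rw [injective_iff_map_eq_zero]
    intro e he
    obtain ⟨e₃, rfl⟩ := Ext.covariant_sequence_exact₁ _ hS e (Ext.eq_zero_of_injective _) rfl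
    rw [psi_comp_extClass G c hS n e₃ rfl] at he
    obtain ⟨y₂, hy₂⟩ := Ext.covariant_sequence_exact₃ _ hGS _ rfl he
    obtain ⟨e₂, rfl⟩ := (ih S.X₂).2 y₂
    have h1 : psi G c S.X₃ n (e₂.comp (Ext.mk₀ S.g) (add_zero n)) =
        psi G c S.X₃ n e₃ := by
      rw [psi_comp_mk₀]; exact hy₂
    have h2 := (ih S.X₃).1 h1
    rw [← h2, Ext.comp_assoc_of_second_deg_zero, hS.comp_extClass, Ext.comp_zero]
  · intro y
    obtain ⟨y₃, rfl⟩ := Ext.covariant_sequence_exact₁ _ hGS y (hG₂ _) rfl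
    obtain ⟨e₃, rfl⟩ := (ih S.X₃).2 y₃
    exact ⟨e₃.comp hS.extClass rfl, psi_comp_extClass G c hS n e₃ rfl⟩

theorem psi_bijective [EnoughInjectives D]
    (h0 : ∀ Z : D, Function.Bijective (fun φ : A ⟶ Z => c ≫ G.map φ))
    (hacyc : ∀ (I : D) [Injective I] (n : ℕ) (y : Ext.{w} B (G.obj I) (n + 1)), y = 0) (n : ℕ) :
    ∀ (Z : D), Function.Bijective (psi G c Z n) := by
  induction n with
  | zero => exact fun Z => psi_zero_bijective G c h0 Z
  | succ n ih =>
    intro Z
    have : Injective (injSC Z).X₂ := by dsimp [injSC]; infer_instance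
    exact psi_bijective_step G c n (injSC Z) (injSC_shortExact Z) this
      (fun y => hacyc (injSC Z).X₂ n y) ih

end Groth.Agent.Lib.Cohomology.ExtPsi
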