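/-
Sections of kernels of morphisms of `O_X`-modules, and a few support lemmas.
-/
import Mathlib
import Groth.Prelude.Def_CohB1

set_option autoImplicit false
universe u

namespace Groth.Agent.Lib.Cohomology

open CategoryTheory Limits Opposite TopologicalSpace AlgebraicGeometry

variable {X : Scheme.{u}}

/-- The sections functor over an open. -/
noncomputable abbrev sectionsFunctor (X : Scheme.{u}) (O : X.Opens) : X.Modules ⥤ Ab :=
  Scheme.Modules.toPresheaf X ⋙ (evaluation _ _).obj (op O)

instance (O : X.Opens) : (sectionsFunctor X O).PreservesZeroMorphisms := ⟨fun _ _ => rfl⟩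

instance (O : X.Opens) : PreservesFiniteLimits (sectionsFunctor X O) := by
  have : PreservesFiniteLimits ((evaluation (Opens X)ᵒᵖ Ab.{u}).obj (op O)) := inferInstance
  exact comp_preservesFiniteLimits _ _

/-- A section killed by `φ` comes from a section of the kernel of `φ`. -/
lemma exists_kernel_section {M N : X.Modules} (φ : M ⟶ N) (O : X.Opens)
    (m : Γ(M, O)) (hm : φ.app O m = 0) : ∃ s : Γ(kernel φ, O), (kernel.ι φ).app O s = m := by
  have hS : (ShortComplex.mk (kernel.ι φ) φ (kernel.condition φ)).Exact :=
    ShortComplex.exact_kernel φ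
  have hG := hS.map_of_mono_of_preservesKernel (sectionsFunctor X O) inferInstance inferInstance
  rw [ShortComplex.ab_exact_iff] at hG
  exact hG m hm

/-- If all germs at `x` vanish, the stalk at `x` is trivial. -/
lemma stalk_subsingleton_of_forall_germ_eq_zero {M : X.Modules} (x : X)
    (h : ∀ (O : X.Opens) (hx : x ∈ O) (s : Γ(M, O)), M.presheaf.germ O x hx s = 0) :
    Subsingleton (M.presheaf.stalk x) := by
  refine ⟨fun a b => ?_⟩
  obtain ⟨O, hx, s, rfl⟩ := TopCat.Presheaf.exists_germ_eq M.presheaf a
  obtain ⟨O', hx', s', rfl⟩ := TopCat.Presheaf.exists_germ_eq M.presheaf b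
  rw [h, h]

/-- Sections of an `O_X`-module over an open set disjoint from the support are trivial. -/
lemma subsingleton_sections_of_disjoint_support (M : X.Modules) (O : X.Opens)
    (h : ∀ x ∈ O, x ∉ CohB1.support M) : Subsingleton Γ(M, O) := by
  constructor
  intro s t
  refine TopCat.Presheaf.section_ext ⟨M.presheaf, M.isSheaf⟩ O s t fun x hx => ?_
  haveI : Subsingleton (M.presheaf.stalk x) := not_not.1 (h x hx)
  exact Subsingleton.elim _ _

/-- Restriction between equal opens is injective. -/
lemma presheaf_map_injective_of_eq (M : X.Modules) {O O' : X.Opens} (h : O' ≤ O) (h' : O ≤ O') :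
    Function.Injective (M.presheaf.map (homOfLE h).op) := by
  intro s t hst
  have := congrArg (M.presheaf.map (homOfLE h').op) hst
  rw [← ConcreteCategory.comp_apply, ← ConcreteCategory.comp_apply, ← Functor.map_comp] at this
  have hid : (homOfLE h).op ≫ (homOfLE h').op = 𝟙 (op O) := Subsingleton.elim _ _
  rw [hid, M.presheaf.map_id] at this
  exact this

end Groth.Agent.Lib.Cohomology
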