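/-
"Localization-like" additive maps and a five lemma for them (helper1).

For additive groups `A`, `B` with endomorphisms `a`, `b` and an additive map `g : A →+ B`:
* `LocSurj b g` : every `y : B` satisfies `b^k y = g x` for some `k`, `x`;
* `LocKer a g`  : `g x = 0` implies `a^k x = 0` for some `k`.
If moreover `b` is bijective and `g ∘ a = b ∘ g`, then `g` exhibits `B` as the localization of `A` at `a`.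

`LocFive.surj`, `LocFive.ker`: the five lemma for these properties.
-/
import Mathlib.Algebra.Group.Hom.Defs
import Mathlib.Algebra.Group.Basic
import Mathlib.Algebra.Ring.Basic
import Mathlib.Algebra.Module.End
import Mathlib.Tactic

set_option autoImplicit false

namespace Groth.Agent.Lib.Cohomology.LocFive

variable {A B : Type*} [AddCommGroup A] [AddCommGroup B]

/-- every element of `B` is, up to a power of `b`, in the image of `g`. -/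
def LocSurj (b : AddMonoid.End B) (g : A →+ B) : Prop :=
  ∀ y : B, ∃ (k : ℕ) (x : A), (b ^ k) y = g x

/-- every element of the kernel of `g` is killed by a power of `a`. -/
def LocKer (a : AddMonoid.End A) (g : A →+ B) : Prop :=
  ∀ x : A, g x = 0 → ∃ k : ℕ, (a ^ k) x = 0

lemma pow_comm {A B : Type*} [AddCommGroup A] [AddCommGroup B]
    (a : AddMonoid.End A) (b : AddMonoid.End B) (g : A →+ B)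
    (h : ∀ x, g (a x) = b (g x)) (k : ℕ) (x : A) : g ((a ^ k) x) = (b ^ k) (g x) := by
  induction k generalizing x with
  | zero => simp
  | succ k ih =>
    rw [pow_succ, pow_succ]
    change g ((a ^ k) (a x)) = (b ^ k) (b (g x))
    rw [ih, h]

lemma pow_add_apply {A : Type*} [AddCommGroup A] (a : AddMonoid.End A) (k m : ℕ) (x : A) :
    (a ^ (k + m)) x = (a ^ k) ((a ^ m) x) := by
  rw [pow_add]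
  rfl

lemma locSurj_of_subsingleton [Subsingleton B] (b : AddMonoid.End B) (g : A →+ B) : LocSurj b g :=
  fun y => ⟨0, 0, Subsingleton.elim _ _⟩

lemma locKer_of_subsingleton [Subsingleton A] (a : AddMonoid.End A) (g : A →+ B) : LocKer a g :=
  fun x _ => ⟨0, Subsingleton.elim _ _⟩

section Five

variable {A₁ A₂ A₃ A₄ A₅ B₁ B₂ B₃ B₄ B₅ : Type*}
  [AddCommGroup A₁] [AddCommGroup A₂] [AddCommGroup A₃] [AddCommGroup A₄] [AddCommGroup A₅]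
  [AddCommGroup B₁] [AddCommGroup B₂] [AddCommGroup B₃] [AddCommGroup B₄] [AddCommGroup B₅]
  {a₁ : AddMonoid.End A₁} {a₂ : AddMonoid.End A₂} {a₃ : AddMonoid.End A₃} {a₄ : AddMonoid.End A₄}
  {a₅ : AddMonoid.End A₅}
  {b₁ : AddMonoid.End B₁} {b₂ : AddMonoid.End B₂} {b₃ : AddMonoid.End B₃} {b₄ : AddMonoid.End B₄}
  {b₅ : AddMonoid.End B₅}
  {u₁ : A₁ →+ A₂} {u₂ : A₂ →+ A₃} {u₃ : A₃ →+ A₄} {u₄ : A₄ →+ A₅}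
  {v₁ : B₁ →+ B₂} {v₂ : B₂ →+ B₃} {v₃ : B₃ →+ B₄} {v₄ : B₄ →+ B₅}
  {g₁ : A₁ →+ B₁} {g₂ : A₂ →+ B₂} {g₃ : A₃ →+ B₃} {g₄ : A₄ →+ B₄} {g₅ : A₅ →+ B₅}

/-- Five lemma, surjectivity part. -/
theorem surj
    (hu₄ : ∀ x, u₄ (a₄ x) = a₅ (u₄ x))
    (hv₂ : ∀ x, v₂ (b₂ x) = b₃ (v₂ x)) (hv₃ : ∀ x, v₃ (b₃ x) = b₄ (v₃ x))
    (hv₄ : ∀ x, v₄ (b₄ x) = b₅ (v₄ x))
    (hg₃ : ∀ x, g₃ (a₃ x) = b₃ (g₃ x))
    (hg₄ : ∀ x, g₄ (a₄ x) = b₄ (g₄ x))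
    (sq₂ : ∀ x, g₃ (u₂ x) = v₂ (g₂ x)) (sq₃ : ∀ x, g₄ (u₃ x) = v₃ (g₃ x))
    (sq₄ : ∀ x, g₅ (u₄ x) = v₄ (g₄ x))
    (v₄₃ : ∀ y, v₄ (v₃ y) = 0)
    (exA₄ : ∀ x, u₄ x = 0 → ∃ x₃, u₃ x₃ = x) (exB₃ : ∀ y, v₃ y = 0 → ∃ y₂, v₂ y₂ = y)
    (s₂ : LocSurj b₂ g₂) (s₄ : LocSurj b₄ g₄) (k₅ : LocKer a₅ g₅) : LocSurj b₃ g₃ := by
  intro y
  obtain ⟨n, x₄, hx₄⟩ := s₄ (v₃ y)
  have h5 : g₅ (u₄ x₄) = 0 := by
    rw [sq₄, ← hx₄, pow_comm b₄ b₅ v₄ hv₄, v₄₃, map_zero]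
  obtain ⟨m, hm⟩ := k₅ _ h5
  have h4 : u₄ ((a₄ ^ m) x₄) = 0 := by rw [pow_comm a₄ a₅ u₄ hu₄, hm]
  obtain ⟨x₃, hx₃⟩ := exA₄ _ h4
  have h3 : v₃ (g₃ x₃ - (b₃ ^ (m + n)) y) = 0 := by
    rw [map_sub, ← sq₃, hx₃, pow_comm a₄ b₄ g₄ hg₄, ← hx₄, pow_comm b₃ b₄ v₃ hv₃,
      ← pow_add_apply, sub_self]
  obtain ⟨y₂, hy₂⟩ := exB₃ _ h3
  obtain ⟨k, x₂, hx₂⟩ := s₂ y₂
  refine ⟨k + (m + n), (a₃ ^ k) x₃ - u₂ x₂, ?_⟩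
  have h6 : (b₃ ^ k) (g₃ x₃ - (b₃ ^ (m + n)) y) = g₃ (u₂ x₂) := by
    rw [← hy₂, ← pow_comm b₂ b₃ v₂ hv₂, hx₂, sq₂]
  rw [map_sub, pow_comm a₃ b₃ g₃ hg₃, ← h6, map_sub, pow_add_apply]
  abel

/-- Five lemma, kernel part. -/
theorem ker
    (hu₂ : ∀ x, u₂ (a₂ x) = a₃ (u₂ x)) (hu₃ : ∀ x, u₃ (a₃ x) = a₄ (u₃ x))
    (hv₁ : ∀ x, v₁ (b₁ x) = b₂ (v₁ x))
    (hg₂ : ∀ x, g₂ (a₂ x) = b₂ (g₂ x)) (hg₃ : ∀ x, g₃ (a₃ x) = b₃ (g₃ x))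
    (sq₁ : ∀ x, g₂ (u₁ x) = v₁ (g₁ x))
    (sq₂ : ∀ x, g₃ (u₂ x) = v₂ (g₂ x)) (sq₃ : ∀ x, g₄ (u₃ x) = v₃ (g₃ x))
    (u₂₁ : ∀ x, u₂ (u₁ x) = 0)
    (exA₃ : ∀ x, u₃ x = 0 → ∃ x₂, u₂ x₂ = x) (exB₂ : ∀ y, v₂ y = 0 → ∃ y₁, v₁ y₁ = y)
    (s₁ : LocSurj b₁ g₁) (k₂ : LocKer a₂ g₂) (k₄ : LocKer a₄ g₄) : LocKer a₃ g₃ := by
  intro x hx
  have h4 : g₄ (u₃ x) = 0 := by rw [sq₃, hx, map_zero]
  obtain ⟨n, hn⟩ := k₄ _ h4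
  have h3 : u₃ ((a₃ ^ n) x) = 0 := by rw [pow_comm a₃ a₄ u₃ hu₃, hn]
  obtain ⟨x₂, hx₂⟩ := exA₃ _ h3
  have h2 : v₂ (g₂ x₂) = 0 := by
    rw [← sq₂, hx₂, pow_comm a₃ b₃ g₃ hg₃, hx, map_zero]
  obtain ⟨y₁, hy₁⟩ := exB₂ _ h2
  obtain ⟨m, x₁, hx₁⟩ := s₁ y₁
  have h5 : g₂ ((a₂ ^ m) x₂ - u₁ x₁) = 0 := by
    rw [map_sub, pow_comm a₂ b₂ g₂ hg₂, ← hy₁, ← pow_comm b₁ b₂ v₁ hv₁, hx₁, sq₁, sub_self]
  obtain ⟨k, hk⟩ := k₂ _ h5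
  refine ⟨k + (m + n), ?_⟩
  have h6 : u₂ ((a₂ ^ k) ((a₂ ^ m) x₂ - u₁ x₁)) = 0 := by rw [hk, map_zero]
  rw [pow_comm a₂ a₃ u₂ hu₂, map_sub, u₂₁, sub_zero, pow_comm a₂ a₃ u₂ hu₂, hx₂] at h6
  rw [pow_add_apply, pow_add_apply]
  exact h6

end Five

end Groth.Agent.Lib.Cohomology.LocFive
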