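/-
Localization on `Ext` groups (helper1).

In an abelian category with `Ext`, fix `η : F ⟶ G` and endomorphisms `a` of `F`, `b` of `G` with
`a ≫ η = η ≫ b` (`LocExt.Data`).  For an object `A` and a degree `n`, `D.Surj A n` and `D.Ker A n` say
that `Ext^n(A, F) → Ext^n(A, G)` looks like the localization at `a`:
every class of `Ext^n(A, G)` is, up to a power of `b`, in the image, and every class in the kernel is
killed by a power of `a`.

Main results: these properties pass from `X₁`, `X₂` to `X₃` in a short exact sequence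
`0 → X₁ → X₂ → X₃ → 0` (five lemma on the contravariant long exact `Ext` sequence), and to binary
biproducts.
-/
import Mathlib.Algebra.Homology.DerivedCategory.Ext.ExactSequences
import Groth.Agent.Lib.Cohomology.Helper1_LocFive

set_option autoImplicit false

universe w v u

namespace Groth.Agent.Lib.Cohomology.LocExt

open CategoryTheory CategoryTheory.Limits Abelian LocFive

variable {C : Type u} [Category.{v} C] [Abelian C] [HasExt.{w} C]

/-- postcomposition with a morphism, as an additive map on `Ext` groups -/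
noncomputable def post (A : C) {F G : C} (φ : F ⟶ G) (n : ℕ) : Ext.{w} A F n →+ Ext.{w} A G n :=
  (Ext.mk₀ φ).postcomp A (add_zero n)

lemma post_apply (A : C) {F G : C} (φ : F ⟶ G) (n : ℕ) (x : Ext.{w} A F n) :
    post A φ n x = x.comp (Ext.mk₀ φ) (add_zero n) := rfl

lemma post_comp (A : C) {F G H : C} (φ : F ⟶ G) (ψ : G ⟶ H) (n : ℕ) (x : Ext.{w} A F n) :
    post A ψ n (post A φ n x) = post A (φ ≫ ψ) n x := by
  simp only [post_apply, Ext.comp_assoc_of_third_deg_zero, Ext.mk₀_comp_mk₀]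

/-- compatibility of pre- and postcomposition -/
lemma pre_post {A A' : C} {m : ℕ} (α : Ext.{w} A' A m) {F G : C} (φ : F ⟶ G) {n n' : ℕ}
    (h : m + n = n') (x : Ext.{w} A F n) :
    post A' φ n' (α.comp x h) = α.comp (post A φ n x) h := by
  simp only [post_apply]
  rw [Ext.comp_assoc_of_third_deg_zero]

/-- The data of a morphism compatible with endomorphisms of source and target. -/
structure Data (F G : C) where
  /-- the endomorphism of the source -/
  a : F ⟶ F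
  /-- the endomorphism of the target -/
  b : G ⟶ G
  /-- the morphism -/
  η : F ⟶ G
  comm : a ≫ η = η ≫ b

variable {F G : C} (D : Data F G)

/-- the endomorphism of `Ext^n(A, F)` induced by `a` -/
noncomputable def Data.aE (A : C) (n : ℕ) : AddMonoid.End (Ext.{w} A F n) := post A D.a n

/-- the endomorphism of `Ext^n(A, G)` induced by `b` -/
noncomputable def Data.bE (A : C) (n : ℕ) : AddMonoid.End (Ext.{w} A G n) := post A D.b n

/-- Every class of `Ext^n(A, G)` is in the image of `Ext^n(A, F)` up to a power of `b`. -/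
def Data.Surj (A : C) (n : ℕ) : Prop :=
  LocSurj (D.bE A n) (post A D.η n)

/-- Every class of `Ext^n(A, F)` dying in `Ext^n(A, G)` is killed by a power of `a`. -/
def Data.Ker (A : C) (n : ℕ) : Prop :=
  LocKer (D.aE A n) (post A D.η n)

/-- powers of `aE` commute with precomposition -/
lemma Data.pre_aE_pow {A A' : C} {m : ℕ} (α : Ext.{w} A' A m) {n n' : ℕ} (h : m + n = n') (k : ℕ)
    (x : Ext.{w} A F n) : α.comp ((D.aE A n ^ k) x) h = (D.aE A' n' ^ k) (α.comp x h) :=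
  LocFive.pow_comm (D.aE A n) (D.aE A' n') (α.precomp F h)
    (fun x => (pre_post α D.a h x).symm) k x

/-- powers of `bE` commute with precomposition -/
lemma Data.pre_bE_pow {A A' : C} {m : ℕ} (α : Ext.{w} A' A m) {n n' : ℕ} (h : m + n = n') (k : ℕ)
    (x : Ext.{w} A G n) : α.comp ((D.bE A n ^ k) x) h = (D.bE A' n' ^ k) (α.comp x h) :=
  LocFive.pow_comm (D.bE A n) (D.bE A' n') (α.precomp G h)
    (fun x => (pre_post α D.b h x).symm) k x

lemma Data.post_comm (A : C) (n : ℕ) (x : Ext.{w} A F n) :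
    post A D.η n (post A D.a n x) = post A D.b n (post A D.η n x) := by
  rw [post_comp, post_comp, D.comm]

/-- `η` intertwines powers of `aE` and `bE` -/
lemma Data.η_aE_pow (A : C) (n k : ℕ) (x : Ext.{w} A F n) :
    post A D.η n ((D.aE A n ^ k) x) = (D.bE A n ^ k) (post A D.η n x) :=
  LocFive.pow_comm (D.aE A n) (D.bE A n) (post A D.η n) (fun x => D.post_comm A n x) k x

section SES

variable {S : ShortComplex C} (hS : S.ShortExact)

include hS in
theorem Data.surj_X₃_succ (n : ℕ) (s₁ : D.Surj S.X₁ n) (s₂ : D.Surj S.X₂ (n + 1))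
    (k₁ : D.Ker S.X₁ (n + 1)) : D.Surj S.X₃ (n + 1) := by
  refine LocFive.surj
    (a₃ := D.aE S.X₃ (n + 1)) (a₄ := D.aE S.X₂ (n + 1)) (a₅ := D.aE S.X₁ (n + 1))
    (b₂ := D.bE S.X₁ n)
    (b₃ := D.bE S.X₃ (n + 1)) (b₄ := D.bE S.X₂ (n + 1)) (b₅ := D.bE S.X₁ (n + 1))
    (u₂ := hS.extClass.precomp F (add_comm 1 n))
    (u₃ := (Ext.mk₀ S.g).precomp F (zero_add (n + 1)))
    (u₄ := (Ext.mk₀ S.f).precomp F (zero_add (n + 1)))
    (v₂ := hS.extClass.precomp G (add_comm 1 n))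
    (v₃ := (Ext.mk₀ S.g).precomp G (zero_add (n + 1)))
    (v₄ := (Ext.mk₀ S.f).precomp G (zero_add (n + 1)))
    (g₂ := post S.X₁ D.η n) (g₃ := post S.X₃ D.η (n + 1)) (g₄ := post S.X₂ D.η (n + 1))
    (g₅ := post S.X₁ D.η (n + 1))
    ?_ ?_ ?_ ?_ ?_ ?_ ?_ ?_ ?_ ?_ ?_ ?_ s₁ s₂ k₁
  · intro x; exact (pre_post (Ext.mk₀ S.f) D.a (zero_add (n + 1)) x).symm
  · intro x; exact (pre_post hS.extClass D.b (add_comm 1 n) x).symm
  · intro x; exact (pre_post (Ext.mk₀ S.g) D.b (zero_add (n + 1)) x).symm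
  · intro x; exact (pre_post (Ext.mk₀ S.f) D.b (zero_add (n + 1)) x).symm
  · intro x; exact D.post_comm _ _ x
  · intro x; exact D.post_comm _ _ x
  · intro x; exact pre_post hS.extClass D.η (add_comm 1 n) x
  · intro x; exact pre_post (Ext.mk₀ S.g) D.η (zero_add (n + 1)) x
  · intro x; exact pre_post (Ext.mk₀ S.f) D.η (zero_add (n + 1)) x
  · intro y
    change (Ext.mk₀ S.f).comp ((Ext.mk₀ S.g).comp y (zero_add (n + 1))) (zero_add (n + 1)) = 0
    rw [Ext.mk₀_comp_mk₀_assoc, S.zero, Ext.mk₀_zero, Ext.zero_comp]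
  · intro x hx
    exact Ext.contravariant_sequence_exact₂ hS F x hx
  · intro y hy
    exact Ext.contravariant_sequence_exact₃ hS G y hy (add_comm 1 n)

include hS in
theorem Data.ker_X₃_succ (n : ℕ) (s₂ : D.Surj S.X₂ n) (k₁ : D.Ker S.X₁ n)
    (k₂ : D.Ker S.X₂ (n + 1)) : D.Ker S.X₃ (n + 1) := by
  refine LocFive.ker
    (a₂ := D.aE S.X₁ n) (a₃ := D.aE S.X₃ (n + 1)) (a₄ := D.aE S.X₂ (n + 1))
    (b₁ := D.bE S.X₂ n) (b₂ := D.bE S.X₁ n) (b₃ := D.bE S.X₃ (n + 1))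
    (u₁ := (Ext.mk₀ S.f).precomp F (zero_add n))
    (u₂ := hS.extClass.precomp F (add_comm 1 n))
    (u₃ := (Ext.mk₀ S.g).precomp F (zero_add (n + 1)))
    (v₁ := (Ext.mk₀ S.f).precomp G (zero_add n))
    (v₂ := hS.extClass.precomp G (add_comm 1 n))
    (v₃ := (Ext.mk₀ S.g).precomp G (zero_add (n + 1)))
    (g₁ := post S.X₂ D.η n) (g₂ := post S.X₁ D.η n) (g₃ := post S.X₃ D.η (n + 1))
    (g₄ := post S.X₂ D.η (n + 1))
    ?_ ?_ ?_ ?_ ?_ ?_ ?_ ?_ ?_ ?_ ?_ s₂ k₁ k₂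
  · intro x; exact (pre_post hS.extClass D.a (add_comm 1 n) x).symm
  · intro x; exact (pre_post (Ext.mk₀ S.g) D.a (zero_add (n + 1)) x).symm
  · intro x; exact (pre_post (Ext.mk₀ S.f) D.b (zero_add n) x).symm
  · intro x; exact D.post_comm _ _ x
  · intro x; exact D.post_comm _ _ x
  · intro x; exact pre_post (Ext.mk₀ S.f) D.η (zero_add n) x
  · intro x; exact pre_post hS.extClass D.η (add_comm 1 n) x
  · intro x; exact pre_post (Ext.mk₀ S.g) D.η (zero_add (n + 1)) x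
  · intro x
    change hS.extClass.comp ((Ext.mk₀ S.f).comp x (zero_add n)) (add_comm 1 n) = 0
    rw [← Ext.comp_assoc_of_second_deg_zero, hS.extClass_comp, Ext.zero_comp]
  · intro x hx
    exact Ext.contravariant_sequence_exact₃ hS F x hx (add_comm 1 n)
  · intro y hy
    exact Ext.contravariant_sequence_exact₁ hS G y (add_comm 1 n) hy

include hS in
theorem Data.surj_X₃_zero (s₂ : D.Surj S.X₂ 0) (k₁ : D.Ker S.X₁ 0) : D.Surj S.X₃ 0 := by
  have := hS.epi_g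
  refine LocFive.surj (A₂ := PUnit.{1}) (B₂ := PUnit.{1})
    (a₃ := D.aE S.X₃ 0) (a₄ := D.aE S.X₂ 0) (a₅ := D.aE S.X₁ 0)
    (b₂ := 0)
    (b₃ := D.bE S.X₃ 0) (b₄ := D.bE S.X₂ 0) (b₅ := D.bE S.X₁ 0)
    (u₂ := 0)
    (u₃ := (Ext.mk₀ S.g).precomp F (zero_add 0))
    (u₄ := (Ext.mk₀ S.f).precomp F (zero_add 0))
    (v₂ := 0)
    (v₃ := (Ext.mk₀ S.g).precomp G (zero_add 0))
    (v₄ := (Ext.mk₀ S.f).precomp G (zero_add 0))
    (g₂ := 0) (g₃ := post S.X₃ D.η 0) (g₄ := post S.X₂ D.η 0)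
    (g₅ := post S.X₁ D.η 0)
    ?_ ?_ ?_ ?_ ?_ ?_ ?_ ?_ ?_ ?_ ?_ ?_ (locSurj_of_subsingleton _ _) s₂ k₁
  · intro x; exact (pre_post (Ext.mk₀ S.f) D.a (zero_add 0) x).symm
  · intro x; simp
  · intro x; exact (pre_post (Ext.mk₀ S.g) D.b (zero_add 0) x).symm
  · intro x; exact (pre_post (Ext.mk₀ S.f) D.b (zero_add 0) x).symm
  · intro x; exact D.post_comm _ _ x
  · intro x; exact D.post_comm _ _ x
  · intro x; simp
  · intro x; exact pre_post (Ext.mk₀ S.g) D.η (zero_add 0) x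
  · intro x; exact pre_post (Ext.mk₀ S.f) D.η (zero_add 0) x
  · intro y
    change (Ext.mk₀ S.f).comp ((Ext.mk₀ S.g).comp y (zero_add 0)) (zero_add 0) = 0
    rw [Ext.mk₀_comp_mk₀_assoc, S.zero, Ext.mk₀_zero, Ext.zero_comp]
  · intro x hx
    exact Ext.contravariant_sequence_exact₂ hS F x hx
  · intro y hy
    refine ⟨0, ?_⟩
    apply Ext.precomp_mk₀_injective_of_epi G S.g
    rw [hy]
    simp

include hS in
theorem Data.ker_X₃_zero (k₂ : D.Ker S.X₂ 0) : D.Ker S.X₃ 0 := by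
  have := hS.epi_g
  intro x hx
  have h1 : post S.X₂ D.η 0 ((Ext.mk₀ S.g).comp x (zero_add 0)) = 0 := by
    rw [pre_post, hx, Ext.comp_zero]
  obtain ⟨k, hk⟩ := k₂ _ h1
  refine ⟨k, ?_⟩
  apply Ext.precomp_mk₀_injective_of_epi F S.g
  rw [map_zero]
  change (Ext.mk₀ S.g).comp ((D.aE S.X₃ 0 ^ k) x) (zero_add 0) = 0
  rw [D.pre_aE_pow]
  exact hk

end SES

section Iso

/-- transport along an isomorphism in the first variable -/
lemma Data.surj_of_iso {A A' : C} (e : A ≅ A') (n : ℕ) (h : D.Surj A n) : D.Surj A' n := by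
  intro y
  obtain ⟨k, x, hx⟩ := h ((Ext.mk₀ e.hom).comp y (zero_add n))
  refine ⟨k, (Ext.mk₀ e.inv).comp x (zero_add n), ?_⟩
  rw [← D.pre_bE_pow] at hx
  rw [pre_post, ← hx, Ext.mk₀_comp_mk₀_assoc, e.inv_hom_id, Ext.mk₀_id_comp]

lemma Data.ker_of_iso {A A' : C} (e : A ≅ A') (n : ℕ) (h : D.Ker A n) : D.Ker A' n := by
  intro x hx
  have h0 : post A D.η n ((Ext.mk₀ e.hom).comp x (zero_add n)) = 0 := by
    rw [pre_post, hx, Ext.comp_zero]
  obtain ⟨k, hk⟩ := h _ h0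
  refine ⟨k, ?_⟩
  rw [← D.pre_aE_pow] at hk
  have h3 := congrArg (fun z => (Ext.mk₀ e.inv).comp z (zero_add n)) hk
  simp only [Ext.mk₀_comp_mk₀_assoc, e.inv_hom_id, Ext.mk₀_id_comp, Ext.comp_zero] at h3
  exact h3

end Iso

section Biprod

variable (A B : C)

lemma biprod_decomp {H : C} (n : ℕ) (y : Ext.{w} (A ⊞ B) H n) :
    (Ext.mk₀ biprod.fst).comp ((Ext.mk₀ biprod.inl).comp y (zero_add n)) (zero_add n) +
      (Ext.mk₀ biprod.snd).comp ((Ext.mk₀ biprod.inr).comp y (zero_add n)) (zero_add n) = y := by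
  rw [Ext.mk₀_comp_mk₀_assoc, Ext.mk₀_comp_mk₀_assoc, ← Ext.add_comp, ← Ext.mk₀_add,
    biprod.total, Ext.mk₀_id_comp]

theorem Data.surj_biprod (n : ℕ) (hA : D.Surj A n) (hB : D.Surj B n) : D.Surj (A ⊞ B) n := by
  intro y
  obtain ⟨k₁, x₁, h₁⟩ := hA ((Ext.mk₀ biprod.inl).comp y (zero_add n))
  obtain ⟨k₂, x₂, h₂⟩ := hB ((Ext.mk₀ biprod.inr).comp y (zero_add n))
  refine ⟨k₁ + k₂, (Ext.mk₀ biprod.fst).comp ((D.aE A n ^ k₂) x₁) (zero_add n) +
    (Ext.mk₀ biprod.snd).comp ((D.aE B n ^ k₁) x₂) (zero_add n), ?_⟩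
  have e1 : (Ext.mk₀ biprod.inl).comp ((D.bE (A ⊞ B) n ^ (k₁ + k₂)) y) (zero_add n) =
      post A D.η n ((D.aE A n ^ k₂) x₁) := by
    rw [D.pre_bE_pow, D.η_aE_pow, ← h₁, ← LocFive.pow_add_apply, add_comm k₂ k₁]
  have e2 : (Ext.mk₀ biprod.inr).comp ((D.bE (A ⊞ B) n ^ (k₁ + k₂)) y) (zero_add n) =
      post B D.η n ((D.aE B n ^ k₁) x₂) := by
    rw [D.pre_bE_pow, D.η_aE_pow, ← h₂, ← LocFive.pow_add_apply]
  refine (biprod_decomp A B n _).symm.trans ?_
  rw [e1, e2, map_add, pre_post, pre_post]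

theorem Data.ker_biprod (n : ℕ) (hA : D.Ker A n) (hB : D.Ker B n) : D.Ker (A ⊞ B) n := by
  intro x hx
  have h1 : post A D.η n ((Ext.mk₀ biprod.inl).comp x (zero_add n)) = 0 := by
    rw [pre_post, hx, Ext.comp_zero]
  have h2 : post B D.η n ((Ext.mk₀ biprod.inr).comp x (zero_add n)) = 0 := by
    rw [pre_post, hx, Ext.comp_zero]
  obtain ⟨k₁, hk₁⟩ := hA _ h1
  obtain ⟨k₂, hk₂⟩ := hB _ h2
  refine ⟨k₁ + k₂, ?_⟩
  have e1 : (Ext.mk₀ biprod.inl).comp ((D.aE (A ⊞ B) n ^ (k₁ + k₂)) x) (zero_add n) = 0 := by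
    rw [D.pre_aE_pow, add_comm k₁ k₂, LocFive.pow_add_apply, hk₁, map_zero]
  have e2 : (Ext.mk₀ biprod.inr).comp ((D.aE (A ⊞ B) n ^ (k₁ + k₂)) x) (zero_add n) = 0 := by
    rw [D.pre_aE_pow, LocFive.pow_add_apply, hk₂, map_zero]
  refine (biprod_decomp A B n _).symm.trans ?_
  rw [e1, e2, Ext.comp_zero, Ext.comp_zero, add_zero]

end Biprod

end Groth.Agent.Lib.Cohomology.LocExt
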