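/-
Cohomological dimension bound for quasi-coherent modules on quasi-compact quasi-separated schemes:
there is `d` with `H^p(X, M) = 0` for all quasi-coherent `M` and `p ≥ d` (`exists_bound_of_qcqs`).
-/
import Groth.Agent.Lib.Cohomology.Helper1_SerreVanishing
import Groth.Agent.Lib.Cohomology.Helper1_MV
import Mathlib.AlgebraicGeometry.Limits

set_option autoImplicit false
universe u

namespace Groth.Agent.Lib.Cohomology

open CategoryTheory Limits Opposite TopologicalSpace AlgebraicGeometry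

variable {X : Scheme.{u}}

/-- A quasi-compact open contained in an affine open is a finite union of basic opens. -/
lemma exists_fin_basicOpen_cover {U₀ : X.Opens} (hU₀ : IsAffineOpen U₀) (Z : X.Opens) (hZ : Z ≤ U₀)
    (hZc : IsCompact (Z : Set X)) :
    ∃ (s : ℕ) (g : Fin (s + 1) → Γ(X, U₀)), Z = ⨆ k, X.basicOpen (g k) := by
  classical
  have hx : ∀ x : Z, ∃ f : Γ(X, U₀), X.basicOpen f ≤ Z ∧ (x : X) ∈ X.basicOpen f := fun x =>
    hU₀.exists_basicOpen_le (V := Z) x (hZ x.2)
  choose f hf1 hf2 using hx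
  obtain ⟨t, ht⟩ := hZc.elim_finite_subcover (fun x : Z => (X.basicOpen (f x) : Set X))
    (fun x => (X.basicOpen (f x)).isOpen) (fun x hx => Set.mem_iUnion.2 ⟨⟨x, hx⟩, hf2 ⟨x, hx⟩⟩)
  refine ⟨t.card, Fin.cases 0 (fun k => f (t.equivFin.symm k)), ?_⟩
  apply le_antisymm
  · intro x hx
    obtain ⟨y, hy⟩ := Set.mem_iUnion.1 (ht hx)
    obtain ⟨hyt, hxy⟩ := Set.mem_iUnion.1 hy
    refine Opens.mem_iSup.2 ⟨(t.equivFin ⟨y, hyt⟩).succ, ?_⟩
    simpa using hxy
  · refine iSup_le (fun k => ?_)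
    refine Fin.cases ?_ (fun j => ?_) k
    · simp
    · simpa using hf1 _

/-- Cohomology of quasi-coherent modules on a finite union of basic opens of an affine open vanishes in
degrees at least the number of basic opens. -/
lemma HU_iSup_basicOpen_subsingleton {U₀ : X.Opens} (hU₀ : IsAffineOpen U₀) (M : X.Modules)
    [M.IsQuasicoherent] (s : ℕ) (g : Fin (s + 1) → Γ(X, U₀)) (n : ℕ) (hn : s + 1 ≤ n) :
    Subsingleton (CohTop.HU (Coh.toAb M) n (⨆ k, X.basicOpen (g k))) := by
  refine HU_iSup_subsingleton (Coh.toAb M) (Set.range (fun g : Γ(X, U₀) => X.basicOpen g)) ?_ ?_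
    s (fun k => X.basicOpen (g k)) (fun k => ⟨g k, rfl⟩) n hn
  · rintro _ ⟨a, rfl⟩ _ ⟨b, rfl⟩
    exact ⟨a * b, X.basicOpen_mul a b⟩
  · rintro _ ⟨a, rfl⟩ m
    exact HU_succ_subsingleton_of_isAffineOpen M _ (hU₀.basicOpen a) m

/-- On a quasi-separated scheme, the cohomology of quasi-coherent modules on a finite union of affine
opens vanishes in large degrees (uniformly in the module). -/
theorem exists_bound_iSup_affine [QuasiSeparatedSpace X] :
    ∀ (t : ℕ) (U : Fin (t + 1) → X.Opens), (∀ i, IsAffineOpen (U i)) →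
      ∃ d : ℕ, ∀ (M : X.Modules), M.IsQuasicoherent → ∀ p, d ≤ p →
        Subsingleton (CohTop.HU (Coh.toAb M) p (⨆ i, U i)) := by
  intro t
  induction t with
  | zero =>
    intro U hU
    refine ⟨1, fun M hM p hp => ?_⟩
    obtain ⟨m, rfl⟩ : ∃ m, p = m + 1 := ⟨p - 1, by omega⟩
    have : ⨆ i, U i = U 0 := by
      rw [iSup_fin_succ']
      simp
    rw [this]
    exact HU_succ_subsingleton_of_isAffineOpen M _ (hU 0) m
  | succ t ih =>
    intro U hU
    obtain ⟨d', hd'⟩ := ih (fun i => U i.succ) (fun i => hU i.succ)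
    have hW'c : IsCompact ((⨆ i : Fin (t + 1), U i.succ : X.Opens) : Set X) := by
      rw [Opens.coe_iSup]
      exact isCompact_iUnion (fun i => (hU i.succ).isCompact)
    have hZc : IsCompact ((U 0 ⊓ ⨆ i : Fin (t + 1), U i.succ : X.Opens) : Set X) := by
      rw [Opens.coe_inf]
      exact QuasiSeparatedSpace.inter_isCompact _ _ (U 0).isOpen (hU 0).isCompact
        (Opens.isOpen _) hW'c
    obtain ⟨s, g, hg⟩ := exists_fin_basicOpen_cover (hU 0) _ inf_le_left hZc
    refine ⟨max d' (s + 2), fun M hM p hp => ?_⟩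
    obtain ⟨m, rfl⟩ : ∃ m, p = m + 1 := ⟨p - 1, by omega⟩
    rw [iSup_fin_succ']
    apply HU_sup_subsingleton
    · rw [hg]
      exact HU_iSup_basicOpen_subsingleton (hU 0) M s g m (by omega)
    · exact HU_succ_subsingleton_of_isAffineOpen M _ (hU 0) m
    · exact hd' M hM (m + 1) (by omega)

/-- On a quasi-compact quasi-separated scheme, the cohomology of quasi-coherent modules vanishes in large
degrees (uniformly in the module). -/
theorem exists_bound_of_qcqs (X : Scheme.{u}) [CompactSpace X] [QuasiSeparatedSpace X] :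
    ∃ d : ℕ, ∀ (M : X.Modules), M.IsQuasicoherent → ∀ p, d ≤ p → Subsingleton (Coh.HH X M p) := by
  classical
  -- a finite affine cover
  have hx : ∀ x : X, ∃ V : X.Opens, IsAffineOpen V ∧ x ∈ V := by
    intro x
    obtain ⟨_, ⟨V, hV, rfl⟩, hxV, -⟩ :=
      X.isBasis_affineOpens.exists_subset_of_mem_open (Set.mem_univ x) isOpen_univ
    exact ⟨V, hV, hxV⟩
  choose V hV hxV using hx
  obtain ⟨t, ht⟩ := CompactSpace.elim_nhds_subcover (fun x : X => ((V x : X.Opens) : Set X))
    (fun x => (V x).isOpen.mem_nhds (hxV x))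
  let U : Fin (t.card + 1) → X.Opens := Fin.cases ⊥ (fun k => V (t.equivFin.symm k : X))
  have hU : ∀ i, IsAffineOpen (U i) := by
    intro i
    refine Fin.cases ?_ (fun k => ?_) i
    · exact isAffineOpen_bot X
    · exact hV _
  have hcov : ⨆ i, U i = ⊤ := by
    rw [eq_top_iff]
    intro x _
    have hx : x ∈ ⋃ y ∈ t, ((V y : X.Opens) : Set X) := ht ▸ Set.mem_univ x
    obtain ⟨y, hy⟩ := Set.mem_iUnion.1 hx
    obtain ⟨hyt, hxy⟩ := Set.mem_iUnion.1 hy
    refine Opens.mem_iSup.2 ⟨(t.equivFin ⟨y, hyt⟩).succ, ?_⟩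
    change x ∈ V (t.equivFin.symm (t.equivFin ⟨y, hyt⟩) : X)
    rw [Equiv.symm_apply_apply]
    exact hxy
  obtain ⟨d, hd⟩ := exists_bound_iSup_affine t.card U hU
  refine ⟨d, fun M hM p hp => ?_⟩
  have := hd M hM p hp
  rw [hcov] at this
  exact (HUTopEquiv _ (Coh.toAb M) p).symm.subsingleton

end Groth.Agent.Lib.Cohomology
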