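import Groth.Prelude.Def_Canon
import Groth.Agent.S6160
import Mathlib.Algebra.Homology.DerivedCategory.Ext.ExactSequences

/-!
# The long exact cohomology sequence for `Coh.HH` (helper5)

For a short exact sequence `S` of `O_X`-modules, the connecting maps
`δ hS n : H^n(X, S.X₃) → H^{n+1}(X, S.X₁)`, exactness of the long sequence (element form), and
linearity of all maps over `Γ(X, O_X)` and over `A` when `X` is over `Spec A`.
-/

set_option autoImplicit false
universe u
open CategoryTheory CategoryTheory.Limits AlgebraicGeometry Abelian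

namespace Groth.Agent.Lib.Cohomology.HHLES

/-- the structure sheaf, typed as a sheaf of rings on the site of opens -/
abbrev RR (X : Scheme.{u}) : Sheaf (Opens.grothendieckTopology X) RingCat.{u} := X.ringCatSheaf

/-- The forgetful functor from `O_X`-modules to abelian sheaves, as a functor on `X.Modules`. -/
noncomputable def toAbF (X : Scheme.{u}) :
    X.Modules ⥤ Sheaf (Opens.grothendieckTopology X) AddCommGrpCat.{u} :=
  SheafOfModules.toSheaf.{u} (RR X)

variable {X : Scheme.{u}}

lemma toAbF_obj (M : X.Modules) : (toAbF X).obj M = Coh.toAb M := rfl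

lemma toAbF_map {F G : X.Modules} (φ : F ⟶ G) :
    (toAbF X).map φ = (SheafOfModules.toSheaf X.ringCatSheaf).map φ := rfl

instance : (toAbF X).Additive :=
  inferInstanceAs (SheafOfModules.toSheaf.{u} (RR X)).Additive

/-- `toSheaf` from `O_X`-modules to abelian sheaves preserves finite limits. -/
instance toAbF_preservesFiniteLimits : PreservesFiniteLimits (toAbF X) := by
  have := Groth.Agent.S6160.toSheaf_preservesLimitsOfSize (RR X)
  exact (PreservesLimitsOfSize.preservesFiniteLimits (SheafOfModules.toSheaf.{u} (RR X)) :)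

/-- `toSheaf` from `O_X`-modules to abelian sheaves preserves finite colimits. -/
instance toAbF_preservesFiniteColimits : PreservesFiniteColimits (toAbF X) := by
  have := Groth.Agent.S6160.toSheaf_preservesColimitsOfSize (RR X)
  exact (PreservesColimitsOfSize.preservesFiniteColimits (SheafOfModules.toSheaf.{u} (RR X)) :)

/-- The map on cohomology induced by a morphism of modules. -/
noncomputable abbrev hmap {F G : X.Modules} (φ : F ⟶ G) (n : ℕ) : Coh.HH X F n →+ Coh.HH X G n :=
  Sheaf.H.map ((SheafOfModules.toSheaf X.ringCatSheaf).map φ) n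

section general
variable {C : Type u} [SmallCategory C] {J : GrothendieckTopology C}
  [HasSheafify J AddCommGrpCat.{u}] [HasExt.{u} (Sheaf J AddCommGrpCat.{u})]

lemma H_map_zero {F G : Sheaf J AddCommGrpCat.{u}} (n : ℕ) (x : Sheaf.H F n) :
    Sheaf.H.map (0 : F ⟶ G) n x = 0 := by
  rw [Sheaf.H.map_apply, Ext.mk₀_zero, Ext.comp_zero]

end general

lemma hmap_id (F : X.Modules) (n : ℕ) (x : Coh.HH X F n) : hmap (𝟙 F) n x = x :=
  (congrArg (fun f => Sheaf.H.map f n x) ((toAbF X).map_id F)).trans (Sheaf.H.map_id_apply x)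

lemma hmap_comp {F G K : X.Modules} (φ : F ⟶ G) (ψ : G ⟶ K) (n : ℕ) (x : Coh.HH X F n) :
    hmap (φ ≫ ψ) n x = hmap ψ n (hmap φ n x) :=
  (congrArg (fun f => Sheaf.H.map f n x) ((toAbF X).map_comp φ ψ)).trans
    (Sheaf.H.map_comp_apply _ _ x)

lemma hmap_zero {F G : X.Modules} (n : ℕ) (x : Coh.HH X F n) : hmap (0 : F ⟶ G) n x = 0 :=
  (congrArg (fun f => Sheaf.H.map f n x) ((toAbF X).map_zero F G)).trans (H_map_zero n x)

lemma hmap_add {F G : X.Modules} (φ ψ : F ⟶ G) (n : ℕ) (x : Coh.HH X F n) :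
    hmap (φ + ψ) n x = hmap φ n x + hmap ψ n x :=
  (congrArg (fun f => Sheaf.H.map f n x) ((toAbF X).map_add (f := φ) (g := ψ))).trans
    (Sheaf.H.map_add_apply _ _ x)

lemma hmap_smul {F G : X.Modules} (φ : F ⟶ G) (n : ℕ) (r : Coh.Γtop X) (x : Coh.HH X F n) :
    hmap φ n (r • x) = r • hmap φ n x := by
  change Sheaf.H.map _ n (Sheaf.H.map (Coh.smulAb F r) n x) =
    Sheaf.H.map (Coh.smulAb G r) n (Sheaf.H.map _ n x)
  rw [← Sheaf.H.map_comp_apply, ← Sheaf.H.map_comp_apply]
  exact congrArg (fun f => Sheaf.H.map f n x) (Canon.toSheaf_map_comp_smulAb φ r).symm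

variable {S : ShortComplex X.Modules} (hS : S.ShortExact)

include hS in
/-- a short exact sequence of modules gives a short exact sequence of abelian sheaves -/
lemma toAb_shortExact : (S.map (toAbF X)).ShortExact :=
  hS.map_of_exact _

/-- The connecting homomorphism `H^n(X, S.X₃) → H^{n+1}(X, S.X₁)`. -/
noncomputable def δ (n : ℕ) : Coh.HH X S.X₃ n →+ Coh.HH X S.X₁ (n + 1) :=
  (toAb_shortExact hS).extClass.postcomp _ rfl

lemma δ_apply (n : ℕ) (x : Coh.HH X S.X₃ n) :
    δ hS n x = x.comp (toAb_shortExact hS).extClass rfl := rfl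

lemma hmap_g_f (n : ℕ) (x : Coh.HH X S.X₁ n) : hmap S.g n (hmap S.f n x) = 0 := by
  rw [← hmap_comp, S.zero, hmap_zero]

lemma δ_hmap_g (n : ℕ) (x : Coh.HH X S.X₂ n) : δ hS n (hmap S.g n x) = 0 := by
  have h := (toAb_shortExact hS).comp_extClass
  have := Ext.comp_assoc x (Ext.mk₀ (S.map (toAbF X)).g) (toAb_shortExact hS).extClass
    (add_zero n) (zero_add 1) (show n + 0 + 1 = n + 1 by omega)
  exact this.trans ((congrArg (fun y => x.comp y _) h).trans (Ext.comp_zero x _ _ _ _))

lemma hmap_f_δ (n : ℕ) (x : Coh.HH X S.X₃ n) : hmap S.f (n + 1) (δ hS n x) = 0 := by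
  have h := (toAb_shortExact hS).extClass_comp
  have := Ext.comp_assoc x (toAb_shortExact hS).extClass (Ext.mk₀ (S.map (toAbF X)).f)
    (rfl : n + 1 = n + 1) (add_zero 1) (show n + 1 + 0 = n + 1 by omega)
  exact this.trans ((congrArg (fun y => x.comp y _) h).trans (Ext.comp_zero x _ _ _ _))

include hS in
/-- exactness at `H^n(S.X₂)` -/
lemma exact₂ (n : ℕ) (x : Coh.HH X S.X₂ n) (hx : hmap S.g n x = 0) :
    ∃ y : Coh.HH X S.X₁ n, hmap S.f n y = x := by
  have hT := toAb_shortExact hS
  exact Ext.covariant_sequence_exact₂.{u} _ hT x hx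

/-- exactness at `H^n(S.X₃)` -/
lemma exact₃ (n : ℕ) (x : Coh.HH X S.X₃ n) (hx : δ hS n x = 0) :
    ∃ y : Coh.HH X S.X₂ n, hmap S.g n y = x := by
  have hT := toAb_shortExact hS
  exact Ext.covariant_sequence_exact₃.{u} _ hT x rfl hx

/-- exactness at `H^{n+1}(S.X₁)` -/
lemma exact₁ (n : ℕ) (x : Coh.HH X S.X₁ (n + 1)) (hx : hmap S.f (n + 1) x = 0) :
    ∃ y : Coh.HH X S.X₃ n, δ hS n y = x := by
  have hT := toAb_shortExact hS
  exact Ext.covariant_sequence_exact₁.{u} _ hT x hx rfl

include hS in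
/-- `H^0` is left exact -/
lemma hmap_f_injective_zero : Function.Injective (hmap S.f 0) := by
  have : Mono (S.map (toAbF X)).f := (toAb_shortExact hS).mono_f
  exact Ext.postcomp_mk₀_injective_of_mono _ (S.map (toAbF X)).f

/-- multiplication by a global function as an endomorphism of the short complex of sheaves -/
noncomputable def smulSC (S : ShortComplex X.Modules) (r : Coh.Γtop X) :
    S.map (toAbF X) ⟶ S.map (toAbF X) where
  τ₁ := Coh.smulAb S.X₁ r
  τ₂ := Coh.smulAb S.X₂ r
  τ₃ := Coh.smulAb S.X₃ r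
  comm₁₂ := (Canon.toSheaf_map_comp_smulAb S.f r).symm
  comm₂₃ := (Canon.toSheaf_map_comp_smulAb S.g r).symm

/-- the connecting map is linear over global functions -/
lemma δ_smul (n : ℕ) (r : Coh.Γtop X) (x : Coh.HH X S.X₃ n) :
    δ hS n (r • x) = r • δ hS n x := by
  have hT := toAb_shortExact hS
  have hnat := ShortComplex.ShortExact.extClass_naturality hT hT (smulSC S r)
  have h1 := Ext.comp_assoc x (Ext.mk₀ (Coh.smulAb S.X₃ r)) hT.extClass
    (add_zero n) (zero_add 1) (show n + 0 + 1 = n + 1 by omega)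
  have h2 := Ext.comp_assoc x hT.extClass (Ext.mk₀ (Coh.smulAb S.X₁ r))
    (rfl : n + 1 = n + 1) (add_zero 1) (show n + 1 + 0 = n + 1 by omega)
  exact h1.trans ((congrArg (fun y => x.comp y _) hnat.symm).trans h2.symm)

section over
variable (A : Type u) [CommRing A] [X.Over (Spec (CommRingCat.of A))]

/-- the connecting map as an `A`-linear map -/
noncomputable def δlin (n : ℕ) : Coh.HH X S.X₃ n →ₗ[A] Coh.HH X S.X₁ (n + 1) where
  toFun := δ hS n
  map_add' := map_add _
  map_smul' a x := δ_smul hS n _ x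

lemma δlin_apply (n : ℕ) (x : Coh.HH X S.X₃ n) : δlin hS A n x = δ hS n x := rfl

lemma HHlin_apply {F G : X.Modules} (φ : F ⟶ G) (n : ℕ) (x : Coh.HH X F n) :
    Canon.HHlin A φ n x = hmap φ n x := rfl

include hS in
lemma range_f_eq_ker_g (n : ℕ) :
    LinearMap.range (Canon.HHlin A S.f n) = LinearMap.ker (Canon.HHlin A S.g n) := by
  ext x
  constructor
  · rintro ⟨y, rfl⟩
    exact hmap_g_f n y
  · intro hx
    exact exact₂ hS n x hx

lemma range_g_eq_ker_δ (n : ℕ) :
    LinearMap.range (Canon.HHlin A S.g n) = LinearMap.ker (δlin hS A n) := by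
  ext x
  constructor
  · rintro ⟨y, rfl⟩
    exact δ_hmap_g hS n y
  · intro hx
    exact exact₃ hS n x hx

lemma range_δ_eq_ker_f (n : ℕ) :
    LinearMap.range (δlin hS A n) = LinearMap.ker (Canon.HHlin A S.f (n + 1)) := by
  ext x
  constructor
  · rintro ⟨y, rfl⟩
    exact hmap_f_δ hS n y
  · intro hx
    exact exact₁ hS n x hx

end over

end Groth.Agent.Lib.Cohomology.HHLES
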