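import Groth.Agent.Lib.Cohomology.Helper4_CechInj
import Groth.Agent.Lib.Cohomology.Helper3_Flasque
import Groth.Prelude.Def_CechTot

/-!
# Leray's theorem: Čech cohomology computes cohomology for acyclic covers (helper5)

* `cechSES`: a short exact sequence of abelian sheaves which is surjective on sections over all
  finite intersections of the family gives a short exact sequence of Čech complexes.
-/

set_option autoImplicit false
universe u
open CategoryTheory CategoryTheory.Limits TopologicalSpace Opposite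

namespace Groth.Agent.Lib.Cohomology.Leray

open Groth.Agent.Lib.Cohomology.Cech

variable {X : TopCat.{u}} {ι : Type u} (U : ι → Opens X)

/-- The short complex of Čech complexes attached to a short complex of abelian sheaves. -/
noncomputable def cechSC (S : ShortComplex (CohTop.Ab X)) :
    ShortComplex (CochainComplex AddCommGrpCat.{u} ℕ) :=
  (S.map (sheafToPresheaf (Opens.grothendieckTopology X) AddCommGrpCat.{u})).map
    (cechComplexFunctor U)

lemma sections_injective {S : ShortComplex (CohTop.Ab X)} (hS : S.ShortExact) (V : Opens X) :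
    Function.Injective (S.f.hom.app (op V)) := by
  have := hS.mono_f
  have h1 : Mono S.f.hom := (Sheaf.Hom.mono_iff_presheaf_mono _ _ S.f).1 this
  have h2 : Mono (S.f.hom.app (op V)) := inferInstance
  exact (AddCommGrpCat.mono_iff_injective _).1 h2

/-- Short exactness of the Čech complexes. -/
theorem cechSC_shortExact {S : ShortComplex (CohTop.Ab X)} (hS : S.ShortExact)
    (hsurj : ∀ (n : ℕ) (i : Fin (n + 1) → ι), Function.Surjective (S.g.hom.app (op (inter U i)))) :
    (cechSC U S).ShortExact := by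
  apply HomologicalComplex.shortExact_of_degreewise_shortExact
  intro n
  have hmono := hS.mono_f
  refine ShortComplex.ShortExact.mk' ?_ ?_ ?_
  · rw [ShortComplex.ab_exact_iff]
    intro c hc
    have h1 : ∀ i : Fin (n + 1) → ι, ∃ t : S.X₁.obj.obj (op (inter U i)),
        S.f.hom.app (op (inter U i)) t = proj S.X₂.obj U n i c := by
      intro i
      apply TopCat.Sheaf.sections_exact_of_left_exact hS.exact hS.mono_f
      have h0 : proj S.X₃.obj U n i (((cechComplexFunctor U).map S.g.hom).f n c) = 0 := by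
        have := congrArg (proj S.X₃.obj U n i) hc
        exact this.trans (map_zero _)
      rw [← h0]
      exact (map_proj_apply U S.g.hom n i c).symm
    choose t ht using h1
    refine ⟨(cochEquiv S.X₁.obj U n).symm t, ?_⟩
    apply cx_ext
    intro i
    refine (map_proj_apply U S.f.hom n i _).trans ?_
    rw [proj_cochEquiv_symm, ht]
    rfl
  · rw [AddCommGrpCat.mono_iff_injective]
    intro c c' hcc
    apply cx_ext
    intro i
    apply sections_injective hS
    have := congrArg (proj S.X₂.obj U n i) hcc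
    exact (map_proj_apply U S.f.hom n i c).symm.trans (this.trans (map_proj_apply U S.f.hom n i c'))
  · rw [AddCommGrpCat.epi_iff_surjective]
    intro c
    have h1 : ∀ i : Fin (n + 1) → ι, ∃ t : S.X₂.obj.obj (op (inter U i)),
        S.g.hom.app (op (inter U i)) t = proj S.X₃.obj U n i c := fun i => hsurj n i _
    choose t ht using h1
    refine ⟨(cochEquiv S.X₂.obj U n).symm t, ?_⟩
    apply cx_ext
    intro i
    refine (map_proj_apply U S.g.hom n i _).trans ?_
    rw [proj_cochEquiv_symm, ht]
    rfl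


section Ev

variable (P : (Opens X)ᵒᵖ ⥤ AddCommGrpCat.{u})

/-- Evaluate the `i`-th component of a cochain on a smaller open. -/
noncomputable def ev (n : ℕ) (i : Fin (n + 1) → ι) (V : Opens X) (hV : V ≤ inter U i) :
    (cx P U).X n →+ P.obj (op V) :=
  (P.map (homOfLE hV).op).hom.comp (proj P U n i).hom

lemma ev_apply (n : ℕ) (i : Fin (n + 1) → ι) (V : Opens X) (hV : V ≤ inter U i)
    (c : (cx P U).X n) : ev U P n i V hV c = P.map (homOfLE hV).op (proj P U n i c) := rfl

lemma ev_congr (n : ℕ) {i i' : Fin (n + 1) → ι} (h : i = i') (V : Opens X) (hV : V ≤ inter U i)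
    (c : (cx P U).X n) : ev U P n i V hV c = ev U P n i' V (h ▸ hV) c := by
  subst h; rfl

lemma ev_d (n : ℕ) (i : Fin (n + 2) → ι) (V : Opens X) (hV : V ≤ inter U i)
    (c : (cx P U).X n) :
    ev U P (n + 1) i V hV ((cx P U).d n (n + 1) c) =
      ∑ k : Fin (n + 2), (-1 : ℤ) ^ (k : ℕ) •
        ev U P n (i ∘ k.succAbove) V (hV.trans (inter_succAbove_le U i k)) c := by
  rw [ev_apply, proj_d_apply, map_sum]
  refine Finset.sum_congr rfl fun k _ => ?_
  rw [map_zsmul, ev_apply]
  congr 1
  change (P.map _) ((P.map _) _) = _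
  rw [← ConcreteCategory.comp_apply, ← P.map_comp]
  rfl

end Ev

section H0

variable (G : CohTop.Ab X)

lemma inter_le_iSup (n : ℕ) (i : Fin (n + 1) → ι) : inter U i ≤ iSup U :=
  (inter_le U i 0).trans (le_iSup U (i 0))

/-- The restriction map from sections over the union to `0`-cochains. -/
noncomputable def toC0 : G.obj.obj (op (iSup U)) ⟶ (cx G.obj U).X 0 :=
  Pi.lift (fun i : Fin 1 → ι => G.obj.map (homOfLE (inter_le_iSup U 0 i)).op)

lemma toC0_proj (i : Fin 1 → ι) :
    toC0 U G ≫ proj G.obj U 0 i = G.obj.map (homOfLE (inter_le_iSup U 0 i)).op :=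
  Pi.lift_π _ _

lemma toC0_proj_apply (i : Fin 1 → ι) (s : G.obj.obj (op (iSup U))) :
    proj G.obj U 0 i (toC0 U G s) = G.obj.map (homOfLE (inter_le_iSup U 0 i)).op s := by
  rw [← ConcreteCategory.comp_apply, toC0_proj]

lemma ev_toC0 (i : Fin 1 → ι) (V : Opens X) (hV : V ≤ inter U i) (s : G.obj.obj (op (iSup U))) :
    ev U G.obj 0 i V hV (toC0 U G s) = G.obj.map (homOfLE (hV.trans (inter_le_iSup U 0 i))).op s := by
  rw [ev_apply, toC0_proj_apply, ← ConcreteCategory.comp_apply, ← G.obj.map_comp]
  rfl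

lemma toC0_d : toC0 U G ≫ (cx G.obj U).d 0 1 = 0 := by
  ext s
  apply cx_ext
  intro i
  have h := ev_d U G.obj 0 i (inter U i) le_rfl (toC0 U G s)
  have h' : ev U G.obj 1 i (inter U i) le_rfl ((cx G.obj U).d 0 1 (toC0 U G s)) =
      proj G.obj U 1 i ((cx G.obj U).d 0 1 (toC0 U G s)) := by
    rw [ev_apply]
    have : (homOfLE (le_refl (inter U i))).op = 𝟙 _ := rfl
    rw [this, G.obj.map_id]
    rfl
  rw [ConcreteCategory.comp_apply, ← h', h]
  rw [Fin.sum_univ_succ, Fin.sum_univ_succ, Fin.sum_univ_zero, ev_toC0, ev_toC0]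
  simp

/-- sections over the union map to `0`-cocycles -/
noncomputable def toZ0 : G.obj.obj (op (iSup U)) ⟶ (cx G.obj U).cycles 0 :=
  (cx G.obj U).liftCycles (toC0 U G) 1 (by simp) (toC0_d U G)

lemma toZ0_i : toZ0 U G ≫ (cx G.obj U).iCycles 0 = toC0 U G :=
  (cx G.obj U).liftCycles_i _ _ _ _

lemma toC0_injective : Function.Injective (toC0 U G) := by
  intro s t hst
  refine TopCat.Sheaf.eq_of_locally_eq' G (fun i : Fin 1 → ι => inter U i) (iSup U)
    (fun i => homOfLE (inter_le_iSup U 0 i)) ?_ s t ?_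
  · apply iSup_le
    intro j
    refine le_trans ?_ (le_iSup (fun i : Fin 1 → ι => inter U i) (fun _ => j))
    exact le_inter U _ (fun _ => le_rfl)
  · intro i
    rw [← toC0_proj_apply, ← toC0_proj_apply, hst]

lemma iCycles_injective : Function.Injective ((cx G.obj U).iCycles 0) :=
  (AddCommGrpCat.mono_iff_injective _).1 inferInstance

lemma toZ0_bijective : Function.Bijective (toZ0 U G) := by
  constructor
  · intro s t hst
    apply toC0_injective U G
    rw [← toZ0_i, ConcreteCategory.comp_apply, ConcreteCategory.comp_apply, hst]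
  · intro z
    set x := (cx G.obj U).iCycles 0 z with hx
    have hdx : (cx G.obj U).d 0 1 x = 0 := by
      rw [hx, ← ConcreteCategory.comp_apply, (cx G.obj U).iCycles_d]
      rfl
    let V : (Fin 1 → ι) → Opens X := fun i => inter U i
    have hcompat : TopCat.Presheaf.IsCompatible G.obj V (fun i => proj G.obj U 0 i x) := by
      intro i j
      let t : Fin 2 → ι := Fin.cons (i 0) j
      have hV : V i ⊓ V j ≤ inter U t := by
        apply le_inter
        intro a
        refine Fin.cases ?_ (fun b => ?_) a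
        · exact inf_le_left.trans (inter_le U i 0)
        · exact inf_le_right.trans (inter_le U j b)
      have h := ev_d U G.obj 0 t (V i ⊓ V j) hV x
      rw [hdx, map_zero, Fin.sum_univ_succ, Fin.sum_univ_succ, Fin.sum_univ_zero] at h
      have e0 : t ∘ (0 : Fin 2).succAbove = j := by
        funext a
        have : a = 0 := Subsingleton.elim _ _
        subst this
        rfl
      have e1 : t ∘ (Fin.succ 0 : Fin 2).succAbove = i := by
        funext a
        have : a = 0 := Subsingleton.elim _ _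
        subst this
        rfl
      rw [ev_congr U G.obj 0 e0, ev_congr U G.obj 0 e1] at h
      simp only [Fin.val_zero, pow_zero, one_smul, Fin.val_succ, zero_add, pow_one, neg_smul,
        add_zero] at h
      have h2 := (eq_neg_of_add_eq_zero_left h.symm)
      rw [neg_neg] at h2
      exact h2.symm
    obtain ⟨s, hs, -⟩ := TopCat.Sheaf.existsUnique_gluing' G V (iSup U)
      (fun i => homOfLE (inter_le_iSup U 0 i)) (by
        apply iSup_le
        intro j
        refine le_trans ?_ (le_iSup V (fun _ => j))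
        exact le_inter U _ (fun _ => le_rfl)) (fun i => proj G.obj U 0 i x) hcompat
    refine ⟨s, ?_⟩
    apply iCycles_injective U G
    rw [← ConcreteCategory.comp_apply, toZ0_i]
    apply cx_ext
    intro i
    rw [toC0_proj_apply]
    exact hs i

/-- `H^0` of the Čech complex of a sheaf is the group of sections over the union. -/
noncomputable def sectionsEquivCechH0 : G.obj.obj (op (iSup U)) ≃+ CohTop.cechH G.obj U 0 :=
  AddEquiv.ofBijective (toZ0 U G ≫ (cx G.obj U).homologyπ 0).hom (by
    have h1 : Function.Bijective ((cx G.obj U).homologyπ 0) :=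
      (ConcreteCategory.isIso_iff_bijective _).1 inferInstance
    exact h1.comp (toZ0_bijective U G))

lemma sectionsEquivCechH0_apply (s : G.obj.obj (op (iSup U))) :
    sectionsEquivCechH0 U G s = (cx G.obj U).homologyπ 0 (toZ0 U G s) := rfl

variable {G} in
lemma toZ0_naturality {G' : CohTop.Ab X} (φ : G ⟶ G') :
    toZ0 U G ≫ HomologicalComplex.cyclesMap ((cechComplexFunctor U).map φ.hom) 0 =
      φ.hom.app (op (iSup U)) ≫ toZ0 U G' := by
  rw [← cancel_mono ((cx G'.obj U).iCycles 0), Category.assoc, Category.assoc,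
    HomologicalComplex.cyclesMap_i, toZ0_i, ← Category.assoc, toZ0_i]
  apply Pi.hom_ext
  intro i
  change (_ ≫ _) ≫ proj G'.obj U 0 i = (_ ≫ _) ≫ proj G'.obj U 0 i
  rw [Category.assoc, map_proj, ← Category.assoc, toC0_proj, Category.assoc, toC0_proj]
  exact φ.hom.naturality _

variable {G} in
lemma sectionsEquivCechH0_naturality {G' : CohTop.Ab X} (φ : G ⟶ G')
    (s : G.obj.obj (op (iSup U))) :
    HomologicalComplex.homologyMap ((cechComplexFunctor U).map φ.hom) 0
      (sectionsEquivCechH0 U G s) = sectionsEquivCechH0 U G' (φ.hom.app (op (iSup U)) s) := by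
  rw [sectionsEquivCechH0_apply, sectionsEquivCechH0_apply, ← ConcreteCategory.comp_apply,
    HomologicalComplex.homologyπ_naturality, ConcreteCategory.comp_apply,
    ← ConcreteCategory.comp_apply (toZ0 U G), toZ0_naturality, ConcreteCategory.comp_apply]

end H0


section ExtSide

open Abelian

/-- the free sheaf `ℤ_V` -/
noncomputable abbrev zz (V : Opens X) : CohTop.Ab X := CohCx.freeSheaf (Opens.grothendieckTopology X) V

lemma HU_eq (F : CohTop.Ab X) (n : ℕ) (V : Opens X) :
    CohTop.HU F n V = Ext.{u} (zz V) F n := rfl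

variable {S : ShortComplex (CohTop.Ab X)} (hS : S.ShortExact)

include hS in
/-- If `H^1(V, S.X₁) = 0` then `S.X₂(V) → S.X₃(V)` is surjective. -/
lemma sections_surjective_of_H1 (V : Opens X) (h : Subsingleton (CohTop.HU S.X₁ 1 V)) :
    Function.Surjective (S.g.hom.app (op V)) := by
  intro t
  let φ := CohFree.ofSect (Opens.grothendieckTopology X) V S.X₃ t
  have h0 : (Ext.mk₀ φ).comp hS.extClass (zero_add 1) = 0 := by
    have : Subsingleton (Ext.{u} (zz V) S.X₁ 1) := h
    exact Subsingleton.elim _ _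
  obtain ⟨x₂, hx₂⟩ := Ext.covariant_sequence_exact₃ (zz V) hS (Ext.mk₀ φ) (zero_add 1) h0
  obtain ⟨ψ, rfl⟩ := (Ext.mk₀_bijective _ _).2 x₂
  rw [Ext.mk₀_comp_mk₀] at hx₂
  have hψ : ψ ≫ S.g = φ := (Ext.mk₀_bijective _ _).1 hx₂
  refine ⟨CohFree.evalGen (Opens.grothendieckTopology X) V S.X₂ ψ, ?_⟩
  have := Groth.Agent.Lib.Cohomology.evalGen_comp V ψ S.g
  rw [hψ, CohFree.evalGen_ofSect] at this
  exact this.symm

include hS in
/-- Dimension shifting for vanishing. -/
lemma subsingleton_ext_X₃ [Injective S.X₂] (A : CohTop.Ab X) (q : ℕ)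
    (h : Subsingleton (Ext.{u} A S.X₁ (q + 2))) : Subsingleton (Ext.{u} A S.X₃ (q + 1)) := by
  refine subsingleton_of_forall_eq 0 fun x => ?_
  have h0 : x.comp hS.extClass (rfl : q + 1 + 1 = q + 2) = 0 := Subsingleton.elim _ _
  obtain ⟨x₂, hx₂⟩ := Ext.covariant_sequence_exact₃ A hS x rfl h0
  rw [← hx₂, Ext.eq_zero_of_injective x₂, Ext.zero_comp]

/-- The connecting map `Ext^p(A, X₃) → Ext^{p+1}(A, X₁)`. -/
noncomputable def extδ (A : CohTop.Ab X) (p : ℕ) : Ext.{u} A S.X₃ p →+ Ext.{u} A S.X₁ (p + 1) :=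
  hS.extClass.postcomp A rfl

lemma extδ_apply (A : CohTop.Ab X) (p : ℕ) (x : Ext.{u} A S.X₃ p) :
    extδ hS A p x = x.comp hS.extClass rfl := rfl

lemma extδ_surjective [Injective S.X₂] (A : CohTop.Ab X) (p : ℕ) :
    Function.Surjective (extδ hS A p) := by
  intro y
  obtain ⟨x₃, hx₃⟩ := Ext.covariant_sequence_exact₁ A hS y (Ext.eq_zero_of_injective _) rfl
  exact ⟨x₃, hx₃⟩

lemma extδ_injective [Injective S.X₂] (A : CohTop.Ab X) (p : ℕ) :
    Function.Injective (extδ hS A (p + 1)) := by
  rw [injective_iff_map_eq_zero]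
  intro x hx
  obtain ⟨x₂, hx₂⟩ := Ext.covariant_sequence_exact₃ A hS x rfl hx
  rw [← hx₂, Ext.eq_zero_of_injective x₂, Ext.zero_comp]

/-- sections over `V` as `Ext^0(ℤ_V, -)` -/
noncomputable def sectionsEquivH0 (G : CohTop.Ab X) (V : Opens X) :
    G.obj.obj (op V) ≃+ CohTop.HU G 0 V :=
  (CohFree.homEquivSect (Opens.grothendieckTopology X) V G).symm.trans Ext.addEquiv₀.symm

lemma sectionsEquivH0_apply (G : CohTop.Ab X) (V : Opens X) (s : G.obj.obj (op V)) :
    sectionsEquivH0 G V s = Ext.mk₀ (CohFree.ofSect (Opens.grothendieckTopology X) V G s) := rfl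

/-- the degree one connecting map on sections -/
noncomputable def sectδ (V : Opens X) : S.X₃.obj.obj (op V) →+ CohTop.HU S.X₁ 1 V :=
  (extδ hS (zz V) 0).comp (sectionsEquivH0 S.X₃ V).toAddMonoidHom

lemma sectδ_surjective [Injective S.X₂] (V : Opens X) : Function.Surjective (sectδ hS V) :=
  (extδ_surjective hS (zz V) 0).comp (sectionsEquivH0 S.X₃ V).surjective

lemma sectδ_ker [Injective S.X₂] (V : Opens X) :
    (sectδ hS V).ker = (S.g.hom.app (op V)).hom.range := by
  ext t
  rw [AddMonoidHom.mem_ker, AddMonoidHom.mem_range]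
  constructor
  · intro ht
    have h0 : (Ext.mk₀ (CohFree.ofSect (Opens.grothendieckTopology X) V S.X₃ t)).comp
        hS.extClass (zero_add 1) = 0 := ht
    obtain ⟨x₂, hx₂⟩ := Ext.covariant_sequence_exact₃ (zz V) hS _ (zero_add 1) h0
    obtain ⟨ψ, rfl⟩ := (Ext.mk₀_bijective _ _).2 x₂
    rw [Ext.mk₀_comp_mk₀] at hx₂
    have hψ : ψ ≫ S.g = _ := (Ext.mk₀_bijective _ _).1 hx₂
    refine ⟨CohFree.evalGen (Opens.grothendieckTopology X) V S.X₂ ψ, ?_⟩
    have := Groth.Agent.Lib.Cohomology.evalGen_comp V ψ S.g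
    rw [hψ, CohFree.evalGen_ofSect] at this
    exact this.symm
  · rintro ⟨s, rfl⟩
    let ψ := CohFree.ofSect (Opens.grothendieckTopology X) V S.X₂ s
    have hψ : ψ ≫ S.g = CohFree.ofSect (Opens.grothendieckTopology X) V S.X₃
        ((S.g.hom.app (op V)).hom s) := by
      apply (CohFree.homEquivSect (Opens.grothendieckTopology X) V S.X₃).injective
      rw [CohFree.homEquivSect_apply, CohFree.homEquivSect_apply,
        Groth.Agent.Lib.Cohomology.evalGen_comp, CohFree.evalGen_ofSect, CohFree.evalGen_ofSect]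
    change (Ext.mk₀ (CohFree.ofSect (Opens.grothendieckTopology X) V S.X₃ _)).comp
        hS.extClass (zero_add 1) = 0
    rw [← hψ, ← Ext.mk₀_comp_mk₀, Ext.comp_assoc_of_second_deg_zero, hS.comp_extClass,
      Ext.comp_zero]

end ExtSide


section Main

open Abelian

/-- Higher cohomology vanishes on all finite intersections of the family. -/
def Acyclic (F : CohTop.Ab X) : Prop :=
  ∀ (n : ℕ) (i : Fin (n + 1) → ι) (q : ℕ), Subsingleton (CohTop.HU F (q + 1) (inter U i))

/-- The canonical short exact sequence `0 → F → I → Q → 0` with `I` injective. -/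
noncomputable abbrev injSES (F : CohTop.Ab X) : ShortComplex (CohTop.Ab X) :=
  ShortComplex.mk _ _ (cokernel.condition (Injective.ι F))

lemma injSES_shortExact (F : CohTop.Ab X) : (injSES F).ShortExact :=
  { exact := ShortComplex.exact_of_g_is_cokernel _ (cokernelIsCokernel (injSES F).f) }

instance (F : CohTop.Ab X) : Injective (injSES F).X₂ := inferInstanceAs (Injective (Injective.under F))

variable {U}

lemma Acyclic.surj {F : CohTop.Ab X} (hF : Acyclic U F) (n : ℕ) (i : Fin (n + 1) → ι) :
    Function.Surjective ((injSES F).g.hom.app (op (inter U i))) :=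
  sections_surjective_of_H1 (injSES_shortExact F) _ (hF n i 0)

lemma Acyclic.quot {F : CohTop.Ab X} (hF : Acyclic U F) : Acyclic U (injSES F).X₃ :=
  fun n i q => subsingleton_ext_X₃ (injSES_shortExact F) (zz (inter U i)) q (hF n i (q + 1))

lemma Acyclic.cechSES {F : CohTop.Ab X} (hF : Acyclic U F) : (cechSC U (injSES F)).ShortExact :=
  cechSC_shortExact U (injSES_shortExact F) hF.surj

lemma isZero_cechH_mid (F : CohTop.Ab X) (p : ℕ) :
    IsZero ((cechSC U (injSES F)).X₂.homology (p + 1)) :=
  isZero_cechH_of_injective_sheaf U (injSES F).X₂ p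

variable (U) in
/-- degree zero -/
noncomputable def leray_zero (F : CohTop.Ab X) : CohTop.cechH F.obj U 0 ≃+ CohTop.HU F 0 (iSup U) :=
  (sectionsEquivCechH0 U F).symm.trans (sectionsEquivH0 F (iSup U))

/-- the Čech connecting map in degree one, from sections -/
noncomputable def cechδ₁ {F : CohTop.Ab X} (hF : Acyclic U F) :
    (injSES F).X₃.obj.obj (op (iSup U)) →+ CohTop.cechH F.obj U 1 :=
  (hF.cechSES.δ 0 1 rfl).hom.comp (sectionsEquivCechH0 U (injSES F).X₃).toAddMonoidHom

lemma cechδ₁_surjective {F : CohTop.Ab X} (hF : Acyclic U F) : Function.Surjective (cechδ₁ hF) := by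
  have h1 : Epi (hF.cechSES.δ 0 1 rfl) := hF.cechSES.epi_δ 0 1 rfl (isZero_cechH_mid F 0)
  exact ((AddCommGrpCat.epi_iff_surjective _).1 h1).comp (sectionsEquivCechH0 U (injSES F).X₃).surjective

lemma cechδ₁_ker {F : CohTop.Ab X} (hF : Acyclic U F) :
    (cechδ₁ hF).ker = ((injSES F).g.hom.app (op (iSup U))).hom.range := by
  ext t
  rw [AddMonoidHom.mem_ker, AddMonoidHom.mem_range]
  constructor
  · intro ht
    have hex := hF.cechSES.homology_exact₃ 0 1 rfl
    rw [ShortComplex.ab_exact_iff] at hex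
    obtain ⟨y₂, hy₂⟩ := hex (sectionsEquivCechH0 U (injSES F).X₃ t) ht
    obtain ⟨s, rfl⟩ := (sectionsEquivCechH0 U (injSES F).X₂).surjective y₂
    refine ⟨s, ?_⟩
    apply (sectionsEquivCechH0 U (injSES F).X₃).injective
    rw [← hy₂]
    exact (sectionsEquivCechH0_naturality U (injSES F).g s).symm
  · rintro ⟨s, rfl⟩
    change (hF.cechSES.δ 0 1 rfl) (sectionsEquivCechH0 U (injSES F).X₃ _) = 0
    rw [← sectionsEquivCechH0_naturality U (injSES F).g s]
    have := hF.cechSES.comp_δ 0 1 rfl
    exact ConcreteCategory.congr_hom this _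

/-- Leray's theorem in positive degrees. -/
theorem leray_succ (p : ℕ) : ∀ (F : CohTop.Ab X), Acyclic U F →
    Nonempty (CohTop.cechH F.obj U (p + 1) ≃+ CohTop.HU F (p + 1) (iSup U)) := by
  induction p with
  | zero =>
    intro F hF
    let e1 := QuotientAddGroup.quotientKerEquivOfSurjective (cechδ₁ hF) (cechδ₁_surjective hF)
    let e2 := QuotientAddGroup.quotientKerEquivOfSurjective
      (sectδ (injSES_shortExact F) (iSup U)) (sectδ_surjective (injSES_shortExact F) (iSup U))
    have hk : (cechδ₁ hF).ker = (sectδ (injSES_shortExact F) (iSup U)).ker := by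
      rw [cechδ₁_ker, sectδ_ker]
    exact ⟨e1.symm.trans ((QuotientAddGroup.quotientAddEquivOfEq hk).trans e2)⟩
  | succ p ih =>
    intro F hF
    obtain ⟨e⟩ := ih (injSES F).X₃ hF.quot
    let e1 : CohTop.cechH (injSES F).X₃.obj U (p + 1) ≃+ CohTop.cechH F.obj U (p + 2) :=
      (hF.cechSES.δIso (p + 1) (p + 2) rfl (isZero_cechH_mid F p)
        (isZero_cechH_mid F (p + 1))).addCommGroupIsoToAddEquiv
    let e2 : CohTop.HU (injSES F).X₃ (p + 1) (iSup U) ≃+ CohTop.HU F (p + 2) (iSup U) :=
      AddEquiv.ofBijective (extδ (injSES_shortExact F) (zz (iSup U)) (p + 1))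
        ⟨extδ_injective _ _ _, extδ_surjective _ _ _⟩
    exact ⟨e1.symm.trans (e.trans e2)⟩

end Main

end Groth.Agent.Lib.Cohomology.Leray
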