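/-
Cohomology commutes with localization, general machine (helper1).

`X` a scheme, `η : M ⟶ N` a morphism of `O_X`-modules, `f` a global function.
`Good η f W` : in every degree `n`, `H^n(W, M) → H^n(W, N)` looks like the localization at `f`
(`LocExt.Data.Surj/Ker` for the free sheaf `ℤ_W`).

* `good_of_isAffineOpen` : for quasi-coherent `M`, `N` and `W` affine, `Good` follows from the
  corresponding statement on sections over `W`;
* `good_sup` : Mayer–Vietoris;
* `good_of_isCompact` : on a quasi-separated scheme, `Good` on all affine opens implies `Good` on all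
  quasi-compact opens;
* `isLocalizedModule_hmap` : if moreover `f` acts invertibly on `N`, then
  `H^n(X, M) → H^n(X, N)` is a localization at `f` (as modules over the global functions).
-/
import Groth.Agent.Lib.Cohomology.Helper1_LocExt
import Groth.Agent.Lib.Cohomology.Helper1_QCQSVanishing
import Groth.Agent.Lib.Cohomology.Helper1_HUTop
import Groth.Agent.Lib.Cohomology.helper5_Leray
import Groth.Agent.Lib.Cohomology.helper5_HHLES
import Groth.Prelude.Def_Canon
import Groth.Prelude.Def_ega3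

set_option autoImplicit false
universe u

namespace Groth.Agent.Lib.Cohomology.LocCoh

open CategoryTheory CategoryTheory.Limits Opposite TopologicalSpace AlgebraicGeometry Abelian
open Groth.Agent.Lib.Cohomology.LocFive

variable {X : Scheme.{u}} {M N : X.Modules} (η : M ⟶ N) (f : Coh.Γtop X)

/-- the data `(smulAb M f, smulAb N f, η)` -/
noncomputable def data : LocExt.Data (Coh.toAb M) (Coh.toAb N) where
  a := Coh.smulAb M f
  b := Coh.smulAb N f
  η := (SheafOfModules.toSheaf X.ringCatSheaf).map η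
  comm := (Canon.toSheaf_map_comp_smulAb η f).symm

/-- the free abelian sheaf `ℤ_W` -/
noncomputable abbrev zz (W : X.Opens) : CohTop.Ab X.toTopCat :=
  CohCx.freeSheaf (Opens.grothendieckTopology X) W

/-- `Good η f W`: in all degrees, `H^n(W, M) → H^n(W, N)` is a localization at `f`. -/
def Good (W : X.Opens) : Prop :=
  ∀ n : ℕ, LocExt.Data.Surj.{u} (data η f) (zz W) n ∧ LocExt.Data.Ker.{u} (data η f) (zz W) n

section Sections

variable {T : TopCat.{u}}

/-- sections over `W` as `Ext^0(ℤ_W, -)` -/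
noncomputable def e0 (F : CohTop.Ab T) (W : Opens T) :
    F.obj.obj (op W) ≃+ Ext.{u} (CohCx.freeSheaf (Opens.grothendieckTopology T) W) F 0 :=
  (CohFree.homEquivSect (Opens.grothendieckTopology T) W F).symm.trans Ext.addEquiv₀.symm

lemma e0_apply (F : CohTop.Ab T) (W : Opens T) (s : F.obj.obj (op W)) :
    e0 F W s = Ext.mk₀ (CohFree.ofSect (Opens.grothendieckTopology T) W F s) := rfl

lemma ofSect_comp {F G : CohTop.Ab T} (φ : F ⟶ G) (W : Opens T) (s : F.obj.obj (op W)) :
    CohFree.ofSect (Opens.grothendieckTopology T) W F s ≫ φ =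
      CohFree.ofSect (Opens.grothendieckTopology T) W G (φ.hom.app (op W) s) := by
  apply (CohFree.homEquivSect (Opens.grothendieckTopology T) W G).injective
  rw [CohFree.homEquivSect_apply, CohFree.homEquivSect_apply, evalGen_comp,
    CohFree.evalGen_ofSect, CohFree.evalGen_ofSect]

/-- naturality of `e0` -/
lemma post_e0 {F G : CohTop.Ab T} (φ : F ⟶ G) (W : Opens T) (s : F.obj.obj (op W)) :
    LocExt.post.{u} (CohCx.freeSheaf (Opens.grothendieckTopology T) W) φ 0 (e0 F W s) =
      e0 G W (φ.hom.app (op W) s) := by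
  rw [e0_apply, e0_apply, LocExt.post_apply, Ext.mk₀_comp_mk₀, ofSect_comp]

/-- the endomorphism of `Ext^0(ℤ_W, F)` induced by an endomorphism of `F` -/
noncomputable def postEnd (F : CohTop.Ab T) (φ : F ⟶ F) (W : Opens T) :
    AddMonoid.End (Ext.{u} (CohCx.freeSheaf (Opens.grothendieckTopology T) W) F 0) :=
  LocExt.post.{u} (CohCx.freeSheaf (Opens.grothendieckTopology T) W) φ 0

/-- the endomorphism of `F(W)` induced by an endomorphism of `F` -/
noncomputable def secEnd' (F : CohTop.Ab T) (φ : F ⟶ F) (W : Opens T) :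
    AddMonoid.End (F.obj.obj (op W)) :=
  (φ.hom.app (op W)).hom

lemma postEnd_pow_e0 {F : CohTop.Ab T} (φ : F ⟶ F) (W : Opens T) (k : ℕ) (s : F.obj.obj (op W)) :
    (postEnd F φ W ^ k) (e0 F W s) = e0 F W ((secEnd' F φ W ^ k) s) := by
  induction k generalizing s with
  | zero => rfl
  | succ k ih =>
    rw [pow_succ, pow_succ]
    exact (congrArg _ (post_e0 φ W s)).trans (ih _)

end Sections

/-- multiplication by `f` on the sections of `M` over `W` -/
noncomputable def secEnd (M : X.Modules) (W : X.Opens) : AddMonoid.End ((Coh.toAb M).obj.obj (op W)) :=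
  secEnd' (Coh.toAb M) (Coh.smulAb M f) W

/-- the map on sections over `W` induced by `η` -/
noncomputable def secMap (W : X.Opens) : (Coh.toAb M).obj.obj (op W) →+ (Coh.toAb N).obj.obj (op W) :=
  (((SheafOfModules.toSheaf X.ringCatSheaf).map η).hom.app (op W)).hom

lemma aE_pow_sections (W : X.Opens) (k : ℕ) (s : (Coh.toAb M).obj.obj (op W)) :
    ((data η f).aE (zz W) 0 ^ k) (e0 (Coh.toAb M) W s) =
      e0 (Coh.toAb M) W ((secEnd f M W ^ k) s) :=
  postEnd_pow_e0 (Coh.smulAb M f) W k s

lemma bE_pow_sections (W : X.Opens) (k : ℕ) (s : (Coh.toAb N).obj.obj (op W)) :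
    ((data η f).bE (zz W) 0 ^ k) (e0 (Coh.toAb N) W s) =
      e0 (Coh.toAb N) W ((secEnd f N W ^ k) s) :=
  postEnd_pow_e0 (Coh.smulAb N f) W k s

/-- degree `0`: surjectivity up to powers, from sections -/
theorem surj_zero_of_sections (W : X.Opens) (h : LocSurj (secEnd f N W) (secMap η W)) :
    LocExt.Data.Surj.{u} (data η f) (zz W) 0 := by
  intro y
  obtain ⟨t, rfl⟩ := (e0 (Coh.toAb N) W).surjective y
  obtain ⟨k, s, hs⟩ := h t
  refine ⟨k, e0 (Coh.toAb M) W s, ?_⟩
  rw [bE_pow_sections, hs]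
  exact (post_e0 _ W s).symm

/-- degree `0`: kernel killed by powers, from sections -/
theorem ker_zero_of_sections (W : X.Opens) (h : LocKer (secEnd f M W) (secMap η W)) :
    LocExt.Data.Ker.{u} (data η f) (zz W) 0 := by
  intro x hx
  obtain ⟨s, rfl⟩ := (e0 (Coh.toAb M) W).surjective x
  have h0 : secMap η W s = 0 := by
    apply (e0 (Coh.toAb N) W).injective
    rw [map_zero]
    exact (post_e0 _ W s).symm.trans hx
  obtain ⟨k, hk⟩ := h s h0
  refine ⟨k, ?_⟩
  rw [aE_pow_sections, hk]
  exact map_zero _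

/-- The section-level localization hypothesis on `W`. -/
def SecLoc (W : X.Opens) : Prop :=
  LocSurj (secEnd f N W) (secMap η W) ∧ LocKer (secEnd f M W) (secMap η W)

/-- Affine opens are good, for quasi-coherent modules. -/
theorem good_of_isAffineOpen [M.IsQuasicoherent] [N.IsQuasicoherent] (W : X.Opens)
    (hW : IsAffineOpen W) (h : SecLoc η f W) : Good η f W := by
  intro n
  cases n with
  | zero => exact ⟨surj_zero_of_sections η f W h.1, ker_zero_of_sections η f W h.2⟩
  | succ n =>
    have h1 : Subsingleton (Ext.{u} (zz W) (Coh.toAb M) (n + 1)) := by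
      rw [← Leray.HU_eq]
      exact HU_succ_subsingleton_of_isAffineOpen M W hW n
    have h2 : Subsingleton (Ext.{u} (zz W) (Coh.toAb N) (n + 1)) := by
      rw [← Leray.HU_eq]
      exact HU_succ_subsingleton_of_isAffineOpen N W hW n
    exact ⟨locSurj_of_subsingleton _ _, locKer_of_subsingleton _ _⟩

/-- Mayer–Vietoris: `Good` passes to unions. -/
theorem good_sup (U V : X.Opens) (hU : Good η f U) (hV : Good η f V) (hUV : Good η f (U ⊓ V)) :
    Good η f (U ⊔ V) := by
  let S := Opens.mayerVietorisSquare U V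
  have hS := S.shortComplex_shortExact
  have s₂ : ∀ n, LocExt.Data.Surj.{u} (data η f) S.shortComplex.X₂ n := fun n =>
    LocExt.Data.surj_biprod _ _ _ n (hU n).1 (hV n).1
  have k₂ : ∀ n, LocExt.Data.Ker.{u} (data η f) S.shortComplex.X₂ n := fun n =>
    LocExt.Data.ker_biprod _ _ _ n (hU n).2 (hV n).2
  have s₁ : ∀ n, LocExt.Data.Surj.{u} (data η f) S.shortComplex.X₁ n := fun n => (hUV n).1
  have k₁ : ∀ n, LocExt.Data.Ker.{u} (data η f) S.shortComplex.X₁ n := fun n => (hUV n).2
  intro n
  cases n with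
  | zero =>
    exact ⟨LocExt.Data.surj_X₃_zero _ hS (s₂ 0) (k₁ 0), LocExt.Data.ker_X₃_zero _ hS (k₂ 0)⟩
  | succ n =>
    exact ⟨LocExt.Data.surj_X₃_succ _ hS n (s₁ n) (s₂ (n + 1)) (k₁ (n + 1)),
      LocExt.Data.ker_X₃_succ _ hS n (s₂ n) (k₁ n) (k₂ (n + 1))⟩

section Induction

/-- Generic induction: a property of opens which passes to unions `U ⊔ V` (given it holds for `U`, `V`
and `U ⊓ V`) and holds on a class closed under binary intersections holds on finite unions. -/
theorem induction_iSup {T : Type*} [TopologicalSpace T] (P : Opens T → Prop)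
    (hsup : ∀ U V, P U → P V → P (U ⊓ V) → P (U ⊔ V))
    (𝒜 : Set (Opens T)) (hinf : ∀ V ∈ 𝒜, ∀ W ∈ 𝒜, V ⊓ W ∈ 𝒜) (h𝒜 : ∀ V ∈ 𝒜, P V) :
    ∀ (t : ℕ) (U : Fin (t + 1) → Opens T), (∀ i, U i ∈ 𝒜) → P (⨆ i, U i) := by
  intro t
  induction t with
  | zero =>
    intro U hU
    have : ⨆ i, U i = U 0 := by
      rw [iSup_fin_succ']
      simp
    rw [this]
    exact h𝒜 _ (hU 0)
  | succ t ih =>
    intro U hU
    rw [iSup_fin_succ']
    refine hsup _ _ (h𝒜 _ (hU 0)) (ih (fun i => U i.succ) (fun i => hU i.succ)) ?_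
    rw [inf_iSup_eq]
    exact ih (fun i => U 0 ⊓ U i.succ) (fun i => hinf _ (hU 0) _ (hU i.succ))

/-- Finite affine cover of a quasi-compact open by affine opens contained in it. -/
lemma exists_fin_affine_cover (P : X.Opens) (hP : IsCompact (P : Set X)) :
    ∃ (r : ℕ) (U : Fin (r + 1) → X.Opens), (∀ i, IsAffineOpen (U i)) ∧ (∀ i, U i ≤ P) ∧
      ⨆ i, U i = P := by
  classical
  have hx : ∀ x : P, ∃ W : X.Opens, IsAffineOpen W ∧ (x : X) ∈ W ∧ W ≤ P := by
    intro x
    obtain ⟨_, ⟨W, hW, rfl⟩, hxW, hWP⟩ :=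
      X.isBasis_affineOpens.exists_subset_of_mem_open x.2 P.isOpen
    exact ⟨W, hW, hxW, hWP⟩
  choose W hW hxW hWP using hx
  obtain ⟨t, ht⟩ := hP.elim_finite_subcover (fun x : P => ((W x : X.Opens) : Set X))
    (fun x => (W x).isOpen) (fun x hx => Set.mem_iUnion.2 ⟨⟨x, hx⟩, hxW ⟨x, hx⟩⟩)
  refine ⟨t.card, Fin.cases ⊥ (fun k => W (t.equivFin.symm k)), ?_, ?_, ?_⟩
  · intro i
    refine Fin.cases ?_ (fun k => ?_) i
    · exact isAffineOpen_bot X
    · exact hW _
  · intro i
    refine Fin.cases ?_ (fun k => ?_) i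
    · exact bot_le
    · exact hWP _
  · apply le_antisymm
    · refine iSup_le fun i => ?_
      refine Fin.cases ?_ (fun k => ?_) i
      · exact bot_le
      · exact hWP _
    · intro x hx
      obtain ⟨y, hy⟩ := Set.mem_iUnion.1 (ht hx)
      obtain ⟨hyt, hxy⟩ := Set.mem_iUnion.1 hy
      refine Opens.mem_iSup.2 ⟨(t.equivFin ⟨y, hyt⟩).succ, ?_⟩
      simpa using hxy

variable (hA : ∀ W : X.Opens, IsAffineOpen W → Good η f W)
include hA

/-- quasi-compact opens inside an affine open are good -/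
theorem good_of_le_affine {U₀ : X.Opens} (hU₀ : IsAffineOpen U₀) (Z : X.Opens) (hZ : Z ≤ U₀)
    (hZc : IsCompact (Z : Set X)) : Good η f Z := by
  obtain ⟨s, g, rfl⟩ := exists_fin_basicOpen_cover hU₀ Z hZ hZc
  refine induction_iSup (Good η f) (good_sup η f)
    (Set.range (fun g : Γ(X, U₀) => X.basicOpen g)) ?_ ?_ s (fun k => X.basicOpen (g k))
    (fun k => ⟨g k, rfl⟩)
  · rintro _ ⟨a, rfl⟩ _ ⟨b, rfl⟩
    exact ⟨a * b, X.basicOpen_mul a b⟩
  · rintro _ ⟨a, rfl⟩
    exact hA _ (hU₀.basicOpen a)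

/-- finite unions of affine opens in a quasi-separated scheme are good -/
theorem good_iSup_affine [QuasiSeparatedSpace X] :
    ∀ (t : ℕ) (U : Fin (t + 1) → X.Opens), (∀ i, IsAffineOpen (U i)) → Good η f (⨆ i, U i) := by
  intro t
  induction t with
  | zero =>
    intro U hU
    have : ⨆ i, U i = U 0 := by
      rw [iSup_fin_succ']
      simp
    rw [this]
    exact hA _ (hU 0)
  | succ t ih =>
    intro U hU
    have hW'c : IsCompact ((⨆ i : Fin (t + 1), U i.succ : X.Opens) : Set X) := by
      rw [Opens.coe_iSup]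
      exact isCompact_iUnion (fun i => (hU i.succ).isCompact)
    have hZc : IsCompact ((U 0 ⊓ ⨆ i : Fin (t + 1), U i.succ : X.Opens) : Set X) := by
      rw [Opens.coe_inf]
      exact QuasiSeparatedSpace.inter_isCompact _ _ (U 0).isOpen (hU 0).isCompact
        (Opens.isOpen _) hW'c
    rw [iSup_fin_succ']
    exact good_sup η f _ _ (hA _ (hU 0)) (ih (fun i => U i.succ) (fun i => hU i.succ))
      (good_of_le_affine η f hA (hU 0) _ inf_le_left hZc)

/-- quasi-compact opens of a quasi-separated scheme are good -/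
theorem good_of_isCompact [QuasiSeparatedSpace X] (W : X.Opens) (hW : IsCompact (W : Set X)) :
    Good η f W := by
  obtain ⟨r, U, hU, -, rfl⟩ := exists_fin_affine_cover W hW
  exact good_iSup_affine η f hA r U hU

end Induction

section Main

/-- transport of `Good ⊤` to the cohomology groups `H^n(X, -)` -/
theorem surj_ker_H (h : Good η f ⊤) (n : ℕ) :
    LocSurj (B := Coh.HH X N n) (Sheaf.H.map (Coh.smulAb N f) n)
      (HHLES.hmap η n) ∧
    LocKer (A := Coh.HH X M n) (Sheaf.H.map (Coh.smulAb M f) n)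
      (HHLES.hmap η n) :=
  ⟨LocExt.Data.surj_of_iso (data η f) (freeSheafTopIso X.toTopCat) n (h n).1,
    LocExt.Data.ker_of_iso (data η f) (freeSheafTopIso X.toTopCat) n (h n).2⟩

/-- multiplication by `f` on cohomology, as an additive endomorphism -/
noncomputable def hEnd (K : X.Modules) (n : ℕ) : AddMonoid.End (Coh.HH X K n) :=
  Sheaf.H.map (Coh.smulAb K f) n

lemma hEnd_pow_apply (K : X.Modules) (n k : ℕ) (x : Coh.HH X K n) :
    (hEnd f K n ^ k) x = f ^ k • x := by
  induction k generalizing x with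
  | zero =>
    rw [pow_zero, pow_zero, one_smul]
    rfl
  | succ k ih =>
    rw [pow_succ, pow_succ, mul_smul]
    exact ih _

/-- `H^n(X, η)` as a linear map over the global functions -/
noncomputable def hmapₗ (n : ℕ) : Coh.HH X M n →ₗ[Γ(X, ⊤)] Coh.HH X N n where
  toFun := HHLES.hmap η n
  map_add' := map_add _
  map_smul' r x := HHLES.hmap_smul η n r x

/-- **Cohomology commutes with localization** (abstract form): if `η : M ⟶ N` is a localization at
`f` on the sections over every affine open, `f` acts invertibly on `N`, and `X` is quasi-compact and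
quasi-separated, then `H^n(X, M) → H^n(X, N)` is a localization at `f`. -/
theorem isLocalizedModule_hmap [CompactSpace X] [QuasiSeparatedSpace X] (g : Γ(X, ⊤))
    (hA : ∀ W : X.Opens, IsAffineOpen W → Good η g W) [IsIso (Coh.smulAb N g)] (n : ℕ) :
    IsLocalizedModule.Away g (hmapₗ η n) := by
  have hgood : Good η g ⊤ := good_of_isCompact η g hA ⊤ (by
    rw [Opens.coe_top]; exact isCompact_univ)
  obtain ⟨hs, hk⟩ := surj_ker_H η g hgood n
  refine IsLocalizedModule.Away.mk_of_addCommGroup ?_ ?_ ?_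
  · rw [Module.End.isUnit_iff]
    refine ⟨fun x y hxy => ?_, fun y => ?_⟩
    · have h1 := congrArg (Sheaf.H.map (inv (Coh.smulAb N g)) n) hxy
      change Sheaf.H.map (inv (Coh.smulAb N g)) n (Sheaf.H.map (Coh.smulAb N g) n x) =
        Sheaf.H.map (inv (Coh.smulAb N g)) n (Sheaf.H.map (Coh.smulAb N g) n y) at h1
      rwa [← Sheaf.H.map_comp_apply, ← Sheaf.H.map_comp_apply, IsIso.hom_inv_id,
        Sheaf.H.map_id_apply, Sheaf.H.map_id_apply] at h1
    · refine ⟨Sheaf.H.map (inv (Coh.smulAb N g)) n y, ?_⟩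
      change Sheaf.H.map (Coh.smulAb N g) n (Sheaf.H.map (inv (Coh.smulAb N g)) n y) = y
      rw [← Sheaf.H.map_comp_apply, IsIso.inv_hom_id, Sheaf.H.map_id_apply]
  · intro y
    obtain ⟨k, x, hx⟩ := hs y
    exact ⟨k, x, (hEnd_pow_apply g N n k y).symm.trans hx⟩
  · intro x hx
    obtain ⟨k, hk'⟩ := hk x hx
    exact ⟨k, (hEnd_pow_apply g M n k x).symm.trans hk'⟩

end Main

end Groth.Agent.Lib.Cohomology.LocCoh
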