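import Groth.Agent.Lib.Cohomology.helper5_ExtShift
import Groth.Agent.Lib.Cohomology.Helper3_Flasque

/-!
# Cohomology over an open vs cohomology of the restriction (helper5)

`HU_addEquiv_H_restr`: `H^n(U, F) ≃+ H^n(U, F|_U)`.
Also: `CohTop.restrFunctor U` is both a left and a right adjoint (hence exact), restriction of a
flasque sheaf is flasque.
-/

set_option autoImplicit false
universe u
open CategoryTheory CategoryTheory.Limits TopologicalSpace Opposite

namespace Groth.Agent.Lib.Cohomology.Restr

variable {X : TopCat.{u}} (U : Opens X)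

noncomputable instance restr_isRightAdjoint : (CohTop.restrFunctor U).IsRightAdjoint := by
  unfold CohTop.restrFunctor
  infer_instance

noncomputable def overPullbackAdj :
    (Opens.grothendieckTopology X).overPullback AddCommGrpCat.{u} U ⊣
      (Over.forget U).sheafPushforwardCocontinuous AddCommGrpCat.{u}
        ((Opens.grothendieckTopology X).over U) (Opens.grothendieckTopology X) :=
  (Over.forget U).sheafAdjunctionCocontinuous AddCommGrpCat.{u}
        ((Opens.grothendieckTopology X).over U) (Opens.grothendieckTopology X)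

noncomputable instance restr_isLeftAdjoint : (CohTop.restrFunctor U).IsLeftAdjoint := by
  have h1 : ((Opens.grothendieckTopology X).overPullback AddCommGrpCat.{u} U).IsLeftAdjoint :=
    (overPullbackAdj U).isLeftAdjoint
  have h2 : ((Opens.grothendieckTopology X).overPullback AddCommGrpCat.{u} U ⋙
      (U.sheafEquivOver (A := AddCommGrpCat.{u})).functor).IsLeftAdjoint := inferInstance
  exact Functor.isLeftAdjoint_of_iso (U.overPullbackSheafEquivOver (A := AddCommGrpCat.{u}))

noncomputable instance : PreservesFiniteLimits (CohTop.restrFunctor U) := by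
  have : PreservesLimitsOfSize.{0, 0} (CohTop.restrFunctor U) :=
    (Adjunction.ofIsRightAdjoint (CohTop.restrFunctor U)).rightAdjoint_preservesLimits
  exact PreservesLimitsOfSize.preservesFiniteLimits _

noncomputable instance : PreservesFiniteColimits (CohTop.restrFunctor U) := by
  have : PreservesColimitsOfSize.{0, 0} (CohTop.restrFunctor U) :=
    (Adjunction.ofIsLeftAdjoint (CohTop.restrFunctor U)).leftAdjoint_preservesColimits
  exact PreservesColimitsOfSize.preservesFiniteColimits _

/-- restriction of a flasque sheaf is flasque -/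
lemma isFlasque_restr (F : CohTop.Ab X) [TopCat.Sheaf.IsFlasque F] :
    TopCat.Sheaf.IsFlasque (CohTop.restr F U) where
  epi := by
    intro V W i
    exact TopCat.Presheaf.IsFlasque.epi (F := F.obj) _

/-- the top open of the subspace `U` maps to `U` -/
lemma image_top : (U.isOpenEmbedding.isOpenMap.functor.obj ⊤ : Opens X) = U := by
  ext x
  simp


section E
open Abelian

/-- constant sheaf ℤ on the subspace -/
noncomputable abbrev constZ (Y : TopCat.{u}) : CohTop.Ab Y :=
  (constantSheaf (Opens.grothendieckTopology Y) AddCommGrpCat.{u}).obj (AddCommGrpCat.of (ULift ℤ))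

/-- maps out of the constant sheaf are global sections -/
noncomputable def eB {Y : TopCat.{u}} (G : CohTop.Ab Y) : (constZ Y ⟶ G) ≃+ G.obj.obj (op ⊤) :=
  (Ext.addEquiv₀ (X := constZ Y) (Y := G)).symm.trans
    (Sheaf.H.equiv₀ G (Groth.Agent.Lib.Cohomology.isTerminalTop Y))

lemma eB_naturality {Y : TopCat.{u}} {G G' : CohTop.Ab Y} (ψ : constZ Y ⟶ G) (g : G ⟶ G') :
    eB G' (ψ ≫ g) = g.hom.app (op ⊤) (eB G ψ) := by
  have h := Sheaf.H.equiv₀_naturality (Groth.Agent.Lib.Cohomology.isTerminalTop Y) g (Ext.mk₀ ψ)
  rw [Sheaf.H.map_apply, Ext.mk₀_comp_mk₀] at h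
  exact h.symm

/-- bridge -/
noncomputable def bridge (F : CohTop.Ab X) :
    F.obj.obj (op U) ≃+ (CohTop.restr F U).obj.obj (op ⊤) :=
  (F.obj.mapIso (eqToIso (congrArg op (image_top U).symm))).addCommGroupIsoToAddEquiv

lemma bridge_naturality {F G : CohTop.Ab X} (g : F ⟶ G) (s : F.obj.obj (op U)) :
    bridge U G (g.hom.app (op U) s) = ((CohTop.restrFunctor U).map g).hom.app (op ⊤) (bridge U F s) := by
  have := g.hom.naturality (eqToHom (congrArg op (image_top U).symm))
  exact (ConcreteCategory.congr_hom this s).symm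

/-- the natural bijection -/
noncomputable def eHom (F : CohTop.Ab X) :
    (CohCx.freeSheaf (Opens.grothendieckTopology X) U ⟶ F) ≃+ (constZ (TopCat.of U) ⟶ CohTop.restr F U) :=
  (CohFree.homEquivSect (Opens.grothendieckTopology X) U F).trans
    ((bridge U F).trans (eB (CohTop.restr F U)).symm)

lemma eHom_naturality {F G : CohTop.Ab X} (φ : CohCx.freeSheaf (Opens.grothendieckTopology X) U ⟶ F)
    (g : F ⟶ G) : eHom U G (φ ≫ g) = eHom U F φ ≫ (CohTop.restrFunctor U).map g := by
  apply (eB (CohTop.restr G U)).injective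
  rw [eB_naturality]
  simp only [eHom, AddEquiv.trans_apply, AddEquiv.apply_symm_apply]
  rw [CohFree.homEquivSect_apply, CohFree.homEquivSect_apply,
    Groth.Agent.Lib.Cohomology.evalGen_comp, bridge_naturality]

end E

open Abelian in
/-- `H^n(U, F) ≃+ H^n(U, F|_U)`. -/
theorem HU_addEquiv_H_restr (F : CohTop.Ab X) (n : ℕ) :
    Nonempty (CohTop.HU F n U ≃+ CohTop.H (CohTop.restr F U) n) := by
  refine Groth.Agent.Lib.Cohomology.ExtShift.extAddEquivOfExactFunctor.{u, u} (CohTop.restrFunctor U)
    (CohCx.freeSheaf (Opens.grothendieckTopology X) U) (constZ (TopCat.of U))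
    (eHom U) (fun φ g => eHom_naturality U φ g) ?_ n F
  intro I _ m x
  have h1 : TopCat.Sheaf.IsFlasque I := Groth.Agent.Lib.Cohomology.isFlasque_of_injective I
  have h2 : TopCat.Sheaf.IsFlasque (CohTop.restr I U) := isFlasque_restr U I
  have h3 := Groth.Agent.Lib.Cohomology.H_succ_subsingleton_of_flasque (CohTop.restr I U) m
  exact Subsingleton.elim (α := CohTop.H (CohTop.restr I U) (m + 1)) x 0

end Groth.Agent.Lib.Cohomology.Restr
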