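import Groth.Agent.Lib.Cohomology.helper5_RightDerivedShift
import Groth.Agent.Lib.Cohomology.helper5_Restr
import Groth.Agent.S0904

/-!
# Cohomology of `f_*`-acyclic sheaves (helper5)

`H_addEquiv_push`: if `R^{q+1} f_* F = 0` for all `q`, then `H^p(X, F) ≃+ H^p(Y, f_* F)`.
-/

set_option autoImplicit false
universe u
open CategoryTheory CategoryTheory.Limits TopologicalSpace Opposite

namespace Groth.Agent.Lib.Cohomology.PushAcyclic

open Groth.Agent.Lib.Cohomology.Restr Groth.Agent.Lib.Cohomology.ExtShift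

variable {X Y : TopCat.{u}} (f : X ⟶ Y)

/-- `f_*`-acyclic sheaves -/
def Acyc (F : CohTop.Ab X) : Prop := ∀ q : ℕ, IsZero ((CohTop.Rpush f (q + 1)).obj F)

lemma acyc_step (F : CohTop.Ab X) (hF : Acyc f F) :
    ((injSES F).map (CohTop.push f)).ShortExact ∧ Acyc f (injSES F).X₃ :=
  ⟨Groth.Agent.Lib.Cohomology.RDShift.map_shortExact_of_isZero (injSES_shortExact F)
      (CohTop.push f) (hF 0),
    fun q => Groth.Agent.Lib.Cohomology.RDShift.isZero_rightDerived_X₃ (injSES_shortExact F)
      (CohTop.push f) q (hF (q + 1))⟩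

/-- global sections of `f_* F` -/
noncomputable def bridgeTop (F : CohTop.Ab X) :
    F.obj.obj (op ⊤) ≃+ ((CohTop.push f).obj F).obj.obj (op ⊤) :=
  AddEquiv.refl _

/-- the natural bijection on maps out of the constant sheaves -/
noncomputable def eHom (F : CohTop.Ab X) :
    (constZ X ⟶ F) ≃+ (constZ Y ⟶ (CohTop.push f).obj F) :=
  (eB F).trans ((bridgeTop f F).trans (eB ((CohTop.push f).obj F)).symm)

lemma eHom_naturality {F G : CohTop.Ab X} (φ : constZ X ⟶ F) (g : F ⟶ G) :
    eHom f G (φ ≫ g) = eHom f F φ ≫ (CohTop.push f).map g := by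
  apply (eB ((CohTop.push f).obj G)).injective
  rw [eB_naturality]
  simp only [eHom, AddEquiv.trans_apply, AddEquiv.apply_symm_apply]
  rw [eB_naturality]
  rfl

open Abelian in
/-- If `R^{q+1} f_* F = 0` for all `q`, then `H^p(X, F) ≃+ H^p(Y, f_* F)`. -/
theorem H_addEquiv_push (F : CohTop.Ab X) (hF : Acyc f F) (p : ℕ) :
    Nonempty (CohTop.H F p ≃+ CohTop.H ((CohTop.push f).obj F) p) := by
  refine extAddEquiv_of_class.{u, u} (CohTop.push f) (constZ X) (constZ Y)
    (eHom f) (fun φ g => eHom_naturality f φ g) ?_ (Acyc f) (acyc_step f) p F hF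
  intro I _ m x
  have : Injective ((CohTop.push f).obj I) := Groth.Agent.S0904.result f I
  exact Ext.eq_zero_of_injective x

end Groth.Agent.Lib.Cohomology.PushAcyclic
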