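/-
Cohomology commutes with localization: `H^n(X, M) → H^n(X, j_* j^* M)` is a localization at `f`,
for `j : X_f → X` the inclusion of a basic open, `X` quasi-compact quasi-separated, `M` quasi-coherent
(helper1).

Main results (namespace `Groth.Agent.Lib.Cohomology.LocBasic`):
* `locMod f M = j_* j^* M`, `locUnit f M : M ⟶ locMod f M`;
* `isLocalizedModule_locUnit` : `IsLocalizedModule.Away f (hmapₗ (locUnit f M) n)`;
* `nonempty_HHon_basicOpen_equiv` : `H^n(X_f, M|_{X_f}) ≃+ LocalizedModule (powers f) H^n(X, M)`.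
-/
import Groth.Agent.Lib.Cohomology.Helper1_LocCoh
import Groth.Agent.Lib.QCoh.Helper43_PushQcqs
import Groth.Agent.Lib.Helper22.QCohLoc
import Groth.Agent.S0012

set_option autoImplicit false
universe u

namespace Groth.Agent.Lib.Cohomology.LocBasic

open CategoryTheory CategoryTheory.Limits Opposite TopologicalSpace AlgebraicGeometry
open Groth.Agent.Lib.Cohomology.LocFive Groth.Agent.Lib.Cohomology.LocCoh
open Groth.Agent.Lib.Helper22 Groth.Agent.Lib.QCoh

variable {X : Scheme.{u}} (f : Γ(X, ⊤)) (M : X.Modules)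

/-- `j_* j^* M` for `j : X_f → X` -/
noncomputable abbrev locMod : X.Modules :=
  (Scheme.Modules.pushforward (X.basicOpen f).ι).obj (M.restrict (X.basicOpen f).ι)

/-- the unit `M → j_* j^* M` -/
noncomputable abbrev locUnit : M ⟶ locMod f M :=
  (Scheme.Modules.restrictAdjunction (X.basicOpen f).ι).unit.app M

/-- the open `j(j⁻¹ W) = W ∩ X_f` -/
abbrev V₁ (W : X.Opens) : X.Opens := (X.basicOpen f).ι ''ᵁ ((X.basicOpen f).ι ⁻¹ᵁ W)

lemma V₁_eq (W : X.Opens) : V₁ f W = X.basicOpen f ⊓ W := by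
  rw [V₁, Scheme.Hom.image_preimage_eq_opensRange_inf, Scheme.Opens.opensRange_ι]

lemma V₁_le (W : X.Opens) : V₁ f W ≤ W := (X.basicOpen f).ι.image_preimage_le W

lemma V₁_le_basicOpen (W : X.Opens) : V₁ f W ≤ X.basicOpen f := by
  rw [V₁_eq]; exact inf_le_left

/-- the restriction of `f` to `W` -/
noncomputable abbrev fW (W : X.Opens) : Γ(X, W) := X.presheaf.map (homOfLE (le_top : W ≤ ⊤)).op f

lemma basicOpen_fW (W : X.Opens) : X.basicOpen (fW f W) = V₁ f W := by
  rw [V₁_eq, Scheme.basicOpen_res, inf_comm]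

/-- sections of `j_* j^* M` over `W` are sections of `M` over `W ∩ X_f` -/
noncomputable def cast₁ (W : X.Opens) : Γ(locMod f M, W) ≃+ Γ(M, V₁ f W) := AddEquiv.refl _

lemma cast₁_smul' (W : X.Opens) (r : Γ(X, W)) (t : Γ(locMod f M, W)) :
    cast₁ f M W (r • t) =
      (((X.basicOpen f).ι.appIso ((X.basicOpen f).ι ⁻¹ᵁ W)).inv ((X.basicOpen f).ι.app W r)) •
        cast₁ f M W t := by
  rfl

/-- the module structure of `j_* j^* M` on sections over `W`: `r` acts through its restriction to
`W ∩ X_f` -/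
lemma cast₁_smul (W : X.Opens) (r : Γ(X, W)) (t : Γ(locMod f M, W)) :
    cast₁ f M W (r • t) = X.presheaf.map (homOfLE (V₁_le f W)).op r • cast₁ f M W t := by
  rw [cast₁_smul']
  have := congr($((X.basicOpen f).ι.app_appIso_inv W) r)
  exact congrArg (fun z : Γ(X, V₁ f W) => z • cast₁ f M W t) this

/-- the unit on sections is the restriction map -/
lemma cast₁_locUnit (W : X.Opens) (s : Γ(M, W)) :
    cast₁ f M W ((locUnit f M).app W s) = M.presheaf.map (homOfLE (V₁_le f W)).op s := rfl

/-- multiplication by `f` on `Γ(K, W)` (this is `LocCoh.secEnd`, retyped) -/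
noncomputable def sE (K : X.Modules) (W : X.Opens) : AddMonoid.End Γ(K, W) := secEnd f K W

lemma sE_apply (K : X.Modules) (W : X.Opens) (t : Γ(K, W)) : sE f K W t = fW f W • t := rfl

lemma sE_pow_apply (K : X.Modules) (W : X.Opens) (k : ℕ) (t : Γ(K, W)) :
    (sE f K W ^ k) t = fW f W ^ k • t := by
  induction k generalizing t with
  | zero =>
    rw [pow_zero, pow_zero, one_smul]
    rfl
  | succ k ih =>
    rw [pow_succ, pow_succ, mul_smul]
    exact ih _

lemma isUnit_fW_V₁ (W : X.Opens) : IsUnit (X.presheaf.map (homOfLE (V₁_le f W)).op (fW f W)) := by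
  have h1 : X.presheaf.map (homOfLE (V₁_le f W)).op (fW f W) =
      X.presheaf.map (homOfLE (V₁_le_basicOpen f W)).op
        (X.presheaf.map (homOfLE (X.basicOpen_le f)).op f) := by
    rw [resX_resX, resX_resX]
  rw [h1]
  exact (X.toRingedSpace.isUnit_res_basicOpen f).map _

/-- `f` acts bijectively on the sections of `j_* j^* M` -/
lemma bijective_sE_locMod (W : X.Opens) : Function.Bijective (sE f (locMod f M) W) := by
  obtain ⟨u, hu⟩ := isUnit_fW_V₁ f W
  have key : ∀ t : Γ(locMod f M, W),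
      cast₁ f M W (sE f (locMod f M) W t) = (u : Γ(X, V₁ f W)) • cast₁ f M W t := by
    intro t
    rw [sE_apply, cast₁_smul, hu]
  refine ⟨fun a b hab => ?_, fun b => ?_⟩
  · have h1 : (u : Γ(X, V₁ f W)) • cast₁ f M W a = (u : Γ(X, V₁ f W)) • cast₁ f M W b := by
      rw [← key, ← key, hab]
    have h2 := congrArg (fun z : Γ(M, V₁ f W) => ((u⁻¹ : (Γ(X, V₁ f W))ˣ) : Γ(X, V₁ f W)) • z) h1
    simp only [← mul_smul, Units.inv_mul, one_smul] at h2
    exact (cast₁ f M W).injective h2
  · refine ⟨(cast₁ f M W).symm (((u⁻¹ : (Γ(X, V₁ f W))ˣ) : Γ(X, V₁ f W)) • cast₁ f M W b), ?_⟩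
    apply (cast₁ f M W).injective
    rw [key, AddEquiv.apply_symm_apply, ← mul_smul, Units.mul_inv, one_smul]

instance isIso_smulAb_locMod : IsIso (Coh.smulAb (locMod f M) f) := by
  have h1 : ∀ W : (Opens X)ᵒᵖ, IsIso ((Coh.smulAb (locMod f M) f).hom.app W) := by
    intro W
    rw [ConcreteCategory.isIso_iff_bijective]
    exact bijective_sE_locMod f M W.unop
  have h2 : IsIso (Coh.smulAb (locMod f M) f).hom := NatIso.isIso_of_isIso_app _
  have h3 : IsIso ((sheafToPresheaf _ _).map (Coh.smulAb (locMod f M) f)) := h2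
  exact isIso_of_reflects_iso _ (sheafToPresheaf _ _)

/-- the map on sections induced by the unit (`LocCoh.secMap` retyped) -/
noncomputable def sM (W : X.Opens) : Γ(M, W) →+ Γ(locMod f M, W) := secMap (locUnit f M) W

lemma sM_apply (W : X.Opens) (s : Γ(M, W)) : sM f M W s = (locUnit f M).app W s := rfl

lemma le_V₁ (W : X.Opens) : X.basicOpen (fW f W) ≤ V₁ f W := (basicOpen_fW f W).le

lemma V₁_le' (W : X.Opens) : V₁ f W ≤ X.basicOpen (fW f W) := (basicOpen_fW f W).ge

lemma res_injective (W : X.Opens) (a b : Γ(M, V₁ f W))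
    (h : M.presheaf.map (homOfLE (le_V₁ f W)).op a = M.presheaf.map (homOfLE (le_V₁ f W)).op b) :
    a = b := by
  have h1 := congrArg (M.presheaf.map (homOfLE (V₁_le' f W)).op) h
  rw [res_res, res_res] at h1
  have h2 : ∀ c : Γ(M, V₁ f W), M.presheaf.map (homOfLE (le_refl (V₁ f W))).op c = c := by
    intro c
    have : (homOfLE (le_refl (V₁ f W))).op = 𝟙 (op (V₁ f W)) := rfl
    rw [this, M.presheaf.map_id]
    rfl
  rw [res_congr M _ (homOfLE (le_refl (V₁ f W))), h2,
    res_congr M _ (homOfLE (le_refl (V₁ f W))) b, h2] at h1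
  exact h1

variable [M.IsQuasicoherent]

theorem locKer_locUnit (W : X.Opens) (hW : IsAffineOpen W) : LocKer (sE f M W) (sM f M W) := by
  intro s hs
  have h1 : M.presheaf.map (homOfLE (V₁_le f W)).op s = 0 := by
    rw [← cast₁_locUnit, ← sM_apply, hs, map_zero]
  have h2 : M.presheaf.map (homOfLE (X.basicOpen_le (fW f W))).op s = 0 := by
    have h3 := congrArg (M.presheaf.map (homOfLE (le_V₁ f W)).op) h1
    rw [res_res, map_zero] at h3
    rw [res_congr M _ (homOfLE ((le_V₁ f W).trans (V₁_le f W)))]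
    exact h3
  obtain ⟨n, hn⟩ := exists_pow_smul_eq_zero_of_isAffineOpen M hW (fW f W) s h2
  exact ⟨n, (sE_pow_apply f M W n s).trans hn⟩

theorem locSurj_locUnit (W : X.Opens) (hW : IsAffineOpen W) :
    LocSurj (sE f (locMod f M) W) (sM f M W) := by
  intro t
  obtain ⟨n, x, hx⟩ := exists_pow_smul_eq_map_of_isAffineOpen M hW (fW f W)
    (M.presheaf.map (homOfLE (le_V₁ f W)).op (cast₁ f M W t))
  refine ⟨n, x, ?_⟩
  apply (cast₁ f M W).injective
  rw [sE_pow_apply, cast₁_smul, sM_apply, cast₁_locUnit]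
  apply res_injective f M W
  rw [Scheme.Modules.map_smul, res_res, resX_resX, map_pow,
    res_congr M _ (homOfLE (X.basicOpen_le (fW f W))), hx,
    resX_congr _ (homOfLE (X.basicOpen_le (fW f W)))]

theorem secLoc_locUnit (W : X.Opens) (hW : IsAffineOpen W) : SecLoc (locUnit f M) f W :=
  ⟨locSurj_locUnit f M W hW, locKer_locUnit f M W hW⟩

instance isQuasicoherent_locMod : (locMod f M).IsQuasicoherent :=
  isQuasicoherent_pushforward_of_qcqs _ _

theorem good_affine (W : X.Opens) (hW : IsAffineOpen W) : Good (locUnit f M) f W :=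
  good_of_isAffineOpen _ _ W hW (secLoc_locUnit f M W hW)

/-- **Cohomology commutes with localization**: for `X` quasi-compact quasi-separated and `M`
quasi-coherent, `H^n(X, M) → H^n(X, j_* j^* M)` is a localization at `f`. -/
theorem isLocalizedModule_locUnit [CompactSpace X] [QuasiSeparatedSpace X] (n : ℕ) :
    IsLocalizedModule.Away f (hmapₗ (locUnit f M) n) :=
  isLocalizedModule_hmap (locUnit f M) f (good_affine f M) n

/-- `H^n(X_f, M) ≃+ H^n(X, M)_f` for `X` quasi-compact quasi-separated, `M` quasi-coherent. -/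
theorem nonempty_HHon_basicOpen_equiv [CompactSpace X] [QuasiSeparatedSpace X] (n : ℕ) :
    Nonempty (Coh.HHon X M (X.basicOpen f) n ≃+
      LocalizedModule (Submonoid.powers f) (Coh.HH X M n)) := by
  obtain ⟨e⟩ := Groth.Agent.S0012.result (X.basicOpen f).ι (M.restrict (X.basicOpen f).ι) n
  have := isLocalizedModule_locUnit f M n
  exact ⟨e.trans
    (IsLocalizedModule.iso (Submonoid.powers f) (hmapₗ (locUnit f M) n)).symm.toAddEquiv⟩

end Groth.Agent.Lib.Cohomology.LocBasic
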