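/-
Localization on `Ext` groups, first variable (helper1).

In an abelian category with `Ext`, fix an object `F` with an endomorphism `a`.  For `φ : A' ⟶ A`,
`Surj1 a φ n` / `Ker1 a φ n` say that the restriction `Ext^n(A, F) → Ext^n(A', F)` looks like the
localization at `a`.  These properties pass from `τ₁`, `τ₂` to `τ₃` for a morphism `τ : S' ⟶ S` of short
exact sequences (five lemma on the contravariant long exact `Ext` sequences), and to biproducts.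
-/
import Groth.Agent.Lib.Cohomology.Helper1_LocExt

set_option autoImplicit false

universe w v u

namespace Groth.Agent.Lib.Cohomology.LocRes

open CategoryTheory CategoryTheory.Limits Abelian LocFive

variable {C : Type u} [Category.{v} C] [Abelian C] [HasExt.{w} C]

variable {F : C} (a : F ⟶ F)

/-- the endomorphism of `Ext^n(A, F)` induced by `a` -/
noncomputable def aE (A : C) (n : ℕ) : AddMonoid.End (Ext.{w} A F n) := LocExt.post A a n

/-- precomposition with a morphism, as an additive map on `Ext` groups -/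
noncomputable def pre {A' A : C} (φ : A' ⟶ A) (F : C) (n : ℕ) : Ext.{w} A F n →+ Ext.{w} A' F n :=
  (Ext.mk₀ φ).precomp F (zero_add n)

lemma pre_apply {A' A : C} (φ : A' ⟶ A) (F : C) (n : ℕ) (x : Ext.{w} A F n) :
    pre φ F n x = (Ext.mk₀ φ).comp x (zero_add n) := rfl

lemma pre_comp {A'' A' A : C} (ψ : A'' ⟶ A') (φ : A' ⟶ A) (F : C) (n : ℕ) (x : Ext.{w} A F n) :
    pre ψ F n (pre φ F n x) = pre (ψ ≫ φ) F n x := by
  simp only [pre_apply, Ext.mk₀_comp_mk₀_assoc]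

lemma pre_id {A : C} (F : C) (n : ℕ) (x : Ext.{w} A F n) : pre (𝟙 A) F n x = x := by
  simp only [pre_apply, Ext.mk₀_id_comp]

/-- Every class of `Ext^n(A', F)` is a restriction up to a power of `a`. -/
def Surj1 {A' A : C} (φ : A' ⟶ A) (n : ℕ) : Prop :=
  LocSurj (aE a A' n) (pre φ F n)

/-- Every class of `Ext^n(A, F)` restricting to zero is killed by a power of `a`. -/
def Ker1 {A' A : C} (φ : A' ⟶ A) (n : ℕ) : Prop :=
  LocKer (aE a A n) (pre φ F n)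

/-- `aE` commutes with any precomposition -/
lemma comp_aE {A A' : C} {m : ℕ} (α : Ext.{w} A' A m) {n n' : ℕ} (h : m + n = n')
    (x : Ext.{w} A F n) : α.comp (aE a A n x) h = aE a A' n' (α.comp x h) :=
  (LocExt.pre_post α a h x).symm

lemma pre_aE {A' A : C} (φ : A' ⟶ A) (n : ℕ) (x : Ext.{w} A F n) :
    pre φ F n (aE a A n x) = aE a A' n (pre φ F n x) :=
  comp_aE a (Ext.mk₀ φ) (zero_add n) x

lemma pre_aE_pow {A' A : C} (φ : A' ⟶ A) (n k : ℕ) (x : Ext.{w} A F n) :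
    pre φ F n ((aE a A n ^ k) x) = (aE a A' n ^ k) (pre φ F n x) :=
  LocFive.pow_comm (aE a A n) (aE a A' n) (pre φ F n) (fun x => pre_aE a φ n x) k x

section SES

variable {S' S : ShortComplex C} (hS' : S'.ShortExact) (hS : S.ShortExact) (τ : S' ⟶ S)

include hS' hS in
/-- naturality of the connecting map -/
lemma pre_extClass (n : ℕ) (x : Ext.{w} S.X₁ F n) :
    pre τ.τ₃ F (n + 1) (hS.extClass.comp x (add_comm 1 n)) =
      hS'.extClass.comp (pre τ.τ₁ F n x) (add_comm 1 n) := by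
  have h := ShortComplex.ShortExact.extClass_naturality hS' hS τ
  simp only [pre_apply]
  rw [← Ext.comp_assoc_of_second_deg_zero, h,
    Ext.comp_assoc _ _ _ (zero_add 1) (add_comm 1 n) (by omega)]

lemma pre_g (n : ℕ) (x : Ext.{w} S.X₃ F n) :
    pre τ.τ₂ F n (pre S.g F n x) = pre S'.g F n (pre τ.τ₃ F n x) := by
  rw [pre_comp, pre_comp, τ.comm₂₃]

lemma pre_f (n : ℕ) (x : Ext.{w} S.X₂ F n) :
    pre τ.τ₁ F n (pre S.f F n x) = pre S'.f F n (pre τ.τ₂ F n x) := by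
  rw [pre_comp, pre_comp, τ.comm₁₂]

include hS' hS in
theorem surj_X₃_succ (n : ℕ) (s₁ : Surj1 a τ.τ₁ n) (s₂ : Surj1 a τ.τ₂ (n + 1))
    (k₁ : Ker1 a τ.τ₁ (n + 1)) : Surj1 a τ.τ₃ (n + 1) := by
  refine LocFive.surj
    (a₃ := aE a S.X₃ (n + 1)) (a₄ := aE a S.X₂ (n + 1)) (a₅ := aE a S.X₁ (n + 1))
    (b₂ := aE a S'.X₁ n)
    (b₃ := aE a S'.X₃ (n + 1)) (b₄ := aE a S'.X₂ (n + 1)) (b₅ := aE a S'.X₁ (n + 1))
    (u₂ := hS.extClass.precomp F (add_comm 1 n))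
    (u₃ := pre S.g F (n + 1))
    (u₄ := pre S.f F (n + 1))
    (v₂ := hS'.extClass.precomp F (add_comm 1 n))
    (v₃ := pre S'.g F (n + 1))
    (v₄ := pre S'.f F (n + 1))
    (g₂ := pre τ.τ₁ F n) (g₃ := pre τ.τ₃ F (n + 1)) (g₄ := pre τ.τ₂ F (n + 1))
    (g₅ := pre τ.τ₁ F (n + 1))
    ?_ ?_ ?_ ?_ ?_ ?_ ?_ ?_ ?_ ?_ ?_ ?_ s₁ s₂ k₁
  · intro x; exact pre_aE a S.f (n + 1) x
  · intro x; exact comp_aE a hS'.extClass (add_comm 1 n) x
  · intro x; exact pre_aE a S'.g (n + 1) x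
  · intro x; exact pre_aE a S'.f (n + 1) x
  · intro x; exact pre_aE a τ.τ₃ (n + 1) x
  · intro x; exact pre_aE a τ.τ₂ (n + 1) x
  · intro x; exact pre_extClass hS' hS τ n x
  · intro x; exact (pre_g τ (n + 1) x)
  · intro x; exact (pre_f τ (n + 1) x)
  · intro y
    rw [pre_comp, S'.zero, pre_apply, Ext.mk₀_zero, Ext.zero_comp]
  · intro x hx
    exact Ext.contravariant_sequence_exact₂ hS F x hx
  · intro y hy
    exact Ext.contravariant_sequence_exact₃ hS' F y hy (add_comm 1 n)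

include hS' hS in
theorem ker_X₃_succ (n : ℕ) (s₂ : Surj1 a τ.τ₂ n) (k₁ : Ker1 a τ.τ₁ n)
    (k₂ : Ker1 a τ.τ₂ (n + 1)) : Ker1 a τ.τ₃ (n + 1) := by
  refine LocFive.ker
    (a₂ := aE a S.X₁ n) (a₃ := aE a S.X₃ (n + 1)) (a₄ := aE a S.X₂ (n + 1))
    (b₁ := aE a S'.X₂ n) (b₂ := aE a S'.X₁ n) (b₃ := aE a S'.X₃ (n + 1))
    (u₁ := pre S.f F n)
    (u₂ := hS.extClass.precomp F (add_comm 1 n))
    (u₃ := pre S.g F (n + 1))
    (v₁ := pre S'.f F n)
    (v₂ := hS'.extClass.precomp F (add_comm 1 n))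
    (v₃ := pre S'.g F (n + 1))
    (g₁ := pre τ.τ₂ F n) (g₂ := pre τ.τ₁ F n) (g₃ := pre τ.τ₃ F (n + 1))
    (g₄ := pre τ.τ₂ F (n + 1))
    ?_ ?_ ?_ ?_ ?_ ?_ ?_ ?_ ?_ ?_ ?_ s₂ k₁ k₂
  · intro x; exact comp_aE a hS.extClass (add_comm 1 n) x
  · intro x; exact pre_aE a S.g (n + 1) x
  · intro x; exact pre_aE a S'.f n x
  · intro x; exact pre_aE a τ.τ₁ n x
  · intro x; exact pre_aE a τ.τ₃ (n + 1) x
  · intro x; exact pre_f τ n x
  · intro x; exact pre_extClass hS' hS τ n x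
  · intro x; exact pre_g τ (n + 1) x
  · intro x
    change hS.extClass.comp ((Ext.mk₀ S.f).comp x (zero_add n)) (add_comm 1 n) = 0
    rw [← Ext.comp_assoc_of_second_deg_zero, hS.extClass_comp, Ext.zero_comp]
  · intro x hx
    exact Ext.contravariant_sequence_exact₃ hS F x hx (add_comm 1 n)
  · intro y hy
    exact Ext.contravariant_sequence_exact₁ hS' F y (add_comm 1 n) hy

include hS' hS in
theorem surj_X₃_zero (s₂ : Surj1 a τ.τ₂ 0) (k₁ : Ker1 a τ.τ₁ 0) : Surj1 a τ.τ₃ 0 := by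
  have := hS'.epi_g
  refine LocFive.surj (A₂ := PUnit.{1}) (B₂ := PUnit.{1})
    (a₃ := aE a S.X₃ 0) (a₄ := aE a S.X₂ 0) (a₅ := aE a S.X₁ 0)
    (b₂ := 0)
    (b₃ := aE a S'.X₃ 0) (b₄ := aE a S'.X₂ 0) (b₅ := aE a S'.X₁ 0)
    (u₂ := 0)
    (u₃ := pre S.g F 0)
    (u₄ := pre S.f F 0)
    (v₂ := 0)
    (v₃ := pre S'.g F 0)
    (v₄ := pre S'.f F 0)
    (g₂ := 0) (g₃ := pre τ.τ₃ F 0) (g₄ := pre τ.τ₂ F 0)
    (g₅ := pre τ.τ₁ F 0)
    ?_ ?_ ?_ ?_ ?_ ?_ ?_ ?_ ?_ ?_ ?_ ?_ (locSurj_of_subsingleton _ _) s₂ k₁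
  · intro x; exact pre_aE a S.f 0 x
  · intro x; simp
  · intro x; exact pre_aE a S'.g 0 x
  · intro x; exact pre_aE a S'.f 0 x
  · intro x; exact pre_aE a τ.τ₃ 0 x
  · intro x; exact pre_aE a τ.τ₂ 0 x
  · intro x; simp
  · intro x; exact pre_g τ 0 x
  · intro x; exact pre_f τ 0 x
  · intro y
    rw [pre_comp, S'.zero, pre_apply, Ext.mk₀_zero, Ext.zero_comp]
  · intro x hx
    exact Ext.contravariant_sequence_exact₂ hS F x hx
  · intro y hy
    refine ⟨0, ?_⟩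
    apply Ext.precomp_mk₀_injective_of_epi F S'.g
    change pre S'.g F 0 _ = pre S'.g F 0 y
    rw [hy]
    simp

include hS in
theorem ker_X₃_zero (k₂ : Ker1 a τ.τ₂ 0) : Ker1 a τ.τ₃ 0 := by
  have := hS.epi_g
  intro x hx
  have h1 : pre τ.τ₂ F 0 (pre S.g F 0 x) = 0 := by
    rw [pre_g, hx, map_zero]
  obtain ⟨k, hk⟩ := k₂ _ h1
  refine ⟨k, ?_⟩
  apply Ext.precomp_mk₀_injective_of_epi F S.g
  rw [map_zero]
  change pre S.g F 0 ((aE a S.X₃ 0 ^ k) x) = 0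
  rw [pre_aE_pow]
  exact hk

end SES

section Biprod

variable {A' A B' B : C} (φ : A' ⟶ A) (ψ : B' ⟶ B)

theorem surj_biprod (n : ℕ) (hA : Surj1 a φ n) (hB : Surj1 a ψ n) :
    Surj1 a (biprod.map φ ψ) n := by
  intro y
  obtain ⟨k₁, x₁, h₁⟩ := hA (pre biprod.inl F n y)
  obtain ⟨k₂, x₂, h₂⟩ := hB (pre biprod.inr F n y)
  refine ⟨k₁ + k₂, pre biprod.fst F n ((aE a A n ^ k₂) x₁) + pre biprod.snd F n ((aE a B n ^ k₁) x₂), ?_⟩
  have e1 : pre biprod.inl F n ((aE a (A' ⊞ B') n ^ (k₁ + k₂)) y) =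
      pre φ F n ((aE a A n ^ k₂) x₁) := by
    rw [pre_aE_pow, pre_aE_pow, ← h₁, ← LocFive.pow_add_apply, add_comm k₂ k₁]
  have e2 : pre biprod.inr F n ((aE a (A' ⊞ B') n ^ (k₁ + k₂)) y) =
      pre ψ F n ((aE a B n ^ k₁) x₂) := by
    rw [pre_aE_pow, pre_aE_pow, ← h₂, ← LocFive.pow_add_apply]
  refine (LocExt.biprod_decomp A' B' n _).symm.trans ?_
  change pre biprod.fst F n (pre biprod.inl F n _) + pre biprod.snd F n (pre biprod.inr F n _) = _
  rw [e1, e2, map_add]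
  simp only [pre_comp, biprod.map_fst, biprod.map_snd]

theorem ker_biprod (n : ℕ) (hA : Ker1 a φ n) (hB : Ker1 a ψ n) :
    Ker1 a (biprod.map φ ψ) n := by
  intro x hx
  have h1 : pre φ F n (pre biprod.inl F n x) = 0 := by
    have : pre biprod.inl F n (pre (biprod.map φ ψ) F n x) = 0 := by rw [hx, map_zero]
    rw [pre_comp] at this ⊢
    rwa [biprod.inl_map] at this
  have h2 : pre ψ F n (pre biprod.inr F n x) = 0 := by
    have : pre biprod.inr F n (pre (biprod.map φ ψ) F n x) = 0 := by rw [hx, map_zero]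
    rw [pre_comp] at this ⊢
    rwa [biprod.inr_map] at this
  obtain ⟨k₁, hk₁⟩ := hA _ h1
  obtain ⟨k₂, hk₂⟩ := hB _ h2
  refine ⟨k₁ + k₂, ?_⟩
  have e1 : pre biprod.inl F n ((aE a (A ⊞ B) n ^ (k₁ + k₂)) x) = 0 := by
    rw [pre_aE_pow, add_comm k₁ k₂, LocFive.pow_add_apply, hk₁, map_zero]
  have e2 : pre biprod.inr F n ((aE a (A ⊞ B) n ^ (k₁ + k₂)) x) = 0 := by
    rw [pre_aE_pow, LocFive.pow_add_apply, hk₂, map_zero]
  refine (LocExt.biprod_decomp A B n _).symm.trans ?_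
  change pre biprod.fst F n (pre biprod.inl F n _) + pre biprod.snd F n (pre biprod.inr F n _) = _
  rw [e1, e2, map_zero, map_zero, add_zero]

end Biprod

section Iso

/-- restriction along an isomorphism is (trivially) a localization -/
lemma surj1_of_isIso {A' A : C} (φ : A' ⟶ A) [IsIso φ] (n : ℕ) : Surj1 a φ n := by
  intro y
  refine ⟨0, pre (inv φ) F n y, ?_⟩
  rw [pre_comp, IsIso.hom_inv_id, pre_id]
  rfl

lemma ker1_of_isIso {A' A : C} (φ : A' ⟶ A) [IsIso φ] (n : ℕ) : Ker1 a φ n := by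
  intro x hx
  refine ⟨0, ?_⟩
  have := congrArg (pre (inv φ) F n) hx
  rw [pre_comp, IsIso.inv_hom_id, pre_id, map_zero] at this
  exact this

end Iso

end Groth.Agent.Lib.Cohomology.LocRes
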