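import Mathlib

/-!
# Dimension shifting for `Ext` along an exact functor (helper5)

`extAddEquivOfExactFunctor`: let `R : C ⥤ D` be an exact additive functor between abelian
categories, `A : C`, `B : D`, with a natural additive bijection `(A ⟶ F) ≃+ (B ⟶ R F)`.
If `Ext^{n+1}(B, R I) = 0` for all injective `I` and `C` has enough injectives, then
`Ext^n(A, F) ≃+ Ext^n(B, R F)` for all `n`, `F`.
-/

set_option autoImplicit false
universe w w' v v' u u'
open CategoryTheory CategoryTheory.Limits

namespace Groth.Agent.Lib.Cohomology.ExtShift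

open Abelian

section General

variable {C : Type u} [Category.{v} C] [Abelian C] [HasExt.{w} C]
variable {S : ShortComplex C} (hS : S.ShortExact) (A : C)

/-- The connecting map `Ext^p(A, X₃) → Ext^{p+1}(A, X₁)`. -/
noncomputable def extδ (p : ℕ) : Ext.{w} A S.X₃ p →+ Ext.{w} A S.X₁ (p + 1) :=
  hS.extClass.postcomp A rfl

lemma extδ_apply (p : ℕ) (x : Ext.{w} A S.X₃ p) : extδ hS A p x = x.comp hS.extClass rfl := rfl

lemma extδ_surjective (p : ℕ) (h : ∀ x : Ext.{w} A S.X₂ (p + 1), x = 0) :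
    Function.Surjective (extδ hS A p) := by
  intro y
  obtain ⟨x₃, hx₃⟩ := Ext.covariant_sequence_exact₁ A hS y (h _) rfl
  exact ⟨x₃, hx₃⟩

lemma extδ_injective (p : ℕ) (h : ∀ x : Ext.{w} A S.X₂ (p + 1), x = 0) :
    Function.Injective (extδ hS A (p + 1)) := by
  rw [injective_iff_map_eq_zero]
  intro x hx
  obtain ⟨x₂, hx₂⟩ := Ext.covariant_sequence_exact₃ A hS x rfl hx
  rw [← hx₂, h x₂, Ext.zero_comp]

/-- The connecting map on morphisms `(A ⟶ X₃) → Ext^1(A, X₁)`. -/
noncomputable def homδ : (A ⟶ S.X₃) →+ Ext.{w} A S.X₁ 1 :=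
  (extδ hS A 0).comp (Ext.addEquiv₀ (X := A) (Y := S.X₃)).symm.toAddMonoidHom

lemma homδ_apply (φ : A ⟶ S.X₃) : homδ hS A φ = (Ext.mk₀ φ).comp hS.extClass (zero_add 1) := rfl

lemma homδ_surjective (h : ∀ x : Ext.{w} A S.X₂ 1, x = 0) : Function.Surjective (homδ hS A) :=
  (extδ_surjective hS A 0 h).comp (Ext.addEquiv₀ (X := A) (Y := S.X₃)).symm.surjective

lemma homδ_eq_zero_iff (φ : A ⟶ S.X₃) : homδ hS A φ = 0 ↔ ∃ ψ : A ⟶ S.X₂, ψ ≫ S.g = φ := by
  constructor
  · intro h0
    rw [homδ_apply] at h0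
    obtain ⟨x₂, hx₂⟩ := Ext.covariant_sequence_exact₃ A hS _ (zero_add 1) h0
    obtain ⟨ψ, rfl⟩ := (Ext.mk₀_bijective _ _).2 x₂
    rw [Ext.mk₀_comp_mk₀] at hx₂
    exact ⟨ψ, (Ext.mk₀_bijective _ _).1 hx₂⟩
  · rintro ⟨ψ, rfl⟩
    rw [homδ_apply, ← Ext.mk₀_comp_mk₀, Ext.comp_assoc_of_second_deg_zero, hS.comp_extClass,
      Ext.comp_zero]

end General

section Functor

variable {C : Type u} [Category.{v} C] [Abelian C] [HasExt.{w} C] [EnoughInjectives C]
variable {D : Type u'} [Category.{v'} D] [Abelian D] [HasExt.{w'} D]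
variable (R : C ⥤ D) [R.Additive]
variable (A : C) (B : D)
variable (e : ∀ F : C, (A ⟶ F) ≃+ (B ⟶ R.obj F))
variable (he : ∀ {F G : C} (φ : A ⟶ F) (g : F ⟶ G), e G (φ ≫ g) = e F φ ≫ R.map g)
variable (hR : ∀ (I : C) [Injective I] (n : ℕ) (x : Ext.{w'} B (R.obj I) (n + 1)), x = 0)

/-- The canonical short exact sequence `0 → F → I → Q → 0` with `I` injective. -/
noncomputable abbrev injSES (F : C) : ShortComplex C :=
  ShortComplex.mk _ _ (cokernel.condition (Injective.ι F))

omit [HasExt.{w} C] in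
lemma injSES_shortExact (F : C) : (injSES F).ShortExact :=
  { exact := ShortComplex.exact_of_g_is_cokernel _ (cokernelIsCokernel (injSES F).f) }

instance (F : C) : Injective (injSES F).X₂ := inferInstanceAs (Injective (Injective.under F))

variable (P : C → Prop)
  (hP : ∀ F : C, P F → ((injSES F).map R).ShortExact ∧ P (injSES F).X₃)

include he hR hP in
/-- Dimension shifting on a class `P` of objects, positive degrees. -/
theorem extAddEquiv_succ_of_class (p : ℕ) :
    ∀ F : C, P F → Nonempty (Ext.{w} A F (p + 1) ≃+ Ext.{w'} B (R.obj F) (p + 1)) := by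
  induction p with
  | zero =>
    intro F hF
    have hS := injSES_shortExact F
    have hS' : ((injSES F).map R).ShortExact := (hP F hF).1
    let a := homδ hS A
    let b : (A ⟶ (injSES F).X₃) →+ Ext.{w'} B (R.obj F) 1 :=
      (homδ hS' B).comp (e (injSES F).X₃).toAddMonoidHom
    have ha : Function.Surjective a := homδ_surjective hS A (fun x => Ext.eq_zero_of_injective x)
    have hb : Function.Surjective b :=
      (homδ_surjective hS' B (hR (injSES F).X₂ 0)).comp (e (injSES F).X₃).surjective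
    have hk : a.ker = b.ker := by
      ext φ
      rw [AddMonoidHom.mem_ker, AddMonoidHom.mem_ker]
      change homδ hS A φ = 0 ↔ homδ hS' B (e _ φ) = 0
      rw [homδ_eq_zero_iff, homδ_eq_zero_iff]
      constructor
      · rintro ⟨ψ, rfl⟩
        exact ⟨e _ ψ, (he ψ _).symm⟩
      · rintro ⟨ψ', hψ'⟩
        obtain ⟨ψ, rfl⟩ := (e (injSES F).X₂).surjective ψ'
        refine ⟨ψ, (e (injSES F).X₃).injective ?_⟩
        rw [he]
        exact hψ'
    exact ⟨(QuotientAddGroup.quotientKerEquivOfSurjective a ha).symm.trans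
      ((QuotientAddGroup.quotientAddEquivOfEq hk).trans
        (QuotientAddGroup.quotientKerEquivOfSurjective b hb))⟩
  | succ p ih =>
    intro F hF
    have hS := injSES_shortExact F
    have hS' : ((injSES F).map R).ShortExact := (hP F hF).1
    obtain ⟨e0⟩ := ih (injSES F).X₃ (hP F hF).2
    let e1 : Ext.{w} A (injSES F).X₃ (p + 1) ≃+ Ext.{w} A F (p + 2) :=
      AddEquiv.ofBijective (extδ hS A (p + 1))
        ⟨extδ_injective hS A p (fun x => Ext.eq_zero_of_injective x),
          extδ_surjective hS A (p + 1) (fun x => Ext.eq_zero_of_injective x)⟩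
    let e2 : Ext.{w'} B (R.obj (injSES F).X₃) (p + 1) ≃+ Ext.{w'} B (R.obj F) (p + 2) :=
      AddEquiv.ofBijective (extδ hS' B (p + 1))
        ⟨extδ_injective hS' B p (hR (injSES F).X₂ p),
          extδ_surjective hS' B (p + 1) (hR (injSES F).X₂ (p + 1))⟩
    exact ⟨e1.symm.trans (e0.trans e2)⟩

include he hR hP in
/-- Dimension shifting on a class `P` of objects. -/
theorem extAddEquiv_of_class (n : ℕ) (F : C) (hF : P F) :
    Nonempty (Ext.{w} A F n ≃+ Ext.{w'} B (R.obj F) n) := by
  cases n with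
  | zero => exact ⟨Ext.addEquiv₀.trans ((e F).trans Ext.addEquiv₀.symm)⟩
  | succ p => exact extAddEquiv_succ_of_class R A B e he hR P hP p F hF

include he hR in
/-- Dimension shifting along an exact functor. -/
theorem extAddEquivOfExactFunctor [PreservesFiniteLimits R] [PreservesFiniteColimits R]
    (n : ℕ) (F : C) :
    Nonempty (Ext.{w} A F n ≃+ Ext.{w'} B (R.obj F) n) :=
  extAddEquiv_of_class R A B e he hR (fun _ => True)
    (fun F _ => ⟨(injSES_shortExact F).map_of_exact R, trivial⟩) n F trivial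

end Functor

end Groth.Agent.Lib.Cohomology.ExtShift
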