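import Groth.Agent.Lib.Cohomology.helper5_RightDerivedShift
import Groth.Agent.Lib.Cohomology.helper5_ExtShift
import Groth.Agent.Lib.Cohomology.helper5_Leray

/-!
# `R^i f_* F` is the sheafification of `V ↦ H^i(f⁻¹ V, F)` (helper5)
-/

set_option autoImplicit false
universe u
open CategoryTheory CategoryTheory.Limits TopologicalSpace Opposite

namespace Groth.Agent.Lib.Cohomology.RpushSh

open Abelian Groth.Agent.Lib.Cohomology.ExtShift

variable {X Y : TopCat.{u}} (f : X ⟶ Y)

/-- the free sheaf `ℤ_W` -/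
noncomputable abbrev zz (W : Opens X) : CohTop.Ab X :=
  CohCx.freeSheaf (Opens.grothendieckTopology X) W

/-- the presheaf `V ↦ H^i(f⁻¹ V, F)` -/
noncomputable abbrev Ppre (F : CohTop.Ab X) (i : ℕ) : (Opens Y)ᵒᵖ ⥤ AddCommGrpCat.{u} :=
  (Opens.map f).op ⋙ Sheaf.cohomologyPresheaf.{u} F i

lemma cohomologyPresheaf_map_apply (F : CohTop.Ab X) (n : ℕ) {W W' : (Opens X)ᵒᵖ} (j : W ⟶ W')
    (x : Ext.{u} (zz W.unop) F n) :
    (Sheaf.cohomologyPresheaf.{u} F n).map j x =
      (Ext.mk₀ (CohCx.freeSheafMap (Opens.grothendieckTopology X) j.unop)).comp x (zero_add n) :=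
  rfl

variable {S : ShortComplex (CohTop.Ab X)} (hS : S.ShortExact)

/-- the connecting map of presheaves `H^i(f⁻¹ -, X₃) ⟶ H^{i+1}(f⁻¹ -, X₁)` -/
noncomputable def δpre (i : ℕ) : Ppre f S.X₃ i ⟶ Ppre f S.X₁ (i + 1) where
  app V := AddCommGrpCat.ofHom (extδ hS (zz ((Opens.map f).obj V.unop)) i)
  naturality V V' j := by
    ext x
    change extδ hS _ i ((Sheaf.cohomologyPresheaf.{u} S.X₃ i).map ((Opens.map f).op.map j) x) =
      (Sheaf.cohomologyPresheaf.{u} S.X₁ (i + 1)).map ((Opens.map f).op.map j) (extδ hS _ i x)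
    rw [cohomologyPresheaf_map_apply, cohomologyPresheaf_map_apply, extδ_apply, extδ_apply]
    exact Ext.comp_assoc _ _ _ (zero_add i) rfl (by omega)


lemma isIso_δpre [Injective S.X₂] (i : ℕ) : IsIso (δpre f hS (i + 1)) := by
  have : ∀ V, IsIso ((δpre f hS (i + 1)).app V) := by
    intro V
    rw [ConcreteCategory.isIso_iff_bijective]
    exact ⟨extδ_injective hS _ i (fun x => Ext.eq_zero_of_injective x),
      extδ_surjective hS _ (i + 1) (fun x => Ext.eq_zero_of_injective x)⟩
  exact NatIso.isIso_of_isIso_app _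

/-- sheafified version: `T'^{i+1}(Q) ≅ T'^{i+2}(A)` -/
noncomputable def sheafifyδIso [Injective S.X₂] (i : ℕ) :
    (presheafToSheaf (Opens.grothendieckTopology Y) AddCommGrpCat.{u}).obj (Ppre f S.X₃ (i + 1)) ≅
      (presheafToSheaf (Opens.grothendieckTopology Y) AddCommGrpCat.{u}).obj (Ppre f S.X₁ (i + 2)) :=
  have := isIso_δpre f hS i
  (presheafToSheaf (Opens.grothendieckTopology Y) AddCommGrpCat.{u}).mapIso (asIso (δpre f hS (i + 1)))


lemma ofSect_res (G : CohTop.Ab X) {W W' : Opens X} (j : W' ⟶ W) (t : G.obj.obj (op W)) :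
    CohFree.ofSect (Opens.grothendieckTopology X) W' G (G.obj.map j.op t) =
      CohCx.freeSheafMap (Opens.grothendieckTopology X) j ≫
        CohFree.ofSect (Opens.grothendieckTopology X) W G t := by
  apply (CohFree.homEquivSect (Opens.grothendieckTopology X) W' G).injective
  rw [CohFree.homEquivSect_apply, CohFree.homEquivSect_apply, CohFree.evalGen_freeSheafMap_comp,
    CohFree.evalGen_ofSect, CohFree.evalGen_ofSect]

/-- the degree one connecting map of presheaves `(f_* X₃) ⟶ H^1(f⁻¹ -, X₁)` -/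
noncomputable def apre : ((CohTop.push f).obj S.X₃).obj ⟶ Ppre f S.X₁ 1 where
  app V := AddCommGrpCat.ofHom (Leray.sectδ hS ((Opens.map f).obj V.unop))
  naturality V V' j := by
    ext t
    change Leray.sectδ hS _ (S.X₃.obj.map ((Opens.map f).op.map j) t) =
      (Sheaf.cohomologyPresheaf.{u} S.X₁ 1).map ((Opens.map f).op.map j) (Leray.sectδ hS _ t)
    rw [cohomologyPresheaf_map_apply]
    change (Ext.mk₀ (CohFree.ofSect _ _ S.X₃ _)).comp hS.extClass (zero_add 1) =
      (Ext.mk₀ _).comp ((Ext.mk₀ (CohFree.ofSect _ _ S.X₃ t)).comp hS.extClass (zero_add 1)) _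
    rw [← Ext.comp_assoc (Ext.mk₀ _) (Ext.mk₀ _) hS.extClass (zero_add 0) (zero_add 1) (by omega),
      Ext.mk₀_comp_mk₀]
    congr 2
    exact ofSect_res S.X₃ ((Opens.map f).op.map j).unop t


/-- exactness of a short complex of presheaves of abelian groups can be checked sectionwise -/
lemma functor_exact_of_app {J : Type*} [Category J] (T : ShortComplex (J ⥤ AddCommGrpCat.{u}))
    (h : ∀ j : J, (T.map ((evaluation J AddCommGrpCat.{u}).obj j)).Exact) : T.Exact := by
  rw [ShortComplex.exact_iff_isZero_homology]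
  apply Functor.isZero
  intro j
  have e := T.mapHomologyIso ((evaluation J AddCommGrpCat.{u}).obj j)
  exact IsZero.of_iso ((ShortComplex.exact_iff_isZero_homology _).1 (h j)) e.symm

section DegreeOne

variable [Injective S.X₂]

lemma map_g_apre :
    (sheafToPresheaf _ _).map ((CohTop.push f).map S.g) ≫ apre f hS = 0 := by
  ext V t
  have : (S.g.hom.app (op ((Opens.map f).obj V.unop))).hom t ∈
      (Leray.sectδ hS ((Opens.map f).obj V.unop)).ker := by
    rw [Leray.sectδ_ker]
    exact ⟨t, rfl⟩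
  exact this

/-- the presheaf short complex `f_* I → f_* Q → H^1(f⁻¹ -, A)` -/
noncomputable abbrev preSC : ShortComplex ((Opens Y)ᵒᵖ ⥤ AddCommGrpCat.{u}) :=
  ShortComplex.mk _ _ (map_g_apre f hS)

lemma preSC_exact : (preSC f hS).Exact := by
  apply functor_exact_of_app
  intro V
  rw [ShortComplex.ab_exact_iff]
  intro t ht
  have : t ∈ (Leray.sectδ hS ((Opens.map f).obj V.unop)).ker := ht
  rw [Leray.sectδ_ker] at this
  obtain ⟨s, hs⟩ := this
  exact ⟨s, hs⟩

lemma epi_apre : Epi (apre f hS) := by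
  have : ∀ V, Epi ((apre f hS).app V) := by
    intro V
    rw [AddCommGrpCat.epi_iff_surjective]
    exact Leray.sectδ_surjective hS _
  exact NatTrans.epi_of_epi_app _

/-- sheafification functor on `Y` -/
noncomputable abbrev shY : ((Opens Y)ᵒᵖ ⥤ AddCommGrpCat.{u}) ⥤ CohTop.Ab Y :=
  presheafToSheaf (Opens.grothendieckTopology Y) AddCommGrpCat.{u}

/-- a sheaf is the sheafification of its underlying presheaf -/
noncomputable def counitIso (G : CohTop.Ab Y) : (shY).obj G.obj ≅ G :=
  asIso ((sheafificationAdjunction (Opens.grothendieckTopology Y) AddCommGrpCat.{u}).counit.app G)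

lemma counitIso_naturality {G G' : CohTop.Ab Y} (φ : G ⟶ G') :
    (shY).map φ.hom ≫ (counitIso G').hom = (counitIso G).hom ≫ φ :=
  (sheafificationAdjunction (Opens.grothendieckTopology Y) AddCommGrpCat.{u}).counit.naturality φ

lemma counitIso_inv_naturality {G G' : CohTop.Ab Y} (φ : G ⟶ G') :
    φ ≫ (counitIso G').inv = (counitIso G).inv ≫ (shY).map φ.hom := by
  rw [Iso.comp_inv_eq, Category.assoc, counitIso_naturality, Iso.inv_hom_id_assoc]

/-- the sheaf-level map `f_* Q ⟶ sheafify (H^1(f⁻¹ -, A))` -/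
noncomputable def ρ : (CohTop.push f).obj S.X₃ ⟶ (shY).obj (Ppre f S.X₁ 1) :=
  (counitIso ((CohTop.push f).obj S.X₃)).inv ≫ (shY).map (apre f hS)

lemma epi_ρ : Epi (ρ f hS) := by
  have := epi_apre f hS
  have : Epi ((shY).map (apre f hS)) := inferInstance
  exact epi_comp _ _

lemma map_g_ρ : (CohTop.push f).map S.g ≫ ρ f hS = 0 := by
  rw [ρ, ← Category.assoc, counitIso_inv_naturality, Category.assoc, ← Functor.map_comp]
  have := map_g_apre f hS
  change ((CohTop.push f).map S.g).hom ≫ apre f hS = 0 at this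
  rw [this, Functor.map_zero, comp_zero]

lemma exact_ρ : (ShortComplex.mk _ _ (map_g_ρ f hS)).Exact := by
  have h1 : ((preSC f hS).map (shY (Y := Y))).Exact := (preSC_exact f hS).map _
  refine (ShortComplex.exact_iff_of_iso ?_).2 h1
  refine ShortComplex.isoMk (counitIso _).symm (counitIso _).symm (Iso.refl _) ?_ ?_
  · exact (counitIso_inv_naturality ((CohTop.push f).map S.g)).symm
  · exact (Category.comp_id _).symm

end DegreeOne


section Main

/-- degree zero: `V ↦ H^0(f⁻¹ V, F)` is the presheaf underlying `f_* F` -/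
noncomputable def preIso₀ (F : CohTop.Ab X) : ((CohTop.push f).obj F).obj ≅ Ppre f F 0 :=
  NatIso.ofComponents
    (fun V => (Leray.sectionsEquivH0 F ((Opens.map f).obj V.unop)).toAddCommGrpIso)
    (by
      intro V V' j
      ext t
      change Leray.sectionsEquivH0 F _ (F.obj.map ((Opens.map f).op.map j) t) =
        (Sheaf.cohomologyPresheaf.{u} F 0).map ((Opens.map f).op.map j)
          (Leray.sectionsEquivH0 F _ t)
      rw [cohomologyPresheaf_map_apply, Leray.sectionsEquivH0_apply, Leray.sectionsEquivH0_apply,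
        Ext.mk₀_comp_mk₀]
      congr 1
      exact ofSect_res F ((Opens.map f).op.map j).unop t)

instance : PreservesFiniteLimits (CohTop.push f) :=
  Groth.Agent.Lib.Cohomology.push_preservesFiniteLimits f

/-- `R^i f_* F` is the sheafification of `V ↦ H^i(f⁻¹ V, F)`, positive degrees. -/
theorem rpush_iso_sheafify_succ (i : ℕ) : ∀ F : CohTop.Ab X,
    Nonempty ((CohTop.Rpush f (i + 1)).obj F ≅ (shY).obj (Ppre f F (i + 1))) := by
  induction i with
  | zero =>
    intro F
    have hS := injSES_shortExact F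
    obtain ⟨π, w, hπ, hex⟩ :=
      Groth.Agent.Lib.Cohomology.RDShift.exists_rightDerived_one_cokernel hS (CohTop.push f)
    have := epi_ρ f hS
    have hex' := exact_ρ f hS
    exact ⟨IsColimit.coconePointUniqueUpToIso hex.gIsCokernel hex'.gIsCokernel⟩
  | succ i ih =>
    intro F
    have hS := injSES_shortExact F
    obtain ⟨e1⟩ := Groth.Agent.Lib.Cohomology.RDShift.rightDerived_shift hS (CohTop.push f) i
    obtain ⟨e2⟩ := ih (injSES F).X₃
    exact ⟨e1 ≪≫ e2 ≪≫ sheafifyδIso f hS i⟩

/-- `R^i f_* F` is the sheafification of `V ↦ H^i(f⁻¹ V, F)`. -/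
theorem rpush_iso_sheafify (i : ℕ) (F : CohTop.Ab X) :
    Nonempty ((CohTop.Rpush f i).obj F ≅ (shY).obj (Ppre f F i)) := by
  cases i with
  | zero =>
    exact ⟨(Functor.rightDerivedZeroIsoSelf (CohTop.push f)).app F ≪≫
      (counitIso ((CohTop.push f).obj F)).symm ≪≫ (shY).mapIso (preIso₀ f F)⟩
  | succ i => exact rpush_iso_sheafify_succ f i F

end Main

end Groth.Agent.Lib.Cohomology.RpushSh
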