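/-
Restriction to a basic open is a localization on cohomology (helper1).

`X` a quasi-separated scheme, `M` quasi-coherent, `g` a global function.  For every quasi-compact open
`W`, the restriction `H^n(W, M) → H^n(W ∩ X_g, M)` (as `Ext` groups out of the free sheaves `ℤ_W`) is a
localization at `g`: `g` acts bijectively on the target, every class of the target is a restriction up
to a power of `g`, and every class restricting to zero is killed by a power of `g`.
-/
import Groth.Agent.Lib.Cohomology.Helper1_LocRes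
import Groth.Agent.Lib.Cohomology.Helper1_LocBasic
import Groth.Agent.Lib.Cohomology.helper5_RpushSheafify

set_option autoImplicit false
universe u

namespace Groth.Agent.Lib.Cohomology.LocResCoh

open CategoryTheory CategoryTheory.Limits Opposite TopologicalSpace AlgebraicGeometry Abelian
open Groth.Agent.Lib.Cohomology.LocFive Groth.Agent.Lib.Cohomology.LocCoh
open Groth.Agent.Lib.Helper22 Groth.Agent.Lib.QCoh

variable {X : Scheme.{u}} (M : X.Modules) (g : Γ(X, ⊤))

/-- multiplication by `g` on the abelian sheaf underlying `M` -/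
noncomputable def aM : Coh.toAb M ⟶ Coh.toAb M := Coh.smulAb M g

lemma aM_eq : aM M g = Coh.smulAb M g := rfl

/-- the map `ℤ_{W'} ⟶ ℤ_W` for `W' ≤ W` -/
noncomputable abbrev resMap {W' W : X.Opens} (h : W' ≤ W) : zz W' ⟶ zz W :=
  CohCx.freeSheafMap (Opens.grothendieckTopology X) (homOfLE h)

lemma resMap_comp {W'' W' W : X.Opens} (h₁ : W'' ≤ W') (h₂ : W' ≤ W) :
    resMap h₁ ≫ resMap h₂ = resMap (h₁.trans h₂) := by
  unfold resMap CohCx.freeSheafMap
  rw [← Functor.map_comp, ← Functor.whiskerRight_comp, ← Functor.map_comp]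
  rfl

/-- restriction of sections -/
noncomputable def secRes {W' W : X.Opens} (h : W' ≤ W) :
    (Coh.toAb M).obj.obj (op W) →+ (Coh.toAb M).obj.obj (op W') :=
  ((Coh.toAb M).obj.map (homOfLE h).op).hom

lemma pre_e0 (F : CohTop.Ab X.toTopCat) {W' W : X.Opens} (h : W' ≤ W) (s : F.obj.obj (op W)) :
    LocRes.pre.{u} (resMap h) F 0 (e0 F W s) = e0 F W' (F.obj.map (homOfLE h).op s) := by
  rw [e0_apply, e0_apply, LocRes.pre_apply, Ext.mk₀_comp_mk₀, RpushSh.ofSect_res]
  rfl

/-- `Ext^n(ℤ_W, M) → Ext^n(ℤ_{W'}, M)` looks like a localization at `g`. -/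
def ResGood (W' W : X.Opens) : Prop :=
  ∃ h : W' ≤ W, ∀ n : ℕ, LocRes.Surj1.{u} (aM M g) (resMap h) n ∧
    LocRes.Ker1.{u} (aM M g) (resMap h) n

/-- `g` acts bijectively on `Ext^n(ℤ_{W'}, M)` -/
def Bij (W' : X.Opens) : Prop :=
  ∀ n : ℕ, Function.Bijective (LocRes.aE.{u} (aM M g) (zz W') n)

section Affine

open LocBasic

lemma fW_res {W' W : X.Opens} (h : W' ≤ W) :
    X.presheaf.map (homOfLE h).op (fW g W) = fW g W' := by
  rw [resX_resX]

variable [M.IsQuasicoherent]

lemma locKer_secRes (W : X.Opens) (hW : IsAffineOpen W) :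
    LocKer (sE g M W) (secRes M (X.basicOpen_le (fW g W))) := by
  intro s hs
  obtain ⟨n, hn⟩ := exists_pow_smul_eq_zero_of_isAffineOpen M hW (fW g W) s hs
  exact ⟨n, (sE_pow_apply g M W n s).trans hn⟩

lemma locSurj_secRes (W : X.Opens) (hW : IsAffineOpen W) :
    LocSurj (sE g M (X.basicOpen (fW g W))) (secRes M (X.basicOpen_le (fW g W))) := by
  intro y
  obtain ⟨n, x, hx⟩ := exists_pow_smul_eq_map_of_isAffineOpen M hW (fW g W) y
  refine ⟨n, x, ?_⟩
  rw [sE_pow_apply, ← fW_res g (X.basicOpen_le (fW g W))]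
  exact hx.symm

omit [M.IsQuasicoherent] in
lemma bijective_sE_basicOpen (W : X.Opens) :
    Function.Bijective (sE g M (X.basicOpen (fW g W))) := by
  have hu : IsUnit (fW g (X.basicOpen (fW g W))) := by
    rw [← fW_res g (X.basicOpen_le (fW g W))]
    exact X.toRingedSpace.isUnit_res_basicOpen (fW g W)
  obtain ⟨u, hu⟩ := hu
  have key : ∀ t : Γ(M, X.basicOpen (fW g W)),
      sE g M (X.basicOpen (fW g W)) t = (u : Γ(X, X.basicOpen (fW g W))) • t := by
    intro t
    rw [sE_apply, hu]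
  refine ⟨fun a b hab => ?_, fun b => ?_⟩
  · have h1 : (u : Γ(X, X.basicOpen (fW g W))) • a = (u : Γ(X, X.basicOpen (fW g W))) • b := by
      rw [← key, ← key, hab]
    have h2 := congrArg (fun z : Γ(M, X.basicOpen (fW g W)) =>
      ((u⁻¹ : (Γ(X, X.basicOpen (fW g W)))ˣ) : Γ(X, X.basicOpen (fW g W))) • z) h1
    simp only [← mul_smul, Units.inv_mul, one_smul] at h2
    exact h2
  · refine ⟨((u⁻¹ : (Γ(X, X.basicOpen (fW g W)))ˣ) : Γ(X, X.basicOpen (fW g W))) • b, ?_⟩
    rw [key, ← mul_smul, Units.mul_inv, one_smul]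

end Affine

section AffineExt

open LocBasic

lemma aE_e0 (W : X.Opens) (s : (Coh.toAb M).obj.obj (op W)) :
    LocRes.aE.{u} (aM M g) (zz W) 0 (e0 (Coh.toAb M) W s) =
      e0 (Coh.toAb M) W (sE g M W s) :=
  post_e0 (aM M g) W s

lemma aE_pow_e0 (W : X.Opens) (k : ℕ) (s : (Coh.toAb M).obj.obj (op W)) :
    (LocRes.aE.{u} (aM M g) (zz W) 0 ^ k) (e0 (Coh.toAb M) W s) =
      e0 (Coh.toAb M) W ((sE g M W ^ k) s) :=
  postEnd_pow_e0 (aM M g) W k s

variable [M.IsQuasicoherent]

theorem resGood_affine (W : X.Opens) (hW : IsAffineOpen W) :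
    ResGood M g (X.basicOpen (fW g W)) W := by
  refine ⟨X.basicOpen_le _, fun n => ?_⟩
  cases n with
  | zero =>
    constructor
    · intro y
      obtain ⟨t, rfl⟩ := (e0 (Coh.toAb M) (X.basicOpen (fW g W))).surjective y
      obtain ⟨k, x, hx⟩ := locSurj_secRes M g W hW t
      refine ⟨k, e0 (Coh.toAb M) W x, ?_⟩
      rw [aE_pow_e0, hx, pre_e0]
      rfl
    · intro x hx
      obtain ⟨s, rfl⟩ := (e0 (Coh.toAb M) W).surjective x
      rw [pre_e0] at hx
      have h0 : secRes M (X.basicOpen_le (fW g W)) s = 0 := by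
        apply (e0 (Coh.toAb M) (X.basicOpen (fW g W))).injective
        rw [map_zero]
        exact hx
      obtain ⟨k, hk⟩ := locKer_secRes M g W hW s h0
      exact ⟨k, (aE_pow_e0 M g W k s).trans ((congrArg (e0 (Coh.toAb M) W) hk).trans (map_zero _))⟩
  | succ n =>
    have h1 : Subsingleton (Ext.{u} (zz W) (Coh.toAb M) (n + 1)) := by
      rw [← Leray.HU_eq]
      exact HU_succ_subsingleton_of_isAffineOpen M W hW n
    have h2 : Subsingleton (Ext.{u} (zz (X.basicOpen (fW g W))) (Coh.toAb M) (n + 1)) := by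
      rw [← Leray.HU_eq]
      exact HU_succ_subsingleton_of_isAffineOpen M _ (hW.basicOpen _) n
    exact ⟨locSurj_of_subsingleton _ _, locKer_of_subsingleton _ _⟩

theorem bij_affine (W : X.Opens) (hW : IsAffineOpen W) : Bij M g (X.basicOpen (fW g W)) := by
  intro n
  cases n with
  | zero =>
    have hb := bijective_sE_basicOpen M g W
    constructor
    · intro x y hxy
      obtain ⟨s, rfl⟩ := (e0 (Coh.toAb M) (X.basicOpen (fW g W))).surjective x
      obtain ⟨t, rfl⟩ := (e0 (Coh.toAb M) (X.basicOpen (fW g W))).surjective y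
      rw [aE_e0, aE_e0] at hxy
      rw [hb.1 ((e0 (Coh.toAb M) (X.basicOpen (fW g W))).injective hxy)]
    · intro y
      obtain ⟨t, rfl⟩ := (e0 (Coh.toAb M) (X.basicOpen (fW g W))).surjective y
      obtain ⟨s, hs⟩ := hb.2 t
      exact ⟨e0 (Coh.toAb M) _ s, (aE_e0 M g _ s).trans (congrArg (e0 (Coh.toAb M) _) hs)⟩
  | succ n =>
    have h2 : Subsingleton (Ext.{u} (zz (X.basicOpen (fW g W))) (Coh.toAb M) (n + 1)) := by
      rw [← Leray.HU_eq]
      exact HU_succ_subsingleton_of_isAffineOpen M _ (hW.basicOpen _) n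
    exact ⟨fun x y _ => Subsingleton.elim x y, fun y => ⟨0, Subsingleton.elim _ _⟩⟩

end AffineExt

section Induction

/-- Generic induction over quasi-compact opens of a quasi-separated scheme. -/
theorem qc_induction [QuasiSeparatedSpace X] (P : X.Opens → Prop)
    (hsup : ∀ U V, P U → P V → P (U ⊓ V) → P (U ⊔ V))
    (hA : ∀ W : X.Opens, IsAffineOpen W → P W) (W : X.Opens) (hW : IsCompact (W : Set X)) :
    P W := by
  have h1 : ∀ {U₀ : X.Opens} (_ : IsAffineOpen U₀) (Z : X.Opens) (_ : Z ≤ U₀)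
      (_ : IsCompact (Z : Set X)), P Z := by
    intro U₀ hU₀ Z hZ hZc
    obtain ⟨s, g, rfl⟩ := exists_fin_basicOpen_cover hU₀ Z hZ hZc
    refine induction_iSup P hsup
      (Set.range (fun g : Γ(X, U₀) => X.basicOpen g)) ?_ ?_ s (fun k => X.basicOpen (g k))
      (fun k => ⟨g k, rfl⟩)
    · rintro _ ⟨a, rfl⟩ _ ⟨b, rfl⟩
      exact ⟨a * b, X.basicOpen_mul a b⟩
    · rintro _ ⟨a, rfl⟩
      exact hA _ (hU₀.basicOpen a)
  have h2 : ∀ (t : ℕ) (U : Fin (t + 1) → X.Opens), (∀ i, IsAffineOpen (U i)) → P (⨆ i, U i) := by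
    intro t
    induction t with
    | zero =>
      intro U hU
      have : ⨆ i, U i = U 0 := by
        rw [iSup_fin_succ']
        simp
      rw [this]
      exact hA _ (hU 0)
    | succ t ih =>
      intro U hU
      have hW'c : IsCompact ((⨆ i : Fin (t + 1), U i.succ : X.Opens) : Set X) := by
        rw [Opens.coe_iSup]
        exact isCompact_iUnion (fun i => (hU i.succ).isCompact)
      have hZc : IsCompact ((U 0 ⊓ ⨆ i : Fin (t + 1), U i.succ : X.Opens) : Set X) := by
        rw [Opens.coe_inf]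
        exact QuasiSeparatedSpace.inter_isCompact _ _ (U 0).isOpen (hU 0).isCompact
          (Opens.isOpen _) hW'c
      rw [iSup_fin_succ']
      exact hsup _ _ (hA _ (hU 0)) (ih (fun i => U i.succ) (fun i => hU i.succ))
        (h1 (hU 0) _ inf_le_left hZc)
  obtain ⟨r, U, hU, -, rfl⟩ := exists_fin_affine_cover W hW
  exact h2 r U hU

end Induction

section MV

/-- the morphism of Mayer–Vietoris short complexes induced by `U' ≤ U`, `V' ≤ V` -/
noncomputable def mvMap {U' U V' V : X.Opens} (hU : U' ≤ U) (hV : V' ≤ V) :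
    (Opens.mayerVietorisSquare U' V').shortComplex ⟶
      (Opens.mayerVietorisSquare U V).shortComplex where
  τ₁ := resMap (inf_le_inf hU hV)
  τ₂ := biprod.map (resMap hU) (resMap hV)
  τ₃ := resMap (sup_le_sup hU hV)
  comm₁₂ := by
    change resMap (inf_le_inf hU hV) ≫
        biprod.lift (resMap (inf_le_left : U ⊓ V ≤ U)) (-(resMap (inf_le_right : U ⊓ V ≤ V))) =
      biprod.lift (resMap (inf_le_left : U' ⊓ V' ≤ U')) (-(resMap (inf_le_right : U' ⊓ V' ≤ V'))) ≫
        biprod.map (resMap hU) (resMap hV)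
    apply biprod.hom_ext
    · simp only [Category.assoc, biprod.lift_fst, biprod.map_fst, biprod.lift_fst_assoc]
      exact (resMap_comp _ _).trans (resMap_comp _ _).symm
    · simp only [Category.assoc, biprod.lift_snd, biprod.map_snd, biprod.lift_snd_assoc,
        Preadditive.neg_comp, Preadditive.comp_neg]
      congr 1
      exact (resMap_comp _ _).trans (resMap_comp _ _).symm
  comm₂₃ := by
    change biprod.map (resMap hU) (resMap hV) ≫
        biprod.desc (resMap (le_sup_left : U ≤ U ⊔ V)) (resMap (le_sup_right : V ≤ U ⊔ V)) =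
      biprod.desc (resMap (le_sup_left : U' ≤ U' ⊔ V')) (resMap (le_sup_right : V' ≤ U' ⊔ V')) ≫
        resMap (sup_le_sup hU hV)
    apply biprod.hom_ext'
    · simp only [biprod.inl_desc_assoc, biprod.inl_map_assoc, biprod.inl_desc]
      exact (resMap_comp _ _).trans (resMap_comp _ _).symm
    · simp only [biprod.inr_desc_assoc, biprod.inr_map_assoc, biprod.inr_desc]
      exact (resMap_comp _ _).trans (resMap_comp _ _).symm

theorem resGood_sup {U' U V' V : X.Opens} (hU : ResGood M g U' U) (hV : ResGood M g V' V)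
    (hUV : ResGood M g (U' ⊓ V') (U ⊓ V)) : ResGood M g (U' ⊔ V') (U ⊔ V) := by
  obtain ⟨hU', hU⟩ := hU
  obtain ⟨hV', hV⟩ := hV
  obtain ⟨hUV', hUV⟩ := hUV
  refine ⟨sup_le_sup hU' hV', ?_⟩
  have hS' := (Opens.mayerVietorisSquare U' V').shortComplex_shortExact
  have hS := (Opens.mayerVietorisSquare U V).shortComplex_shortExact
  let τ := mvMap hU' hV'
  have s₂ : ∀ n, LocRes.Surj1.{u} (aM M g) τ.τ₂ n := fun n =>
    LocRes.surj_biprod _ _ _ n (hU n).1 (hV n).1
  have k₂ : ∀ n, LocRes.Ker1.{u} (aM M g) τ.τ₂ n := fun n =>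
    LocRes.ker_biprod _ _ _ n (hU n).2 (hV n).2
  have s₁ : ∀ n, LocRes.Surj1.{u} (aM M g) τ.τ₁ n := fun n => (hUV n).1
  have k₁ : ∀ n, LocRes.Ker1.{u} (aM M g) τ.τ₁ n := fun n => (hUV n).2
  intro n
  cases n with
  | zero =>
    exact ⟨LocRes.surj_X₃_zero _ hS' hS τ (s₂ 0) (k₁ 0), LocRes.ker_X₃_zero _ hS τ (k₂ 0)⟩
  | succ n =>
    exact ⟨LocRes.surj_X₃_succ _ hS' hS τ n (s₁ n) (s₂ (n + 1)) (k₁ (n + 1)),
      LocRes.ker_X₃_succ _ hS' hS τ n (s₂ n) (k₁ n) (k₂ (n + 1))⟩

/-- the data `(𝟙, 𝟙, g)`, for which `Surj`/`Ker` mean surjectivity/injectivity of `g` on `Ext` -/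
noncomputable def bijData : LocExt.Data (Coh.toAb M) (Coh.toAb M) where
  a := 𝟙 _
  b := 𝟙 _
  η := aM M g
  comm := by simp

lemma bE_pow_apply (A : CohTop.Ab X.toTopCat) (n k : ℕ) (x : Ext.{u} A (Coh.toAb M) n) :
    ((bijData M g).bE A n ^ k) x = x := by
  induction k with
  | zero => rfl
  | succ k ih =>
    rw [pow_succ]
    change ((bijData M g).bE A n ^ k) ((bijData M g).bE A n x) = x
    have : (bijData M g).bE A n x = x := by
      change x.comp (Ext.mk₀ (𝟙 _)) (add_zero n) = x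
      rw [Ext.comp_mk₀_id]
    rw [this, ih]

lemma aE_pow_apply' (A : CohTop.Ab X.toTopCat) (n k : ℕ) (x : Ext.{u} A (Coh.toAb M) n) :
    ((bijData M g).aE A n ^ k) x = x :=
  bE_pow_apply M g A n k x

lemma bijective_iff (A : CohTop.Ab X.toTopCat) (n : ℕ) :
    Function.Bijective (LocRes.aE.{u} (aM M g) A n) ↔
      (bijData M g).Surj A n ∧ (bijData M g).Ker A n := by
  constructor
  · rintro ⟨hi, hs⟩
    refine ⟨fun y => ?_, fun x hx => ?_⟩
    · obtain ⟨x, hx⟩ := hs y
      exact ⟨0, x, hx.symm⟩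
    · refine ⟨0, ?_⟩
      apply hi
      rw [map_zero]
      exact hx
  · rintro ⟨hs, hk⟩
    refine ⟨?_, fun y => ?_⟩
    · rw [injective_iff_map_eq_zero]
      intro x hx
      obtain ⟨k, hk'⟩ := hk x hx
      rwa [aE_pow_apply'] at hk'
    · obtain ⟨k, x, hx⟩ := hs y
      rw [bE_pow_apply] at hx
      exact ⟨x, hx.symm⟩

theorem bij_sup {U' V' : X.Opens} (hU : Bij M g U') (hV : Bij M g V') (hUV : Bij M g (U' ⊓ V')) :
    Bij M g (U' ⊔ V') := by
  let S := Opens.mayerVietorisSquare U' V'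
  have hS := S.shortComplex_shortExact
  have hU' := fun n => (bijective_iff M g (zz U') n).1 (hU n)
  have hV' := fun n => (bijective_iff M g (zz V') n).1 (hV n)
  have hUV' := fun n => (bijective_iff M g (zz (U' ⊓ V')) n).1 (hUV n)
  have s₂ : ∀ n, LocExt.Data.Surj.{u} (bijData M g) S.shortComplex.X₂ n := fun n =>
    LocExt.Data.surj_biprod _ _ _ n (hU' n).1 (hV' n).1
  have k₂ : ∀ n, LocExt.Data.Ker.{u} (bijData M g) S.shortComplex.X₂ n := fun n =>
    LocExt.Data.ker_biprod _ _ _ n (hU' n).2 (hV' n).2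
  have s₁ : ∀ n, LocExt.Data.Surj.{u} (bijData M g) S.shortComplex.X₁ n := fun n => (hUV' n).1
  have k₁ : ∀ n, LocExt.Data.Ker.{u} (bijData M g) S.shortComplex.X₁ n := fun n => (hUV' n).2
  intro n
  rw [bijective_iff]
  cases n with
  | zero =>
    exact ⟨LocExt.Data.surj_X₃_zero _ hS (s₂ 0) (k₁ 0), LocExt.Data.ker_X₃_zero _ hS (k₂ 0)⟩
  | succ n =>
    exact ⟨LocExt.Data.surj_X₃_succ _ hS n (s₁ n) (s₂ (n + 1)) (k₁ (n + 1)),
      LocExt.Data.ker_X₃_succ _ hS n (s₂ n) (k₁ n) (k₂ (n + 1))⟩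

end MV

section Main

variable [M.IsQuasicoherent]

/-- **Restriction to `X_g` is a localization at `g`** on the cohomology of quasi-compact opens. -/
theorem resGood_bij_of_isCompact [QuasiSeparatedSpace X] (W : X.Opens)
    (hW : IsCompact (W : Set X)) :
    ResGood M g (W ⊓ X.basicOpen g) W ∧ Bij M g (W ⊓ X.basicOpen g) := by
  refine qc_induction (fun W => ResGood M g (W ⊓ X.basicOpen g) W ∧ Bij M g (W ⊓ X.basicOpen g))
    ?_ ?_ W hW
  · intro U V hU hV hUV
    have eq1 : (U ⊓ V) ⊓ X.basicOpen g = (U ⊓ X.basicOpen g) ⊓ (V ⊓ X.basicOpen g) :=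
      inf_inf_distrib_right U V (X.basicOpen g)
    have eq2 : (U ⊔ V) ⊓ X.basicOpen g = (U ⊓ X.basicOpen g) ⊔ (V ⊓ X.basicOpen g) :=
      inf_sup_right U V (X.basicOpen g)
    rw [eq1] at hUV
    rw [eq2]
    exact ⟨resGood_sup M g hU.1 hV.1 hUV.1, bij_sup M g hU.2 hV.2 hUV.2⟩
  · intro W hW
    have e : X.basicOpen (LocBasic.fW g W) = W ⊓ X.basicOpen g := Scheme.basicOpen_res _ _ _
    rw [← e]
    exact ⟨resGood_affine M g W hW, bij_affine M g W hW⟩

end Main

end Groth.Agent.Lib.Cohomology.LocResCoh
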