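/-
Cohomology presheaf of the restriction of an abelian sheaf to an open subspace, part A (helper1).

`X` a topological space, `U` an open, `F` an abelian sheaf on `X`.  The presheaf
`W ↦ H^q(W, F|_U)` on `U` is naturally isomorphic to `W ↦ H^q(j W, F)`, `j W` the image of `W` in `X`.
-/
import Groth.Agent.Lib.Cohomology.Helper1_ExtPsi
import Groth.Agent.Lib.Cohomology.helper5_Restr
import Groth.Agent.Lib.Cohomology.helper5_RpushSheafify

set_option autoImplicit false
universe u

namespace Groth.Agent.Lib.Cohomology.RestrPresheaf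

open CategoryTheory CategoryTheory.Limits Opposite TopologicalSpace Abelian
open Groth.Agent.Lib.Cohomology.ExtPsi Groth.Agent.Lib.Cohomology.Restr

variable {X : TopCat.{u}} (U : Opens X)

/-- the image functor `Opens U ⥤ Opens X` -/
abbrev jj : Opens (TopCat.of U) ⥤ Opens X := U.isOpenEmbedding.isOpenMap.functor

/-- the free sheaf on `X` -/
noncomputable abbrev zX (W : Opens X) : CohTop.Ab X :=
  CohCx.freeSheaf (Opens.grothendieckTopology X) W

/-- the free sheaf on `U` -/
noncomputable abbrev zU (W : Opens (TopCat.of U)) : CohTop.Ab (TopCat.of U) :=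
  CohCx.freeSheaf (Opens.grothendieckTopology (TopCat.of U)) W

/-- the canonical section of `(ℤ_{jW})|_U` over `W` -/
noncomputable def genU (W : Opens (TopCat.of U)) :
    ((CohTop.restrFunctor U).obj (zX ((jj U).obj W))).obj.obj (op W) :=
  CohFree.gen (Opens.grothendieckTopology X) ((jj U).obj W)

/-- the canonical map `ℤ_W ⟶ (ℤ_{jW})|_U` -/
noncomputable def cc (W : Opens (TopCat.of U)) :
    zU U W ⟶ (CohTop.restrFunctor U).obj (zX ((jj U).obj W)) :=
  CohFree.ofSect (Opens.grothendieckTopology (TopCat.of U)) W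
    ((CohTop.restrFunctor U).obj (zX ((jj U).obj W))) (genU U W)

/-- sections of `Z|_U` over `W` are sections of `Z` over `jW` -/
def toX {Z : CohTop.Ab X} {W : Opens (TopCat.of U)}
    (s : ((CohTop.restrFunctor U).obj Z).obj.obj (op W)) : Z.obj.obj (op ((jj U).obj W)) := s

lemma evalGen_cc_comp (W : Opens (TopCat.of U)) {Z : CohTop.Ab X} (φ : zX ((jj U).obj W) ⟶ Z) :
    toX U (CohFree.evalGen (Opens.grothendieckTopology (TopCat.of U)) W
      ((CohTop.restrFunctor U).obj Z) (cc U W ≫ (CohTop.restrFunctor U).map φ)) =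
    CohFree.evalGen (Opens.grothendieckTopology X) ((jj U).obj W) Z φ := by
  rw [evalGen_comp, cc, CohFree.evalGen_ofSect]
  rfl

lemma cc_bijective (W : Opens (TopCat.of U)) (Z : CohTop.Ab X) :
    Function.Bijective (fun φ : zX ((jj U).obj W) ⟶ Z => cc U W ≫ (CohTop.restrFunctor U).map φ) := by
  constructor
  · intro φ ψ h
    simp only at h
    apply (CohFree.homEquivSect (Opens.grothendieckTopology X) ((jj U).obj W) Z).injective
    rw [CohFree.homEquivSect_apply, CohFree.homEquivSect_apply, ← evalGen_cc_comp U W φ,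
      ← evalGen_cc_comp U W ψ, h]
  · intro ψ
    let s : Z.obj.obj (op ((jj U).obj W)) :=
      toX U (CohFree.evalGen (Opens.grothendieckTopology (TopCat.of U)) W
        ((CohTop.restrFunctor U).obj Z) ψ)
    refine ⟨CohFree.ofSect (Opens.grothendieckTopology X) ((jj U).obj W) Z s, ?_⟩
    apply (CohFree.homEquivSect (Opens.grothendieckTopology (TopCat.of U)) W
      ((CohTop.restrFunctor U).obj Z)).injective
    rw [CohFree.homEquivSect_apply, CohFree.homEquivSect_apply]
    have := evalGen_cc_comp U W (CohFree.ofSect (Opens.grothendieckTopology X) ((jj U).obj W) Z s)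
    rw [CohFree.evalGen_ofSect] at this
    exact this

lemma cc_naturality {W₁ W₂ : Opens (TopCat.of U)} (i : W₁ ⟶ W₂) :
    cc U W₁ ≫ (CohTop.restrFunctor U).map
        (CohCx.freeSheafMap (Opens.grothendieckTopology X) ((jj U).map i)) =
      CohCx.freeSheafMap (Opens.grothendieckTopology (TopCat.of U)) i ≫ cc U W₂ := by
  apply (CohFree.homEquivSect (Opens.grothendieckTopology (TopCat.of U)) W₁ _).injective
  rw [CohFree.homEquivSect_apply, CohFree.homEquivSect_apply]
  have h1 := evalGen_cc_comp U W₁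
    (CohCx.freeSheafMap (Opens.grothendieckTopology X) ((jj U).map i))
  refine h1.trans ?_
  rw [CohFree.evalGen_freeSheafMap_comp, cc, CohFree.evalGen_ofSect]
  have := CohFree.evalGen_freeSheafMap_comp (Opens.grothendieckTopology X) ((jj U).map i)
    (zX ((jj U).obj W₂)) (𝟙 _)
  rw [Category.comp_id] at this
  refine this.trans ?_
  rfl

lemma acyc (W : Opens (TopCat.of U)) (I : CohTop.Ab X) [Injective I] (n : ℕ)
    (y : Ext.{u} (zU U W) ((CohTop.restrFunctor U).obj I) (n + 1)) : y = 0 := by
  have h1 : TopCat.Sheaf.IsFlasque I := Groth.Agent.Lib.Cohomology.isFlasque_of_injective I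
  have h2 : TopCat.Sheaf.IsFlasque (CohTop.restr I U) := isFlasque_restr U I
  have h3 := Groth.Agent.Lib.Cohomology.HU_succ_subsingleton_of_flasque (CohTop.restr I U) W n
  exact Subsingleton.elim (α := CohTop.HU (CohTop.restr I U) (n + 1) W) y 0

/-- `Ext^q(ℤ_{jW}, F) → Ext^q(ℤ_W, F|_U)` -/
noncomputable def κ (F : CohTop.Ab X) (q : ℕ) (W : Opens (TopCat.of U)) :
    Ext.{u} (zX ((jj U).obj W)) F q →+ Ext.{u} (zU U W) ((CohTop.restrFunctor U).obj F) q :=
  psi (CohTop.restrFunctor U) (cc U W) F q

lemma κ_bijective (F : CohTop.Ab X) (q : ℕ) (W : Opens (TopCat.of U)) :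
    Function.Bijective (κ U F q W) :=
  psi_bijective (CohTop.restrFunctor U) (cc U W) (cc_bijective U W)
    (fun I _ n y => acyc U W I n y) q F

end Groth.Agent.Lib.Cohomology.RestrPresheaf
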