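/-
Part B of `Helper1_RestrPresheaf` (helper1): naturality of `κ` (split off: slow in the kernel).
-/
import Groth.Agent.Lib.Cohomology.Helper1_RestrPresheafA

set_option autoImplicit false
universe u

namespace Groth.Agent.Lib.Cohomology.RestrPresheaf

open CategoryTheory CategoryTheory.Limits Opposite TopologicalSpace Abelian
open Groth.Agent.Lib.Cohomology.ExtPsi Groth.Agent.Lib.Cohomology.Restr

variable {X : TopCat.{u}} (U : Opens X)

/-- the component isomorphisms of `presheafIso` -/
noncomputable def κIso (F : CohTop.Ab X) (q : ℕ) (W : (Opens (TopCat.of U))ᵒᵖ) :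
    ((jj U).op ⋙ Sheaf.cohomologyPresheaf.{u} F q).obj W ≅
      (Sheaf.cohomologyPresheaf.{u} ((CohTop.restrFunctor U).obj F) q).obj W :=
  (AddEquiv.ofBijective (κ U F q W.unop) (κ_bijective U F q W.unop)).toAddCommGrpIso

lemma κIso_naturality (F : CohTop.Ab X) (q : ℕ) {W₁ W₂ : (Opens (TopCat.of U))ᵒᵖ} (i : W₁ ⟶ W₂) :
    ((jj U).op ⋙ Sheaf.cohomologyPresheaf.{u} F q).map i ≫ (κIso U F q W₂).hom =
      (κIso U F q W₁).hom ≫
        (Sheaf.cohomologyPresheaf.{u} ((CohTop.restrFunctor U).obj F) q).map i := by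
  ext x
  change κ U F q W₂.unop ((Ext.mk₀ (CohCx.freeSheafMap (Opens.grothendieckTopology X)
      ((jj U).map i.unop))).comp (show Ext.{u} (zX ((jj U).obj W₁.unop)) F q from x) (zero_add q)) =
    (Ext.mk₀ (CohCx.freeSheafMap (Opens.grothendieckTopology (TopCat.of U)) i.unop)).comp
      (κ U F q W₁.unop x) (zero_add q)
  exact psi_precomp (CohTop.restrFunctor U) (cc U W₁.unop) (cc U W₂.unop) _ _
    (cc_naturality U i.unop) F q x

end Groth.Agent.Lib.Cohomology.RestrPresheaf
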