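/-
Cohomology presheaf of the restriction of an abelian sheaf to an open subspace (helper1).

`X` a topological space, `U` an open, `F` an abelian sheaf on `X`.  The presheaf
`W ↦ H^q(W, F|_U)` on `U` is naturally isomorphic to `W ↦ H^q(j W, F)`, `j W` the image of `W` in `X`.
(Split into parts A, B and this file to keep kernel checking time per module small.)
-/
import Groth.Agent.Lib.Cohomology.Helper1_RestrPresheafB

set_option autoImplicit false
universe u

namespace Groth.Agent.Lib.Cohomology.RestrPresheaf

open CategoryTheory CategoryTheory.Limits Opposite TopologicalSpace Abelian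
open Groth.Agent.Lib.Cohomology.ExtPsi Groth.Agent.Lib.Cohomology.Restr

variable {X : TopCat.{u}} (U : Opens X)

/-- **the natural isomorphism** `(W ↦ H^q(jW, F)) ≅ (W ↦ H^q(W, F|_U))` of presheaves on `U` -/
noncomputable def presheafIso (F : CohTop.Ab X) (q : ℕ) :
    (jj U).op ⋙ Sheaf.cohomologyPresheaf.{u} F q ≅
      Sheaf.cohomologyPresheaf.{u} ((CohTop.restrFunctor U).obj F) q :=
  NatIso.ofComponents (κIso U F q) (fun i => κIso_naturality U F q i)

end Groth.Agent.Lib.Cohomology.RestrPresheaf
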