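/-
Sheafification of a presheaf which is "quasi-coherent on basic opens" (helper1).

`P` a presheaf of abelian groups on a space `Y`, with compatible module structures over a commutative ring
`R`, and a family of "basic opens" `D : R → Opens Y` behaving like the basic opens of an affine scheme.
If restriction `P(D a) → P(D a ⊓ D c)` is a localization at `c` for all `a`, `c`, then
`P(D a) → P^#(D a)` is bijective (`Hyp.bijective_toSheafify`).
-/
import Groth.Prelude.Def_CohTop
import Mathlib.Algebra.Module.Torsion.Basic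
import Mathlib.CategoryTheory.Sites.LocallyBijective

set_option autoImplicit false
universe u

namespace Groth.Agent.Lib.Cohomology.SheafifyGlue

open CategoryTheory Limits Opposite TopologicalSpace

variable {Y : TopCat.{u}} (P : (Opens Y)ᵒᵖ ⥤ AddCommGrpCat.{u})

/-- the sheafification of `P` -/
noncomputable abbrev shf : TopCat.Sheaf AddCommGrpCat.{u} Y :=
  (presheafToSheaf (Opens.grothendieckTopology Y) AddCommGrpCat.{u}).obj P

/-- the canonical map to the sheafification -/
noncomputable abbrev θ : P ⟶ (shf P).obj := toSheafify (Opens.grothendieckTopology Y) P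

/-- restriction maps -/
noncomputable def res {V' V : Opens Y} (h : V' ≤ V) : P.obj (op V) →+ P.obj (op V') :=
  (P.map (homOfLE h).op).hom

lemma res_res {V'' V' V : Opens Y} (h₁ : V'' ≤ V') (h₂ : V' ≤ V) (x : P.obj (op V)) :
    res P h₁ (res P h₂ x) = res P (h₁.trans h₂) x := by
  unfold res
  rw [← AddCommGrpCat.comp_apply, ← P.map_comp]
  rfl

lemma θ_res {V' V : Opens Y} (h : V' ≤ V) (x : P.obj (op V)) :
    (θ P).app (op V') (res P h x) = res (shf P).obj h ((θ P).app (op V) x) := by
  have := congr($((θ P).naturality (homOfLE h).op) x)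
  exact this

variable {R : Type u} [CommRing R] [∀ V : Opens Y, Module R (P.obj (op V))] (D : R → Opens Y)

/-- The hypotheses: `D` behaves like the basic opens of an affine scheme and `P` is a localization on them. -/
structure Hyp : Prop where
  lin : ∀ {V' V : Opens Y} (h : V' ≤ V) (r : R) (x : P.obj (op V)), res P h (r • x) = r • res P h x
  mul : ∀ a b, D (a * b) = D a ⊓ D b
  basis : ∀ (y : Y) (U : Opens Y), y ∈ U → ∃ b, y ∈ D b ∧ D b ≤ U
  compact : ∀ a, IsCompact (D a : Set Y)
  cov : ∀ a (I : Ideal R), (∀ y ∈ D a, ∃ c ∈ I, y ∈ D c) → ∃ K : ℕ, a ^ K ∈ I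
  ker : ∀ a c (s : P.obj (op (D a))), res P (inf_le_left : D a ⊓ D c ≤ D a) s = 0 →
    ∃ k : ℕ, c ^ k • s = 0
  surj : ∀ a c (t : P.obj (op (D a ⊓ D c))), ∃ (k : ℕ) (s : P.obj (op (D a))),
    c ^ k • t = res P inf_le_left s
  bij : ∀ a, Function.Bijective (fun s : P.obj (op (D a)) => a • s)

namespace Hyp

variable {P D} (H : Hyp P D)
include H

lemma D_pow (c : R) (k : ℕ) : D (c ^ (k + 1)) = D c := by
  induction k with
  | zero => rw [zero_add, pow_one]
  | succ k ih => rw [pow_succ, H.mul, ih, inf_idem]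

lemma pow_smul_injective (a : R) (K : ℕ) :
    Function.Injective (fun s : P.obj (op (D a)) => a ^ K • s) := by
  induction K with
  | zero => intro x y h; simpa using h
  | succ K ih =>
    intro x y h
    apply ih
    apply (H.bij a).1
    simp only [← mul_smul, ← pow_succ'] at h ⊢
    exact h

lemma pow_smul_surjective (a : R) (K : ℕ) :
    Function.Surjective (fun s : P.obj (op (D a)) => a ^ K • s) := by
  induction K with
  | zero => intro x; exact ⟨x, by simp⟩
  | succ K ih =>
    intro x
    obtain ⟨y, hy⟩ := (H.bij a).2 x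
    obtain ⟨z, hz⟩ := ih y
    refine ⟨z, ?_⟩
    simp only at hy hz ⊢
    rw [pow_succ', mul_smul, hz, hy]

/-- injectivity of `d • -` on `P(V)` for `V = D (c * d)` -/
lemma smul_injective_of_eq (V : Opens Y) (c d : R) (hV : V = D (c * d)) :
    Function.Injective (fun s : P.obj (op V) => d • s) := by
  subst hV
  intro x y h
  apply (H.bij (c * d)).1
  simp only at h ⊢
  rw [mul_smul, mul_smul, h]

lemma pow_smul_injective_of_eq (V : Opens Y) (c d : R) (hV : V = D (c * d)) (K : ℕ) :
    Function.Injective (fun s : P.obj (op V) => d ^ K • s) := by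
  induction K with
  | zero => intro x y h; simpa using h
  | succ K ih =>
    intro x y h
    apply ih
    apply H.smul_injective_of_eq V c d hV
    simp only [← mul_smul, ← pow_succ'] at h ⊢
    exact h

/-- sections of `P` over `V = D c` dying in the sheafification vanish -/
theorem eq_zero_of_θ_eq_zero (V : Opens Y) (a : R) (hV : V = D a) (s : P.obj (op V))
    (hs : (θ P).app (op V) s = 0) : s = 0 := by
  subst hV
  have hloc := Presheaf.equalizerSieve_mem (Opens.grothendieckTopology Y) (θ P) (X := op (D a)) s 0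
    (by rw [hs, map_zero])
  have key : ∀ y ∈ D a, ∃ c ∈ Ideal.torsionOf R (P.obj (op (D a))) s, y ∈ D c := by
    intro y hy
    obtain ⟨U, i, hi, hyU⟩ := hloc y hy
    obtain ⟨c, hyc, hcU⟩ := H.basis y U hyU
    have hi' : res P i.le s = 0 := by
      have : P.map i.op s = P.map i.op 0 := hi
      rw [map_zero] at this
      exact this
    have h2 : res P (inf_le_left : D a ⊓ D c ≤ D a) s = 0 := by
      have := congrArg (res P (inf_le_right.trans hcU : D a ⊓ D c ≤ U)) hi'
      rw [res_res, map_zero] at this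
      exact this
    obtain ⟨k, hk⟩ := H.ker a c s h2
    refine ⟨c ^ (k + 1), ?_, ?_⟩
    · rw [Ideal.mem_torsionOf_iff, pow_succ', mul_smul, hk, smul_zero]
    · rw [H.D_pow]
      exact hyc
  obtain ⟨K, hK⟩ := H.cov a _ key
  rw [Ideal.mem_torsionOf_iff] at hK
  apply H.pow_smul_injective a K
  simp only
  rw [hK, smul_zero]

theorem injective_θ (V : Opens Y) (a : R) (hV : V = D a) :
    Function.Injective ((θ P).app (op V)) := by
  intro x y hxy
  have := H.eq_zero_of_θ_eq_zero V a hV (x - y) (by rw [map_sub, hxy, sub_self])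
  exact sub_eq_zero.1 this

/-- `D c ≤ D a ⊓ D (b * c)`-type inequalities -/
lemma inf_mul_le_left (a b c : R) : D a ⊓ D (b * c) ≤ D a ⊓ D b := by
  rw [H.mul]
  exact le_inf inf_le_left (inf_le_right.trans inf_le_left)

lemma inf_mul_le_right (a b c : R) : D a ⊓ D (b * c) ≤ D a ⊓ D c := by
  rw [H.mul]
  exact le_inf inf_le_left (inf_le_right.trans inf_le_right)

theorem surjective_θ (a : R) : Function.Surjective ((θ P).app (op (D a))) := by
  classical
  intro σ
  have hloc := Presheaf.imageSieve_mem (Opens.grothendieckTopology Y) (θ P) (U := op (D a)) σ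
  -- local lifts on basic opens
  have hx : ∀ y : D a, ∃ (b : R) (ξ : P.obj (op (D a ⊓ D b))), (y : Y) ∈ D b ∧
      (θ P).app (op (D a ⊓ D b)) ξ = res (shf P).obj inf_le_left σ := by
    intro y
    obtain ⟨U, i, ⟨t, ht⟩, hyU⟩ := hloc y y.2
    obtain ⟨b, hyb, hbU⟩ := H.basis y U hyU
    refine ⟨b, res P (inf_le_right.trans hbU) t, hyb, ?_⟩
    rw [θ_res]
    have ht' : (θ P).app (op U) t = res (shf P).obj i.le σ := ht
    rw [ht', res_res]
  choose b ξ hyb hξ using hx
  -- finite subcover
  obtain ⟨t, ht⟩ := (H.compact a).elim_finite_subcover (fun y : D a => ((D (b y) : Opens Y) : Set Y))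
    (fun y => (D (b y)).isOpen) (fun y hy => Set.mem_iUnion.2 ⟨⟨y, hy⟩, hyb ⟨y, hy⟩⟩)
  have hcover : ∀ p ∈ D a, ∃ y ∈ t, p ∈ D (b y) := by
    intro p hp
    obtain ⟨y, hy⟩ := Set.mem_iUnion.1 (ht hp)
    obtain ⟨hyt, hpy⟩ := Set.mem_iUnion.1 hy
    exact ⟨y, hyt, hpy⟩
  -- extend after multiplying by powers
  have hn : ∀ y : D a, ∃ (k : ℕ) (n : P.obj (op (D a))),
      b y ^ k • ξ y = res P inf_le_left n := fun y => H.surj a (b y) (ξ y)
  choose k n hkn using hn
  -- compatibility on overlaps
  have hov : ∀ y z : D a, ∃ m : ℕ,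
      (b y * b z) ^ m • (b z ^ k z • n y - b y ^ k y • n z) = 0 := by
    intro y z
    apply H.ker a (b y * b z)
    have e : res P (H.inf_mul_le_left a (b y) (b z)) (ξ y) =
        res P (H.inf_mul_le_right a (b y) (b z)) (ξ z) := by
      apply H.injective_θ (D a ⊓ D (b y * b z)) (a * (b y * b z)) (H.mul _ _).symm
      rw [θ_res, θ_res, hξ, hξ, res_res, res_res]
    have hy' : res P (inf_le_left : D a ⊓ D (b y * b z) ≤ D a) (n y) =
        b y ^ k y • res P (H.inf_mul_le_left a (b y) (b z)) (ξ y) := by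
      rw [← H.lin, hkn, res_res]
    have hz' : res P (inf_le_left : D a ⊓ D (b y * b z) ≤ D a) (n z) =
        b z ^ k z • res P (H.inf_mul_le_right a (b y) (b z)) (ξ z) := by
      rw [← H.lin, hkn, res_res]
    rw [map_sub, H.lin, H.lin, hy', hz', e, smul_comm, sub_self]
  choose m hm using hov
  set mm : ℕ := t.sup (fun y => t.sup (fun z => m y z)) + 1 with hmm
  have hmm' : ∀ y ∈ t, ∀ z ∈ t,
      (b y * b z) ^ mm • (b z ^ k z • n y - b y ^ k y • n z) = 0 := by
    intro y hy z hz
    have hle : m y z ≤ mm := by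
      have h1 : m y z ≤ t.sup (fun z => m y z) := Finset.le_sup (f := fun z => m y z) hz
      have h2 : t.sup (fun z => m y z) ≤ t.sup (fun y => t.sup (fun z => m y z)) :=
        Finset.le_sup (f := fun y => t.sup (fun z => m y z)) hy
      omega
    obtain ⟨j, hj⟩ := Nat.exists_eq_add_of_le hle
    rw [hj, add_comm, pow_add, mul_smul, hm, smul_zero]
  -- the modified sections
  let e : D a → R := fun y => b y ^ (mm + k y)
  let n' : D a → P.obj (op (D a)) := fun y => b y ^ mm • n y
  have hcross : ∀ y ∈ t, ∀ z ∈ t, e z • n' y = e y • n' z := by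
    intro y hy z hz
    have h := hmm' y hy z hz
    rw [smul_sub, sub_eq_zero] at h
    have h1 : e z • n' y = (b y * b z) ^ mm • b z ^ k z • n y := by
      simp only [e, n', ← mul_smul]
      congr 1
      ring
    have h2 : e y • n' z = (b y * b z) ^ mm • b y ^ k y • n z := by
      simp only [e, n', ← mul_smul]
      congr 1
      ring
    rw [h1, h2, h]
  -- partition of unity
  obtain ⟨K, hK⟩ := H.cov a (Ideal.span (Set.range (fun y : t => e y))) (by
    intro p hp
    obtain ⟨y, hyt, hpy⟩ := hcover p hp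
    refine ⟨e y, Ideal.subset_span ⟨⟨y, hyt⟩, rfl⟩, ?_⟩
    have : e y = b y ^ ((t.sup (fun y => t.sup (fun z => m y z)) + k y) + 1) := by
      simp only [e, hmm]
      congr 1
      omega
    rw [this, H.D_pow]
    exact hpy)
  obtain ⟨c, hc⟩ := Ideal.mem_span_range_iff_exists_fun.1 hK
  let nn : P.obj (op (D a)) := ∑ z : t, c z • n' z
  have h1 : ∀ y ∈ t, e y • nn = a ^ K • n' y := by
    intro y hy
    simp only [nn]
    rw [Finset.smul_sum, ← hc, Finset.sum_smul]
    apply Finset.sum_congr rfl
    intro z _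
    rw [smul_comm, ← hcross y hy z z.2, ← mul_smul]
  obtain ⟨s, hs⟩ := H.pow_smul_surjective a K nn
  simp only at hs
  have h2 : ∀ y ∈ t, e y • s = n' y := by
    intro y hy
    apply H.pow_smul_injective a K
    simp only
    rw [smul_comm, hs, h1 y hy]
  refine ⟨s, ?_⟩
  refine TopCat.Sheaf.eq_of_locally_eq' (shf P) (fun y : t => D a ⊓ D (b y)) (D a)
    (fun y => homOfLE inf_le_left) ?_ _ _ ?_
  · intro p hp
    obtain ⟨y, hyt, hpy⟩ := hcover p hp
    exact Opens.mem_iSup.2 ⟨⟨y, hyt⟩, ⟨hp, hpy⟩⟩
  · intro y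
    change res (shf P).obj inf_le_left ((θ P).app (op (D a)) s) = res (shf P).obj inf_le_left σ
    rw [← θ_res, ← hξ]
    congr 1
    apply H.pow_smul_injective_of_eq (D a ⊓ D (b y)) a (b y) (H.mul _ _).symm (mm + k y)
    simp only
    have h3 := congrArg (res P (inf_le_left : D a ⊓ D (b y) ≤ D a)) (h2 y y.2)
    rw [H.lin] at h3
    change b y ^ (mm + k y) • res P inf_le_left s = _ at h3
    rw [h3]
    simp only [n']
    rw [H.lin, ← hkn, ← mul_smul, ← pow_add]

theorem bijective_toSheafify (a : R) : Function.Bijective ((θ P).app (op (D a))) :=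
  ⟨H.injective_θ (D a) a rfl, H.surjective_θ a⟩

end Hyp

end Groth.Agent.Lib.Cohomology.SheafifyGlue
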