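/-
A map from a presheaf to a sheaf which is bijective on a basis of opens identifies the sheaf with the
sheafification (helper1).
-/
import Groth.Agent.Lib.Cohomology.Helper1_SheafifyGlue
import Groth.Agent.Lib.Cohomology.helper5_RpushSheafify

set_option autoImplicit false
universe u

namespace Groth.Agent.Lib.Cohomology.SheafifyBasis

open CategoryTheory Limits Opposite TopologicalSpace

variable {Z : TopCat.{u}} {P : (Opens Z)ᵒᵖ ⥤ AddCommGrpCat.{u}}
  {G : TopCat.Sheaf AddCommGrpCat.{u} Z} (φ : P ⟶ G.obj) (B : Set (Opens Z))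

lemma isLocallyInjective_of_basis (hB : Opens.IsBasis B)
    (hφ : ∀ W ∈ B, Function.Injective (φ.app (op W))) :
    Presheaf.IsLocallyInjective (Opens.grothendieckTopology Z) φ where
  equalizerSieve_mem := by
    intro X x y h z hz
    obtain ⟨W, hWB, hzW, hWX⟩ := (Opens.isBasis_iff_nbhd.mp hB) hz
    refine ⟨W, homOfLE hWX, ?_, hzW⟩
    change P.map (homOfLE hWX).op x = P.map (homOfLE hWX).op y
    apply hφ W hWB
    have h1 := congr($(φ.naturality (homOfLE hWX).op) x)
    have h2 := congr($(φ.naturality (homOfLE hWX).op) y)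
    simp only [ConcreteCategory.comp_apply] at h1 h2
    rw [h1, h2, h]

lemma isLocallySurjective_of_basis (hB : Opens.IsBasis B)
    (hφ : ∀ W ∈ B, Function.Surjective (φ.app (op W))) :
    Presheaf.IsLocallySurjective (Opens.grothendieckTopology Z) φ where
  imageSieve_mem := by
    intro U s z hz
    obtain ⟨W, hWB, hzW, hWX⟩ := (Opens.isBasis_iff_nbhd.mp hB) hz
    refine ⟨W, homOfLE hWX, ?_, hzW⟩
    obtain ⟨t, ht⟩ := hφ W hWB (G.obj.map (homOfLE hWX).op s)
    exact ⟨t, ht⟩

/-- a presheaf map to a sheaf which is bijective on a basis induces an iso from the sheafification -/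
theorem nonempty_sheafify_iso_of_bijective_on_basis (hB : Opens.IsBasis B)
    (hφ : ∀ W ∈ B, Function.Bijective (φ.app (op W))) :
    Nonempty (SheafifyGlue.shf P ≅ G) := by
  have h1 := isLocallyInjective_of_basis φ B hB (fun W hW => (hφ W hW).1)
  have h2 := isLocallySurjective_of_basis φ B hB (fun W hW => (hφ W hW).2)
  have hW : (Opens.grothendieckTopology Z).W φ :=
    GrothendieckTopology.W_of_isLocallyBijective _ φ
  rw [GrothendieckTopology.W_iff] at hW
  exact ⟨@asIso _ _ _ _ _ hW ≪≫ RpushSh.counitIso G⟩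

end Groth.Agent.Lib.Cohomology.SheafifyBasis
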