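import Groth.Agent.Lib.Cohomology.Helper1_RpushSectionsLocal
import Groth.Agent.Lib.Cohomology.Helper1_SheafifyBasis
import Groth.Agent.Lib.Cohomology.helper5_Restr
import Groth.Agent.Lib.QCoh.Helper43_PushQcqs
import Groth.Agent.Lib.QCoh.Helper50_Pushforward
import Groth.Agent.S0012

set_option autoImplicit false
universe u

namespace Groth.Agent.Lib.Cohomology.RpushBC

open CategoryTheory CategoryTheory.Limits AlgebraicGeometry Opposite TopologicalSpace ZeroObject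

section Basis

variable {Z : TopCat.{u}} (G : TopCat.Sheaf AddCommGrpCat.{u} Z) (B : Set (Opens Z))

/-- a sheaf of abelian groups whose sections vanish on a basis is zero -/
theorem isZero_of_basis (hB : Opens.IsBasis B)
    (h : ∀ W ∈ B, Subsingleton (G.obj.obj (op W))) : IsZero G := by
  let φ : (0 : (Opens Z)ᵒᵖ ⥤ AddCommGrpCat.{u}) ⟶ G.obj := 0
  obtain ⟨e⟩ := SheafifyBasis.nonempty_sheafify_iso_of_bijective_on_basis φ B hB (by
    intro W hW
    haveI := h W hW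
    have hz : IsZero ((0 : (Opens Z)ᵒᵖ ⥤ AddCommGrpCat.{u}).obj (op W)) :=
      (isZero_zero ((Opens Z)ᵒᵖ ⥤ AddCommGrpCat.{u})).obj (op W)
    haveI := AddCommGrpCat.subsingleton_of_isZero hz
    constructor
    · intro x y _
      exact Subsingleton.elim x y
    · intro y
      exact ⟨0, Subsingleton.elim _ _⟩)
  refine IsZero.of_iso ?_ e.symm
  exact (presheafToSheaf (Opens.grothendieckTopology Z) AddCommGrpCat.{u}).map_isZero (isZero_zero _)

end Basis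

section Square

variable {X Y X' Y' : Scheme.{u}} {f : X ⟶ Y} {g : Y' ⟶ Y} {f' : X' ⟶ Y'} {g' : X' ⟶ X}
  (sq : IsPullback g' f' f g) (V : Y.Opens) (V' : Y'.Opens) (hVV' : V' ≤ g ⁻¹ᵁ V)

include sq hVV' in
lemma preimage_le : f' ⁻¹ᵁ V' ≤ g' ⁻¹ᵁ (f ⁻¹ᵁ V) := by
  intro x hx
  have h1 : (f' ≫ g).base x ∈ V := hVV' hx
  rw [← sq.w] at h1
  exact h1

/-- the restricted base change map `V' ⟶ V` -/
noncomputable abbrev cMap : (↑V' : Scheme.{u}) ⟶ ↑V := g.resLE V V' hVV'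

/-- the restricted projection `f'⁻¹ V' ⟶ f⁻¹ V` -/
noncomputable abbrev hMap : (↑(f' ⁻¹ᵁ V') : Scheme.{u}) ⟶ ↑(f ⁻¹ᵁ V) :=
  g'.resLE (f ⁻¹ᵁ V) (f' ⁻¹ᵁ V') (preimage_le sq V V' hVV')

/-- the restricted square is cartesian -/
theorem isPullback_restrict :
    IsPullback (hMap sq V V' hVV') (f' ∣_ V') (f ∣_ V) (cMap V V' hVV') := by
  have t' : IsPullback (f ⁻¹ᵁ V).ι (f ∣_ V) f V.ι := (isPullback_morphismRestrict f V).flip
  have t1 : IsPullback (f' ⁻¹ᵁ V').ι (f' ∣_ V') f' V'.ι := (isPullback_morphismRestrict f' V').flip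
  have t2 : IsPullback ((f' ⁻¹ᵁ V').ι ≫ g') (f' ∣_ V') f (V'.ι ≫ g) := t1.paste_horiz sq
  have e1 : hMap sq V V' hVV' ≫ (f ⁻¹ᵁ V).ι = (f' ⁻¹ᵁ V').ι ≫ g' := Scheme.Hom.resLE_comp_ι _ _
  have e2 : cMap V V' hVV' ≫ V.ι = V'.ι ≫ g := Scheme.Hom.resLE_comp_ι _ _
  have t : IsPullback (hMap sq V V' hVV' ≫ (f ⁻¹ᵁ V).ι) (f' ∣_ V') f (cMap V V' hVV' ≫ V.ι) := by
    rw [e1, e2]
    exact t2
  refine IsPullback.of_right t ?_ t'
  rw [← cancel_mono V.ι, Category.assoc, Category.assoc, e2, ← t'.w, ← Category.assoc, e1,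
    Category.assoc, sq.w, ← Category.assoc, t1.w, Category.assoc]

theorem isAffineHom_hMap (hV : IsAffineOpen V) (hV' : IsAffineOpen V') :
    IsAffineHom (hMap sq V V' hVV') := by
  haveI : IsAffine (↑V : Scheme.{u}) := hV
  haveI : IsAffine (↑V' : Scheme.{u}) := hV'
  have hc : IsAffineHom (cMap V V' hVV') := inferInstance
  exact MorphismProperty.of_isPullback (P := @IsAffineHom) (isPullback_restrict sq V V' hVV').flip hc

end Square

section Chain

open Groth.Agent.Lib.Cohomology.RpushSectionsLocal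

lemma quasiCompact_ι_of_isCompact {X : Scheme.{u}} [QuasiSeparatedSpace X] (U : X.Opens)
    (hU : IsCompact (U : Set X)) : QuasiCompact U.ι := by
  constructor
  intro K hKo hK
  have h1 : IsCompact (K ∩ Set.range U.ι) := by
    rw [Scheme.Opens.range_ι]
    exact QuasiSeparatedSpace.inter_isCompact K U hKo hK U.2 hU
  have := U.ι.isOpenEmbedding.isInducing.isCompact_preimage_iff (K := K ∩ Set.range U.ι)
    Set.inter_subset_right
  rw [Set.preimage_inter_range] at this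
  exact this.mpr h1

lemma subsingleton_H_of_iso {Z : TopCat.{u}} {F G : CohTop.Ab Z} (e : F ≅ G) (n : ℕ)
    (h : Subsingleton (Sheaf.H F n)) : Subsingleton (Sheaf.H G n) := by
  have key : ∀ x : Sheaf.H G n, x = Sheaf.H.map e.hom n (Sheaf.H.map e.inv n x) := by
    intro x
    rw [← Sheaf.H.map_comp_apply, e.inv_hom_id, Sheaf.H.map_id_apply]
  constructor
  intro x y
  rw [key x, key y]
  congr 1
  exact Subsingleton.elim _ _

lemma subsingleton_HH_of_iso {X : Scheme.{u}} {A B : X.Modules} (e : A ≅ B) (n : ℕ)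
    (h : Subsingleton (Coh.HH X A n)) : Subsingleton (Coh.HH X B n) :=
  subsingleton_H_of_iso (Z := X.toTopCat) (F := Coh.toAb A) (G := Coh.toAb B)
    ((HHLES.toAbF X).mapIso e) n h

lemma subsingleton_sections_of_isZero {Z : TopCat.{u}} (G : TopCat.Sheaf AddCommGrpCat.{u} Z)
    (hG : IsZero G) (W : Opens Z) : Subsingleton (G.obj.obj (op W)) := by
  constructor
  intro x y
  have h : (𝟙 G : G ⟶ G) = 0 := hG.eq_of_src _ _
  have hx : x = (𝟙 G : G ⟶ G).hom.app (op W) x := rfl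
  have hy : y = (𝟙 G : G ⟶ G).hom.app (op W) y := rfl
  rw [hx, hy, h]
  rfl

variable {X Y : Scheme.{u}} (f : X ⟶ Y) [QuasiCompact f] [QuasiSeparated f] [QuasiSeparatedSpace X]
  (d : ℕ)
  (hvan : ∀ (M : X.Modules) (i : ℕ), Coh.IsQCoh M → d < i →
    IsZero ((Coh.RpushAb f i).obj (Coh.toAb M)))

include hvan in
/-- `H^i(f⁻¹ V, L) = 0` for `L` quasi-coherent on `f⁻¹ V`, `V` affine, `i > d` -/
lemma subsingleton_HH_preimage (V : Y.Opens) (hV : IsAffineOpen V)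
    (L : (↑(f ⁻¹ᵁ V) : Scheme.{u}).Modules) [L.IsQuasicoherent] (i : ℕ) (hi : d < i) :
    Subsingleton (Coh.HH (↑(f ⁻¹ᵁ V)) L i) := by
  haveI : QuasiCompact (f ⁻¹ᵁ V).ι := quasiCompact_ι_of_isCompact _
    (QuasiCompact.isCompact_preimage (f := f) _ V.isOpen hV.isCompact)
  have hN : ((Scheme.Modules.pushforward (f ⁻¹ᵁ V).ι).obj L).IsQuasicoherent :=
    Groth.Agent.Lib.QCoh.isQuasicoherent_pushforward_of_qcqs (f ⁻¹ᵁ V).ι L
  have hz := hvan _ i hN hi
  obtain ⟨e1⟩ := nonempty_HU_addEquiv_sections_Rpush f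
    ((Scheme.Modules.pushforward (f ⁻¹ᵁ V).ι).obj L) i V hV
  obtain ⟨e2⟩ := Restr.HU_addEquiv_H_restr (f ⁻¹ᵁ V)
    (Coh.toAb ((Scheme.Modules.pushforward (f ⁻¹ᵁ V).ι).obj L)) i
  haveI := subsingleton_sections_of_isZero _ hz V
  haveI : Subsingleton (Coh.HH (↑(f ⁻¹ᵁ V))
      (((Scheme.Modules.pushforward (f ⁻¹ᵁ V).ι).obj L).restrict (f ⁻¹ᵁ V).ι) i) :=
    (e2.symm.trans e1).toEquiv.subsingleton
  exact subsingleton_HH_of_iso
    ((Scheme.Modules.restrictFunctorAdjCounitIso (f ⁻¹ᵁ V).ι).app L) i this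

end Chain

section Main

open Groth.Agent.Lib.Cohomology.RpushSectionsLocal

variable {X Y X' Y' : Scheme.{u}} (f : X ⟶ Y) [QuasiCompact f] [QuasiSeparated f]
  [QuasiSeparatedSpace X] (d : ℕ)
  (hvan : ∀ (M : X.Modules) (i : ℕ), Coh.IsQCoh M → d < i →
    IsZero ((Coh.RpushAb f i).obj (Coh.toAb M)))
  {g : Y' ⟶ Y} {f' : X' ⟶ Y'} {g' : X' ⟶ X} (sq : IsPullback g' f' f g)
  (M' : X'.Modules) [M'.IsQuasicoherent]

include hvan sq in
theorem subsingleton_sections (V : Y.Opens) (V' : Y'.Opens) (hVV' : V' ≤ g ⁻¹ᵁ V)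
    (hV : IsAffineOpen V) (hV' : IsAffineOpen V') (i : ℕ) (hi : d < i) :
    Subsingleton (((Coh.RpushAb f' i).obj (Coh.toAb M')).obj.obj (op V')) := by
  haveI : QuasiCompact f' := MorphismProperty.of_isPullback (P := @QuasiCompact) sq ‹_›
  haveI : QuasiSeparated f' := MorphismProperty.of_isPullback (P := @QuasiSeparated) sq ‹_›
  obtain ⟨e1⟩ := nonempty_HU_addEquiv_sections_Rpush f' M' i V' hV'
  obtain ⟨e2⟩ := Restr.HU_addEquiv_H_restr (f' ⁻¹ᵁ V') (Coh.toAb M') i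
  haveI := isAffineHom_hMap sq V V' hVV' hV hV'
  haveI : (M'.restrict (f' ⁻¹ᵁ V').ι).IsQuasicoherent :=
    Groth.Agent.Lib.QCoh.isQuasicoherent_restrict _ M'
  obtain ⟨e3⟩ := Groth.Agent.S0012.result (hMap sq V V' hVV') (M'.restrict (f' ⁻¹ᵁ V').ι) i
  haveI : ((Scheme.Modules.pushforward (hMap sq V V' hVV')).obj
      (M'.restrict (f' ⁻¹ᵁ V').ι)).IsQuasicoherent :=
    Groth.Agent.Lib.QCoh.isQuasicoherent_pushforward_of_isAffineHom _ _
  have h4 := subsingleton_HH_preimage f d hvan V hV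
    ((Scheme.Modules.pushforward (hMap sq V V' hVV')).obj (M'.restrict (f' ⁻¹ᵁ V').ι)) i hi
  have h3 : Subsingleton (Coh.HH (↑(f' ⁻¹ᵁ V')) (M'.restrict (f' ⁻¹ᵁ V').ι) i) :=
    @Equiv.subsingleton _ _ e3.toEquiv h4
  exact @Equiv.subsingleton _ _ (e1.symm.trans e2).toEquiv
    (show Subsingleton (CohTop.H (CohTop.restr (Coh.toAb M') (f' ⁻¹ᵁ V')) i) from h3)

include hvan sq in
/-- **vanishing of higher direct images above a degree is stable under base change** -/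
theorem isZero_RpushAb_baseChange (i : ℕ) (hi : d < i) :
    IsZero ((Coh.RpushAb f' i).obj (Coh.toAb M')) := by
  refine isZero_of_basis _ {V' : Y'.Opens | IsAffineOpen V' ∧
    ∃ V : Y.Opens, IsAffineOpen V ∧ V' ≤ g ⁻¹ᵁ V} ?_ ?_
  · rw [Opens.isBasis_iff_nbhd]
    intro W y hy
    obtain ⟨V, hVa, hyV, -⟩ := (Opens.isBasis_iff_nbhd.mp Y.isBasis_affineOpens)
      (show g.base y ∈ (⊤ : Y.Opens) from trivial)
    obtain ⟨V', hV'a, hyV', hV'W⟩ := (Opens.isBasis_iff_nbhd.mp Y'.isBasis_affineOpens)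
      (show y ∈ W ⊓ g ⁻¹ᵁ V from ⟨hy, hyV⟩)
    exact ⟨V', ⟨hV'a, V, hVa, hV'W.trans inf_le_right⟩, hyV', hV'W.trans inf_le_left⟩
  · rintro V' ⟨hV', V, hV, hVV'⟩
    exact subsingleton_sections f d hvan sq M' V V' hVV' hV hV' i hi

end Main

end Groth.Agent.Lib.Cohomology.RpushBC
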