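import Groth.Agent.Lib.Cohomology.Helper3_RDerComp

/-!
# Right derived functors of a composite `G ⋙ E` with `E` exact (helper3)

If `E : D ⥤ D'` is exact and `G : C ⥤ D` is left exact, then
`(G ⋙ E).rightDerived n ≅ G.rightDerived n ⋙ E` (isomorphism of functors), via the uniqueness of
universal δ-functors.  Also: `rightDerived` of isomorphic functors.
-/

set_option autoImplicit false
universe v u v' u' v'' u''
open CategoryTheory CategoryTheory.Limits

namespace Groth.Agent.Lib.Cohomology.RDerComp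

variable {C : Type u} [Category.{v} C] [Abelian C] [EnoughInjectives C]
  {D : Type u'} [Category.{v'} D] [Abelian D]
  {D' : Type u''} [Category.{v''} D'] [Abelian D']
  (G : C ⥤ D) [G.Additive]
  (E : D ⥤ D') [E.Additive] [PreservesFiniteLimits E] [PreservesFiniteColimits E]

open Groth.Agent.Lib.Helper47.RDerLES

/-- the δ-functor `n ↦ RⁿG ⋙ E` for `E` exact -/
noncomputable def postDelta : DeltaF.CohDeltaFunctor C D' ℕ where
  F n := G.rightDerived n ⋙ E
  additive _ := inferInstance
  δ S hS n₀ n₁ h := E.map ((derivedLES G).δ S hS n₀ n₁ h)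
  δ_natural hS hS' φ n₀ n₁ h := by
    dsimp
    rw [← E.map_comp, ← E.map_comp, (derivedLES G).δ_natural hS hS' φ n₀ n₁ h]
  exact₂ S hS n := ((derivedLES G).exact₂ S hS n).map E
  comp_δ S hS n₀ n₁ h := by
    dsimp
    rw [← E.map_comp, (derivedLES G).comp_δ S hS n₀ n₁ h, E.map_zero]
  exact₃ S hS n₀ n₁ h := ((derivedLES G).exact₃ S hS n₀ n₁ h).map E
  δ_comp S hS n₀ n₁ h := by
    dsimp
    rw [← E.map_comp, (derivedLES G).δ_comp S hS n₀ n₁ h, E.map_zero]
  exact₁ S hS n₀ n₁ h := ((derivedLES G).exact₁ S hS n₀ n₁ h).map E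

theorem postDelta_isUniversal : (postDelta G E).IsUniversal :=
  Groth.Agent.S6773.result _ ((Groth.Agent.S14349.result _).2 (fun n I _ =>
    E.map_isZero (G.isZero_rightDerived_obj_injective_succ n I)))

/-- `(G ⋙ E).rightDerived n ≅ G.rightDerived n ⋙ E` for `E` exact, `G` left exact. -/
theorem nonempty_rightDerived_post_iso [PreservesFiniteLimits G] (n : ℕ) :
    Nonempty ((G ⋙ E).rightDerived n ≅ G.rightDerived n ⋙ E) := by
  have h1 := Groth.Agent.S16465.result (G ⋙ E) (derivedLES (G ⋙ E))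
  have h2 := postDelta_isUniversal G E
  let e : (derivedLES (G ⋙ E)).toCohDeltaFunctor.F 0 ≅ (postDelta G E).F 0 :=
    (G ⋙ E).rightDerivedZeroIsoSelf ≪≫ Functor.isoWhiskerRight G.rightDerivedZeroIsoSelf.symm E
  obtain ⟨φ, -, -⟩ := Groth.Agent.S6774.result _ _ h1 h2 e
  refine ⟨⟨φ.hom.app n, φ.inv.app n, ?_, ?_⟩⟩
  · exact congrArg (fun τ => DeltaF.CohDeltaFunctor.Hom.app τ n) φ.hom_inv_id
  · exact congrArg (fun τ => DeltaF.CohDeltaFunctor.Hom.app τ n) φ.inv_hom_id

/-- isomorphic additive functors have isomorphic right derived functors -/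
noncomputable def rightDerivedIso {G G' : C ⥤ D} [G.Additive] [G'.Additive] (e : G ≅ G') (n : ℕ) :
    G.rightDerived n ≅ G'.rightDerived n where
  hom := NatTrans.rightDerived e.hom n
  inv := NatTrans.rightDerived e.inv n
  hom_inv_id := by rw [← NatTrans.rightDerived_comp, e.hom_inv_id, NatTrans.rightDerived_id]
  inv_hom_id := by rw [← NatTrans.rightDerived_comp, e.inv_hom_id, NatTrans.rightDerived_id]

end Groth.Agent.Lib.Cohomology.RDerComp
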