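import Mathlib

/-!
# Dimension shifting for right derived functors (helper5)

For a short exact sequence `0 → A → I → Q → 0` in an abelian category with `I` injective and an
injective resolution `K` of `Q`, `splice hS K` is the injective resolution `I → K⁰ → K¹ → …` of `A`.
Consequences for an additive functor `G`:
* `rightDerived_shift`: `(R^{n+2} G) A ≅ (R^{n+1} G) Q`;
* `exists_rightDerived_one_cokernel`: if `G` is left exact, `(R^1 G) A` is a cokernel of `G I → G Q`.
-/

set_option autoImplicit false
universe v v' u u'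
open CategoryTheory CategoryTheory.Limits

namespace Groth.Agent.Lib.Cohomology.RDShift

variable {C : Type u} [Category.{v} C] [Abelian C] {D : Type u'} [Category.{v'} D] [Abelian D]
variable {S : ShortComplex C} (hS : S.ShortExact) (K : InjectiveResolution S.X₃)

/-- the augmentation of a resolution in degree `0`, with its source retyped -/
noncomputable def ι0 {Z : C} (K : InjectiveResolution Z) : Z ⟶ K.cocomplex.X 0 := K.ι.f 0

lemma ι0_comp_d {Z : C} (K : InjectiveResolution Z) : ι0 K ≫ K.cocomplex.d 0 1 = 0 :=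
  K.ι_f_zero_comp_complex_d

instance {Z : C} (K : InjectiveResolution Z) : Mono (ι0 K) :=
  inferInstanceAs (Mono (K.ι.f 0))

/-- `Z` is the kernel of `K⁰ ⟶ K¹` -/
noncomputable def isLimitι0 {Z : C} (K : InjectiveResolution Z) :
    IsLimit (KernelFork.ofι (ι0 K) (ι0_comp_d K)) := K.isLimitKernelFork

/-- the first differential of the spliced resolution -/
noncomputable def d0 : S.X₂ ⟶ K.cocomplex.X 0 := S.g ≫ ι0 K

omit hS in
lemma d0_comp : d0 K ≫ K.cocomplex.d 0 1 = 0 := by
  rw [d0, Category.assoc, ι0_comp_d, comp_zero]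

/-- the spliced cochain complex `I → K⁰ → K¹ → …` -/
noncomputable def spliceCocomplex : CochainComplex C ℕ :=
  CochainComplex.augment K.cocomplex (d0 K) (d0_comp K)

omit hS in
lemma f_comp_d0 : S.f ≫ (spliceCocomplex K).d 0 1 = 0 := by
  change S.f ≫ d0 K = 0
  rw [d0, ← Category.assoc, S.zero, zero_comp]

/-- the augmentation of the spliced complex -/
noncomputable def spliceι : (CochainComplex.single₀ C).obj S.X₁ ⟶ spliceCocomplex K :=
  (CochainComplex.fromSingle₀Equiv _ _).symm ⟨S.f, f_comp_d0 K⟩

omit hS in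
lemma spliceι_f_zero : (spliceι K).f 0 = S.f :=
  CochainComplex.fromSingle₀Equiv_symm_apply_f_zero _ _

include hS in
lemma splice_exact0 : (ShortComplex.mk S.f (d0 K) (f_comp_d0 K)).Exact := by
  let φ : S ⟶ ShortComplex.mk S.f (d0 K) (f_comp_d0 K) :=
    { τ₁ := 𝟙 _
      τ₂ := 𝟙 _
      τ₃ := ι0 K
      comm₁₂ := by simp
      comm₂₃ := by simp [d0] }
  have : Epi φ.τ₁ := by dsimp [φ]; infer_instance
  have : IsIso φ.τ₂ := by dsimp [φ]; infer_instance
  have : Mono φ.τ₃ := by dsimp [φ]; infer_instance
  exact (ShortComplex.exact_iff_of_epi_of_isIso_of_mono φ).1 hS.exact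

include hS in
lemma splice_exact1 : (ShortComplex.mk (d0 K) (K.cocomplex.d 0 1) (d0_comp K)).Exact := by
  let T : ShortComplex C := ShortComplex.mk (ι0 K) (K.cocomplex.d 0 1) (ι0_comp_d K)
  have hT : T.Exact := ShortComplex.exact_of_f_is_kernel _ (isLimitι0 K)
  let φ : ShortComplex.mk (d0 K) (K.cocomplex.d 0 1) (d0_comp K) ⟶ T :=
    { τ₁ := S.g
      τ₂ := 𝟙 _
      τ₃ := 𝟙 _
      comm₁₂ := by simp [d0, T]
      comm₂₃ := by simp [T] }
  have : Epi φ.τ₁ := hS.epi_g
  have : IsIso φ.τ₂ := by dsimp [φ]; infer_instance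
  have : Mono φ.τ₃ := by dsimp [φ]; infer_instance
  exact (ShortComplex.exact_iff_of_epi_of_isIso_of_mono φ).2 hT


include hS in
lemma spliceCocomplex_exactAt_succ (n : ℕ) : (spliceCocomplex K).ExactAt (n + 1) := by
  rw [HomologicalComplex.exactAt_iff' _ n (n + 1) (n + 2) (by simp) (by simp)]
  cases n with
  | zero => exact splice_exact1 hS K
  | succ n => exact K.exact_succ n

include hS in
lemma quasiIso_spliceι : QuasiIso (spliceι K) := ⟨fun n => by
  cases n with
  | zero =>
    rw [CochainComplex.quasiIsoAt₀_iff, ShortComplex.quasiIso_iff_of_zeros]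
    · have := hS.mono_f
      refine ⟨?_, ?_⟩
      · have h := splice_exact0 hS K
        refine (ShortComplex.exact_iff_of_iso ?_).1 h
        exact ShortComplex.isoMk (Iso.refl _) (Iso.refl _) (Iso.refl _)
          (by
            change 𝟙 _ ≫ (spliceι K).f 0 = S.f ≫ 𝟙 _
            rw [spliceι_f_zero, Category.id_comp, Category.comp_id])
          (by
            change 𝟙 _ ≫ (spliceCocomplex K).d 0 1 = d0 K ≫ 𝟙 _
            rw [Category.id_comp, Category.comp_id]
            rfl)
      · change Mono ((spliceι K).f 0)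
        rw [spliceι_f_zero]
        exact hS.mono_f
    all_goals rfl
  | succ n =>
    rw [quasiIsoAt_iff_exactAt]
    · exact spliceCocomplex_exactAt_succ hS K n
    · apply CochainComplex.exactAt_succ_single_obj⟩

/-- The spliced injective resolution `I → K⁰ → K¹ → …` of `A`. -/
noncomputable def splice [Injective S.X₂] : InjectiveResolution S.X₁ where
  cocomplex := spliceCocomplex K
  injective n := by
    cases n with
    | zero => exact inferInstanceAs (Injective S.X₂)
    | succ n => exact K.injective n
  ι := spliceι K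
  quasiIso := quasiIso_spliceι hS K


section Shift

variable (G : C ⥤ D) [G.Additive]

/-- `H^{n+2}` of `G` applied to the spliced complex is `H^{n+1}` of `G` applied to `K`. -/
noncomputable def homologyShiftIso (n : ℕ) :
    ((G.mapHomologicalComplex _).obj (spliceCocomplex K)).homology (n + 2) ≅
      ((G.mapHomologicalComplex _).obj K.cocomplex).homology (n + 1) :=
  (((G.mapHomologicalComplex _).obj (spliceCocomplex K)).homologyIsoSc' (n + 1) (n + 2) (n + 3)
      (by simp) (by simp)) ≪≫
    ShortComplex.homologyMapIso (ShortComplex.isoMk (Iso.refl _) (Iso.refl _) (Iso.refl _)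
      (by simp [spliceCocomplex]) (by simp [spliceCocomplex])) ≪≫
    (((G.mapHomologicalComplex _).obj K.cocomplex).homologyIsoSc' n (n + 1) (n + 2)
      (by simp) (by simp)).symm

variable [HasInjectiveResolutions C] [Injective S.X₂]

include hS in
/-- Dimension shifting for right derived functors. -/
theorem rightDerived_shift (n : ℕ) :
    Nonempty ((G.rightDerived (n + 2)).obj S.X₁ ≅ (G.rightDerived (n + 1)).obj S.X₃) := by
  let K : InjectiveResolution S.X₃ := (HasInjectiveResolution.out (Z := S.X₃)).some
  exact ⟨(splice hS K).isoRightDerivedObj G (n + 2) ≪≫ homologyShiftIso K G n ≪≫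
    (K.isoRightDerivedObj G (n + 1)).symm⟩

end Shift

section One

variable (G : C ⥤ D) [G.Additive] [PreservesFiniteLimits G]

/-- the short complex `G I → G K⁰ → G K¹` -/
noncomputable abbrev scT : ShortComplex D :=
  ShortComplex.mk (G.map (d0 K)) (G.map (K.cocomplex.d 0 1))
    (by rw [← G.map_comp, d0_comp, G.map_zero])

/-- `G Q` is the kernel of `G K⁰ → G K¹`. -/
noncomputable def isLimitGι0 :
    IsLimit (KernelFork.ofι (G.map (ι0 K)) (by rw [← G.map_comp, ι0_comp_d, G.map_zero]) :
      KernelFork (G.map (K.cocomplex.d 0 1))) :=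
  (KernelFork.ofι (ι0 K) (ι0_comp_d K)).mapIsLimit (isLimitι0 K) G

/-- `G Q ≅ cycles` -/
noncomputable def cyclesIso : G.obj S.X₃ ≅ (scT K G).cycles :=
  IsLimit.conePointUniqueUpToIso (isLimitGι0 K G) (scT K G).cyclesIsKernel

lemma cyclesIso_hom_i : (cyclesIso K G).hom ≫ (scT K G).iCycles = G.map (ι0 K) :=
  IsLimit.conePointUniqueUpToIso_hom_comp (isLimitGι0 K G) (scT K G).cyclesIsKernel
    WalkingParallelPair.zero

lemma map_g_cyclesIso : G.map S.g ≫ (cyclesIso K G).hom = (scT K G).toCycles := by
  rw [← cancel_mono (scT K G).iCycles, Category.assoc, cyclesIso_hom_i, ShortComplex.toCycles_i,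
    ← G.map_comp]
  rfl

/-- `H^1` of `G` applied to the spliced complex is the homology of `scT`. -/
noncomputable def homologyOneIso :
    ((G.mapHomologicalComplex _).obj (spliceCocomplex K)).homology 1 ≅ (scT K G).homology :=
  (((G.mapHomologicalComplex _).obj (spliceCocomplex K)).homologyIsoSc' 0 1 2
      (by simp) (by simp)) ≪≫
    ShortComplex.homologyMapIso (ShortComplex.isoMk (Iso.refl _) (Iso.refl _) (Iso.refl _)
      (by simp [spliceCocomplex]) (by simp [spliceCocomplex]))

variable [HasInjectiveResolutions C] [Injective S.X₂]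

include hS in
/-- For left exact `G`, `(R^1 G) A` is a cokernel of `G I → G Q`. -/
theorem exists_rightDerived_one_cokernel :
    ∃ (π : G.obj S.X₃ ⟶ (G.rightDerived 1).obj S.X₁) (w : G.map S.g ≫ π = 0),
      Epi π ∧ (ShortComplex.mk _ _ w).Exact := by
  let K : InjectiveResolution S.X₃ := (HasInjectiveResolution.out (Z := S.X₃)).some
  let e : (scT K G).homology ≅ (G.rightDerived 1).obj S.X₁ :=
    (homologyOneIso K G).symm ≪≫ ((splice hS K).isoRightDerivedObj G 1).symm
  refine ⟨(cyclesIso K G).hom ≫ (scT K G).homologyπ ≫ e.hom, ?_, ?_, ?_⟩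
  · rw [← Category.assoc, map_g_cyclesIso, ← Category.assoc, ShortComplex.toCycles_comp_homologyπ,
      zero_comp]
  · infer_instance
  · have hT : (ShortComplex.mk (scT K G).toCycles (scT K G).homologyπ
        (scT K G).toCycles_comp_homologyπ).Exact :=
      ShortComplex.exact_of_g_is_cokernel _ (scT K G).homologyIsCokernel
    refine (ShortComplex.exact_iff_of_iso ?_).2 hT
    exact ShortComplex.isoMk (Iso.refl _) (cyclesIso K G) e.symm
      (by simp [map_g_cyclesIso]) (by simp)

include hS in
/-- If `(R^1 G) A = 0` then `G` maps the sequence `0 → A → I → Q → 0` to a short exact sequence. -/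
theorem map_shortExact_of_isZero (h : IsZero ((G.rightDerived 1).obj S.X₁)) :
    (S.map G).ShortExact := by
  obtain ⟨π, w, hπ, hex⟩ := exists_rightDerived_one_cokernel hS G
  have hπ0 : π = 0 := h.eq_of_tgt _ _
  have hepi : Epi (G.map S.g) := by
    subst hπ0
    exact (ShortComplex.exact_iff_epi _ rfl).1 hex
  have hmono : Mono (G.map S.f) := by
    have := hS.mono_f
    infer_instance
  exact ShortComplex.ShortExact.mk' (hS.exact.map_of_mono_of_preservesKernel G hS.mono_f
    inferInstance) hmono hepi

omit [PreservesFiniteLimits G] in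
include hS in
/-- Vanishing passes to the cokernel. -/
theorem isZero_rightDerived_X₃ (n : ℕ) (h : IsZero ((G.rightDerived (n + 2)).obj S.X₁)) :
    IsZero ((G.rightDerived (n + 1)).obj S.X₃) := by
  obtain ⟨e⟩ := rightDerived_shift hS G n
  exact h.of_iso e.symm

end One

end Groth.Agent.Lib.Cohomology.RDShift
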