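import Mathlib
import Groth.Agent.Lib.Cohomology.helper5_RightDerivedShift
import Groth.Agent.Lib.Helper47.RDerLES

/-!
# Comparing right derived functors through acyclic objects (helper5)

Setting: additive functors `F' : A ⥤ B'`, `E : B' ⥤ C`, `Φ : A ⥤ B`, `G : B ⥤ C` between abelian
categories with `F' ⋙ E ≅ Φ ⋙ G`, where `F'`, `G` are left exact, `E` is exact, and `Φ` sends
injective objects to `G`-acyclic objects.  For a class `P` of objects of `A` stable under passing to
the cokernel of an embedding into an injective, and on which `Φ` preserves such short exact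
sequences, `compare` gives `E (RⁿF' X) ≅ RⁿG (Φ X)` for all `X` in `P`.

Special cases: Grothendieck's composite functor theorem for `Φ`-acyclic objects (`E = 𝟭`,
`F' = Φ ⋙ G`), and the comparison of derived functors across an exact forgetful functor.

* `shift_of_acyclic_mid`, `one_cokernel_of_acyclic_mid`: dimension shifting along a short exact
  sequence whose middle term is acyclic (from helper47's long exact sequence).
-/

set_option autoImplicit false
universe v₁ v₂ v₃ v₄ u₁ u₂ u₃ u₄
open CategoryTheory CategoryTheory.Limits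

namespace Groth.Agent.Lib.Cohomology.AcyclicCompare

open Groth.Agent.Lib.Cohomology.RDShift

section GSide

variable {B : Type u₂} [Category.{v₂} B] [Abelian B] {C : Type u₃} [Category.{v₃} C] [Abelian C]
variable [HasInjectiveResolutions B] (G : B ⥤ C) [G.Additive]

/-- Dimension shifting along a short exact sequence with acyclic middle term. -/
theorem shift_of_acyclic_mid {T : ShortComplex B} (hT : T.ShortExact) (n : ℕ)
    (h1 : IsZero ((G.rightDerived (n + 1)).obj T.X₂))
    (h2 : IsZero ((G.rightDerived (n + 2)).obj T.X₂)) :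
    Nonempty ((G.rightDerived (n + 1)).obj T.X₃ ≅ (G.rightDerived (n + 2)).obj T.X₁) := by
  let Δ := Groth.Agent.Lib.Helper47.RDerLES.derivedLES G
  have hmono : Mono (Δ.δ T hT (n + 1) (n + 2) rfl) :=
    (Δ.exact₃ T hT (n + 1) (n + 2) rfl).mono_g (h1.eq_of_src _ _)
  have hepi : Epi (Δ.δ T hT (n + 1) (n + 2) rfl) :=
    (Δ.exact₁ T hT (n + 1) (n + 2) rfl).epi_f (h2.eq_of_tgt _ _)
  have : IsIso (Δ.δ T hT (n + 1) (n + 2) rfl) := isIso_of_mono_of_epi _
  exact ⟨asIso (Δ.δ T hT (n + 1) (n + 2) rfl)⟩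

/-- For left exact `G` and a short exact sequence with `R¹G`-acyclic middle term, `R¹G` of the
kernel is a cokernel of `G X₂ → G X₃`. -/
theorem one_cokernel_of_acyclic_mid [PreservesFiniteLimits G] {T : ShortComplex B}
    (hT : T.ShortExact) (h1 : IsZero ((G.rightDerived 1).obj T.X₂)) :
    ∃ (π : G.obj T.X₃ ⟶ (G.rightDerived 1).obj T.X₁) (w : G.map T.g ≫ π = 0),
      Epi π ∧ (ShortComplex.mk _ _ w).Exact := by
  let Δ := Groth.Agent.Lib.Helper47.RDerLES.derivedLES G
  let z : G.rightDerived 0 ≅ G := G.rightDerivedZeroIsoSelf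
  have hepi : Epi (Δ.δ T hT 0 1 rfl) :=
    (Δ.exact₁ T hT 0 1 rfl).epi_f (h1.eq_of_tgt _ _)
  have w : G.map T.g ≫ z.inv.app T.X₃ ≫ Δ.δ T hT 0 1 rfl = 0 := by
    rw [← Category.assoc, z.inv.naturality, Category.assoc, Δ.comp_δ T hT 0 1 rfl, comp_zero]
  refine ⟨z.inv.app T.X₃ ≫ Δ.δ T hT 0 1 rfl, w, ?_, ?_⟩
  · infer_instance
  · refine (ShortComplex.exact_iff_of_iso ?_).1 (Δ.exact₃ T hT 0 1 rfl)
    exact ShortComplex.isoMk (z.app T.X₂) (z.app T.X₃) (Iso.refl _)
      (by simp) (by simp)

end GSide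

section Main

variable {A : Type u₁} [Category.{v₁} A] [Abelian A] {B : Type u₂} [Category.{v₂} B] [Abelian B]
variable {C : Type u₃} [Category.{v₃} C] [Abelian C] {B' : Type u₄} [Category.{v₄} B'] [Abelian B']
variable [HasInjectiveResolutions A] [HasInjectiveResolutions B]

/-- the canonical short exact sequence `0 → X → I⁰ → Q → 0` from the chosen injective resolution -/
noncomputable def embSES (X : A) : ShortComplex A :=
  ShortComplex.mk (ι0 (injectiveResolution X)) (cokernel.π (ι0 (injectiveResolution X)))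
    (cokernel.condition _)

lemma embSES_shortExact (X : A) : (embSES X).ShortExact :=
  ShortComplex.ShortExact.mk' (ShortComplex.exact_cokernel _)
    (inferInstanceAs (Mono (ι0 (injectiveResolution X))))
    (inferInstanceAs (Epi (cokernel.π (ι0 (injectiveResolution X)))))

instance (X : A) : Injective (embSES X).X₂ :=
  inferInstanceAs (Injective ((injectiveResolution X).cocomplex.X 0))

/-- two epimorphic "cokernels" of isomorphic maps are isomorphic -/
lemma cokernel_unique {S₁ S₂ : ShortComplex C} (h₁ : S₁.Exact) (h₂ : S₂.Exact) [Epi S₁.g] [Epi S₂.g]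
    (e₁ : S₁.X₁ ≅ S₂.X₁) (e₂ : S₁.X₂ ≅ S₂.X₂) (comm : S₁.f ≫ e₂.hom = e₁.hom ≫ S₂.f) :
    Nonempty (S₁.X₃ ≅ S₂.X₃) := by
  have w₁ : S₁.f ≫ e₂.hom ≫ S₂.g = 0 := by
    rw [← Category.assoc, comm, Category.assoc, S₂.zero, comp_zero]
  have comm' : S₂.f ≫ e₂.inv = e₁.inv ≫ S₁.f := by
    rw [← cancel_mono e₂.hom, Category.assoc, Category.assoc, e₂.inv_hom_id, Category.comp_id,
      comm, e₁.inv_hom_id_assoc]
  have w₂ : S₂.f ≫ e₂.inv ≫ S₁.g = 0 := by
    rw [← Category.assoc, comm', Category.assoc, S₁.zero, comp_zero]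
  refine ⟨⟨h₁.desc _ w₁, h₂.desc _ w₂, ?_, ?_⟩⟩
  · rw [← cancel_epi S₁.g, ← Category.assoc, h₁.g_desc, Category.assoc, h₂.g_desc,
      e₂.hom_inv_id_assoc, Category.comp_id]
  · rw [← cancel_epi S₂.g, ← Category.assoc, h₂.g_desc, Category.assoc, h₁.g_desc,
      e₂.inv_hom_id_assoc, Category.comp_id]

variable (F' : A ⥤ B') (E : B' ⥤ C) (Φ : A ⥤ B) (G : B ⥤ C)
variable [F'.Additive] [E.Additive] [Φ.Additive] [G.Additive]
variable [PreservesFiniteLimits F'] [PreservesFiniteLimits G]
variable [PreservesFiniteLimits E] [PreservesFiniteColimits E]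

/-- **Comparison of derived functors through acyclic objects.** -/
theorem compare (e : F' ⋙ E ≅ Φ ⋙ G) (P : A → Prop)
    (hP : ∀ X : A, P X → P (embSES X).X₃ ∧ ((embSES X).map Φ).ShortExact)
    (hI : ∀ (I : A), Injective I → ∀ n : ℕ, IsZero ((G.rightDerived (n + 1)).obj (Φ.obj I))) :
    ∀ (n : ℕ) (X : A), P X →
      Nonempty (E.obj ((F'.rightDerived n).obj X) ≅ (G.rightDerived n).obj (Φ.obj X)) := by
  -- degree one
  have h1 : ∀ X : A, P X →
      Nonempty (E.obj ((F'.rightDerived 1).obj X) ≅ (G.rightDerived 1).obj (Φ.obj X)) := by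
    intro X hX
    obtain ⟨π₁, w₁, hπ₁, hex₁⟩ := exists_rightDerived_one_cokernel (embSES_shortExact X) F'
    obtain ⟨π₂, w₂, hπ₂, hex₂⟩ := one_cokernel_of_acyclic_mid G (hP X hX).2
      (hI _ (inferInstanceAs (Injective (embSES X).X₂)) 0)
    have hex₁' := hex₁.map E
    have : Epi (E.map π₁) := inferInstance
    have : Epi ((ShortComplex.mk _ _ w₁).map E).g := this
    have : Epi (ShortComplex.mk _ _ w₂).g := hπ₂
    exact cokernel_unique (S₁ := (ShortComplex.mk _ _ w₁).map E) (S₂ := ShortComplex.mk _ _ w₂)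
      hex₁' hex₂ (e.app _) (e.app _) (e.hom.naturality _)
  intro n
  induction n with
  | zero =>
    intro X _
    exact ⟨E.mapIso (F'.rightDerivedZeroIsoSelf.app X) ≪≫ e.app X ≪≫
      (G.rightDerivedZeroIsoSelf.app (Φ.obj X)).symm⟩
  | succ n ih =>
    intro X hX
    rcases n with _ | n
    · exact h1 X hX
    · obtain ⟨a⟩ := rightDerived_shift (embSES_shortExact X) F' n
      obtain ⟨b⟩ := ih (embSES X).X₃ (hP X hX).1
      obtain ⟨c⟩ := shift_of_acyclic_mid G (hP X hX).2 n
        (hI _ (inferInstanceAs (Injective (embSES X).X₂)) n)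
        (hI _ (inferInstanceAs (Injective (embSES X).X₂)) (n + 1))
      exact ⟨E.mapIso a ≪≫ b ≪≫ c⟩

end Main

end Groth.Agent.Lib.Cohomology.AcyclicCompare
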