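/-
Higher direct images of O-modules (helper1): linearity over the functions of the base
(`rightDerived_map_smul`), natural comparison with the higher direct images of the underlying abelian sheaves
(`nonempty_toAb_iso`), open base change (`nonempty_restrict_iso`).
-/
import Groth.Agent.Lib.Cohomology.Helper3_RDerComp2
import Groth.Agent.S0485
import Groth.Agent.S11319
import Groth.Agent.S11165
import Groth.Prelude.Def_Formal
import Groth.Agent.Lib.QCoh.Helper50_Pushforward
import Groth.Agent.Lib.QCoh.Local
import Groth.Agent.Lib.Cohomology.helper5_Restr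

set_option autoImplicit false
universe u

namespace Groth.Agent.Lib.Cohomology.RpushLinear

open CategoryTheory CategoryTheory.Limits AlgebraicGeometry Opposite TopologicalSpace
open Groth.Agent.Lib.Helper47.RDerLES Groth.Agent.Lib.Cohomology.RDerComp

section Smul

variable {X : Scheme.{u}}

lemma smulModΓ_naturality {M M' : X.Modules} (φ : M ⟶ M') (r : Coh.Γtop X) :
    Formal.smulModΓ M r ≫ φ = φ ≫ Formal.smulModΓ M' r := by
  ext U m
  exact (φ.val.app (op U)).hom.map_smul (Coh.resTop X (op U) r) (show M.val.obj (op U) from m)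

variable {S : Scheme.{u}} (f : X ⟶ S)

/-- pullback of a global function -/
noncomputable def pbΓ (r : Coh.Γtop S) : Coh.Γtop X := f.appTop.hom r

lemma pushforward_map_smulModΓ (M : X.Modules) (r : Coh.Γtop S) :
    (Scheme.Modules.pushforward f).map (Formal.smulModΓ M (pbΓ f r)) =
      Formal.smulModΓ ((Scheme.Modules.pushforward f).obj M) r := by
  ext U m
  change Coh.resTop X (op (f ⁻¹ᵁ U)) (pbΓ f r) • (show M.val.obj (op (f ⁻¹ᵁ U)) from m) =
    Coh.resTop S (op U) r • (show ((Scheme.Modules.pushforward f).obj M).val.obj (op U) from m)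
  have h : (f.app U).hom (Coh.resTop S (op U) r) =
      Coh.resTop X (op (f ⁻¹ᵁ U)) (pbΓ f r) := by
    have := f.naturality (homOfLE (le_top : U ≤ ⊤)).op
    exact congr($this r)
  rw [← h]
  rfl

end Smul

section Linear

variable {X S : Scheme.{u}} (f : X ⟶ S) [EnoughInjectives X.Modules]

/-- the endomorphism of short complexes given by multiplication by a global function -/
noncomputable def smulSC (T : ShortComplex X.Modules) (r : Coh.Γtop X) : T ⟶ T where
  τ₁ := Formal.smulModΓ T.X₁ r
  τ₂ := Formal.smulModΓ T.X₂ r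
  τ₃ := Formal.smulModΓ T.X₃ r
  comm₁₂ := smulModΓ_naturality T.f r
  comm₂₃ := smulModΓ_naturality T.g r

/-- functoriality applied to multiplication by `f^# r` -/
noncomputable def τ₁ (r : Coh.Γtop S) :
    (derivedLES (Scheme.Modules.pushforward f)).toCohDeltaFunctor ⟶
      (derivedLES (Scheme.Modules.pushforward f)).toCohDeltaFunctor where
  app n :=
    { app := fun M => ((Scheme.Modules.pushforward f).rightDerived n).map
        (Formal.smulModΓ M (pbΓ f r))
      naturality := fun M M' φ => by
        change ((Scheme.Modules.pushforward f).rightDerived n).map φ ≫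
          ((Scheme.Modules.pushforward f).rightDerived n).map _ =
          ((Scheme.Modules.pushforward f).rightDerived n).map _ ≫
          ((Scheme.Modules.pushforward f).rightDerived n).map φ
        rw [← Functor.map_comp, ← Functor.map_comp, smulModΓ_naturality] }
  comm T hT n₀ n₁ h :=
    ((derivedLES (Scheme.Modules.pushforward f)).δ_natural hT hT
      (smulSC T (pbΓ f r)) n₀ n₁ h).symm

/-- multiplication by `r` on the values -/
noncomputable def τ₂ (r : Coh.Γtop S) :
    (derivedLES (Scheme.Modules.pushforward f)).toCohDeltaFunctor ⟶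
      (derivedLES (Scheme.Modules.pushforward f)).toCohDeltaFunctor where
  app n :=
    { app := fun M => Formal.smulModΓ (((Scheme.Modules.pushforward f).rightDerived n).obj M) r
      naturality := fun M M' φ => (smulModΓ_naturality _ r).symm }
  comm T hT n₀ n₁ h := (smulModΓ_naturality _ r).symm

/-- **linearity of the higher direct images**: `R^n f_*` sends multiplication by `f^# r` to multiplication
by `r`. -/
theorem rightDerived_map_smul (M : X.Modules) (r : Coh.Γtop S) (n : ℕ) :
    ((Scheme.Modules.pushforward f).rightDerived n).map (Formal.smulModΓ M (pbΓ f r)) =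
      Formal.smulModΓ (((Scheme.Modules.pushforward f).rightDerived n).obj M) r := by
  have hT := Groth.Agent.S16465.result (Scheme.Modules.pushforward f)
    (derivedLES (Scheme.Modules.pushforward f))
  have h0 : (τ₁ f r).app 0 = (τ₂ f r).app 0 := by
    ext M : 2
    change ((Scheme.Modules.pushforward f).rightDerived 0).map (Formal.smulModΓ M (pbΓ f r)) =
      Formal.smulModΓ (((Scheme.Modules.pushforward f).rightDerived 0).obj M) r
    rw [← cancel_mono ((Scheme.Modules.pushforward f).rightDerivedZeroIsoSelf.hom.app M),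
      (Scheme.Modules.pushforward f).rightDerivedZeroIsoSelf.hom.naturality,
      pushforward_map_smulModΓ, smulModΓ_naturality]
  obtain ⟨τ, _, huniq⟩ := hT _ ((τ₁ f r).app 0)
  have e1 : τ₁ f r = τ := huniq _ rfl
  have e2 : τ₂ f r = τ := huniq _ h0.symm
  have e3 : τ₁ f r = τ₂ f r := e1.trans e2.symm
  have e4 := congrArg (fun t => (DeltaF.CohDeltaFunctor.Hom.app t n).app M) e3
  exact e4

end Linear

section Compare

open Groth.Agent.Lib.Cohomology.HHLES

variable {X S : Scheme.{u}} (f : X ⟶ S) [EnoughInjectives X.Modules]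

/-- **natural comparison** of the higher direct images of modules and of abelian sheaves -/
theorem nonempty_toAb_iso (p : ℕ) :
    Nonempty ((Scheme.Modules.pushforward f).rightDerived p ⋙ toAbF S ≅
      toAbF X ⋙ Coh.RpushAb f p) := by
  obtain ⟨e1⟩ := nonempty_rightDerived_post_iso (Scheme.Modules.pushforward f) (toAbF S) p
  obtain ⟨e3⟩ := nonempty_rightDerived_comp_iso (toAbF X) (Coh.pushAb f) (by
    intro n I hI
    have : TopCat.Sheaf.IsFlasque ((toAbF X).obj I) :=
      Groth.Agent.S11319.isFlasque_toAb_of_injective I hI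
    exact Groth.Agent.Lib.Cohomology.isZero_Rpush_succ_of_flasque f.base _ n) p
  exact ⟨e1.symm ≪≫ rightDerivedIso (Groth.Agent.S11319.pushToAbIso f) p ≪≫ e3⟩

end Compare

section OpenBC

open Groth.Agent.Lib.Cohomology.HHLES

variable {X S : Scheme.{u}} (f : X ⟶ S) (V : S.Opens)

lemma isZero_rightDerived_restrict [HasInjectiveResolutions (↑(f ⁻¹ᵁ V) : Scheme.{u}).Modules]
    (n : ℕ) (I : X.Modules) (hI : Injective I) :
    IsZero (((Scheme.Modules.pushforward (f ∣_ V)).rightDerived (n + 1)).obj
      ((Scheme.Modules.restrictFunctor (f ⁻¹ᵁ V).ι).obj I)) := by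
  apply Groth.Agent.S11165.isZero_of_isZero_toAb
  obtain ⟨e⟩ := Groth.Agent.S11319.result (f ∣_ V) ((Scheme.Modules.restrictFunctor (f ⁻¹ᵁ V).ι).obj I) (n + 1)
  refine IsZero.of_iso ?_ e
  have h1 : TopCat.Sheaf.IsFlasque (Coh.toAb I) :=
    Groth.Agent.S11319.isFlasque_toAb_of_injective I hI
  have h2 : TopCat.Sheaf.IsFlasque (CohTop.restr (Coh.toAb I) (f ⁻¹ᵁ V)) :=
    Restr.isFlasque_restr (f ⁻¹ᵁ V) (Coh.toAb I)
  exact @Groth.Agent.Lib.Cohomology.isZero_Rpush_succ_of_flasque _ _ (f ∣_ V).base
    (CohTop.restr (Coh.toAb I) (f ⁻¹ᵁ V)) h2 n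

/-- **open base change** for the higher direct images of modules -/
theorem nonempty_restrict_iso [EnoughInjectives X.Modules]
    [EnoughInjectives (↑(f ⁻¹ᵁ V) : Scheme.{u}).Modules] (p : ℕ) :
    Nonempty ((Scheme.Modules.pushforward f).rightDerived p ⋙ Scheme.Modules.restrictFunctor V.ι ≅
      Scheme.Modules.restrictFunctor (f ⁻¹ᵁ V).ι ⋙
        (Scheme.Modules.pushforward (f ∣_ V)).rightDerived p) := by
  obtain ⟨e1⟩ := nonempty_rightDerived_post_iso (Scheme.Modules.pushforward f)
    (Scheme.Modules.restrictFunctor V.ι) p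
  obtain ⟨e3⟩ := nonempty_rightDerived_comp_iso (Scheme.Modules.restrictFunctor (f ⁻¹ᵁ V).ι)
    (Scheme.Modules.pushforward (f ∣_ V)) (fun n I hI => isZero_rightDerived_restrict f V n I hI) p
  exact ⟨e1.symm ≪≫ rightDerivedIso (Groth.Agent.Lib.QCoh.pushforwardRestrictIso f V) p ≪≫ e3⟩

end OpenBC

end Groth.Agent.Lib.Cohomology.RpushLinear
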