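/-
Sections of higher direct images over basic opens of an affine base (helper1).

`f : X ⟶ S` quasi-compact quasi-separated, `S` affine, `M` quasi-coherent on `X`.  The presheaf
`V ↦ H^q(f⁻¹ V, M)` on `S` satisfies the hypotheses of `SheafifyGlue.Hyp` for the basic opens of `S`;
hence `H^q(f⁻¹ D(a), M) → (R^q f_* M)(D(a))` is bijective, and in particular
`H^q(X, M) ≃+ Γ(S, R^q f_* M)`.
-/
import Groth.Agent.Lib.Cohomology.Helper1_LocResCoh
import Groth.Agent.Lib.Cohomology.Helper1_SheafifyGlue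

set_option autoImplicit false
universe u

namespace Groth.Agent.Lib.Cohomology.RpushSections

open CategoryTheory CategoryTheory.Limits Opposite TopologicalSpace AlgebraicGeometry Abelian
open Groth.Agent.Lib.Cohomology.LocFive Groth.Agent.Lib.Cohomology.LocCoh
open Groth.Agent.Lib.Cohomology.LocResCoh

variable {X S : Scheme.{u}} (f : X ⟶ S) (M : X.Modules) (q : ℕ)

/-- the pulled back function -/
noncomputable abbrev pb (r : Γ(S, ⊤)) : Γ(X, ⊤) := f.appTop.hom r

/-- multiplication by (the pullback of) a function on `S`, on the abelian sheaf underlying `M` -/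
noncomputable def mulS (r : Γ(S, ⊤)) : Coh.toAb M ⟶ Coh.toAb M := aM M (pb f r)

lemma mulS_one : mulS f M 1 = 𝟙 _ := by
  unfold mulS aM pb
  rw [map_one]
  exact Coh.smulAb_one M

lemma mulS_mul (r s : Γ(S, ⊤)) : mulS f M (r * s) = mulS f M s ≫ mulS f M r := by
  unfold mulS aM pb
  rw [map_mul]
  exact Coh.smulAb_mul M _ _

lemma mulS_add (r s : Γ(S, ⊤)) : mulS f M (r + s) = mulS f M r + mulS f M s := by
  unfold mulS aM pb
  rw [map_add]
  exact Coh.smulAb_add M _ _

lemma mulS_zero : mulS f M 0 = 0 := by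
  unfold mulS aM pb
  rw [map_zero]
  exact Coh.smulAb_zero M

/-- the module structure on `Ext^q(A, M)` over the functions on `S` -/
@[reducible] noncomputable def extModule (A : CohTop.Ab X.toTopCat) :
    Module Γ(S, ⊤) (Ext.{u} A (Coh.toAb M) q) where
  smul r x := LocExt.post A (mulS f M r) q x
  one_smul x := by
    change LocExt.post A (mulS f M 1) q x = x
    rw [mulS_one, LocExt.post_apply, Ext.comp_mk₀_id]
  mul_smul r s x := by
    change LocExt.post A (mulS f M (r * s)) q x =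
      LocExt.post A (mulS f M r) q (LocExt.post A (mulS f M s) q x)
    rw [mulS_mul, LocExt.post_comp]
  smul_zero r := map_zero _
  smul_add r x y := map_add _ x y
  add_smul r s x := by
    change LocExt.post A (mulS f M (r + s)) q x =
      LocExt.post A (mulS f M r) q x + LocExt.post A (mulS f M s) q x
    rw [mulS_add, LocExt.post_apply, LocExt.post_apply, LocExt.post_apply, Ext.mk₀_add, Ext.comp_add]
  zero_smul x := by
    change LocExt.post A (mulS f M 0) q x = 0
    rw [mulS_zero, LocExt.post_apply, Ext.mk₀_zero, Ext.comp_zero]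

/-- the presheaf `V ↦ H^q(f⁻¹ V, M)` on `S` -/
noncomputable abbrev PP : (Opens S)ᵒᵖ ⥤ AddCommGrpCat.{u} :=
  RpushSh.Ppre f.base (Coh.toAb M) q

noncomputable instance instPP (V : Opens S) : Module Γ(S, ⊤) ((PP f M q).obj (op V)) :=
  extModule f M q (zz (f ⁻¹ᵁ V))

lemma res_eq {V' V : S.Opens} (h : V' ≤ V) (x : (PP f M q).obj (op V)) :
    SheafifyGlue.res (PP f M q) h x =
      LocRes.pre.{u} (resMap (f.preimage_mono h)) (Coh.toAb M) q x := rfl

lemma smul_eq (V : S.Opens) (r : Γ(S, ⊤)) (x : (PP f M q).obj (op V)) :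
    r • x = LocRes.aE.{u} (aM M (pb f r)) (zz (f ⁻¹ᵁ V)) q x := rfl

lemma pow_smul_eq (V : S.Opens) (r : Γ(S, ⊤)) (k : ℕ) (x : (PP f M q).obj (op V)) :
    r ^ k • x = (LocRes.aE.{u} (aM M (pb f r)) (zz (f ⁻¹ᵁ V)) q ^ k) x := by
  induction k generalizing x with
  | zero =>
    rw [pow_zero, pow_zero, one_smul]
    rfl
  | succ k ih =>
    rw [pow_succ, pow_succ, mul_smul]
    exact ih _

section Hyp

variable [IsAffine S] [QuasiCompact f] [QuasiSeparated f] [M.IsQuasicoherent]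

/-- the key localization statement -/
lemma key (W : S.Opens) (hW : IsCompact (W : Set S)) (c : Γ(S, ⊤)) :
    ResGood M (pb f c) (f ⁻¹ᵁ (W ⊓ S.basicOpen c)) (f ⁻¹ᵁ W) ∧
      Bij M (pb f c) (f ⁻¹ᵁ (W ⊓ S.basicOpen c)) := by
  have : QuasiSeparatedSpace X := quasiSeparatedSpace_of_quasiSeparated f
  have hc : IsCompact ((f ⁻¹ᵁ W : X.Opens) : Set X) :=
    QuasiCompact.isCompact_preimage (f := f) _ W.isOpen hW
  have h := resGood_bij_of_isCompact M (pb f c) (f ⁻¹ᵁ W) hc
  have e : f ⁻¹ᵁ W ⊓ X.basicOpen (pb f c) = f ⁻¹ᵁ (W ⊓ S.basicOpen c) := by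
    rw [← Scheme.preimage_basicOpen_top]
    rfl
  rw [e] at h
  exact h

lemma cov (a : Γ(S, ⊤)) (I : Ideal Γ(S, ⊤))
    (h : ∀ y ∈ S.basicOpen a, ∃ c ∈ I, y ∈ S.basicOpen c) : ∃ K : ℕ, a ^ K ∈ I := by
  have hU : IsAffineOpen (S.basicOpen a) := (isAffineOpen_top S).basicOpen a
  have hloc : IsLocalization.Away a Γ(S, S.basicOpen a) :=
    (isAffineOpen_top S).isLocalization_basicOpen a
  have hspan : Ideal.span ((algebraMap Γ(S, ⊤) Γ(S, S.basicOpen a)) '' (I : Set Γ(S, ⊤))) = ⊤ := by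
    rw [← hU.self_le_iSup_basicOpen_iff]
    intro y hy
    obtain ⟨c, hc, hyc⟩ := h y hy
    refine Opens.mem_iSup.2 ⟨⟨algebraMap Γ(S, ⊤) Γ(S, S.basicOpen a) c, ⟨c, hc, rfl⟩⟩, ?_⟩
    change y ∈ S.basicOpen (S.presheaf.map (homOfLE (S.basicOpen_le a)).op c)
    rw [Scheme.basicOpen_res]
    exact ⟨hy, hyc⟩
  have hmap : I.map (algebraMap Γ(S, ⊤) Γ(S, S.basicOpen a)) = ⊤ := hspan
  by_contra hcon
  push Not at hcon
  have hdisj : Disjoint ((Submonoid.powers a : Submonoid Γ(S, ⊤)) : Set Γ(S, ⊤)) (I : Set Γ(S, ⊤)) := by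
    rw [Set.disjoint_left]
    rintro x ⟨K, rfl⟩ hx
    exact hcon K hx
  exact (IsLocalization.map_algebraMap_ne_top_iff_disjoint (Submonoid.powers a)
    Γ(S, S.basicOpen a) I).2 hdisj hmap

theorem hyp : SheafifyGlue.Hyp (PP f M q) (fun c : Γ(S, ⊤) => S.basicOpen c) where
  lin h r x :=
    LocRes.pre_aE (aM M (pb f r)) (resMap (f.preimage_mono h)) q x
  mul a b := S.basicOpen_mul a b
  basis y U hy := by
    obtain ⟨_, ⟨b, rfl⟩, hyb, hbU⟩ := (Opens.isBasis_iff_nbhd.1 (isBasis_basicOpen S)) hy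
    exact ⟨b, hyb, hbU⟩
  compact a := ((isAffineOpen_top S).basicOpen a).isCompact
  cov a I h := cov a I h
  ker a c s hs := by
    obtain ⟨h', hgood⟩ := (key f M (S.basicOpen a) ((isAffineOpen_top S).basicOpen a).isCompact c).1
    obtain ⟨k, hk⟩ := (hgood q).2 s hs
    exact ⟨k, (pow_smul_eq f M q _ c k s).trans hk⟩
  surj a c t := by
    obtain ⟨h', hgood⟩ := (key f M (S.basicOpen a) ((isAffineOpen_top S).basicOpen a).isCompact c).1
    obtain ⟨k, x, hx⟩ := (hgood q).1 t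
    exact ⟨k, x, (pow_smul_eq f M q _ c k t).trans hx⟩
  bij a := by
    have h := (key f M ⊤ (by rw [Opens.coe_top]; exact isCompact_univ) a).2 q
    have e : (⊤ : S.Opens) ⊓ S.basicOpen a = S.basicOpen a := top_inf_eq _
    rw [e] at h
    exact h

end Hyp

section Main

variable [IsAffine S] [QuasiCompact f] [QuasiSeparated f] [M.IsQuasicoherent]

/-- `H^q(f⁻¹ D(a), M) → (sheafification)(D(a))` is bijective -/
theorem bijective_toSheafify_basicOpen (a : Γ(S, ⊤)) :
    Function.Bijective ((SheafifyGlue.θ (PP f M q)).app (op (S.basicOpen a))) :=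
  (hyp f M q).bijective_toSheafify a

theorem bijective_toSheafify_top :
    Function.Bijective ((SheafifyGlue.θ (PP f M q)).app (op (⊤ : S.Opens))) := by
  have h1 : S.basicOpen (1 : Γ(S, ⊤)) = ⊤ := S.basicOpen_one
  have := bijective_toSheafify_basicOpen f M q 1
  rw [h1] at this
  exact this

/-- **`H^q(X, M) ≃+ Γ(S, R^q f_* M)`** for `S` affine, `f` quasi-compact quasi-separated,
`M` quasi-coherent. -/
theorem nonempty_HH_addEquiv_sections_Rpush :
    Nonempty (Coh.HH X M q ≃+ ↑(((Coh.RpushAb f q).obj (Coh.toAb M)).obj.obj (op ⊤))) := by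
  obtain ⟨e⟩ := RpushSh.rpush_iso_sheafify f.base q (Coh.toAb M)
  let e1 : Coh.HH X M q ≃+ CohTop.HU (Coh.toAb M) q ⊤ := (HUTopEquiv _ (Coh.toAb M) q).symm
  let e2 : CohTop.HU (Coh.toAb M) q ⊤ ≃+ ↑((PP f M q).obj (op (⊤ : S.Opens))) := AddEquiv.refl _
  let e3 : ↑((PP f M q).obj (op (⊤ : S.Opens))) ≃+
      ↑((SheafifyGlue.shf (PP f M q)).obj.obj (op (⊤ : S.Opens))) :=
    AddEquiv.ofBijective ((SheafifyGlue.θ (PP f M q)).app (op (⊤ : S.Opens))).hom
      (bijective_toSheafify_top f M q)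
  let e4 := (((sheafToPresheaf _ _).mapIso e).app (op (⊤ : S.Opens))).addCommGroupIsoToAddEquiv
  exact ⟨((e1.trans e2).trans e3).trans e4.symm⟩

end Main

end Groth.Agent.Lib.Cohomology.RpushSections
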