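/-
Quasi-coherence of higher direct images, part A (helper1): abstract localisation lemma for sheaves receiving a
bijective-on-basic-opens map from a presheaf satisfying `SheafifyGlue.Hyp`; the comparison isomorphism
`R^p f_* M ≅ (V ↦ H^p(f⁻¹ V, M))^#` compatible with multiplication by functions of the base.
-/
import Groth.Agent.Lib.Cohomology.Helper1_RpushLinear
import Groth.Agent.Lib.Cohomology.Helper1_RpushSections
import Groth.Agent.Lib.Helper47.RpushNat3
import Groth.Agent.Lib.QCoh.Helper66_LocCrit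

set_option autoImplicit false
universe u

namespace Groth.Agent.Lib.Cohomology.RpushQCoh

open CategoryTheory CategoryTheory.Limits AlgebraicGeometry Opposite TopologicalSpace

section Abstract

variable {Y : TopCat.{u}} (P : (Opens Y)ᵒᵖ ⥤ AddCommGrpCat.{u}) {R : Type u} [CommRing R]
  [∀ V : Opens Y, Module R (P.obj (op V))] (D : R → Opens Y) (hyp : SheafifyGlue.Hyp P D)
  (T : TopCat.Sheaf AddCommGrpCat.{u} Y) (ψ : P ⟶ T.obj) (m : R → (T ⟶ T))
  (hψ : ∀ a, Function.Bijective (ψ.app (op (D a))))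
  (hm : ∀ (r : R) (V : Opens Y) (s : P.obj (op V)),
    ψ.app (op V) (r • s) = (m r).hom.app (op V) (ψ.app (op V) s))

include hyp hψ hm

lemma bij_inf (a c : R) : Function.Bijective (ψ.app (op (D a ⊓ D c))) := by
  rw [← hyp.mul]
  exact hψ _

lemma ψ_res {V' V : Opens Y} (h : V' ≤ V) (s : P.obj (op V)) :
    ψ.app (op V') (SheafifyGlue.res P h s) = T.obj.map (homOfLE h).op (ψ.app (op V) s) := by
  have := congr($(ψ.naturality (homOfLE h).op) s)
  exact this

lemma inj_of_hyp (a c : R) (x : T.obj.obj (op (D a)))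
    (hx : T.obj.map (homOfLE (inf_le_left : D a ⊓ D c ≤ D a)).op x = 0) :
    ∃ k : ℕ, (m (c ^ k)).hom.app (op (D a)) x = 0 := by
  obtain ⟨s, rfl⟩ := (hψ a).2 x
  have h1 : SheafifyGlue.res P (inf_le_left : D a ⊓ D c ≤ D a) s = 0 := by
    apply (bij_inf P D hyp T ψ m hψ hm a c).1
    rw [ψ_res P D hyp T ψ m hψ hm, hx, map_zero]
  obtain ⟨k, hk⟩ := hyp.ker a c s h1
  refine ⟨k, ?_⟩
  rw [← hm, hk, map_zero]

lemma surj_of_hyp (a c : R) (y : T.obj.obj (op (D a ⊓ D c))) :
    ∃ (k : ℕ) (x : T.obj.obj (op (D a))),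
      T.obj.map (homOfLE (inf_le_left : D a ⊓ D c ≤ D a)).op x =
        (m (c ^ k)).hom.app (op (D a ⊓ D c)) y := by
  obtain ⟨t, rfl⟩ := (bij_inf P D hyp T ψ m hψ hm a c).2 y
  obtain ⟨k, s, hs⟩ := hyp.surj a c t
  refine ⟨k, ψ.app (op (D a)) s, ?_⟩
  rw [← ψ_res P D hyp T ψ m hψ hm, ← hs, hm]

/-- versions with opens only propositionally of the form `D a`, `D a ⊓ D c` -/
lemma inj_of_hyp' (a c : R) (V V' : Opens Y) (hV : V = D a) (hV' : V' = D a ⊓ D c) (le : V' ≤ V)
    (x : T.obj.obj (op V)) (hx : T.obj.map (homOfLE le).op x = 0) :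
    ∃ k : ℕ, (m (c ^ k)).hom.app (op V) x = 0 := by
  subst hV hV'
  exact inj_of_hyp P D hyp T ψ m hψ hm a c x hx

lemma surj_of_hyp' (a c : R) (V V' : Opens Y) (hV : V = D a) (hV' : V' = D a ⊓ D c) (le : V' ≤ V)
    (y : T.obj.obj (op V')) :
    ∃ (k : ℕ) (x : T.obj.obj (op V)),
      T.obj.map (homOfLE le).op x = (m (c ^ k)).hom.app (op V') y := by
  subst hV hV'
  exact surj_of_hyp P D hyp T ψ m hψ hm a c y

end Abstract

section Affine

open Groth.Agent.Lib.Cohomology.RpushSections Groth.Agent.Lib.Cohomology.RpushLinear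
  Groth.Agent.Lib.Helper47.RpushNat Groth.Agent.Lib.Helper47.DeltaGen
  Groth.Agent.Lib.Cohomology.HHLES

variable {X S : Scheme.{u}} (f : X ⟶ S) [EnoughInjectives X.Modules] (M : X.Modules) (p : ℕ)

/-- the module `R^p f_* M` -/
noncomputable abbrev NN : S.Modules := ((Scheme.Modules.pushforward f).rightDerived p).obj M

/-- the endomorphism of `V ↦ H^p(f⁻¹ V, M)` given by multiplication by `r` -/
noncomputable def μ (r : Γ(S, ⊤)) : PP f M p ⟶ PP f M p :=
  (HZ (ZZ (Opens.grothendieckTopology X) (Opens.map f.base)) p).map (mulS f M r)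

lemma μ_app (r : Γ(S, ⊤)) (V : S.Opens) (x : (PP f M p).obj (op V)) :
    (μ f M p r).app (op V) x = r • x := rfl

/-- the comparison isomorphism `R^p f_* M ≅ (V ↦ H^p(f⁻¹ V, M))^#` of abelian sheaves, compatible
with multiplication by functions on `S` -/
theorem exists_iso :
    ∃ α : Coh.toAb (NN f M p) ≅ SheafifyGlue.shf (PP f M p),
      ∀ r : Γ(S, ⊤), Coh.smulAb (NN f M p) r ≫ α.hom =
        α.hom ≫ (presheafToSheaf (Opens.grothendieckTopology S) AddCommGrpCat.{u}).map (μ f M p r) := by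
  obtain ⟨Φ⟩ := nonempty_toAb_iso f p
  obtain ⟨Ψ⟩ := nonempty_rpush_iso (Opens.grothendieckTopology X) (Opens.grothendieckTopology S)
    (Opens.map f.base) p
  refine ⟨Φ.app M ≪≫ Ψ.app (Coh.toAb M), ?_⟩
  intro r
  have h1 := Φ.hom.naturality (Formal.smulModΓ M (pbΓ f r))
  have h2 := Ψ.hom.naturality (mulS f M r)
  have h3 := rightDerived_map_smul f M r p
  have h1' : Coh.smulAb (NN f M p) r ≫ Φ.hom.app M =
      Φ.hom.app M ≫ (Coh.RpushAb f p).map (mulS f M r) := by
    have e : (toAbF S).map (((Scheme.Modules.pushforward f).rightDerived p).map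
        (Formal.smulModΓ M (pbΓ f r))) = Coh.smulAb (NN f M p) r := by
      rw [h3]
      rfl
    rw [← e]
    exact h1
  have h2' : (Coh.RpushAb f p).map (mulS f M r) ≫ Ψ.hom.app (Coh.toAb M) =
      Ψ.hom.app (Coh.toAb M) ≫
        (presheafToSheaf (Opens.grothendieckTopology S) AddCommGrpCat.{u}).map (μ f M p r) := h2
  exact ((Category.assoc _ _ _).symm.trans (congrArg (· ≫ Ψ.hom.app (Coh.toAb M)) h1')).trans
    ((Category.assoc _ _ _).trans ((congrArg (Φ.hom.app M ≫ ·) h2').trans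
      (Category.assoc _ _ _).symm))

end Affine

end Groth.Agent.Lib.Cohomology.RpushQCoh
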