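/-
Quasi-coherence of higher direct images, part B (helper1): `isQuasicoherent_of_isAffine` (affine base) and
`isQuasicoherent_Rpush` (any base): for `f` quasi-compact quasi-separated and `M` quasi-coherent, `R^p f_* M`
(right derived functor of `f_*` on O-modules) is quasi-coherent.
-/
import Groth.Agent.Lib.Cohomology.Helper1_RpushQCohA

set_option autoImplicit false
universe u

namespace Groth.Agent.Lib.Cohomology.RpushQCoh

open CategoryTheory CategoryTheory.Limits AlgebraicGeometry Opposite TopologicalSpace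

section Affine2

open Groth.Agent.Lib.Cohomology.RpushSections Groth.Agent.Lib.Cohomology.RpushLinear
  Groth.Agent.Lib.Helper47.RpushNat Groth.Agent.Lib.Helper47.DeltaGen
  Groth.Agent.Lib.Cohomology.HHLES

variable {X S : Scheme.{u}} (f : X ⟶ S) [EnoughInjectives X.Modules] (M : X.Modules) (p : ℕ)

/-- the comparison map from the presheaf `V ↦ H^p(f⁻¹ V, M)` to `R^p f_* M` -/
noncomputable def ψψ (α : Coh.toAb (NN f M p) ≅ SheafifyGlue.shf (PP f M p)) :
    PP f M p ⟶ (Coh.toAb (NN f M p)).obj :=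
  SheafifyGlue.θ (PP f M p) ≫ α.inv.hom

lemma ψψ_smul (α : Coh.toAb (NN f M p) ≅ SheafifyGlue.shf (PP f M p))
    (hα : ∀ r : Γ(S, ⊤), Coh.smulAb (NN f M p) r ≫ α.hom =
        α.hom ≫ (presheafToSheaf (Opens.grothendieckTopology S) AddCommGrpCat.{u}).map (μ f M p r))
    (r : Γ(S, ⊤)) (V : S.Opens) (s : (PP f M p).obj (op V)) :
    (ψψ f M p α).app (op V) (r • s) =
      (Coh.smulAb (NN f M p) r).hom.app (op V) ((ψψ f M p α).app (op V) s) := by
  have e1 : (presheafToSheaf (Opens.grothendieckTopology S) AddCommGrpCat.{u}).map (μ f M p r) ≫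
      α.inv = α.inv ≫ Coh.smulAb (NN f M p) r := by
    rw [Iso.comp_inv_eq, Category.assoc, Iso.eq_inv_comp]
    exact (hα r).symm
  have e2 := congr(($e1).hom.app (op V))
  have e3 := congr($(toSheafify_naturality (Opens.grothendieckTopology S) (μ f M p r)).app (op V))
  have e4 := congr($e3 s)
  have e5 := congr($e2 ((SheafifyGlue.θ (PP f M p)).app (op V) s))
  have e4' : (SheafifyGlue.θ (PP f M p)).app (op V) (r • s) =
      (sheafifyMap (Opens.grothendieckTopology S) (μ f M p r)).app (op V)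
        ((SheafifyGlue.θ (PP f M p)).app (op V) s) := e4
  exact (congrArg (α.inv.hom.app (op V)) e4').trans e5

lemma ψψ_bijective [IsAffine S] [QuasiCompact f] [QuasiSeparated f] [M.IsQuasicoherent]
    (α : Coh.toAb (NN f M p) ≅ SheafifyGlue.shf (PP f M p)) (a : Γ(S, ⊤)) :
    Function.Bijective ((ψψ f M p α).app (op (S.basicOpen a))) := by
  have h1 := bijective_toSheafify_basicOpen f M p a
  have h2 : Function.Bijective (α.inv.hom.app (op (S.basicOpen a))) :=
    ConcreteCategory.bijective_of_isIso _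
  exact h2.comp h1

variable [IsAffine S] [QuasiCompact f] [QuasiSeparated f] [M.IsQuasicoherent]

/-- **`R^p f_* M` is quasi-coherent** for `f` quasi-compact quasi-separated, `M` quasi-coherent, affine base. -/
theorem isQuasicoherent_of_isAffine : (NN f M p).IsQuasicoherent := by
  obtain ⟨α, hα⟩ := exists_iso f M p
  have hyp := RpushSections.hyp f M p
  have hψ := ψψ_bijective f M p α
  have hm := ψψ_smul f M p α hα
  have hinj := fun (c : Γ(S, ⊤)) => inj_of_hyp' (PP f M p) (fun c : Γ(S, ⊤) => S.basicOpen c) hyp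
    (Coh.toAb (NN f M p)) (ψψ f M p α) (fun r => Coh.smulAb (NN f M p) r) hψ hm 1 c ⊤ (S.basicOpen c)
    S.basicOpen_one.symm (by rw [S.basicOpen_one, top_inf_eq]) le_top
  have hsurj := fun (c : Γ(S, ⊤)) => surj_of_hyp' (PP f M p) (fun c : Γ(S, ⊤) => S.basicOpen c) hyp
    (Coh.toAb (NN f M p)) (ψψ f M p α) (fun r => Coh.smulAb (NN f M p) r) hψ hm 1 c ⊤ (S.basicOpen c)
    S.basicOpen_one.symm (by rw [S.basicOpen_one, top_inf_eq]) le_top
  refine Groth.Agent.Lib.QCoh.LocCrit.isQuasicoherent_of_elementwise (NN f M p)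
    (fun _ : PUnit.{u + 1} => (⊤ : S.Opens)) (by simp [TopologicalSpace.IsOpenCover])
    (fun _ => isAffineOpen_top S) ?_ ?_
  · intro _ g y
    obtain ⟨k, x, hx⟩ := hsurj g y
    refine ⟨k, x, ?_⟩
    refine hx.trans ?_
    have e : Coh.resTop S (op (S.basicOpen g)) (g ^ k) = (Coh.resTop S (op (S.basicOpen g)) g) ^ k :=
      map_pow _ _ _
    refine (Coh.smulAb_app (NN f M p) (g ^ k) (op (S.basicOpen g)) y).trans ?_
    rw [e]
    rfl
  · intro _ g x hx
    obtain ⟨k, hk⟩ := hinj g x hx
    refine ⟨k, ?_⟩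
    refine Eq.trans ?_ hk
    refine Eq.trans ?_ (Coh.smulAb_app (NN f M p) (g ^ k) (op ⊤) x).symm
    have e : Coh.resTop S (op ⊤) (g ^ k) = g ^ k := by
      change (S.ringCatSheaf.obj.map (𝟙 (op ⊤))).hom (g ^ k) = g ^ k
      rw [S.ringCatSheaf.obj.map_id]
      rfl
    rw [e]
    rfl

end Affine2

section General

open Groth.Agent.Lib.Cohomology.RpushLinear

variable {X S : Scheme.{u}} (f : X ⟶ S) [QuasiCompact f] [QuasiSeparated f]
  [HasInjectiveResolutions X.Modules] (M : X.Modules) [M.IsQuasicoherent] (p : ℕ)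

/-- **Higher direct images of quasi-coherent modules along quasi-compact quasi-separated morphisms are
quasi-coherent.** -/
theorem isQuasicoherent_Rpush : ((Coh.Rpush f p).obj M).IsQuasicoherent := by
  haveI : EnoughInjectives X.Modules := Groth.Agent.S0485.result _ _
  refine Groth.Agent.Lib.QCoh.isQuasicoherent_of_forall_affineOpens _ fun V => ?_
  haveI : EnoughInjectives (↑(f ⁻¹ᵁ (V : S.Opens)) : Scheme.{u}).Modules :=
    Groth.Agent.S0485.result _ _
  obtain ⟨e⟩ := nonempty_restrict_iso f (V : S.Opens) p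
  haveI : IsAffine (↑(V : S.Opens) : Scheme.{u}) := V.2
  have h := isQuasicoherent_of_isAffine (f ∣_ (V : S.Opens)) (M.restrict (f ⁻¹ᵁ (V : S.Opens)).ι) p
  exact Groth.Agent.Lib.QCoh.isQuasicoherent_of_iso (e.app M).symm h

end General

end Groth.Agent.Lib.Cohomology.RpushQCoh
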