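/-
Sections of higher direct images over affine opens of an arbitrary base (helper1).

`f : X ⟶ S` quasi-compact quasi-separated, `M` quasi-coherent on `X`, `V ⊆ S` an affine open.  Then the
canonical map `H^q(f⁻¹ V, M) → (sheafification of W ↦ H^q(f⁻¹ W, M))(V)` is bijective
(`bijective_toSheafify_of_isAffineOpen`), and hence `H^q(f⁻¹ V, M) ≃+ (R^q f_* M)(V)`
(`nonempty_HU_addEquiv_sections_Rpush`).
-/
import Groth.Agent.Lib.Cohomology.Helper1_RpushSections
import Groth.Agent.Lib.Cohomology.Helper1_RestrPresheaf
import Groth.Agent.Lib.QCoh.Helper50_Products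

set_option autoImplicit false
universe u

namespace Groth.Agent.Lib.Cohomology.RpushSectionsLocal

open CategoryTheory CategoryTheory.Limits Opposite TopologicalSpace AlgebraicGeometry Abelian
open Groth.Agent.Lib.Cohomology.RpushSections Groth.Agent.Lib.Cohomology.RestrPresheaf

section SheafifyRestrict

variable {S : Scheme.{u}} (P : (Opens S)ᵒᵖ ⥤ AddCommGrpCat.{u}) (V : S.Opens)

/-- sheafification commutes with restriction to an open: if `P|_V → (P|_V)^#` is bijective on global
sections of `V`, then `P → P^#` is bijective over `V`. -/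
theorem bijective_toSheafify_of_restrict
    (h : Function.Bijective ((toSheafify (Opens.grothendieckTopology (V : Scheme.{u}))
      (V.ι.opensFunctor.op ⋙ P)).app (op ⊤))) :
    Function.Bijective ((toSheafify (Opens.grothendieckTopology S) P).app (op V)) := by
  have eq := Functor.toSheafify_pullbackSheafificationCompatibility V.ι.opensFunctor
    AddCommGrpCat.{u} (Opens.grothendieckTopology (V : Scheme.{u})) (Opens.grothendieckTopology S) P
  have key : ∀ (V' : S.Opens) (_ : V.ι.opensFunctor.obj ⊤ = V'),
      Function.Bijective ((toSheafify (Opens.grothendieckTopology S) P).app (op V')) := by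
    intro V' hV'
    subst hV'
    have e1 := congr($(eq).app (op ⊤))
    have hiso : IsIso (((V.ι.opensFunctor.pushforwardContinuousSheafificationCompatibility
        AddCommGrpCat.{u} (Opens.grothendieckTopology (V : Scheme.{u}))
        (Opens.grothendieckTopology S)).hom.app P).hom.app (op ⊤)) := inferInstance
    have hb := (ConcreteCategory.bijective_of_isIso _ : Function.Bijective
      (((V.ι.opensFunctor.pushforwardContinuousSheafificationCompatibility
        AddCommGrpCat.{u} (Opens.grothendieckTopology (V : Scheme.{u}))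
        (Opens.grothendieckTopology S)).hom.app P).hom.app (op ⊤)))
    have e2 : (toSheafify (Opens.grothendieckTopology S) P).app (op (V.ι.opensFunctor.obj ⊤)) =
        (toSheafify (Opens.grothendieckTopology (V : Scheme.{u}))
          (V.ι.opensFunctor.op ⋙ P)).app (op ⊤) ≫
        ((V.ι.opensFunctor.pushforwardContinuousSheafificationCompatibility
          AddCommGrpCat.{u} (Opens.grothendieckTopology (V : Scheme.{u}))
          (Opens.grothendieckTopology S)).hom.app P).hom.app (op ⊤) := e1.symm
    rw [e2]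
    exact hb.comp h
  exact key V V.ι_image_top

end SheafifyRestrict

section Transfer

variable {Y : TopCat.{u}} {P Q : (Opens Y)ᵒᵖ ⥤ AddCommGrpCat.{u}}

/-- bijectivity of `P → P^#` on an open only depends on the isomorphism class of `P` -/
theorem bijective_toSheafify_of_iso (e : P ≅ Q) (W : (Opens Y)ᵒᵖ)
    (h : Function.Bijective ((toSheafify (Opens.grothendieckTopology Y) Q).app W)) :
    Function.Bijective ((toSheafify (Opens.grothendieckTopology Y) P).app W) := by
  have nat := congr($(toSheafify_naturality (Opens.grothendieckTopology Y) e.hom).app W)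
  rw [NatTrans.comp_app, NatTrans.comp_app] at nat
  have hi : IsIso (sheafifyMap (Opens.grothendieckTopology Y) e.hom) := by
    rw [← sheafification_map]
    infer_instance
  have hi2 : IsIso ((sheafifyMap (Opens.grothendieckTopology Y) e.hom).app W) := inferInstance
  have e2 : (toSheafify (Opens.grothendieckTopology Y) P).app W =
      e.hom.app W ≫ (toSheafify (Opens.grothendieckTopology Y) Q).app W ≫
        inv ((sheafifyMap (Opens.grothendieckTopology Y) e.hom).app W) := by
    rw [← Category.assoc, nat, Category.assoc, IsIso.hom_inv_id, Category.comp_id]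
  rw [e2]
  have b1 : Function.Bijective (e.hom.app W) := ConcreteCategory.bijective_of_isIso _
  have b3 : Function.Bijective (inv ((sheafifyMap (Opens.grothendieckTopology Y) e.hom).app W)) :=
    ConcreteCategory.bijective_of_isIso _
  exact (b3.comp h).comp b1

end Transfer

section Restr

variable {X S : Scheme.{u}} (f : X ⟶ S) (M : X.Modules) (q : ℕ) (V : S.Opens)

/-- `f⁻¹(V.ι W) = (f⁻¹V).ι ((f|_V)⁻¹ W)` as functors -/
noncomputable def opensIso :
    V.ι.opensFunctor ⋙ Opens.map f.base ≅
      Opens.map (f ∣_ V).base ⋙ jj (X := X.toTopCat) (f ⁻¹ᵁ V) :=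
  NatIso.ofComponents (fun W => eqToIso (image_morphismRestrict_preimage f V W).symm)

/-- the restriction of `W ↦ H^q(f⁻¹ W, M)` to `V` is `W ↦ H^q((f|_V)⁻¹ W, M|_{f⁻¹ V})` -/
noncomputable def restrIso :
    V.ι.opensFunctor.op ⋙ PP f M q ≅ PP (f ∣_ V) (M.restrict (f ⁻¹ᵁ V).ι) q :=
  (Functor.isoWhiskerRight (NatIso.op (opensIso f V)).symm
      (Sheaf.cohomologyPresheaf.{u} (Coh.toAb M) q)) ≪≫
    Functor.isoWhiskerLeft (Opens.map (f ∣_ V).base).op
      (presheafIso (X := X.toTopCat) (f ⁻¹ᵁ V) (Coh.toAb M) q)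

end Restr

section Main

variable {X S : Scheme.{u}} (f : X ⟶ S) [QuasiCompact f] [QuasiSeparated f]
  (M : X.Modules) [M.IsQuasicoherent] (q : ℕ)

/-- **`H^q(f⁻¹ V, M) → (sheafification of W ↦ H^q(f⁻¹ W, M))(V)` is bijective for `V` affine open**
(`S` arbitrary, `f` quasi-compact quasi-separated, `M` quasi-coherent). -/
theorem bijective_toSheafify_of_isAffineOpen (V : S.Opens) (hV : IsAffineOpen V) :
    Function.Bijective ((SheafifyGlue.θ (PP f M q)).app (op V)) := by
  haveI : IsAffine ↑V := hV
  haveI : (M.restrict (f ⁻¹ᵁ V).ι).IsQuasicoherent :=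
    Groth.Agent.Lib.QCoh.isQuasicoherent_restrict _ M
  have h1 := bijective_toSheafify_top (f ∣_ V) (M.restrict (f ⁻¹ᵁ V).ι) q
  have h2 := bijective_toSheafify_of_iso (restrIso f M q V) (op ⊤) h1
  exact bijective_toSheafify_of_restrict (PP f M q) V h2

/-- **`H^q(f⁻¹ V, M) ≃+ (R^q f_* M)(V)`** for `V ⊆ S` affine open, `f` quasi-compact quasi-separated,
`M` quasi-coherent. -/
theorem nonempty_HU_addEquiv_sections_Rpush (V : S.Opens) (hV : IsAffineOpen V) :
    Nonempty (CohTop.HU (Coh.toAb M) q (f ⁻¹ᵁ V) ≃+
      ↑(((Coh.RpushAb f q).obj (Coh.toAb M)).obj.obj (op V))) := by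
  obtain ⟨e⟩ := RpushSh.rpush_iso_sheafify f.base q (Coh.toAb M)
  let e2 : CohTop.HU (Coh.toAb M) q (f ⁻¹ᵁ V) ≃+ ↑((PP f M q).obj (op V)) := AddEquiv.refl _
  let e3 : ↑((PP f M q).obj (op V)) ≃+ ↑((SheafifyGlue.shf (PP f M q)).obj.obj (op V)) :=
    AddEquiv.ofBijective ((SheafifyGlue.θ (PP f M q)).app (op V)).hom
      (bijective_toSheafify_of_isAffineOpen f M q V hV)
  let e4 := (((sheafToPresheaf _ _).mapIso e).app (op V)).addCommGroupIsoToAddEquiv
  exact ⟨(e2.trans e3).trans e4.symm⟩

end Main

end Groth.Agent.Lib.Cohomology.RpushSectionsLocal
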