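import Groth.Agent.Lib.QCoh.Extension
import Groth.Agent.Lib.QCoh.OmegaS1
import Groth.Agent.Lib.QCoh.Helper50_AffineDict
import Groth.Agent.Lib.QCoh.Helper50_Products
import Groth.Agent.Lib.QCoh.Local
import Groth.Prelude.Def_ClSub2
import Groth.Agent.Lib.QCoh.Helper74_LocFreeLift
import Groth.Agent.S0048
import Mathlib.AlgebraicGeometry.IdealSheaf.Functorial
import Mathlib.Topology.Sheaves.CommRingCat

/-!
# Ingredients for Serre's criterion for affineness

* `subsingleton_HH_of_isZero`, `subsingleton_HH_mid`, `surjective_app_top_of_H1`: small pieces of the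
  long exact cohomology sequence for `Coh.HH`.
* `VanishSub M`: every quasi-coherent subobject of `M` has vanishing `H¹`; stable under binary
  biproducts (`vanishSub_biprod`).
-/

universe u

open CategoryTheory CategoryTheory.Limits AlgebraicGeometry Opposite TopologicalSpace
open CategoryTheory.Abelian

namespace Groth.Agent.Lib.Cohomology.SerreCrit

open Groth.Agent.Lib.QCoh

variable {X : Scheme.{u}}

/-- Cohomology of a zero module vanishes. -/
lemma subsingleton_HH_of_isZero (M : X.Modules) (hM : IsZero M) (n : ℕ) :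
    Subsingleton (Coh.HH X M n) := by
  have hz : IsZero (Coh.toAb M) := (toAbFunctor X).map_isZero hM
  refine ⟨fun a b => ?_⟩
  have h0 : ∀ x : Coh.HH X M n, x = 0 := by
    intro x
    have h1 : x = x.comp (Ext.mk₀ (𝟙 (Coh.toAb M))) (add_zero n) := by
      rw [Ext.comp_mk₀_id]
    rw [h1, hz.eq_of_src (𝟙 _) 0, Ext.mk₀_zero, Ext.comp_zero]
  rw [h0 a, h0 b]

/-- In a short exact sequence, if the outer terms have vanishing `Hⁿ` then so does the middle. -/
lemma subsingleton_HH_mid (S : ShortComplex X.Modules) (hS : S.ShortExact) (n : ℕ)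
    (h1 : Subsingleton (Coh.HH X S.X₁ n)) (h3 : Subsingleton (Coh.HH X S.X₃ n)) :
    Subsingleton (Coh.HH X S.X₂ n) := by
  have hS' : (S.map (toAbFunctor X)).ShortExact := hS.map_of_exact _
  refine ⟨fun a b => ?_⟩
  have h0 : ∀ x : Coh.HH X S.X₂ n, x = 0 := by
    intro x
    have hx : x.comp (Ext.mk₀ (S.map (toAbFunctor X)).g) (add_zero n) = 0 :=
      h3.elim _ _
    obtain ⟨x₁, hx₁⟩ := Ext.covariant_sequence_exact₂ _ hS' x hx
    have hx0 : x₁ = 0 := Subsingleton.elim (h := h1) _ _
    rw [← hx₁, hx0, Ext.zero_comp]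
    rfl
  rw [h0 a, h0 b]

/-- If `H¹(X, S.X₁) = 0` then `S.g` is surjective on global sections. -/
lemma surjective_app_top_of_H1 (S : ShortComplex X.Modules) (hS : S.ShortExact)
    (h : Subsingleton (Coh.HH X S.X₁ 1)) : Function.Surjective (S.g.app ⊤) := by
  have hS' : (S.map (toAbFunctor X)).ShortExact := hS.map_of_exact _
  have : Subsingleton (Sheaf.H (S.map (toAbFunctor X)).X₁ 1) := h
  exact surjective_app_of_subsingleton_H1 hS' CategoryTheory.Limits.isTerminalTop

/-- Every quasi-coherent subobject of `M` has vanishing `H¹`. -/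
def VanishSub (M : X.Modules) : Prop :=
  ∀ (M' : X.Modules) (j : M' ⟶ M), Mono j → M'.IsQuasicoherent → Subsingleton (Coh.HH X M' 1)

lemma vanishSub_of_isZero (M : X.Modules) (hM : IsZero M) : VanishSub M := by
  intro M' j hj _
  have hz : IsZero M' := by
    rw [IsZero.iff_id_eq_zero]
    apply (cancel_mono j).1
    exact hM.eq_of_tgt _ _
  exact subsingleton_HH_of_isZero M' hz 1

lemma vanishSub_biprod (A B : X.Modules) [A.IsQuasicoherent] [B.IsQuasicoherent]
    (hA : VanishSub A) (hB : VanishSub B) : VanishSub (A ⊞ B) := by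
  intro M' j hj hq
  let g : M' ⟶ B := j ≫ biprod.snd
  have hKq : (kernel g).IsQuasicoherent := isQuasicoherent_kernel g
  have hKmono : Mono (kernel.ι g ≫ j ≫ biprod.fst) := by
    apply Preadditive.mono_of_cancel_zero
    intro T a ha
    have h2 : a ≫ kernel.ι g ≫ j ≫ biprod.snd = 0 := by
      have : kernel.ι g ≫ j ≫ biprod.snd = 0 := kernel.condition g
      rw [this, comp_zero]
    have h3 : (a ≫ kernel.ι g) ≫ j = 0 := by
      apply biprod.hom_ext
      · simpa using ha
      · simpa using h2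
    have h4 : a ≫ kernel.ι g = 0 := by
      rw [← cancel_mono j, h3, zero_comp]
    rw [← cancel_mono (kernel.ι g), h4, zero_comp]
  have h1 : Subsingleton (Coh.HH X (kernel g) 1) := hA _ _ hKmono hKq
  have hCq : (Abelian.coimage g).IsQuasicoherent := isQuasicoherent_cokernel (kernel.ι g)
  have h3 : Subsingleton (Coh.HH X (Abelian.coimage g) 1) :=
    hB _ (Abelian.factorThruCoimage g) inferInstance hCq
  let S : ShortComplex X.Modules :=
    ShortComplex.mk (kernel.ι g) (Abelian.coimage.π g) (cokernel.condition _)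
  have hS : S.ShortExact :=
    { exact := S.exact_of_g_is_cokernel (cokernelIsCokernel (kernel.ι g))
      mono_f := inferInstanceAs (Mono (kernel.ι g))
      epi_g := inferInstanceAs (Epi (cokernel.π (kernel.ι g))) }
  exact subsingleton_HH_mid S hS 1 h1 h3

section Pow

open Scheme.Modules ZeroObject

/-- Multiplication by a global function, as an endomorphism of the structure sheaf. -/
noncomputable def mul (f : Γ(X, ⊤)) : Coh.structureModule X ⟶ Coh.structureModule X :=
  Lift74.unitHomOfTop (Coh.structureModule X) f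

lemma mul_app_one (f : Γ(X, ⊤)) (V : X.Opens) :
    (mul f).app V (show Γ(Coh.structureModule X, V) from (1 : Γ(X, V))) =
      (show Γ(Coh.structureModule X, V) from X.presheaf.map (homOfLE le_top : V ⟶ ⊤).op f) := by
  have h2 := app_naturality_apply (mul f) (homOfLE le_top : V ⟶ ⊤)
    (show Γ(Coh.structureModule X, ⊤) from (1 : Γ(X, ⊤)))
  have h3 : (mul f).app ⊤ (show Γ(Coh.structureModule X, ⊤) from (1 : Γ(X, ⊤))) = f :=
    Lift74.unitHomOfTop_app_one (Coh.structureModule X) f
  rw [h3] at h2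
  refine Eq.trans ?_ h2
  have h5 : (Coh.structureModule X).presheaf.map (homOfLE le_top : V ⟶ ⊤).op
      (show Γ(Coh.structureModule X, ⊤) from (1 : Γ(X, ⊤))) =
      (show Γ(Coh.structureModule X, V) from (1 : Γ(X, V))) :=
    map_one (X.presheaf.map (homOfLE le_top : V ⟶ ⊤).op).hom
  rw [h5]

lemma mul_app (f : Γ(X, ⊤)) (V : X.Opens) (x : Γ(X, V)) :
    (mul f).app V (show Γ(Coh.structureModule X, V) from x) =
      (show Γ(Coh.structureModule X, V) from x * X.presheaf.map (homOfLE le_top : V ⟶ ⊤).op f) := by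
  have h4 := Scheme.Modules.Hom.app_smul (mul f) x
    (show Γ(Coh.structureModule X, V) from (1 : Γ(X, V)))
  rw [mul_app_one] at h4
  refine Eq.trans ?_ h4
  congr 1
  exact (mul_one x).symm

/-- `O_X^n`, defined recursively. -/
noncomputable def pow (X : Scheme.{u}) : ℕ → X.Modules
  | 0 => 0
  | (n + 1) => Coh.structureModule X ⊞ pow X n

/-- The map `O_X^n ⟶ O_X` given by the functions `f 0, …, f (n-1)`. -/
noncomputable def P : (f : ℕ → Γ(X, ⊤)) → (n : ℕ) → (pow X n ⟶ Coh.structureModule X)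
  | _, 0 => 0
  | f, (n + 1) => biprod.desc (mul (f 0)) (P (fun k => f (k + 1)) n)

instance isQuasicoherent_pow (n : ℕ) : (pow X n).IsQuasicoherent := by
  induction n with
  | zero => exact Groth.Agent.S0048.isQuasicoherent_of_isZero (isZero_zero X.Modules)
  | succ n ih => exact isQuasicoherent_biprod _ _

lemma vanishSub_pow (h : VanishSub (Coh.structureModule X)) (n : ℕ) : VanishSub (pow X n) := by
  induction n with
  | zero => exact vanishSub_of_isZero _ (isZero_zero X.Modules)
  | succ n ih => exact vanishSub_biprod _ _ h ih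

lemma P_app_top_mem_span (f : ℕ → Γ(X, ⊤)) (n : ℕ) (s : Γ(pow X n, ⊤)) :
    (show Γ(X, ⊤) from (P f n).app ⊤ s) ∈ Ideal.span (f '' Set.Iio n) := by
  induction n generalizing f with
  | zero =>
    have : (P f 0).app ⊤ s = 0 := rfl
    rw [this]; exact Ideal.zero_mem _
  | succ n ih =>
    have hdesc : P f (n + 1) = biprod.fst ≫ mul (f 0) + biprod.snd ≫ P (fun k => f (k + 1)) n :=
      biprod.desc_eq
    have h1 : (P f (n + 1)).app ⊤ s =
        (mul (f 0)).app ⊤ ((biprod.fst : pow X (n + 1) ⟶ _).app ⊤ s) +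
          (P (fun k => f (k + 1)) n).app ⊤ ((biprod.snd : pow X (n + 1) ⟶ _).app ⊤ s) := by
      rw [hdesc]; rfl
    rw [h1]
    refine Ideal.add_mem _ ?_ ?_
    · have h2 := mul_app (f 0) ⊤ (show Γ(X, ⊤) from (biprod.fst : pow X (n + 1) ⟶ _).app ⊤ s)
      rw [h2]
      refine Ideal.mul_mem_left _ _ ?_
      have : X.presheaf.map (homOfLE le_top : (⊤ : X.Opens) ⟶ ⊤).op (f 0) = f 0 := by
        have : (homOfLE le_top : (⊤ : X.Opens) ⟶ ⊤) = 𝟙 _ := rfl
        rw [this, op_id, X.presheaf.map_id]; rfl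
      rw [this]
      exact Ideal.subset_span ⟨0, Nat.succ_pos n, rfl⟩
    · have := ih (fun k => f (k + 1)) ((biprod.snd : pow X (n + 1) ⟶ _).app ⊤ s)
      refine Ideal.span_mono ?_ this
      rintro _ ⟨k, hk, rfl⟩
      exact ⟨k + 1, Nat.succ_lt_succ hk, rfl⟩

lemma P_app_surjective (f : ℕ → Γ(X, ⊤)) (n k : ℕ) (hk : k < n) (V : X.Opens)
    (hV : V ≤ X.basicOpen (f k)) : Function.Surjective ((P f n).app V) := by
  induction n generalizing f k with
  | zero => exact absurd hk (Nat.not_lt_zero _)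
  | succ n ih =>
    intro t
    cases k with
    | zero =>
      have hu : IsUnit (X.presheaf.map (homOfLE le_top : V ⟶ ⊤).op (f 0)) := by
        have h1 := RingedSpace.isUnit_res_basicOpen X.toRingedSpace (f 0)
        have h2 : X.presheaf.map (homOfLE le_top : V ⟶ ⊤).op (f 0) =
            X.presheaf.map (homOfLE hV).op (X.presheaf.map
              (homOfLE (X.basicOpen_le (f 0))).op (f 0)) := by
          rw [← ConcreteCategory.comp_apply, ← Functor.map_comp]; rfl
        rw [h2]
        exact h1.map _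
      obtain ⟨u, hu'⟩ := hu
      let y : Γ(X, V) := (show Γ(X, V) from t) * ↑u⁻¹
      refine ⟨(biprod.inl : _ ⟶ pow X (n + 1)).app V (show Γ(Coh.structureModule X, V) from y), ?_⟩
      have h3 : (biprod.inl : _ ⟶ pow X (n + 1)) ≫ P f (n + 1) = mul (f 0) := biprod.inl_desc _ _
      have h4 : (P f (n + 1)).app V ((biprod.inl : _ ⟶ pow X (n + 1)).app V
          (show Γ(Coh.structureModule X, V) from y)) =
          (mul (f 0)).app V (show Γ(Coh.structureModule X, V) from y) := by
        rw [← h3]; rfl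
      rw [h4, mul_app, ← hu']
      show (show Γ(X, V) from t) * ↑u⁻¹ * ↑u = (show Γ(X, V) from t)
      rw [mul_assoc, Units.inv_mul, mul_one]
    | succ k =>
      obtain ⟨s', hs'⟩ := ih (fun j => f (j + 1)) k (Nat.lt_of_succ_lt_succ hk) hV t
      refine ⟨(biprod.inr : _ ⟶ pow X (n + 1)).app V s', ?_⟩
      have h3 : (biprod.inr : _ ⟶ pow X (n + 1)) ≫ P f (n + 1) = P (fun j => f (j + 1)) n :=
        biprod.inr_desc _ _
      have h4 : (P f (n + 1)).app V ((biprod.inr : _ ⟶ pow X (n + 1)).app V s') =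
          (P (fun j => f (j + 1)) n).app V s' := by
        rw [← h3]; rfl
      rw [h4, hs']

end Pow

section Criterion

open Scheme.Modules

/-- If the basic opens of `f 0, …, f (n-1)` cover `X` and `H¹` vanishes for all quasi-coherent
ideal sheaves, then these functions generate the unit ideal. -/
theorem span_eq_top_of_cover (h : VanishSub (Coh.structureModule X)) (f : ℕ → Γ(X, ⊤)) (n : ℕ)
    (hcov : ∀ x : X, ∃ k < n, x ∈ X.basicOpen (f k)) : Ideal.span (f '' Set.Iio n) = ⊤ := by
  have hepi : Epi (P f n) := by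
    let B : {V : X.Opens // ∃ k < n, V ≤ X.basicOpen (f k)} → X.Opens := Subtype.val
    refine epi_of_surjective_of_isBasis B ?_ (P f n) ?_
    · rw [Opens.isBasis_iff_nbhd]
      intro U x hx
      obtain ⟨k, hk, hxk⟩ := hcov x
      exact ⟨U ⊓ X.basicOpen (f k), ⟨⟨_, k, hk, inf_le_right⟩, rfl⟩, ⟨hx, hxk⟩, inf_le_left⟩
    · rintro ⟨V, k, hk, hV⟩
      exact P_app_surjective f n k hk V hV
  let S : ShortComplex X.Modules :=
    ShortComplex.mk (kernel.ι (P f n)) (P f n) (kernel.condition _)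
  have hS : S.ShortExact :=
    { exact := ShortComplex.exact_of_f_is_kernel S (kernelIsKernel _)
      mono_f := inferInstanceAs (Mono (kernel.ι (P f n)))
      epi_g := hepi }
  have hK : Subsingleton (Coh.HH X (kernel (P f n)) 1) :=
    vanishSub_pow h n _ (kernel.ι _) inferInstance (isQuasicoherent_kernel _)
  obtain ⟨s, hs⟩ := surjective_app_top_of_H1 S hS hK
    (show Γ(Coh.structureModule X, ⊤) from (1 : Γ(X, ⊤)))
  rw [Ideal.eq_top_iff_one]
  have h1 := P_app_top_mem_span f n s
  have h2 : (show Γ(X, ⊤) from (P f n).app ⊤ s) = 1 := hs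
  rw [h2] at h1
  exact h1

/-- Under the vanishing hypothesis, global functions surject onto the global functions of any
closed subscheme. -/
theorem surjective_appTop_subschemeι (h : VanishSub (Coh.structureModule X))
    (I : X.IdealSheafData) : Function.Surjective I.subschemeι.appTop := by
  have hepi : Epi (ClSub.toSubscheme I) := by
    apply epi_of_forall_affine_surjective
    intro U
    exact I.subschemeι.app_surjective U.1 U.2
  let S : ShortComplex X.Modules :=
    ShortComplex.mk (kernel.ι (ClSub.toSubscheme I)) (ClSub.toSubscheme I) (kernel.condition _)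
  have hS : S.ShortExact :=
    { exact := ShortComplex.exact_of_f_is_kernel S (kernelIsKernel _)
      mono_f := inferInstanceAs (Mono (kernel.ι (ClSub.toSubscheme I)))
      epi_g := hepi }
  have hK : Subsingleton (Coh.HH X (kernel (ClSub.toSubscheme I)) 1) :=
    h _ (kernel.ι _) inferInstance (isQuasicoherent_kernel _)
  exact surjective_app_top_of_H1 S hS hK

/-- On a scheme which is the disjoint union of two opens there is a global function equal to `1`
on the first and `0` on the second. -/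
lemma exists_idempotent_section (W : Scheme.{u}) (W₁ W₂ : W.Opens) (hdisj : W₁ ⊓ W₂ = ⊥)
    (hcov : W₁ ⊔ W₂ = ⊤) :
    ∃ e : Γ(W, ⊤), W.presheaf.map (homOfLE le_top : W₁ ⟶ ⊤).op e = 1 ∧
      W.presheaf.map (homOfLE le_top : W₂ ⟶ ⊤).op e = 0 := by
  haveI : Subsingleton Γ(W, W₁ ⊓ W₂) := by rw [hdisj]; infer_instance
  let x : (CommRingCat.of <| RingHom.eqLocus
      (RingHom.comp (W.sheaf.obj.map (homOfLE inf_le_left : W₁ ⊓ W₂ ⟶ W₁).op).hom
        (RingHom.fst (W.sheaf.obj.obj <| op W₁) (W.sheaf.obj.obj <| op W₂)))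
      (RingHom.comp (W.sheaf.obj.map (homOfLE inf_le_right : W₁ ⊓ W₂ ⟶ W₂).op).hom
        (RingHom.snd (W.sheaf.obj.obj <| op W₁) (W.sheaf.obj.obj <| op W₂)))) :=
    ⟨((1 : Γ(W, W₁)), (0 : Γ(W, W₂))), Subsingleton.elim (α := Γ(W, W₁ ⊓ W₂)) _ _⟩
  let e' : Γ(W, W₁ ⊔ W₂) := (W.sheaf.objSupIsoProdEqLocus W₁ W₂).inv x
  have h1 : W.presheaf.map (homOfLE le_sup_left : W₁ ⟶ W₁ ⊔ W₂).op e' = 1 :=
    TopCat.Sheaf.objSupIsoProdEqLocus_inv_fst W.sheaf W₁ W₂ x
  have h2 : W.presheaf.map (homOfLE le_sup_right : W₂ ⟶ W₁ ⊔ W₂).op e' = 0 :=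
    TopCat.Sheaf.objSupIsoProdEqLocus_inv_snd W.sheaf W₁ W₂ x
  refine ⟨W.presheaf.map (homOfLE hcov.symm.le : (⊤ : W.Opens) ⟶ W₁ ⊔ W₂).op e', ?_, ?_⟩
  · rw [← ConcreteCategory.comp_apply, ← Functor.map_comp]
    exact h1
  · rw [← ConcreteCategory.comp_apply, ← Functor.map_comp]
    exact h2

/-- Under the vanishing hypothesis, every closed point has arbitrarily small neighbourhoods of the
form `X_f` with `f` a global function. -/
theorem exists_basicOpen_le (h : VanishSub (Coh.structureModule X)) (x : X)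
    (hx : IsClosed ({x} : Set X)) (U : X.Opens) (hxU : x ∈ U) :
    ∃ f : Γ(X, ⊤), x ∈ X.basicOpen f ∧ X.basicOpen f ≤ U := by
  let Z' : Closeds X := ⟨(U : Set X)ᶜ ∪ {x}, U.isOpen.isClosed_compl.union hx⟩
  let I := Scheme.IdealSheafData.vanishingIdeal Z'
  have hrange : Set.range I.subschemeι = (U : Set X)ᶜ ∪ {x} := by
    rw [Scheme.IdealSheafData.range_subschemeι, Scheme.IdealSheafData.coe_support_vanishingIdeal]
    rfl
  let W₁ : I.subscheme.Opens := I.subschemeι ⁻¹ᵁ U
  let W₂ : I.subscheme.Opens := I.subschemeι ⁻¹ᵁ ⟨{x}ᶜ, hx.isOpen_compl⟩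
  have hmem : ∀ w : I.subscheme, I.subschemeι w ∈ (U : Set X)ᶜ ∪ {x} := fun w => by
    rw [← hrange]; exact ⟨w, rfl⟩
  have hdisj : W₁ ⊓ W₂ = ⊥ := by
    ext w
    simp only [Opens.coe_inf, Set.mem_inter_iff, SetLike.mem_coe, Opens.coe_bot,
      Set.mem_empty_iff_false, iff_false, not_and]
    intro hw1 hw2
    rcases hmem w with hw | hw
    · exact hw hw1
    · exact hw2 hw
  have hcov : W₁ ⊔ W₂ = ⊤ := by
    ext w
    simp only [Opens.coe_sup, Set.mem_union, SetLike.mem_coe, Opens.coe_top, Set.mem_univ, iff_true]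
    by_cases hw : I.subschemeι w = x
    · left; show I.subschemeι w ∈ U; rw [hw]; exact hxU
    · right; exact hw
  obtain ⟨e, he1, he2⟩ := exists_idempotent_section I.subscheme W₁ W₂ hdisj hcov
  obtain ⟨f, hf⟩ := surjective_appTop_subschemeι h I e
  have hpre : I.subschemeι ⁻¹ᵁ X.basicOpen f = I.subscheme.basicOpen e := by
    rw [Scheme.preimage_basicOpen_top, hf]
  have hW₁ : W₁ ≤ I.subscheme.basicOpen e := by
    have := I.subscheme.basicOpen_res e (homOfLE le_top : W₁ ⟶ ⊤).op
    rw [he1, Scheme.basicOpen_of_isUnit _ isUnit_one] at this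
    rw [this]; exact inf_le_right
  have hW₂ : W₂ ⊓ I.subscheme.basicOpen e = ⊥ := by
    have := I.subscheme.basicOpen_res e (homOfLE le_top : W₂ ⟶ ⊤).op
    rw [he2, Scheme.basicOpen_zero] at this
    exact this.symm
  refine ⟨f, ?_, ?_⟩
  · obtain ⟨w, hw⟩ : x ∈ Set.range I.subschemeι := by rw [hrange]; right; rfl
    have hw1 : w ∈ W₁ := by show I.subschemeι w ∈ U; rw [hw]; exact hxU
    have hw2 : w ∈ I.subschemeι ⁻¹ᵁ X.basicOpen f := by rw [hpre]; exact hW₁ hw1
    rw [← hw]; exact hw2
  · intro y hy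
    by_contra hyU
    obtain ⟨w, hw⟩ : y ∈ Set.range I.subschemeι := by rw [hrange]; left; exact hyU
    have hne : I.subschemeι w ≠ x := by
      rw [hw]; rintro rfl; exact hyU hxU
    have hw2 : w ∈ W₂ := hne
    have hw3 : w ∈ I.subscheme.basicOpen e := by
      rw [← hpre]; show I.subschemeι w ∈ X.basicOpen f; rw [hw]; exact hy
    have : w ∈ W₂ ⊓ I.subscheme.basicOpen e := ⟨hw2, hw3⟩
    rw [hW₂] at this
    exact this

/-- **Serre's criterion**: a quasi-compact scheme on which `H¹` of every quasi-coherent ideal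
sheaf vanishes is affine. -/
theorem isAffine_of_vanishSub [CompactSpace X] (h : VanishSub (Coh.structureModule X)) :
    IsAffine X := by
  classical
  let s : Set Γ(X, ⊤) := {f | IsAffineOpen (X.basicOpen f)}
  -- the affine basic opens cover `X`
  have hcover : ∀ x : X, ∃ f ∈ s, x ∈ X.basicOpen f := by
    by_contra hcon
    push Not at hcon
    obtain ⟨x₀, hx₀⟩ := hcon
    let T : Set X := {x | ∀ f ∈ s, x ∉ X.basicOpen f}
    have hT : IsClosed T := by
      have : T = ⋂ f ∈ s, ((X.basicOpen f : Set X))ᶜ := by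
        ext x; simp [T]
      rw [this]
      exact isClosed_biInter fun f _ => (X.basicOpen f).isOpen.isClosed_compl
    obtain ⟨x, hxT, hxc⟩ := hT.exists_closed_singleton ⟨x₀, hx₀⟩
    obtain ⟨_, ⟨U, hU : IsAffineOpen U, rfl⟩, hxU, -⟩ :=
      X.isBasis_affineOpens.exists_subset_of_mem_open (Set.mem_univ x) isOpen_univ
    obtain ⟨f, hxf, hfU⟩ := exists_basicOpen_le h x hxc U hxU
    refine hxT f ?_ hxf
    show IsAffineOpen (X.basicOpen f)
    have h1 : X.basicOpen (X.presheaf.map (homOfLE le_top : U ⟶ ⊤).op f) = X.basicOpen f := by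
      rw [Scheme.basicOpen_res]; exact inf_eq_right.mpr hfU
    rw [← h1]
    exact hU.basicOpen _
  -- finite subcover
  choose g hgs hg using hcover
  obtain ⟨t, ht⟩ := isCompact_univ.elim_finite_subcover (fun x : X => (X.basicOpen (g x) : Set X))
    (fun x => (X.basicOpen (g x)).isOpen) (fun x _ => Set.mem_iUnion.2 ⟨x, hg x⟩)
  -- enumerate
  let e := t.equivFin
  let f : ℕ → Γ(X, ⊤) := fun k => if hk : k < t.card then g (e.symm ⟨k, hk⟩).1 else 0
  have hf : ∀ k < t.card, f k ∈ s := fun k hk => by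
    simp only [f, dif_pos hk]; exact hgs _
  have hcov : ∀ x : X, ∃ k < t.card, x ∈ X.basicOpen (f k) := by
    intro x
    obtain ⟨y, hyt, hxy⟩ : ∃ y ∈ t, x ∈ X.basicOpen (g y) := by
      have := ht (Set.mem_univ x)
      simpa using this
    refine ⟨(e ⟨y, hyt⟩).1, (e ⟨y, hyt⟩).2, ?_⟩
    simp only [f, dif_pos (e ⟨y, hyt⟩).2, Fin.eta, Equiv.symm_apply_apply]
    exact hxy
  have hspan := span_eq_top_of_cover h f t.card hcov
  refine isAffine_of_isAffineOpen_basicOpen s ?_ (fun i hi => hi)
  rw [eq_top_iff, ← hspan]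
  apply Ideal.span_mono
  rintro _ ⟨k, hk, rfl⟩
  exact hf k hk

end Criterion

end Groth.Agent.Lib.Cohomology.SerreCrit
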