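import Groth.Agent.Lib.Cohomology.Helper1_SerreCrit

/-!
# Serre's criterion, abstract form

`isAffine_of_surjective`: a quasi-compact scheme is affine as soon as
(A) global functions surject onto global functions of every closed subscheme, and
(B) for every finite family of global functions whose basic opens cover `X`, the map
    `⨁ O_X ⟶ O_X` they define is surjective on global sections.
-/

universe u

open CategoryTheory CategoryTheory.Limits AlgebraicGeometry Opposite TopologicalSpace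

namespace Groth.Agent.Lib.Cohomology.SerreCrit

open Groth.Agent.Lib.QCoh Scheme.Modules

variable {X : Scheme.{u}}

attribute [local instance] CategoryTheory.Abelian.hasFiniteBiproducts

/-- The map `⨁_{i : Fin n} O_X ⟶ O_X` given by a family of global functions. -/
noncomputable def Pb (n : ℕ) (f : Fin n → Γ(X, ⊤)) :
    (⨁ fun _ : Fin n => Coh.structureModule X) ⟶ Coh.structureModule X :=
  biproduct.desc (fun i => mul (f i))

lemma sum_app {M N : X.Modules} {ι : Type*} (t : Finset ι) (φ : ι → (M ⟶ N)) (U : X.Opens)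
    (s : Γ(M, U)) : (∑ i ∈ t, φ i).app U s = ∑ i ∈ t, (φ i).app U s := by
  classical
  induction t using Finset.induction_on with
  | empty => simp only [Finset.sum_empty]; rfl
  | insert a t ha ih =>
    rw [Finset.sum_insert ha, Finset.sum_insert ha, ← ih]
    rfl

lemma Pb_app_top_mem_span (n : ℕ) (f : Fin n → Γ(X, ⊤))
    (s : Γ(⨁ fun _ : Fin n => Coh.structureModule X, ⊤)) :
    (show Γ(X, ⊤) from (Pb n f).app ⊤ s) ∈ Ideal.span (Set.range f) := by
  have hdesc : Pb n f = ∑ i, biproduct.π (fun _ : Fin n => Coh.structureModule X) i ≫ mul (f i) :=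
    biproduct.desc_eq
  have h1 : (Pb n f).app ⊤ s = ∑ i, (mul (f i)).app ⊤
      ((biproduct.π (fun _ : Fin n => Coh.structureModule X) i).app ⊤ s) := by
    rw [hdesc, sum_app]; rfl
  rw [h1]
  refine Ideal.sum_mem _ fun i _ => ?_
  have h2 := mul_app (f i) ⊤
    (show Γ(X, ⊤) from (biproduct.π (fun _ : Fin n => Coh.structureModule X) i).app ⊤ s)
  rw [h2]
  refine Ideal.mul_mem_left _ _ ?_
  have : X.presheaf.map (homOfLE le_top : (⊤ : X.Opens) ⟶ ⊤).op (f i) = f i := by
    have : (homOfLE le_top : (⊤ : X.Opens) ⟶ ⊤) = 𝟙 _ := rfl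
    rw [this, op_id, X.presheaf.map_id]; rfl
  rw [this]
  exact Ideal.subset_span ⟨i, rfl⟩

lemma Pb_app_surjective (n : ℕ) (f : Fin n → Γ(X, ⊤)) (i : Fin n) (V : X.Opens)
    (hV : V ≤ X.basicOpen (f i)) : Function.Surjective ((Pb n f).app V) := by
  intro t
  have hu : IsUnit (X.presheaf.map (homOfLE le_top : V ⟶ ⊤).op (f i)) := by
    have h1 := RingedSpace.isUnit_res_basicOpen X.toRingedSpace (f i)
    have h2 : X.presheaf.map (homOfLE le_top : V ⟶ ⊤).op (f i) =
        X.presheaf.map (homOfLE hV).op (X.presheaf.map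
          (homOfLE (X.basicOpen_le (f i))).op (f i)) := by
      rw [← ConcreteCategory.comp_apply, ← Functor.map_comp]; rfl
    rw [h2]
    exact h1.map _
  obtain ⟨u, hu'⟩ := hu
  let y : Γ(X, V) := (show Γ(X, V) from t) * ↑u⁻¹
  refine ⟨(biproduct.ι (fun _ : Fin n => Coh.structureModule X) i).app V
    (show Γ(Coh.structureModule X, V) from y), ?_⟩
  have h3 : biproduct.ι (fun _ : Fin n => Coh.structureModule X) i ≫ Pb n f = mul (f i) :=
    biproduct.ι_desc _ _
  have h4 : (Pb n f).app V ((biproduct.ι (fun _ : Fin n => Coh.structureModule X) i).app V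
      (show Γ(Coh.structureModule X, V) from y)) =
      (mul (f i)).app V (show Γ(Coh.structureModule X, V) from y) := by
    rw [← h3]; rfl
  rw [h4, mul_app, ← hu']
  show (show Γ(X, V) from t) * ↑u⁻¹ * ↑u = (show Γ(X, V) from t)
  rw [mul_assoc, Units.inv_mul, mul_one]

lemma epi_Pb (n : ℕ) (f : Fin n → Γ(X, ⊤)) (hcov : ∀ x : X, ∃ i, x ∈ X.basicOpen (f i)) :
    Epi (Pb n f) := by
  let B : {V : X.Opens // ∃ i, V ≤ X.basicOpen (f i)} → X.Opens := Subtype.val
  refine epi_of_surjective_of_isBasis B ?_ (Pb n f) ?_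
  · rw [Opens.isBasis_iff_nbhd]
    intro U x hx
    obtain ⟨i, hxi⟩ := hcov x
    exact ⟨U ⊓ X.basicOpen (f i), ⟨⟨_, i, inf_le_right⟩, rfl⟩, ⟨hx, hxi⟩, inf_le_left⟩
  · rintro ⟨V, i, hV⟩
    exact Pb_app_surjective n f i V hV

instance isQuasicoherent_biproduct_structureModule (n : ℕ) :
    (⨁ fun _ : Fin n => Coh.structureModule X).IsQuasicoherent :=
  isQuasicoherent_of_iso (biproduct.isoProduct _).symm
    (isQuasicoherent_pi_of_finite _ fun _ => inferInstance)

/-- `epi` of `toSubscheme`. -/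
lemma epi_toSubscheme (I : X.IdealSheafData) : Epi (ClSub.toSubscheme I) := by
  apply epi_of_forall_affine_surjective
  intro U
  exact I.subschemeι.app_surjective U.1 U.2

/-- Closed points have small basic-open neighbourhoods, given surjectivity (A). -/
theorem exists_basicOpen_le' (hA : ∀ I : X.IdealSheafData, Function.Surjective I.subschemeι.appTop)
    (x : X) (hx : IsClosed ({x} : Set X)) (U : X.Opens) (hxU : x ∈ U) :
    ∃ f : Γ(X, ⊤), x ∈ X.basicOpen f ∧ X.basicOpen f ≤ U := by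
  let Z' : Closeds X := ⟨(U : Set X)ᶜ ∪ {x}, U.isOpen.isClosed_compl.union hx⟩
  let I := Scheme.IdealSheafData.vanishingIdeal Z'
  have hrange : Set.range I.subschemeι = (U : Set X)ᶜ ∪ {x} := by
    rw [Scheme.IdealSheafData.range_subschemeι, Scheme.IdealSheafData.coe_support_vanishingIdeal]
    rfl
  let W₁ : I.subscheme.Opens := I.subschemeι ⁻¹ᵁ U
  let W₂ : I.subscheme.Opens := I.subschemeι ⁻¹ᵁ ⟨{x}ᶜ, hx.isOpen_compl⟩
  have hmem : ∀ w : I.subscheme, I.subschemeι w ∈ (U : Set X)ᶜ ∪ {x} := fun w => by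
    rw [← hrange]; exact ⟨w, rfl⟩
  have hdisj : W₁ ⊓ W₂ = ⊥ := by
    ext w
    simp only [Opens.coe_inf, Set.mem_inter_iff, SetLike.mem_coe, Opens.coe_bot,
      Set.mem_empty_iff_false, iff_false, not_and]
    intro hw1 hw2
    rcases hmem w with hw | hw
    · exact hw hw1
    · exact hw2 hw
  have hcov : W₁ ⊔ W₂ = ⊤ := by
    ext w
    simp only [Opens.coe_sup, Set.mem_union, SetLike.mem_coe, Opens.coe_top, Set.mem_univ, iff_true]
    by_cases hw : I.subschemeι w = x
    · left; show I.subschemeι w ∈ U; rw [hw]; exact hxU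
    · right; exact hw
  obtain ⟨e, he1, he2⟩ := exists_idempotent_section I.subscheme W₁ W₂ hdisj hcov
  obtain ⟨f, hf⟩ := hA I e
  have hpre : I.subschemeι ⁻¹ᵁ X.basicOpen f = I.subscheme.basicOpen e := by
    rw [Scheme.preimage_basicOpen_top, hf]
  have hW₁ : W₁ ≤ I.subscheme.basicOpen e := by
    have := I.subscheme.basicOpen_res e (homOfLE le_top : W₁ ⟶ ⊤).op
    rw [he1, Scheme.basicOpen_of_isUnit _ isUnit_one] at this
    rw [this]; exact inf_le_right
  have hW₂ : W₂ ⊓ I.subscheme.basicOpen e = ⊥ := by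
    have := I.subscheme.basicOpen_res e (homOfLE le_top : W₂ ⟶ ⊤).op
    rw [he2, Scheme.basicOpen_zero] at this
    exact this.symm
  refine ⟨f, ?_, ?_⟩
  · obtain ⟨w, hw⟩ : x ∈ Set.range I.subschemeι := by rw [hrange]; right; rfl
    have hw1 : w ∈ W₁ := by show I.subschemeι w ∈ U; rw [hw]; exact hxU
    have hw2 : w ∈ I.subschemeι ⁻¹ᵁ X.basicOpen f := by rw [hpre]; exact hW₁ hw1
    rw [← hw]; exact hw2
  · intro y hy
    by_contra hyU
    obtain ⟨w, hw⟩ : y ∈ Set.range I.subschemeι := by rw [hrange]; left; exact hyU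
    have hne : I.subschemeι w ≠ x := by
      rw [hw]; rintro rfl; exact hyU hxU
    have hw2 : w ∈ W₂ := hne
    have hw3 : w ∈ I.subscheme.basicOpen e := by
      rw [← hpre]; show I.subschemeι w ∈ X.basicOpen f; rw [hw]; exact hy
    have : w ∈ W₂ ⊓ I.subscheme.basicOpen e := ⟨hw2, hw3⟩
    rw [hW₂] at this
    exact this

/-- **Serre's criterion, abstract form.** -/
theorem isAffine_of_surjective [CompactSpace X]
    (hA : ∀ I : X.IdealSheafData, Function.Surjective I.subschemeι.appTop)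
    (hB : ∀ (n : ℕ) (f : Fin n → Γ(X, ⊤)), (∀ x : X, ∃ i, x ∈ X.basicOpen (f i)) →
      Function.Surjective ((Pb n f).app ⊤)) : IsAffine X := by
  classical
  let s : Set Γ(X, ⊤) := {f | IsAffineOpen (X.basicOpen f)}
  have hcover : ∀ x : X, ∃ f ∈ s, x ∈ X.basicOpen f := by
    by_contra hcon
    push Not at hcon
    obtain ⟨x₀, hx₀⟩ := hcon
    let T : Set X := {x | ∀ f ∈ s, x ∉ X.basicOpen f}
    have hT : IsClosed T := by
      have : T = ⋂ f ∈ s, ((X.basicOpen f : Set X))ᶜ := by
        ext x; simp [T]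
      rw [this]
      exact isClosed_biInter fun f _ => (X.basicOpen f).isOpen.isClosed_compl
    obtain ⟨x, hxT, hxc⟩ := hT.exists_closed_singleton ⟨x₀, hx₀⟩
    obtain ⟨_, ⟨U, hU : IsAffineOpen U, rfl⟩, hxU, -⟩ :=
      X.isBasis_affineOpens.exists_subset_of_mem_open (Set.mem_univ x) isOpen_univ
    obtain ⟨f, hxf, hfU⟩ := exists_basicOpen_le' hA x hxc U hxU
    refine hxT f ?_ hxf
    show IsAffineOpen (X.basicOpen f)
    have h1 : X.basicOpen (X.presheaf.map (homOfLE le_top : U ⟶ ⊤).op f) = X.basicOpen f := by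
      rw [Scheme.basicOpen_res]; exact inf_eq_right.mpr hfU
    rw [← h1]
    exact hU.basicOpen _
  choose g hgs hg using hcover
  obtain ⟨t, ht⟩ := isCompact_univ.elim_finite_subcover (fun x : X => (X.basicOpen (g x) : Set X))
    (fun x => (X.basicOpen (g x)).isOpen) (fun x _ => Set.mem_iUnion.2 ⟨x, hg x⟩)
  let e := t.equivFin
  let f : Fin t.card → Γ(X, ⊤) := fun k => g (e.symm k).1
  have hf : ∀ k, f k ∈ s := fun k => hgs _
  have hcov : ∀ x : X, ∃ k, x ∈ X.basicOpen (f k) := by
    intro x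
    obtain ⟨y, hyt, hxy⟩ : ∃ y ∈ t, x ∈ X.basicOpen (g y) := by
      have := ht (Set.mem_univ x)
      simpa using this
    refine ⟨e ⟨y, hyt⟩, ?_⟩
    simp only [f, Equiv.symm_apply_apply]
    exact hxy
  obtain ⟨σ, hσ⟩ := hB t.card f hcov (show Γ(Coh.structureModule X, ⊤) from (1 : Γ(X, ⊤)))
  have hspan : Ideal.span (Set.range f) = ⊤ := by
    rw [Ideal.eq_top_iff_one]
    have h1 := Pb_app_top_mem_span t.card f σ
    have h2 : (show Γ(X, ⊤) from (Pb t.card f).app ⊤ σ) = 1 := hσ
    rw [h2] at h1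
    exact h1
  refine isAffine_of_isAffineOpen_basicOpen s ?_ (fun i hi => hi)
  rw [eq_top_iff, ← hspan]
  apply Ideal.span_mono
  rintro _ ⟨k, rfl⟩
  exact hf k

end Groth.Agent.Lib.Cohomology.SerreCrit
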