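/-
Local vanishing of sheafification: if a presheaf of abelian groups vanishes on all members of a basis contained
in an open `W`, then its sheafification has no nonzero sections over `W`
(`subsingleton_sheafify_of_basis`); stalks of a presheaf vanishing on small basis members are zero
(`isZero_stalk_of_basis`).
-/
import Groth.Prelude.Def_CohTop

set_option autoImplicit false
universe u

namespace Groth.Agent.Lib.Cohomology

open CategoryTheory Limits Opposite TopologicalSpace

variable {Y : TopCat.{u}}

/-- If a presheaf vanishes on the members of a basis contained in `W`, its sheafification has only the zero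
section over `W`. -/
theorem subsingleton_sheafify_of_basis (P : (Opens Y)ᵒᵖ ⥤ AddCommGrpCat.{u}) (B : Set (Opens Y))
    (hB : Opens.IsBasis B) (W : Opens Y)
    (hP : ∀ V ∈ B, V ≤ W → Subsingleton (P.obj (op V))) :
    Subsingleton (((presheafToSheaf (Opens.grothendieckTopology Y) AddCommGrpCat.{u}).obj P).obj.obj
      (op W)) := by
  set G := (presheafToSheaf (Opens.grothendieckTopology Y) AddCommGrpCat.{u}).obj P with hG
  suffices h0 : ∀ s : G.obj.obj (op W), s = 0 by
    constructor
    intro s t
    rw [h0 s, h0 t]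
  intro s
  have hloc := Presheaf.imageSieve_mem (Opens.grothendieckTopology Y)
    (toSheafify (Opens.grothendieckTopology Y) P) (U := op W) s
  have hx : ∀ x : W, ∃ V : Opens Y, V ∈ B ∧ (x : Y) ∈ V ∧ ∃ h : V ≤ W,
      G.obj.map (homOfLE h).op s = 0 := by
    intro x
    obtain ⟨U, i, ⟨t, ht⟩, hxU⟩ := hloc x x.2
    obtain ⟨_, ⟨V, hV, rfl⟩, hxV, hVU⟩ := hB.exists_subset_of_mem_open hxU U.isOpen
    have hVU' : V ≤ U := hVU
    refine ⟨V, hV, hxV, hVU'.trans i.le, ?_⟩
    have h1 : (homOfLE (hVU'.trans i.le)).op = i.op ≫ (homOfLE hVU').op := Subsingleton.elim _ _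
    rw [h1, Functor.map_comp, ConcreteCategory.comp_apply]
    have ht' : G.obj.map i.op s = (toSheafify (Opens.grothendieckTopology Y) P).app (op U) t :=
      ht.symm
    rw [ht']
    have hnat := congr($((toSheafify (Opens.grothendieckTopology Y) P).naturality
      (homOfLE hVU').op) t)
    rw [ConcreteCategory.comp_apply, ConcreteCategory.comp_apply] at hnat
    have h0 : P.map (homOfLE hVU').op t = 0 := (hP V hV (hVU'.trans i.le)).elim _ _
    rw [h0, map_zero] at hnat
    exact hnat.symm
  choose V hVB hxV hVW hs using hx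
  refine TopCat.Sheaf.eq_of_locally_eq' G V W (fun x => homOfLE (hVW x)) ?_ _ _ ?_
  · intro x hx
    exact Opens.mem_iSup.2 ⟨⟨x, hx⟩, hxV ⟨x, hx⟩⟩
  · intro x
    rw [map_zero]
    exact hs x

/-- If `G` vanishes on all members of a basis contained in a neighbourhood `V` of `y`, the stalk at `y` is
zero. -/
theorem isZero_stalk_of_basis (G : TopCat.Presheaf AddCommGrpCat.{u} Y) (B : Set (Opens Y))
    (hB : Opens.IsBasis B) (y : Y) (V : Opens Y) (hyV : y ∈ V)
    (hG : ∀ W ∈ B, W ≤ V → Subsingleton (G.obj (op W))) :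
    IsZero (TopCat.Presheaf.stalk G y) := by
  haveI : Subsingleton (G.stalk y) := by
    suffices h0 : ∀ a : G.stalk y, a = 0 by
      constructor
      intro a b
      rw [h0 a, h0 b]
    intro a
    obtain ⟨O, hyO, s, rfl⟩ := TopCat.Presheaf.exists_germ_eq G a
    obtain ⟨_, ⟨W, hW, rfl⟩, hyW, hWOV⟩ :=
      hB.exists_subset_of_mem_open (show y ∈ ((O ⊓ V : Opens Y) : Set Y) from ⟨hyO, hyV⟩)
        (O ⊓ V).isOpen
    have hWO : W ≤ O := fun z hz => (hWOV hz).1
    have hWV : W ≤ V := fun z hz => (hWOV hz).2
    rw [← TopCat.Presheaf.germ_res_apply G (homOfLE hWO) y hyW s]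
    have : G.map (homOfLE hWO).op s = 0 := (hG W hW hWV).elim _ _
    rw [this, map_zero]
  exact AddCommGrpCat.isZero_of_subsingleton _

end Groth.Agent.Lib.Cohomology
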