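/-
A presheaf of abelian groups on a topological space which vanishes on a basis of opens has zero
sheafification (`isZero_presheafToSheaf_of_basis`).
-/
import Groth.Prelude.Def_CohTop

set_option autoImplicit false
universe u

namespace Groth.Agent.Lib.Cohomology

open CategoryTheory Limits Opposite TopologicalSpace

variable {Y : TopCat.{u}}

/-- A morphism from a presheaf vanishing on a basis to a sheaf is zero. -/
theorem presheaf_hom_eq_zero_of_basis (P : (Opens Y)ᵒᵖ ⥤ AddCommGrpCat.{u}) (B : Set (Opens Y))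
    (hB : Opens.IsBasis B) (hP : ∀ V ∈ B, Subsingleton (P.obj (op V)))
    (G : Sheaf (Opens.grothendieckTopology Y) AddCommGrpCat.{u}) (φ : P ⟶ G.obj) : φ = 0 := by
  ext V s
  obtain ⟨V⟩ := V
  change φ.app (op V) s = 0
  -- cover `V` by basis elements
  have hx : ∀ x : V, ∃ W : Opens Y, W ∈ B ∧ (x : Y) ∈ W ∧ W ≤ V := by
    intro x
    obtain ⟨_, ⟨W, hW, rfl⟩, hxW, hWV⟩ := hB.exists_subset_of_mem_open x.2 V.isOpen
    exact ⟨W, hW, hxW, hWV⟩
  choose W hWB hxW hWV using hx
  refine TopCat.Sheaf.eq_of_locally_eq' G W V (fun x => homOfLE (hWV x)) ?_ _ _ ?_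
  · intro x hx
    exact Opens.mem_iSup.2 ⟨⟨x, hx⟩, hxW ⟨x, hx⟩⟩
  · intro x
    have hnat := congr($(φ.naturality (homOfLE (hWV x)).op) s)
    have h0 : P.map (homOfLE (hWV x)).op s = 0 := (hP _ (hWB x)).elim _ _
    rw [ConcreteCategory.comp_apply, ConcreteCategory.comp_apply, h0, map_zero] at hnat
    rw [map_zero]
    exact hnat.symm

/-- A presheaf of abelian groups vanishing on a basis of opens has zero sheafification. -/
theorem isZero_presheafToSheaf_of_basis (P : (Opens Y)ᵒᵖ ⥤ AddCommGrpCat.{u}) (B : Set (Opens Y))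
    (hB : Opens.IsBasis B) (hP : ∀ V ∈ B, Subsingleton (P.obj (op V))) :
    IsZero ((presheafToSheaf (Opens.grothendieckTopology Y) AddCommGrpCat.{u}).obj P) := by
  rw [IsZero.iff_id_eq_zero]
  apply ((sheafificationAdjunction (Opens.grothendieckTopology Y) AddCommGrpCat.{u}).homEquiv
    P _).injective
  exact (presheaf_hom_eq_zero_of_basis P B hB hP _ _).trans
    (presheaf_hom_eq_zero_of_basis P B hB hP _ _).symm

end Groth.Agent.Lib.Cohomology
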