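/-
Uniform cohomological bound: for finitely many affine opens `U i` with quasi-compact pairwise intersections
there is `d` such that `H^p((⋃ U i) ∩ B, M) = 0` for all `p ≥ d`, all quasi-coherent `M`, and all opens `B`
meeting every `U i` in a basic open of `U i` (`exists_bound_iSup_affine_inf`).
-/
import Groth.Agent.Lib.Cohomology.Helper1_QCQSVanishing

set_option autoImplicit false
universe u

namespace Groth.Agent.Lib.Cohomology

open CategoryTheory Limits Opposite TopologicalSpace AlgebraicGeometry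

variable {X : Scheme.{u}}

theorem exists_bound_iSup_affine_inf :
    ∀ (t : ℕ) (U : Fin (t + 1) → X.Opens), (∀ i, IsAffineOpen (U i)) →
      (∀ i j, IsCompact ((U i ⊓ U j : X.Opens) : Set X)) →
      ∃ d : ℕ, ∀ (B : X.Opens), (∀ i, ∃ φ : Γ(X, U i), U i ⊓ B = X.basicOpen φ) →
        ∀ (M : X.Modules), M.IsQuasicoherent → ∀ p, d ≤ p →
        Subsingleton (CohTop.HU (Coh.toAb M) p ((⨆ i, U i) ⊓ B)) := by
  intro t
  induction t with
  | zero =>
    intro U hU hc
    refine ⟨1, fun B hB M hM p hp => ?_⟩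
    obtain ⟨m, rfl⟩ : ∃ m, p = m + 1 := ⟨p - 1, by omega⟩
    have : ⨆ i, U i = U 0 := by
      rw [iSup_fin_succ']
      simp
    rw [this]
    obtain ⟨φ, hφ⟩ := hB 0
    rw [hφ]
    exact HU_succ_subsingleton_of_isAffineOpen M _ ((hU 0).basicOpen φ) m
  | succ t ih =>
    intro U hU hc
    obtain ⟨d', hd'⟩ := ih (fun i => U i.succ) (fun i => hU i.succ) (fun i j => hc i.succ j.succ)
    have hZc : IsCompact ((U 0 ⊓ ⨆ i : Fin (t + 1), U i.succ : X.Opens) : Set X) := by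
      rw [inf_iSup_eq, Opens.coe_iSup]
      exact isCompact_iUnion (fun i => hc 0 i.succ)
    obtain ⟨s, g, hg⟩ := exists_fin_basicOpen_cover (hU 0) _ inf_le_left hZc
    refine ⟨max d' (s + 2), fun B hB M hM p hp => ?_⟩
    obtain ⟨m, rfl⟩ : ∃ m, p = m + 1 := ⟨p - 1, by omega⟩
    rw [iSup_fin_succ', inf_sup_right]
    obtain ⟨φ, hφ⟩ := hB 0
    apply HU_sup_subsingleton
    · have h1 : (U 0 ⊓ B) ⊓ ((⨆ i : Fin (t + 1), U i.succ) ⊓ B) =
          (U 0 ⊓ ⨆ i : Fin (t + 1), U i.succ) ⊓ (U 0 ⊓ B) := by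
        apply le_antisymm
        · rintro x ⟨⟨h1, h2⟩, ⟨h3, _⟩⟩
          exact ⟨⟨h1, h3⟩, ⟨h1, h2⟩⟩
        · rintro x ⟨⟨h1, h3⟩, ⟨_, h2⟩⟩
          exact ⟨⟨h1, h2⟩, ⟨h3, h2⟩⟩
      have h2 : (U 0 ⊓ ⨆ i : Fin (t + 1), U i.succ) ⊓ (U 0 ⊓ B) =
          ⨆ k, X.basicOpen (g k * φ) := by
        rw [hg, hφ, iSup_inf_eq]
        congr 1
        funext k
        rw [Scheme.basicOpen_mul]
      rw [h1, h2]
      exact HU_iSup_basicOpen_subsingleton (hU 0) M s _ m (by omega)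
    · rw [hφ]
      exact HU_succ_subsingleton_of_isAffineOpen M _ ((hU 0).basicOpen φ) m
    · exact hd' B (fun i => hB i.succ) M hM (m + 1) (by omega)

end Groth.Agent.Lib.Cohomology
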