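/-
Sheaves with "totally closed" support are flasque; application to coherent modules with zero-dimensional
support on locally Noetherian schemes.

* `finite_of_isClosed_of_forall_isClosed_singleton`: in a Noetherian quasi-sober space a closed set of closed
  points is finite.
* `isClosed_of_subset_of_closedPoints`: in a locally Noetherian scheme every subset of a closed set consisting of
  closed points is closed.
* `isFlasque_of_forall_subset_support_isClosed`: an abelian sheaf such that every subset of its support is closed
  is flasque.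
-/
import Mathlib
import Groth.Agent.Lib.Cohomology.Helper3_Flasque

set_option autoImplicit false
universe u

namespace Groth.Agent.Lib.Cohomology

open CategoryTheory Limits Opposite TopologicalSpace AlgebraicGeometry

/-- In a Noetherian quasi-sober space, a closed set all of whose points are closed is finite. -/
lemma finite_of_isClosed_of_forall_isClosed_singleton {α : Type*} [TopologicalSpace α]
    [NoetherianSpace α] [QuasiSober α] {Z : Set α} (hZ : IsClosed Z)
    (h : ∀ z ∈ Z, IsClosed ({z} : Set α)) : Z.Finite := by
  obtain ⟨S, hSf, hSc, hSi, rfl⟩ := NoetherianSpace.exists_finite_set_isClosed_irreducible hZ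
  refine Set.Finite.sUnion hSf fun t ht => ?_
  obtain ⟨g, hg⟩ := QuasiSober.sober (hSi t ht) (hSc t ht)
  have hgt : g ∈ t := hg.mem
  have hgc : IsClosed ({g} : Set α) := h g ⟨t, ht, hgt⟩
  have : t = {g} := by
    have h1 : closure ({g} : Set α) = t := hg
    rw [← h1, hgc.closure_eq]
  rw [this]
  exact Set.finite_singleton g

/-- In a locally Noetherian scheme, every subset of a closed set consisting of closed points is closed. -/
lemma isClosed_of_subset_of_closedPoints (X : Scheme.{u}) [IsLocallyNoetherian X] {Z S : Set X}
    (hZ : IsClosed Z) (h : ∀ z ∈ Z, IsClosed ({z} : Set X)) (hS : S ⊆ Z) : IsClosed S := by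
  have hcov : IsOpenCover (fun W : X.affineOpens => (W : X.Opens)) := by
    rw [IsOpenCover, eq_top_iff]
    intro x _
    obtain ⟨_, ⟨V, hV, rfl⟩, hxV, -⟩ :=
      X.isBasis_affineOpens.exists_subset_of_mem_open (Set.mem_univ x) isOpen_univ
    exact Opens.mem_iSup.2 ⟨⟨V, hV⟩, hxV⟩
  refine hcov.isClosed_iff_coe_preimage.2 fun W => ?_
  haveI : IsNoetherianRing Γ(X, W.1) := IsLocallyNoetherian.component_noetherian W
  haveI : NoetherianSpace {x // x ∈ W.1} := noetherianSpace_of_isAffineOpen W.1 W.2
  haveI : QuasiSober {x // x ∈ W.1} := inferInstanceAs (QuasiSober (W.1 : Scheme.{u}))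
  have hsing : ∀ w : {x // x ∈ W.1}, (w : X) ∈ Z → IsClosed ({w} : Set {x // x ∈ W.1}) := by
    intro w hw
    have : ({w} : Set {x // x ∈ W.1}) = Subtype.val ⁻¹' ({(w : X)} : Set X) := by
      ext v
      exact Subtype.ext_iff
    rw [this]
    exact (h _ hw).preimage continuous_subtype_val
  have hfin : (Subtype.val ⁻¹' Z : Set {x // x ∈ W.1}).Finite :=
    finite_of_isClosed_of_forall_isClosed_singleton (hZ.preimage continuous_subtype_val)
      (fun w hw => hsing w hw)
  have hfin' : (Subtype.val ⁻¹' S : Set {x // x ∈ W.1}).Finite :=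
    hfin.subset (Set.preimage_mono hS)
  have key : IsClosed (⋃ w ∈ (Subtype.val ⁻¹' S : Set {x // x ∈ W.1}),
      ({w} : Set {x // x ∈ W.1})) :=
    hfin'.isClosed_biUnion fun w hw => hsing w (hS hw)
  rw [Set.biUnion_of_singleton] at key
  exact key

section Flasque

variable {X : TopCat.{u}} (F : TopCat.Sheaf AddCommGrpCat.{u} X)

/-- Sections over an open set all of whose points have trivial stalks are trivial. -/
lemma subsingleton_sections_of_stalks (O : Opens X)
    (h : ∀ x ∈ O, Subsingleton (F.presheaf.stalk x)) : Subsingleton (F.obj.obj (op O)) := by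
  constructor
  intro s t
  refine TopCat.Presheaf.section_ext F O s t fun x hx => ?_
  haveI := h x hx
  exact Subsingleton.elim _ _

/-- An abelian sheaf such that every subset of its support is closed is flasque. -/
theorem isFlasque_of_forall_subset_support_isClosed
    (hF : ∀ S : Set X, S ⊆ {x | ¬ Subsingleton (F.presheaf.stalk x)} → IsClosed S) :
    TopCat.Sheaf.IsFlasque F := by
  constructor
  intro U V i
  rw [AddCommGrpCat.epi_iff_surjective]
  intro s
  -- notation
  obtain ⟨U⟩ := U
  obtain ⟨V⟩ := V
  have hVU : V ≤ U := i.unop.le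
  let C : Set X := {x | ¬ Subsingleton (F.presheaf.stalk x)} ∩ (V : Set X)
  have hC : IsClosed C := hF C Set.inter_subset_left
  let W : Opens X := U ⊓ ⟨Cᶜ, hC.isOpen_compl⟩
  let cov : Bool → Opens X := fun b => cond b V W
  have hcovle : ∀ b, cov b ≤ U := by
    intro b
    cases b
    · exact inf_le_left
    · exact hVU
  have hcover : U ≤ iSup cov := by
    intro x hxU
    by_cases hxV : x ∈ V
    · exact Opens.mem_iSup.2 ⟨true, hxV⟩
    · refine Opens.mem_iSup.2 ⟨false, ⟨hxU, ?_⟩⟩
      intro hxC
      exact hxV hxC.2
  have hsub : ∀ b c : Bool, b ≠ c → Subsingleton (F.obj.obj (op (cov b ⊓ cov c))) := by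
    intro b c hbc
    apply subsingleton_sections_of_stalks
    intro x hx
    by_contra hns
    have hxV : x ∈ V := by
      cases b <;> cases c
      · exact absurd rfl hbc
      · exact hx.2
      · exact hx.1
      · exact absurd rfl hbc
    have hxW : x ∈ W := by
      cases b <;> cases c
      · exact absurd rfl hbc
      · exact hx.1
      · exact hx.2
      · exact absurd rfl hbc
    exact hxW.2 ⟨hns, hxV⟩
  let sf : ∀ b : Bool, F.obj.obj (op (cov b)) := fun b =>
    match b with
    | true => s
    | false => 0
  have hcompat : TopCat.Presheaf.IsCompatible F.obj cov sf := by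
    intro b c
    by_cases hbc : b = c
    · subst hbc
      have : (Opens.infLELeft (cov b) (cov b)) = Opens.infLERight (cov b) (cov b) :=
        Subsingleton.elim _ _
      rw [this]
    · haveI := hsub b c hbc
      exact Subsingleton.elim _ _
  obtain ⟨s', hs', -⟩ := F.existsUnique_gluing' cov U (fun b => homOfLE (hcovle b)) hcover sf hcompat
  refine ⟨s', ?_⟩
  have h1 : i = (homOfLE (hcovle true)).op := Subsingleton.elim _ _
  rw [h1]
  exact hs' true

end Flasque

end Groth.Agent.Lib.Cohomology
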