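import Mathlib.CategoryTheory.Adjunction.Unique
import Mathlib.CategoryTheory.Adjunction.Basic

/-!
# Coherence of `leftAdjointUniq` comparison isomorphisms for composable adjunctions (helper3)

If the right adjoints compose strictly, the comparison isomorphisms between composites of left
adjoints given by `Adjunction.leftAdjointUniq` satisfy the cocycle and unit identities of a
pseudofunctor.
-/

universe v₀ v₁ v₂ v₃ u₀ u₁ u₂ u₃

open CategoryTheory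

namespace Groth.Agent.Lib.Cohomology.AdjCoh

variable {C₀ : Type u₀} [Category.{v₀} C₀] {C₁ : Type u₁} [Category.{v₁} C₁]
  {C₂ : Type u₂} [Category.{v₂} C₂] {C₃ : Type u₃} [Category.{v₃} C₃]

/-- A morphism out of the left adjoint is determined by its transpose. -/
lemma eq_of_unit_comp {L : C₀ ⥤ C₁} {R : C₁ ⥤ C₀} (adj : L ⊣ R) {G : C₀} {T : C₁}
    (φ ψ : L.obj G ⟶ T) (h : adj.unit.app G ≫ R.map φ = adj.unit.app G ≫ R.map ψ) : φ = ψ := by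
  apply (adj.homEquiv _ _).injective
  rw [Adjunction.homEquiv_unit, Adjunction.homEquiv_unit]
  exact h

section Cocycle

variable {L₁ : C₀ ⥤ C₁} {R₁ : C₁ ⥤ C₀} {L₂ : C₁ ⥤ C₂} {R₂ : C₂ ⥤ C₁} {L₃ : C₂ ⥤ C₃} {R₃ : C₃ ⥤ C₂}
  {L₁₂ : C₀ ⥤ C₂} {L₂₃ : C₁ ⥤ C₃} {L₁₂₃ : C₀ ⥤ C₃}
  (adj₁ : L₁ ⊣ R₁) (adj₂ : L₂ ⊣ R₂) (adj₃ : L₃ ⊣ R₃)
  (adj₁₂ : L₁₂ ⊣ R₂ ⋙ R₁) (adj₂₃ : L₂₃ ⊣ R₃ ⋙ R₂) (adj₁₂₃ : L₁₂₃ ⊣ R₃ ⋙ R₂ ⋙ R₁)

theorem cocycle (G : C₀) :
    ((adj₂.comp adj₃).leftAdjointUniq adj₂₃).hom.app (L₁.obj G) ≫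
        ((adj₁.comp adj₂₃).leftAdjointUniq adj₁₂₃).hom.app G =
      L₃.map (((adj₁.comp adj₂).leftAdjointUniq adj₁₂).hom.app G) ≫
        ((adj₁₂.comp adj₃).leftAdjointUniq adj₁₂₃).hom.app G := by
  apply eq_of_unit_comp ((adj₁.comp adj₂).comp adj₃)
  have hL : ((adj₁.comp adj₂).comp adj₃).unit.app G ≫ (R₃ ⋙ R₂ ⋙ R₁).map
      (((adj₂.comp adj₃).leftAdjointUniq adj₂₃).hom.app (L₁.obj G) ≫
        ((adj₁.comp adj₂₃).leftAdjointUniq adj₁₂₃).hom.app G) = adj₁₂₃.unit.app G := by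
    have h1 := Adjunction.unit_leftAdjointUniq_hom_app (adj₂.comp adj₃) adj₂₃ (L₁.obj G)
    have h2 := Adjunction.unit_leftAdjointUniq_hom_app (adj₁.comp adj₂₃) adj₁₂₃ G
    rw [Adjunction.comp_unit_app] at h1 h2
    rw [Adjunction.comp_unit_app, Adjunction.comp_unit_app, ← h2, ← h1]
    simp only [Functor.comp_obj, Functor.comp_map, Functor.map_comp, Category.assoc]
  have hR : ((adj₁.comp adj₂).comp adj₃).unit.app G ≫ (R₃ ⋙ R₂ ⋙ R₁).map
      (L₃.map (((adj₁.comp adj₂).leftAdjointUniq adj₁₂).hom.app G) ≫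
        ((adj₁₂.comp adj₃).leftAdjointUniq adj₁₂₃).hom.app G) = adj₁₂₃.unit.app G := by
    have h1 := Adjunction.unit_leftAdjointUniq_hom_app (adj₁.comp adj₂) adj₁₂ G
    have h2 := Adjunction.unit_leftAdjointUniq_hom_app (adj₁₂.comp adj₃) adj₁₂₃ G
    have h3 := adj₃.unit.naturality (((adj₁.comp adj₂).leftAdjointUniq adj₁₂).hom.app G)
    rw [Adjunction.comp_unit_app] at h1 h2
    rw [Adjunction.comp_unit_app, Adjunction.comp_unit_app, ← h2, ← h1]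
    simp only [Functor.comp_obj, Functor.comp_map, Functor.map_comp, Category.assoc,
      Functor.id_obj, Functor.id_map] at h3 ⊢
    congr 2
    have h3' := h3 =≫ R₃.map (((adj₁₂.comp adj₃).leftAdjointUniq adj₁₂₃).hom.app G)
    simp only [Category.assoc] at h3'
    have h4 := congrArg (fun φ => R₁.map (R₂.map φ)) h3'
    simp only [Functor.map_comp] at h4
    exact h4.symm
  exact hL.trans hR.symm

end Cocycle

section Unit

variable {L₁ : C₀ ⥤ C₁} {R₁ : C₁ ⥤ C₀} {L₂ : C₁ ⥤ C₁}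
  (adj₁ : L₁ ⊣ R₁) (adj₂ : L₂ ⊣ 𝟭 C₁)

theorem unit_coh (adj₁' : L₁ ⊣ 𝟭 C₁ ⋙ R₁) (hadj : adj₁'.unit = adj₁.unit) (G : C₀) :
    ((adj₁.comp adj₂).leftAdjointUniq adj₁').hom.app G =
      (adj₂.leftAdjointUniq Adjunction.id).hom.app (L₁.obj G) := by
  apply eq_of_unit_comp (adj₁.comp adj₂)
  have h1 := Adjunction.unit_leftAdjointUniq_hom_app (adj₁.comp adj₂) adj₁' G
  have h2 := Adjunction.unit_leftAdjointUniq_hom_app adj₂ Adjunction.id (L₁.obj G)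
  rw [h1, Adjunction.comp_unit_app, hadj]
  simp only [Functor.comp_obj, Functor.comp_map, Functor.id_obj, Functor.id_map, Category.assoc,
    Adjunction.id_unit] at h2 ⊢
  rw [← Functor.map_comp, h2]
  simp

end Unit

end Groth.Agent.Lib.Cohomology.AdjCoh
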