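import Groth.Agent.Lib.Cohomology.Helper3_StalkProp
import Groth.Agent.S6632
import Mathlib.AlgebraicGeometry.Morphisms.QuasiFinite
import Mathlib.RingTheory.Unramified.LocalStructure

/-!
# Constructibility from constructibility of the stalk cardinality function (helper3)
-/

set_option autoImplicit false
universe u
open CategoryTheory CategoryTheory.Limits Opposite AlgebraicGeometry Topology TopologicalSpace

namespace Groth.Agent.Lib.Cohomology.CardConstr

open Groth.Agent.Lib.Cohomology.LocConst Groth.Agent.Lib.Cohomology.EtExc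
open Groth.Agent.Lib.Cohomology.Constr Groth.Agent.Lib.Cohomology.SubConst
open Groth.Agent.Lib.Cohomology.ChainStab Groth.Agent.Lib.Cohomology.SuppConstr

variable {T : Scheme.{u}}

section Germs

variable {Ω : Type u} [Field Ω] [IsSepClosed Ω] (ζ : Spec (CommRingCat.of Ω) ⟶ T)
  (G : EtCoh.Ab T)

/-- the germ map -/
noncomputable abbrev germ (U : T.Etale) (x : (Scheme.pointSmallEtale ζ).fiber.obj U) :
    G.obj.obj (op U) ⟶ (Scheme.pointSmallEtale ζ).presheafFiber.obj G.obj :=
  (Scheme.pointSmallEtale ζ).toPresheafFiber U x G.obj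

lemma germ_map {U U' : T.Etale} (f : U' ⟶ U) (x' : (Scheme.pointSmallEtale ζ).fiber.obj U')
    (z : G.obj.obj (op U)) :
    germ ζ G U' x' ((G.obj.map f.op).hom z) =
      germ ζ G U ((Scheme.pointSmallEtale ζ).fiber.map f x') z := by
  have k := ConcreteCategory.congr_hom
    ((Scheme.pointSmallEtale ζ).toPresheafFiber_w f x' G.obj) z
  rw [ConcreteCategory.comp_apply] at k
  exact k

set_option backward.isDefEq.respectTransparency.types false in
/-- finitely many stalk elements have representatives over a common neighbourhood. -/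
lemma exists_common_rep [Finite ((EtCoh.stalk ζ).obj G)]
    (W : T.Etale) (xW : (Scheme.pointSmallEtale ζ).fiber.obj W) :
    ∃ (U : T.Etale) (xU : (Scheme.pointSmallEtale ζ).fiber.obj U) (f : U ⟶ W)
      (s : (EtCoh.stalk ζ).obj G → G.obj.obj (op U)),
      (Scheme.pointSmallEtale ζ).fiber.map f xU = xW ∧ ∀ m, germ ζ G U xU (s m) = m := by
  classical
  let Φ := Scheme.pointSmallEtale ζ
  have key : ∀ S : Finset ((EtCoh.stalk ζ).obj G),
      ∃ (U : T.Etale) (xU : Φ.fiber.obj U) (f : U ⟶ W)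
        (s : (EtCoh.stalk ζ).obj G → G.obj.obj (op U)),
        Φ.fiber.map f xU = xW ∧ ∀ m ∈ S, germ ζ G U xU (s m) = m := by
    intro S
    induction S using Finset.induction_on with
    | empty => exact ⟨W, xW, 𝟙 W, fun _ => 0, by rw [Φ.fiber.map_id]; rfl, fun m hm =>
        absurd hm (Finset.notMem_empty m)⟩
    | insert m₀ S hm₀ IH =>
      obtain ⟨U, xU, f, s, hf, hs⟩ := IH
      obtain ⟨U₀, x₀, z₀, hz₀⟩ := Φ.toPresheafFiber_jointly_surjective (P := G.obj) m₀
      let e1 : Φ.fiber.Elements := ⟨U, xU⟩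
      let e2 : Φ.fiber.Elements := ⟨U₀, x₀⟩
      let e := IsCofiltered.min e1 e2
      let f1 : e ⟶ e1 := IsCofiltered.minToLeft e1 e2
      let f2 : e ⟶ e2 := IsCofiltered.minToRight e1 e2
      have q1 : Φ.fiber.map f1.1 e.2 = xU := f1.2
      have q2 : Φ.fiber.map f2.1 e.2 = x₀ := f2.2
      refine ⟨e.1, e.2, f1.1 ≫ f, fun m => if m = m₀ then (G.obj.map f2.1.op).hom z₀ else
        (G.obj.map f1.1.op).hom (s m), ?_, fun m hm => ?_⟩
      · rw [Functor.map_comp]
        change Φ.fiber.map f (Φ.fiber.map f1.1 e.2) = xW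
        rw [q1, hf]
      · dsimp only
        by_cases hmm : m = m₀
        · rw [if_pos hmm, germ_map, q2, hmm]
          exact hz₀
        · rw [if_neg hmm, germ_map, q1]
          rcases Finset.mem_insert.1 hm with h | h
          · exact absurd h hmm
          · exact hs m h
  haveI := Fintype.ofFinite ((EtCoh.stalk ζ).obj G)
  obtain ⟨U, xU, f, s, hf, hs⟩ := key Finset.univ
  exact ⟨U, xU, f, s, hf, fun m => hs m (Finset.mem_univ m)⟩

set_option backward.isDefEq.respectTransparency.types false in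
/-- finitely many equalities of germs hold over a common neighbourhood. -/
lemma exists_common_eq {I : Type*} [Finite I] (U : T.Etale)
    (xU : (Scheme.pointSmallEtale ζ).fiber.obj U) (p q : I → G.obj.obj (op U))
    (h : ∀ i, germ ζ G U xU (p i) = germ ζ G U xU (q i)) :
    ∃ (U' : T.Etale) (xU' : (Scheme.pointSmallEtale ζ).fiber.obj U') (f : U' ⟶ U),
      (Scheme.pointSmallEtale ζ).fiber.map f xU' = xU ∧
        ∀ i, (G.obj.map f.op).hom (p i) = (G.obj.map f.op).hom (q i) := by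
  classical
  let Φ := Scheme.pointSmallEtale ζ
  have key : ∀ S : Finset I, ∃ (U' : T.Etale) (xU' : Φ.fiber.obj U') (f : U' ⟶ U),
      Φ.fiber.map f xU' = xU ∧ ∀ i ∈ S, (G.obj.map f.op).hom (p i) = (G.obj.map f.op).hom (q i) := by
    intro S
    induction S using Finset.induction_on with
    | empty => exact ⟨U, xU, 𝟙 U, by rw [Φ.fiber.map_id]; rfl, fun i hi =>
        absurd hi (Finset.notMem_empty i)⟩
    | insert i₀ S hi₀ IH =>
      obtain ⟨U', xU', f, hf, hS⟩ := IH
      have h0 : germ ζ G U' xU' ((G.obj.map f.op).hom (p i₀)) =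
          germ ζ G U' xU' ((G.obj.map f.op).hom (q i₀)) := by
        rw [germ_map, germ_map, hf]
        exact h i₀
      rw [GrothendieckTopology.Point.toPresheafFiber_eq_iff'] at h0
      obtain ⟨Y, g, y, hy, hz⟩ := h0
      refine ⟨Y, y, g ≫ f, ?_, fun i hi => ?_⟩
      · rw [Functor.map_comp]
        change Φ.fiber.map f (Φ.fiber.map g y) = xU
        rw [hy, hf]
      · rw [op_comp, G.obj.map_comp]
        rcases Finset.mem_insert.1 hi with h' | h'
        · rw [h']
          exact hz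
        · change (G.obj.map g.op).hom ((G.obj.map f.op).hom (p i)) =
            (G.obj.map g.op).hom ((G.obj.map f.op).hom (q i))
          rw [hS i h']
  haveI := Fintype.ofFinite I
  obtain ⟨U', xU', f, hf, hS⟩ := key Finset.univ
  exact ⟨U', xU', f, hf, fun i => hS i (Finset.mem_univ i)⟩

set_option backward.isDefEq.respectTransparency.types false in
/-- a finite stalk lifts to a group of sections over some neighbourhood. -/
theorem exists_section_hom [Finite ((EtCoh.stalk ζ).obj G)]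
    (W : T.Etale) (xW : (Scheme.pointSmallEtale ζ).fiber.obj W) :
    ∃ (U : T.Etale) (xU : (Scheme.pointSmallEtale ζ).fiber.obj U) (f : U ⟶ W)
      (σ : (EtCoh.stalk ζ).obj G ⟶ G.obj.obj (op U)),
      (Scheme.pointSmallEtale ζ).fiber.map f xU = xW ∧ ∀ m, germ ζ G U xU (σ.hom m) = m := by
  let Φ := Scheme.pointSmallEtale ζ
  obtain ⟨U, xU, f, s, hf, hs⟩ := exists_common_rep ζ G W xW
  let M := (EtCoh.stalk ζ).obj G
  obtain ⟨U', xU', f', hf', heq⟩ := exists_common_eq ζ G (I := M × M) U xU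
    (fun i => s (i.1 + i.2)) (fun i => s i.1 + s i.2) (fun i => by
      rw [map_add, hs, hs, hs]
      rfl)
  let σ : M →+ G.obj.obj (op U') := AddMonoidHom.mk' (fun m => (G.obj.map f'.op).hom (s m))
    (fun a b => by
      have := heq (a, b)
      simp only at this
      rw [this, map_add])
  refine ⟨U', xU', f' ≫ f, AddCommGrpCat.ofHom σ, ?_, fun m => ?_⟩
  · rw [Functor.map_comp]
    change Φ.fiber.map f (Φ.fiber.map f' xU') = xW
    rw [hf', hf]
  · change germ ζ G U' xU' ((G.obj.map f'.op).hom (s m)) = m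
    rw [germ_map, hf', hs]

end Germs

section Generic

theorem quasiFinite_of_etale {R A : Type u} [CommRing R] [CommRing A] {f : R →+* A}
    (hf : f.Etale) : f.QuasiFinite := by
  algebraize [f]
  have : Algebra.Etale R A := hf
  rw [RingHom.QuasiFinite]
  infer_instance

theorem locallyQuasiFinite_of_etale {A B : Scheme.{u}} (f : A ⟶ B) [Etale f] :
    LocallyQuasiFinite f where
  quasiFinite_appLE {U} hU {V} hV e :=
    quasiFinite_of_etale (HasRingHomProperty.appLE @Etale f inferInstance ⟨U, hU⟩ ⟨V, hV⟩ e)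

/-- in a Noetherian quasi-sober space a point without nontrivial generizations has an open
neighbourhood contained in its closure. -/
lemma exists_open_subset_closure {Y : Type*} [TopologicalSpace Y] [NoetherianSpace Y]
    [QuasiSober Y] (a₀ : Y) (h : ∀ y : Y, y ⤳ a₀ → y = a₀) :
    ∃ V : Set Y, IsOpen V ∧ a₀ ∈ V ∧ V ⊆ closure {a₀} := by
  classical
  obtain ⟨S, hSirr, hS⟩ := NoetherianSpace.exists_finset_irreducible (⊤ : Closeds Y)
  refine ⟨(⋃ Z' ∈ S.filter (fun Z : Closeds Y => a₀ ∉ (Z : Set Y)), (Z' : Set Y))ᶜ, ?_, ?_, ?_⟩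
  · refine IsClosed.isOpen_compl (self := ?_)
    exact Set.Finite.isClosed_biUnion (Finset.finite_toSet _) (fun Z' _ => Z'.isClosed)
  · intro hmem
    obtain ⟨Z', hZ', hxZ'⟩ := Set.mem_iUnion₂.1 hmem
    exact (Finset.mem_filter.1 hZ').2 hxZ'
  · intro y hy
    have hyC : y ∈ ((S.sup id : Closeds Y) : Set Y) := by rw [← hS]; trivial
    rw [Closeds.coe_finset_sup, Finset.sup_set_eq_biUnion] at hyC
    obtain ⟨Z, hZS, hyZ⟩ := Set.mem_iUnion₂.1 hyC
    by_cases ha : a₀ ∈ (Z : Set Y)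
    · have hZirr : IsIrreducible (Z : Set Y) := hSirr ⟨Z, hZS⟩
      have hgen := hZirr.isGenericPoint_genericPoint Z.isClosed
      have hcl : closure {hZirr.genericPoint} = (Z : Set Y) := hgen.def
      have hsp : hZirr.genericPoint ⤳ a₀ := by
        rw [specializes_iff_mem_closure, hcl]; exact ha
      rw [← h _ hsp, hcl]; exact hyZ
    · exact absurd (Set.mem_iUnion₂.2 ⟨Z, Finset.mem_filter.2 ⟨hZS, ha⟩, hyZ⟩) hy

/-- a point of an étale scheme over a dense point is dense in an open neighbourhood. -/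
theorem exists_open_dense_point {A B : Scheme.{u}} (f : A ⟶ B) [Etale f] [IsLocallyNoetherian A]
    (w₁ : B) (hw₁ : ∀ O : Set B, IsOpen O → O.Nonempty → w₁ ∈ O) (u₀ : A) (hu₀ : f u₀ = w₁) :
    ∃ U' : A.Opens, u₀ ∈ U' ∧
      ∀ O : Set A, IsOpen O → O ⊆ (U' : Set A) → O.Nonempty → u₀ ∈ O := by
  obtain ⟨_, ⟨A₀', hA₀', rfl⟩, hu₀A', -⟩ := A.isBasis_affineOpens.exists_subset_of_mem_open
    (Set.mem_univ u₀) isOpen_univ
  obtain ⟨A₀, hA₀, hu₀A⟩ : ∃ A₀ : A.Opens, IsAffineOpen A₀ ∧ u₀ ∈ A₀ := ⟨A₀', hA₀', hu₀A'⟩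
  haveI : IsAffine A₀.toScheme := hA₀
  haveI : IsNoetherian A₀.toScheme := { }
  haveI := locallyQuasiFinite_of_etale f
  let a₀ : A₀.toScheme := ⟨u₀, hu₀A⟩
  have hgen : ∀ y : A₀.toScheme, y ⤳ a₀ → y = a₀ := by
    intro y hy
    have h1 : A₀.ι y ⤳ u₀ := hy.map A₀.ι.continuous
    have h2 : f (A₀.ι y) ⤳ w₁ := by
      rw [← hu₀]
      exact h1.map f.continuous
    have h3 : w₁ ⤳ f (A₀.ι y) :=
      specializes_iff_forall_open.2 (fun O hO hyO => hw₁ O hO ⟨_, hyO⟩)
    have h4 : f (A₀.ι y) = w₁ := (h2.antisymm h3).eq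
    have hdisc : _root_.IsDiscrete (f ⁻¹' {w₁}) := f.isDiscrete_preimage_singleton w₁
    haveI : DiscreteTopology ↥(f ⁻¹' {w₁}) := hdisc.to_subtype
    have h5 : (⟨A₀.ι y, h4⟩ : ↥(f ⁻¹' {w₁})) ⤳ ⟨u₀, hu₀⟩ :=
      (subtype_specializes_iff _ _).2 h1
    have h6 := h5.eq
    apply A₀.ι.isEmbedding.injective
    exact congrArg Subtype.val h6
  obtain ⟨V, hV, ha₀V, hVsub⟩ := exists_open_subset_closure a₀ hgen
  refine ⟨A₀.ι ''ᵁ ⟨V, hV⟩, ⟨a₀, ha₀V, rfl⟩, ?_⟩
  rintro O hO hOsub ⟨y, hyO⟩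
  obtain ⟨v, hv, rfl⟩ := hOsub hyO
  have hvcl : v ∈ closure ({a₀} : Set A₀.toScheme) := hVsub hv
  obtain ⟨z, hzO, hz⟩ := mem_closure_iff.1 hvcl (A₀.ι ⁻¹' O) (hO.preimage A₀.ι.continuous) hyO
  rw [Set.mem_singleton_iff] at hz
  rw [hz] at hzO
  exact hzO

end Generic

section Main

open Groth.Agent.Lib.Cohomology.OverPull Groth.Agent.Lib.Helper70.StalkCons

/-- the underlying morphism of an element of the fibre functor. -/
noncomputable def fiberHom {Ω : Type u} [Field Ω] [IsSepClosed Ω] (ξ : Spec (CommRingCat.of Ω) ⟶ T)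
    {U : T.Etale} (xU : (Scheme.pointSmallEtale ξ).fiber.obj U) :
    Spec (CommRingCat.of Ω) ⟶ U.left := xU.left

variable [IsLocallyNoetherian T] (G : EtCoh.Ab T)

set_option backward.isDefEq.respectTransparency.types false in
/-- a finite stalk at a geometric point over a dense point lifts to sections over an étale
neighbourhood in which the lifted point is dense. -/
theorem exists_section_hom_dense {Ω : Type u} [Field Ω] [IsSepClosed Ω]
    (ξ : Spec (CommRingCat.of Ω) ⟶ T) [Finite ((EtCoh.stalk ξ).obj G)]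
    (hdense : ∀ O : Set T, IsOpen O → O.Nonempty → ξ.base default ∈ O) :
    ∃ (U : T.Etale) (xU : (Scheme.pointSmallEtale ξ).fiber.obj U)
      (σ : (EtCoh.stalk ξ).obj G ⟶ G.obj.obj (op U)),
      (∀ O : Set U.left, IsOpen O → O.Nonempty → (fiberHom ξ xU).base default ∈ O) ∧
      ∀ m, germ ξ G U xU (σ.hom m) = m := by
  let Φ := Scheme.pointSmallEtale ξ
  let xW : Φ.fiber.obj (EtCoh.top T) := Over.homMk ξ (Category.comp_id ξ)
  obtain ⟨U₁, xU₁, f₁, σ₁, -, hσ₁⟩ := exists_section_hom ξ G (EtCoh.top T) xW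
  haveI : IsLocallyNoetherian ((Functor.fromPUnit T).obj U₁.right) := ‹IsLocallyNoetherian T›
  haveI : IsLocallyNoetherian U₁.left := LocallyOfFiniteType.isLocallyNoetherian U₁.hom
  let l₁ : Spec (CommRingCat.of Ω) ⟶ U₁.left := xU₁.left
  have hl₁ : l₁ ≫ U₁.hom = ξ := Over.w xU₁
  have hu₁ : U₁.hom.base (l₁.base default) = ξ.base default := by rw [← hl₁]; rfl
  obtain ⟨U', hu₁U', hU'⟩ := exists_open_dense_point (A := U₁.left) (B := T) U₁.hom _ hdense
    (l₁.base default) hu₁
  let U : T.Etale := Scheme.Etale.mk (U'.ι ≫ U₁.hom)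
  let j : U ⟶ U₁ := MorphismProperty.Over.homMk U'.ι rfl trivial
  have hrange : Set.range l₁ ⊆ Set.range U'.ι := by
    rintro _ ⟨a, rfl⟩
    rw [Subsingleton.elim a default, Scheme.Opens.range_ι]
    exact hu₁U'
  let l : Spec (CommRingCat.of Ω) ⟶ U'.toScheme := IsOpenImmersion.lift U'.ι l₁ hrange
  have hl : l ≫ U'.ι = l₁ := IsOpenImmersion.lift_fac _ _ _
  let xU : Φ.fiber.obj U := Over.homMk l (by
    change l ≫ U'.ι ≫ U₁.hom = ξ
    rw [← Category.assoc, hl, hl₁])
  have hxU : Φ.fiber.map j xU = xU₁ := Over.OverMorphism.ext hl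
  refine ⟨U, xU, σ₁ ≫ G.obj.map j.op, ?_, fun m => ?_⟩
  · intro O hO hne
    have h1 : IsOpen (U'.ι '' O) := U'.ι.isOpenEmbedding.isOpenMap O hO
    have h2 : U'.ι '' O ⊆ (U' : Set U₁.left) := by
      rintro _ ⟨z, -, rfl⟩; exact z.2
    obtain ⟨z, hzO, hz⟩ := hU' _ h1 h2 (hne.image _)
    have hzl : z = l.base default := U'.ι.isEmbedding.injective (by
      rw [hz, ← hl]; rfl)
    change l.base default ∈ O
    rw [← hzl]; exact hzO
  · change germ ξ G U xU ((G.obj.map j.op).hom (σ₁.hom m)) = m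
    rw [germ_map, hxU, hσ₁]

set_option backward.isDefEq.respectTransparency.types false in
/-- a sheaf with finite geometric stalks of constant cardinality on a locally Noetherian
scheme with a dense point is constant on a nonempty étale scheme. -/
theorem exists_triv_of_card (n : ℕ)
    (hcard : ∀ t : T, ∃ (Ω : Type u) (_ : Field Ω) (_ : IsSepClosed Ω)
      (ξ : Spec (CommRingCat.of Ω) ⟶ T), Set.range ξ = {t} ∧
        Nat.card ((EtCoh.stalk ξ).obj G) = n)
    (hfin : ∀ (Ω : Type u) [Field Ω] [IsSepClosed Ω] (ξ : Spec (CommRingCat.of Ω) ⟶ T),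
      Finite ((EtCoh.stalk ξ).obj G))
    (t₀ : T) (ht₀ : ∀ O : Set T, IsOpen O → O.Nonempty → t₀ ∈ O) :
    ∃ (U : T.Etale) (_ : U.left) (M : AddCommGrpCat.{u + 1}) (_ : Finite M),
      Nonempty (G.over U ≅ (cS T.smallEtaleTopology U).obj M) := by
  classical
  obtain ⟨Ω, _, _, ξ, hξ, hn⟩ := hcard t₀
  haveI hMfin : Finite ((EtCoh.stalk ξ).obj G) := hfin Ω ξ
  have hpt : ξ.base default = t₀ := pt_eq_of_range ξ t₀ hξ
  obtain ⟨U, xU, σ, hdense, hσ⟩ := exists_section_hom_dense G ξ (by rw [hpt]; exact ht₀)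
  let Φ := Scheme.pointSmallEtale ξ
  let M : AddCommGrpCat.{u + 1} := (EtCoh.stalk ξ).obj G
  let lU : Spec (CommRingCat.of Ω) ⟶ U.left := fiberHom ξ xU
  let u₀ : U.left := lU.base default
  have hn0 : n ≠ 0 := by
    rw [← hn]
    exact Nat.card_pos.ne'
  -- injectivity over nonempty étale `U`-schemes
  have hinjV : ∀ (V : T.Etale) (k : V ⟶ U), Nonempty V.left → ∀ m m' : M,
      (G.obj.map k.op).hom (σ.hom m) = (G.obj.map k.op).hom (σ.hom m') → m = m' := by
    rintro V k ⟨v⟩ m m' hmm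
    obtain ⟨v', hv'⟩ := exists_over_w₁ u₀ hdense k v
    obtain ⟨l, hl1, hl2⟩ := Scheme.exists_fac_of_etale_of_isSepClosed k.left lU v' hv'
    let xV : Φ.fiber.obj V := Over.homMk l (by
      have h1 : k.left ≫ U.hom = V.hom := Over.w k.hom
      change l ≫ V.hom = ξ
      rw [← h1, ← Category.assoc, hl1]
      exact Over.w xU)
    have hxV : Φ.fiber.map k xV = xU := Over.OverMorphism.ext hl1
    have e1 := germ_map ξ G k xV (σ.hom m)
    have e2 := germ_map ξ G k xV (σ.hom m')
    rw [hxV, hσ] at e1 e2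
    rw [← e1, ← e2, hmm]
  let a : cP U M ⟶ (G.over U).obj :=
    { app := fun V => σ ≫ G.obj.map V.unop.hom.op
      naturality := by
        intro V V' k
        have hk : k.unop.left ≫ V.unop.hom = V'.unop.hom := Over.w k.unop
        change 𝟙 _ ≫ σ ≫ G.obj.map V'.unop.hom.op =
          (σ ≫ G.obj.map V.unop.hom.op) ≫ G.obj.map k.unop.left.op
        rw [Category.id_comp, Category.assoc, ← G.obj.map_comp, ← op_comp, hk] }
  have ha : ∀ (V : Over U) (m : M),
      (a.app (op V)).hom m = (G.obj.map V.hom.op).hom (σ.hom m) := fun V m => rfl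
  let β : (cS T.smallEtaleTopology U).obj M ⟶ G.over U :=
    ⟨sheafifyLift (T.smallEtaleTopology.over U) a (G.over U).property⟩
  have fac : toSheafify (T.smallEtaleTopology.over U) (cP U M) ≫ β.hom = a :=
    toSheafify_sheafifyLift (T.smallEtaleTopology.over U) a (G.over U).property
  haveI hinj_a : Presheaf.IsLocallyInjective (T.smallEtaleTopology.over U) a := by
    constructor
    intro V m m' hmm
    by_cases hne : Nonempty V.unop.left.left
    · have hmm' : m = m' := hinjV V.unop.left V.unop.hom hne m m' hmm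
      subst hmm'
      rw [Presheaf.equalizerSieve_self_eq_top]
      exact (T.smallEtaleTopology.over U).top_mem _
    · haveI : IsEmpty V.unop.left.left := not_nonempty_iff.1 hne
      rw [GrothendieckTopology.mem_over_iff]
      exact T.smallEtaleTopology.superset_covering bot_le (bot_mem_of_isEmpty V.unop.left)
  haveI hsurj_a : Presheaf.IsLocallySurjective (T.smallEtaleTopology.over U) a := by
    constructor
    intro V s
    rw [GrothendieckTopology.mem_over_iff, Groth.Agent.S6632.mem_smallEtaleTopology_iff]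
    intro v
    obtain ⟨Ω', _, _, ξ', hξ', hn'⟩ := hcard (V.left.hom.base v)
    have hpt' : ξ'.base default = V.left.hom.base v := pt_eq_of_range ξ' _ hξ'
    obtain ⟨l', hl'1, hl'2⟩ :=
      Scheme.exists_fac_of_etale_of_isSepClosed V.left.hom ξ' v hpt'.symm
    let Φ' := Scheme.pointSmallEtale ξ'
    let xV' : Φ'.fiber.obj V.left := Over.homMk l' hl'1
    let φ : M → (EtCoh.stalk ξ').obj G :=
      fun m => germ ξ' G V.left xV' ((G.obj.map V.hom.op).hom (σ.hom m))
    have hφinj : Function.Injective φ := by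
      intro m m' hmm
      change germ ξ' G V.left xV' ((G.obj.map V.hom.op).hom (σ.hom m)) =
        germ ξ' G V.left xV' ((G.obj.map V.hom.op).hom (σ.hom m')) at hmm
      rw [GrothendieckTopology.Point.toPresheafFiber_eq_iff'] at hmm
      obtain ⟨Y, g, y, hy, hz⟩ := hmm
      let ly : Spec (CommRingCat.of Ω') ⟶ Y.left := fiberHom ξ' y
      apply hinjV Y (g ≫ V.hom) ⟨ly.base default⟩
      rw [map_comp_apply, map_comp_apply]
      exact hz
    haveI : Finite ((EtCoh.stalk ξ').obj G) :=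
      Nat.finite_of_card_ne_zero (by rw [hn']; exact hn0)
    have hφbij : Function.Bijective φ :=
      (Nat.bijective_iff_injective_and_card φ).2 ⟨hφinj, by rw [hn']; exact hn⟩
    obtain ⟨m, hm⟩ := hφbij.2 (germ ξ' G V.left xV' s)
    change germ ξ' G V.left xV' ((G.obj.map V.hom.op).hom (σ.hom m)) =
      germ ξ' G V.left xV' s at hm
    rw [GrothendieckTopology.Point.toPresheafFiber_eq_iff'] at hm
    obtain ⟨Y, g, y, hy, hz⟩ := hm
    let ly : Spec (CommRingCat.of Ω') ⟶ Y.left := fiberHom ξ' y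
    refine ⟨Y, g, ly.base default, ?_, ?_⟩
    · rw [Sieve.overEquiv_iff]
      refine ⟨m, ?_⟩
      change (G.obj.map (g ≫ V.hom).op).hom (σ.hom m) = (G.obj.map g.op).hom s
      rw [map_comp_apply]
      exact hz
    · have h2 := congrArg (fun q : Φ'.fiber.obj V.left => (fiberHom ξ' q).base default) hy
      exact h2.trans hl'2
  have hts : Presheaf.IsLocallySurjective (T.smallEtaleTopology.over U)
      (toSheafify (T.smallEtaleTopology.over U) (cP U M)) :=
    Presheaf.isLocallySurjective_toSheafify' _ _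
  haveI h1 : Presheaf.IsLocallyInjective (T.smallEtaleTopology.over U) β.hom :=
    @Presheaf.isLocallyInjective_of_isLocallyInjective_of_isLocallySurjective_fac _ _
      (T.smallEtaleTopology.over U) _ _ _ _ _ _ _ _ _ _ _ a fac hinj_a hts
  haveI h2 : Presheaf.IsLocallySurjective (T.smallEtaleTopology.over U) β.hom :=
    Presheaf.isLocallySurjective_of_isLocallySurjective_fac (T.smallEtaleTopology.over U) fac
  haveI : IsIso β := (Sheaf.isLocallyBijective_iff_isIso β).1 ⟨h1, h2⟩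
  exact ⟨U, u₀, M, hMfin, ⟨(asIso β).symm⟩⟩

/-- finite local constancy on a nonempty open. -/
theorem exists_open_flc_of_card (n : ℕ)
    (hcard : ∀ t : T, ∃ (Ω : Type u) (_ : Field Ω) (_ : IsSepClosed Ω)
      (ξ : Spec (CommRingCat.of Ω) ⟶ T), Set.range ξ = {t} ∧
        Nat.card ((EtCoh.stalk ξ).obj G) = n)
    (hfin : ∀ (Ω : Type u) [Field Ω] [IsSepClosed Ω] (ξ : Spec (CommRingCat.of Ω) ⟶ T),
      Finite ((EtCoh.stalk ξ).obj G))
    (t₀ : T) (ht₀ : ∀ O : Set T, IsOpen O → O.Nonempty → t₀ ∈ O) :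
    ∃ T' : T.Opens, t₀ ∈ T' ∧ EtCoh.IsFiniteLocallyConstant ((EtCoh.pull T'.ι).obj G) := by
  obtain ⟨U₀, u₀, E, hE, ⟨α₀⟩⟩ := exists_triv_of_card G n hcard hfin t₀ ht₀
  let T' : T.Opens := ⟨Set.range U₀.hom.base, (isOpenMap_of_etale U₀.hom).isOpen_range⟩
  refine ⟨T', ht₀ _ T'.2 ⟨_, u₀, rfl⟩, ?_⟩
  apply isFLC_of_forall_point
  intro x
  obtain ⟨u, hu⟩ : (T'.ι x) ∈ Set.range U₀.hom.base := x.2
  obtain ⟨z, -, hz2⟩ :=
    Scheme.Pullback.exists_preimage_pullback (f := U₀.hom) (g := T'.ι) u x hu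
  exact ⟨(EtCoh.bc T'.ι).obj U₀, z, E, hE, hz2, nonempty_pull_const T'.ι G U₀ E α₀⟩

end Main

section Final

open Groth.Agent.Lib.Cohomology.OverPull Groth.Agent.Lib.Helper70.StalkCons
open Groth.Agent.Lib.Cohomology.StalkProp

set_option backward.isDefEq.respectTransparency.types false in
/-- on a locally Noetherian scheme a sheaf with finite geometric stalks whose stalk cardinality
loci are locally constructible is constructible. -/
theorem isConstructible_of_card {X : Scheme.{u}} [IsLocallyNoetherian X] (F : EtCoh.Ab X)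
    (hfin : ∀ (Ω : Type u) [Field Ω] [IsSepClosed Ω] (ξ : Spec (CommRingCat.of Ω) ⟶ X),
      Finite ((EtCoh.stalk ξ).obj F))
    (hE : ∀ n : ℕ, IsLocallyConstructible
      (locus (fun A : AddCommGrpCat.{u + 1} => Nat.card A = n) F)) :
    EtPBC.IsConstructible F := by
  have hP : ∀ n : ℕ, ∀ ⦃A B : AddCommGrpCat.{u + 1}⦄, (A ≅ B) → Nat.card A = n → Nat.card B = n :=
    fun n A B e h => by
      rw [← h]
      exact (Nat.card_congr e.addCommGroupIsoToAddEquiv.toEquiv).symm
  apply isConstructible_of_generic_flc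
  intro x
  let ξx : Spec (CommRingCat.of (SeparableClosure ((EtCoh.top X).left.residueField x))) ⟶ X :=
    geomPt (EtCoh.top X) x ≫ (EtCoh.top X).hom
  have hξx : Set.range ξx = {x} := by
    apply range_eq_singleton
    rw [Scheme.Hom.comp_base, TopCat.comp_app, geomPt_apply]
    rfl
  let n := Nat.card ((EtCoh.stalk ξx).obj F)
  have hxn : x ∈ locus (fun A : AddCommGrpCat.{u + 1} => Nat.card A = n) F :=
    ⟨_, inferInstance, inferInstance, ξx, hξx, rfl⟩
  obtain ⟨U, hUn, hUo, hUc⟩ := hE n x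
  have hxU : x ∈ U := mem_of_mem_nhds hUn
  obtain ⟨O, hO, hxO, hsub⟩ := exists_open_inter_closure_subset hUc
    (x := (⟨x, hxU⟩ : U)) hxn
  have hVo : IsOpen (Subtype.val '' O : Set X) := hUo.isOpenMap_subtype_val O hO
  have hsub' : (Subtype.val '' O : Set X) ∩ closure {x} ⊆
      locus (fun A : AddCommGrpCat.{u + 1} => Nat.card A = n) F := by
    rintro y ⟨⟨y', hy'O, rfl⟩, hy⟩
    have : y' ∈ closure ({(⟨x, hxU⟩ : U)} : Set U) := by
      rw [closure_subtype, Set.image_singleton]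
      exact hy
    exact hsub ⟨hy'O, this⟩
  let V : X.Opens := ⟨_, hVo⟩
  have hxV : x ∈ V := ⟨⟨x, hxU⟩, hxO, rfl⟩
  let g := lcι V ⟨closure {x}, isClosed_closure⟩
  have hrange : Set.range g = (V : Set X) ∩ closure {x} := range_lcι _ _
  haveI : IsLocallyNoetherian (lcScheme V ⟨closure {x}, isClosed_closure⟩) :=
    LocallyOfFiniteType.isLocallyNoetherian g
  have hxr : x ∈ Set.range g := by rw [hrange]; exact ⟨hxV, subset_closure rfl⟩
  obtain ⟨t₀, ht₀⟩ := hxr
  have hdense : ∀ O : Set (lcScheme V ⟨closure {x}, isClosed_closure⟩), IsOpen O → O.Nonempty →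
      t₀ ∈ O := by
    rintro O hO ⟨y, hy⟩
    obtain ⟨Q, hQ, rfl⟩ := g.isEmbedding.isInducing.isOpen_iff.1 hO
    have hgy : g y ∈ closure {x} := by
      have : g y ∈ Set.range g := ⟨y, rfl⟩
      rw [hrange] at this
      exact this.2
    obtain ⟨z, hzQ, hz⟩ := mem_closure_iff.1 hgy Q hQ hy
    rw [Set.mem_singleton_iff] at hz
    subst hz
    change g t₀ ∈ Q
    rw [ht₀]
    exact hzQ
  have hcard : ∀ t : lcScheme V ⟨closure {x}, isClosed_closure⟩,
      ∃ (Ω : Type u) (_ : Field Ω) (_ : IsSepClosed Ω)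
        (ξ : Spec (CommRingCat.of Ω) ⟶ lcScheme V ⟨closure {x}, isClosed_closure⟩),
        Set.range ξ = {t} ∧ Nat.card ((EtCoh.stalk ξ).obj ((EtCoh.pull g).obj F)) = n := by
    intro t
    have h1 : t ∈ locus (fun A : AddCommGrpCat.{u + 1} => Nat.card A = n)
        ((EtCoh.pull g).obj F) := by
      rw [locus_pull_immersion _ (hP n) g F]
      apply hsub'
      have h2 : g t ∈ Set.range g := ⟨t, rfl⟩
      rw [hrange] at h2
      exact h2
    exact h1
  have hfin' : ∀ (Ω : Type u) [Field Ω] [IsSepClosed Ω]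
      (ξ : Spec (CommRingCat.of Ω) ⟶ lcScheme V ⟨closure {x}, isClosed_closure⟩),
      Finite ((EtCoh.stalk ξ).obj ((EtCoh.pull g).obj F)) := by
    intro Ω _ _ ξ
    obtain ⟨e⟩ := Groth.Agent.Lib.Helper70.StalkPull.nonempty_stalk_pull_iso g ξ F
    haveI := hfin Ω (ξ ≫ g)
    exact Finite.of_equiv _ e.symm.addCommGroupIsoToAddEquiv.toEquiv
  obtain ⟨T', ht₀T', hflc'⟩ := exists_open_flc_of_card ((EtCoh.pull g).obj F) n hcard hfin' t₀ hdense
  obtain ⟨Q, hQ, hQT'⟩ := g.isEmbedding.isInducing.isOpen_iff.1 T'.2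
  refine ⟨V ⊓ ⟨Q, hQ⟩, T'.toScheme, T'.ι ≫ g, inferInstance, ⟨hxV, ?_⟩, ?_,
    isFLC_of_iso ((EtCore.pullComp T'.ι g).app F).symm hflc'⟩
  · change x ∈ Q
    rw [← ht₀]
    have : t₀ ∈ g ⁻¹' Q := by rw [hQT']; exact ht₀T'
    exact this
  · have hQT'' : (T' : Set _) = g ⁻¹' Q := hQT'.symm
    rw [Scheme.Hom.comp_base, TopCat.coe_comp, Set.range_comp, Scheme.Opens.range_ι, hQT'',
      Set.image_preimage_eq_inter_range, hrange]
    ext y
    simp only [TopologicalSpace.Opens.coe_inf, TopologicalSpace.Opens.coe_mk, Set.mem_inter_iff]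
    tauto

end Final

end Groth.Agent.Lib.Cohomology.CardConstr
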