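import Groth.Agent.Lib.Cohomology.Helper3_Cartan
import Mathlib.Topology.Sheaves.SheafCondition.UniqueGluing

/-!
# Degree zero of the Čech complex of a sheaf, and Čech acyclicity of flasque sheaves (helper3)

* `rs P h` restriction maps and basic lemmas.
* `resCoch V P hU s` : the 0-cochain of restrictions of a section `s` over `U ⊇ V i`.
  `d_resCoch`, `map_resCoch`, `exists_resCoch_eq` (0-cocycles of a sheaf glue).
* elementwise exactness of `F ⟶ I ⟶ Q` on Čech cochains: `cech_map_injective`, `cech_map_exact`,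
  `cech_map_surjective`.
* `isZero_cechH_succ_of_flasque` : a flasque sheaf is Čech-acyclic for every family of opens.
-/

set_option autoImplicit false
universe u
open CategoryTheory CategoryTheory.Limits TopologicalSpace Opposite

namespace Groth.Agent.Lib.Cohomology

open Cech

section rs
variable {X : TopCat.{u}}

/-- Restriction of sections of a presheaf of abelian groups, as an additive map. -/
noncomputable def rs (P : (Opens X)ᵒᵖ ⥤ AddCommGrpCat.{u}) {A B : Opens X} (h : B ≤ A) :
    P.obj (op A) →+ P.obj (op B) := (P.map (homOfLE h).op).hom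

lemma map_eq_rs (P : (Opens X)ᵒᵖ ⥤ AddCommGrpCat.{u}) {A B : Opens X} (φ : op A ⟶ op B)
    (x : P.obj (op A)) : P.map φ x = rs P (leOfHom φ.unop) x := rfl

@[simp] lemma rs_rs (P : (Opens X)ᵒᵖ ⥤ AddCommGrpCat.{u}) {A B C : Opens X} (h : B ≤ A) (h' : C ≤ B)
    (x : P.obj (op A)) : rs P h' (rs P h x) = rs P (h'.trans h) x := by
  unfold rs
  rw [← AddCommGrpCat.comp_apply, ← P.map_comp]
  rfl

@[simp] lemma rs_self (P : (Opens X)ᵒᵖ ⥤ AddCommGrpCat.{u}) {A : Opens X} (h : A ≤ A)
    (x : P.obj (op A)) : rs P h x = x := by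
  unfold rs
  have : (homOfLE h).op = 𝟙 (op A) := rfl
  rw [this, P.map_id]
  rfl

lemma nat_rs {P Q : (Opens X)ᵒᵖ ⥤ AddCommGrpCat.{u}} (φ : P ⟶ Q) {A B : Opens X} (h : B ≤ A)
    (x : P.obj (op A)) : φ.app (op B) (rs P h x) = rs Q h (φ.app (op A) x) := by
  unfold rs
  have := φ.naturality (homOfLE h).op
  exact congrArg (fun m => m.hom x) this

lemma face_eq_rs (P : (Opens X)ᵒᵖ ⥤ AddCommGrpCat.{u}) {ι : Type u} (U : ι → Opens X) {n : ℕ}
    (i : Fin (n + 2) → ι) (k : Fin (n + 2)) (x : P.obj (op (inter U (i ∘ k.succAbove)))) :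
    face P U i k x = rs P (inter_succAbove_le U i k) x := rfl

end rs

section ResCoch

variable {X : TopCat.{u}} {ι : Type u} (V : ι → Opens X)

/-- The 0-cochain of restrictions of a section over an open containing all members. -/
noncomputable def resCoch (P : (Opens X)ᵒᵖ ⥤ AddCommGrpCat.{u}) {U : Opens X}
    (hU : ∀ i, V i ≤ U) (s : P.obj (op U)) : (cx P V).X 0 :=
  (cochEquiv P V 0).symm (fun j => rs P ((inter_le V j 0).trans (hU (j 0))) s)

lemma proj_resCoch (P : (Opens X)ᵒᵖ ⥤ AddCommGrpCat.{u}) {U : Opens X}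
    (hU : ∀ i, V i ≤ U) (s : P.obj (op U)) (j : Fin 1 → ι) :
    proj P V 0 j (resCoch V P hU s) = rs P ((inter_le V j 0).trans (hU (j 0))) s :=
  proj_cochEquiv_symm _ _ _ _ _

lemma d_resCoch (P : (Opens X)ᵒᵖ ⥤ AddCommGrpCat.{u}) {U : Opens X}
    (hU : ∀ i, V i ≤ U) (s : P.obj (op U)) : (cx P V).d 0 1 (resCoch V P hU s) = 0 := by
  apply cx_ext
  intro i
  rw [map_zero, proj_d_apply, Fin.sum_univ_two]
  simp only [proj_resCoch, face_eq_rs, rs_rs]
  simp

lemma map_resCoch {P Q : (Opens X)ᵒᵖ ⥤ AddCommGrpCat.{u}} (φ : P ⟶ Q) {U : Opens X}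
    (hU : ∀ i, V i ≤ U) (s : P.obj (op U)) :
    ((cechComplexFunctor V).map φ).f 0 (resCoch V P hU s) = resCoch V Q hU (φ.app (op U) s) := by
  apply cx_ext
  intro j
  rw [map_proj_apply, proj_resCoch, proj_resCoch, nat_rs]

lemma resCoch_sub (P : (Opens X)ᵒᵖ ⥤ AddCommGrpCat.{u}) {U : Opens X}
    (hU : ∀ i, V i ≤ U) (s t : P.obj (op U)) :
    resCoch V P hU (s - t) = resCoch V P hU s - resCoch V P hU t := by
  apply cx_ext
  intro j
  rw [map_sub, proj_resCoch, proj_resCoch, proj_resCoch, map_sub]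

/-- A `0`-cocycle of a sheaf glues to a section over the union. -/
theorem exists_resCoch_eq (G : CohTop.Ab X) (b : (cx G.obj V).X 0)
    (hb : (cx G.obj V).d 0 1 b = 0) :
    ∃ s : G.obj.obj (op (iSup V)), resCoch V G.obj (le_iSup V) s = b := by
  -- components
  let bk : ∀ j : Fin 1 → ι, G.obj.obj (op (inter V j)) := fun j => proj G.obj V 0 j b
  have bk_congr : ∀ (j j' : Fin 1 → ι), j = j' → ∀ (A : Opens X) (hA : A ≤ inter V j)
      (hA' : A ≤ inter V j'), rs G.obj hA (bk j) = rs G.obj hA' (bk j') := by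
    intro j j' e A hA hA'
    subst e
    rfl
  obtain ⟨β, hβ⟩ : ∃ β : ∀ i : ι, G.obj.obj (op (V i)), ∀ i, β i =
      rs G.obj (le_inter V (fun _ => i) (fun _ => le_rfl)) (bk (fun _ => i)) := ⟨_, fun _ => rfl⟩
  have hbk : ∀ (j : Fin 1 → ι) (A : Opens X) (hA : A ≤ inter V j),
      rs G.obj hA (bk j) = rs G.obj (hA.trans (inter_le V j 0)) (β (j 0)) := by
    intro j A hA
    have e : j = fun _ => j 0 := by
      funext a
      rw [Subsingleton.elim a 0]
    have hA' : A ≤ inter V (fun _ : Fin 1 => j 0) := e ▸ hA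
    rw [bk_congr j _ e A hA hA', hβ, rs_rs]
  have β_congr : ∀ (A : Opens X) (k k' : ι) (hk : A ≤ V k) (hk' : A ≤ V k'), k = k' →
      rs G.obj hk (β k) = rs G.obj hk' (β k') := by
    intro A k k' hk hk' e
    subst e
    rfl
  -- cocycle condition
  have hcoc : ∀ i : Fin 2 → ι, rs G.obj (inter_le V i 1) (β (i 1)) =
      rs G.obj (inter_le V i 0) (β (i 0)) := by
    intro i
    have h1 := congrArg (proj G.obj V 1 i) hb
    rw [map_zero, proj_d_apply, Fin.sum_univ_two] at h1
    simp only [face_eq_rs] at h1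
    change (-1 : ℤ) ^ (0 : ℕ) • rs G.obj _ (bk _) + (-1 : ℤ) ^ (1 : ℕ) • rs G.obj _ (bk _) = 0 at h1
    rw [hbk, hbk] at h1
    simp only [pow_zero, one_smul, pow_one, neg_smul, Function.comp_apply] at h1
    have e0 : (0 : Fin 2).succAbove (0 : Fin 1) = 1 := by decide
    have e1 : (1 : Fin 2).succAbove (0 : Fin 1) = 0 := by decide
    rw [β_congr _ _ _ _ (inter_le V i 1) (congrArg i e0),
      β_congr _ _ _ _ (inter_le V i 0) (congrArg i e1)] at h1
    exact eq_of_sub_eq_zero (by rw [sub_eq_add_neg]; exact h1)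
  have hcompat : TopCat.Presheaf.IsCompatible G.obj V β := by
    intro k l
    rw [map_eq_rs, map_eq_rs]
    let i : Fin 2 → ι := ![k, l]
    have hAi : V k ⊓ V l ≤ inter V i := by
      apply le_inter
      intro a
      fin_cases a
      · exact inf_le_left
      · exact inf_le_right
    have h1 := congrArg (rs G.obj hAi) (hcoc i)
    rw [rs_rs, rs_rs] at h1
    exact h1.symm
  obtain ⟨s, hs, -⟩ := TopCat.Sheaf.existsUnique_gluing G V β hcompat
  refine ⟨s, ?_⟩
  apply cx_ext
  intro j
  rw [proj_resCoch]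
  have h2 := hbk j (inter V j) le_rfl
  rw [rs_self] at h2
  change _ = bk j
  rw [h2]
  have h3 := hs (j 0)
  rw [map_eq_rs] at h3
  rw [← h3, rs_rs]

end ResCoch

section Elementwise

variable {X : TopCat.{u}} {ι : Type u} (V : ι → Opens X) {S : ShortComplex (CohTop.Ab X)}

theorem cech_map_injective (hS : S.ShortExact) (n : ℕ) :
    Function.Injective (((cechComplexFunctor V).map S.f.hom).f n) := by
  have := hS.mono_f
  intro x y hxy
  apply cx_ext
  intro i
  apply sections_injective_of_mono S.f (inter V i)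
  rw [← map_proj_apply, ← map_proj_apply, hxy]

theorem cech_map_exact (hS : S.ShortExact) (n : ℕ) (x₂ : (cx S.X₂.obj V).X n)
    (hx₂ : ((cechComplexFunctor V).map S.g.hom).f n x₂ = 0) :
    ∃ x₁ : (cx S.X₁.obj V).X n, ((cechComplexFunctor V).map S.f.hom).f n x₁ = x₂ := by
  have hcomp : ∀ i : Fin (n + 1) → ι,
      ∃ t : S.X₁.obj.obj (op (inter V i)), S.f.hom.app (op (inter V i)) t = proj S.X₂.obj V n i x₂ := by
    intro i
    apply TopCat.Sheaf.sections_exact_of_left_exact hS.exact hS.mono_f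
    rw [← map_proj_apply, hx₂, map_zero]
  choose t ht using hcomp
  refine ⟨(cochEquiv S.X₁.obj V n).symm t, ?_⟩
  apply cx_ext
  intro i
  rw [map_proj_apply, proj_cochEquiv_symm, ht]

theorem cech_map_comp_zero (n : ℕ) (x₁ : (cx S.X₁.obj V).X n) :
    ((cechComplexFunctor V).map S.g.hom).f n (((cechComplexFunctor V).map S.f.hom).f n x₁) = 0 := by
  have h := (cechSC V S).zero
  have h2 := congrArg (fun φ => (φ.f n).hom x₁) h
  exact h2

theorem cech_map_d {P Q : (Opens X)ᵒᵖ ⥤ AddCommGrpCat.{u}} (φ : P ⟶ Q) (n : ℕ)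
    (x : (cx P V).X n) :
    ((cechComplexFunctor V).map φ).f (n + 1) ((cx P V).d n (n + 1) x) =
      (cx Q V).d n (n + 1) (((cechComplexFunctor V).map φ).f n x) := by
  have h := ((cechComplexFunctor V).map φ).comm n (n + 1)
  have h2 := congrArg (fun ψ => ψ.hom x) h
  exact h2.symm

end Elementwise

section Flasque

variable {X : TopCat.{u}} {ι : Type u} (V : ι → Opens X)

theorem surjective_sections_of_flasque {S : ShortComplex (CohTop.Ab X)} (hS : S.ShortExact)
    [TopCat.Sheaf.IsFlasque S.X₁] (U : Opens X) : Function.Surjective (S.g.hom.app (op U)) := by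
  have hepi : Epi (S.g.1.app (op U)) := TopCat.Sheaf.IsFlasque.epi_of_shortExact hS
  rwa [AddCommGrpCat.epi_iff_surjective] at hepi

theorem isZero_cechH_one_of_flasque (F : CohTop.Ab X) [TopCat.Sheaf.IsFlasque F] :
    IsZero (CohTop.cechH F.obj V 1) := by
  rw [isZero_cechH_succ_iff]
  intro c hc
  have hS := injSeq_shortExact F
  have : TopCat.Sheaf.IsFlasque (injSeq F).X₁ := ‹_›
  -- push the cocycle to the injective sheaf, where it is a coboundary
  have hc' : (cx (injSeq F).X₂.obj V).d 1 2 (((cechComplexFunctor V).map (injSeq F).f.hom).f 1 c) = 0 := by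
    rw [← cech_map_d, hc, map_zero]
  obtain ⟨b, hb⟩ := (isZero_cechH_succ_iff (injSeq F).X₂.obj V 0).1
    (isZero_cechH_of_injective_sheaf V (Injective.under F) 0) _ hc'
  -- the image of `b` in the quotient is a cocycle, hence a global section
  have hq : (cx (injSeq F).X₃.obj V).d 0 1 (((cechComplexFunctor V).map (injSeq F).g.hom).f 0 b) = 0 := by
    rw [← cech_map_d, hb, cech_map_comp_zero]
  obtain ⟨q, hq⟩ := exists_resCoch_eq V (injSeq F).X₃ _ hq
  obtain ⟨s, hs⟩ := surjective_sections_of_flasque hS (iSup V) q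
  -- correct `b` by the restriction of a lift of `q`
  obtain ⟨a, ha⟩ := cech_map_exact V hS 0 (b - resCoch V (injSeq F).X₂.obj (le_iSup V) s) (by
    rw [map_sub, map_resCoch, hs, hq, sub_self])
  refine ⟨a, ?_⟩
  apply cech_map_injective V hS 1
  rw [cech_map_d, ha, map_sub, d_resCoch, sub_zero, hb]

/-- A flasque abelian sheaf is Čech-acyclic with respect to every family of opens. -/
theorem isZero_cechH_succ_of_flasque (p : ℕ) :
    ∀ (F : CohTop.Ab X) [TopCat.Sheaf.IsFlasque F], IsZero (CohTop.cechH F.obj V (p + 1)) := by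
  induction p with
  | zero => exact fun F _ => isZero_cechH_one_of_flasque V F
  | succ p ih =>
    intro F _
    have hS := injSeq_shortExact F
    have : TopCat.Sheaf.IsFlasque (injSeq F).X₁ := ‹_›
    have : TopCat.Sheaf.IsFlasque (injSeq F).X₂ := isFlasque_of_injective (Injective.under F)
    have : TopCat.Sheaf.IsFlasque (injSeq F).X₃ := TopCat.Sheaf.IsFlasque.of_shortExact_of_isFlasque₁₂ hS
    have hSC := cechSC_shortExact V hS (fun n i => surjective_sections_of_flasque hS _)
    have hex := hSC.homology_exact₁ (p + 1) (p + 2) rfl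
    exact hex.isZero_of_both_zeros ((ih (injSeq F).X₃).eq_of_src _ _)
      ((isZero_cechH_of_injective_sheaf V (Injective.under F) (p + 1)).eq_of_tgt _ _)

end Flasque

end Groth.Agent.Lib.Cohomology
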