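import Groth.Agent.Lib.Cohomology.Helper3_LerayNat
import Groth.Agent.Lib.Cohomology.Helper1_SerreVanishing
import Groth.Agent.Lib.Cohomology.Helper1_HUTop

/-!
# Čech cohomology computes cohomology, naturally (helper3)

For a scheme `X` with an open cover `U` all of whose nonempty finite intersections are affine:
* `cechHHIso X U hcov hU M p : Ȟ^p(U, M) ≅ H^p(X, M)` for quasi-coherent `M` (canonical);
* `cechHHIso_naturality` : naturality with respect to all morphisms of the underlying abelian sheaves;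
* `cechHHEquiv`, `cechHHEquiv_naturality`, `cechHHEquiv_smul` : elementwise forms; compatibility with
  the action of global functions.
-/

set_option autoImplicit false
universe u
open CategoryTheory CategoryTheory.Limits TopologicalSpace Opposite AlgebraicGeometry

namespace Groth.Agent.Lib.Cohomology

section

variable (X : Scheme.{u}) {ι : Type u} (U : ι → X.Opens)

/-- the constant sheaf `ℤ` on `X` -/
noncomputable abbrev constZ : CohTop.Ab X.toTopCat :=
  (constantSheaf (Opens.grothendieckTopology X) AddCommGrpCat.{u}).obj (AddCommGrpCat.of (ULift ℤ))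

lemma isAcyclicOn_of_affine
    (hU : ∀ s : Finset ι, s.Nonempty → IsAffineOpen (⨅ i ∈ s, U i))
    (M : X.Modules) [Coh.IsQCoh M] : IsAcyclicOn U (Coh.toAb M) := by
  classical
  intro p a q
  have h1 : Subsingleton (CohTop.HU (Coh.toAb M) (q + 1) (iInf fun k => U (a k))) := by
    refine HU_succ_subsingleton_of_isAffineOpen M _ ?_ q
    have := hU (Finset.univ.image a) ⟨a 0, Finset.mem_image.2 ⟨0, Finset.mem_univ _, rfl⟩⟩
    convert this using 1
    apply le_antisymm
    · refine le_iInf (fun i => le_iInf (fun hi => ?_))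
      obtain ⟨k, -, rfl⟩ := Finset.mem_image.1 hi
      exact iInf_le _ k
    · refine le_iInf (fun k => ?_)
      exact (iInf_le _ (a k)).trans (iInf_le _ (Finset.mem_image.2 ⟨k, Finset.mem_univ _, rfl⟩))
  rw [← Cech.inter_eq_iInf] at h1
  exact h1

/-- `ℤ_{⋃ U} ≅ ℤ` when `U` covers `X`. -/
noncomputable def constZIso (hcov : ⨆ i, U i = ⊤) : constZ X ≅ ZW (iSup U) :=
  (freeSheafTopIso X.toTopCat).symm ≪≫ eqToIso (by rw [hcov])

/-- **Čech cohomology computes cohomology** (canonical isomorphism). -/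
noncomputable def cechHHIso (hcov : ⨆ i, U i = ⊤)
    (hU : ∀ s : Finset ι, s.Nonempty → IsAffineOpen (⨅ i ∈ s, U i))
    (M : X.Modules) [Coh.IsQCoh M] (p : ℕ) :
    CohTop.cechH (Coh.toAb M).obj U p ≅ ExtA (constZ X) (Coh.toAb M) p :=
  lerayIso U p (Coh.toAb M) (isAcyclicOn_of_affine X U hU M) ≪≫
    extPreIso (constZIso X U hcov) (Coh.toAb M) p

theorem cechHHIso_naturality (hcov : ⨆ i, U i = ⊤)
    (hU : ∀ s : Finset ι, s.Nonempty → IsAffineOpen (⨅ i ∈ s, U i))
    (M N : X.Modules) [Coh.IsQCoh M] [Coh.IsQCoh N] (φ : Coh.toAb M ⟶ Coh.toAb N) (p : ℕ) :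
    cechMap U φ p ≫ (cechHHIso X U hcov hU N p).hom =
      (cechHHIso X U hcov hU M p).hom ≫ extMapHom (constZ X) φ p := by
  dsimp only [cechHHIso, Iso.trans_hom, extPreIso]
  rw [← Category.assoc, lerayIso_naturality U p φ (isAcyclicOn_of_affine X U hU M)
    (isAcyclicOn_of_affine X U hU N), Category.assoc, Category.assoc, extPreHom_naturality]
  rfl

/-- elementwise form of `cechHHIso` -/
noncomputable def cechHHEquiv (hcov : ⨆ i, U i = ⊤)
    (hU : ∀ s : Finset ι, s.Nonempty → IsAffineOpen (⨅ i ∈ s, U i))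
    (M : X.Modules) [Coh.IsQCoh M] (p : ℕ) :
    ↑(CohB1.cechH U M p) ≃+ Coh.HH X M p :=
  (cechHHIso X U hcov hU M p).addCommGroupIsoToAddEquiv

theorem cechHHEquiv_naturality (hcov : ⨆ i, U i = ⊤)
    (hU : ∀ s : Finset ι, s.Nonempty → IsAffineOpen (⨅ i ∈ s, U i))
    (M N : X.Modules) [Coh.IsQCoh M] [Coh.IsQCoh N] (φ : Coh.toAb M ⟶ Coh.toAb N) (p : ℕ)
    (x : ↑(CohB1.cechH U M p)) :
    cechHHEquiv X U hcov hU N p
        (HomologicalComplex.homologyMap ((cechComplexFunctor U).map φ.hom) p x) =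
      Sheaf.H.map φ p (cechHHEquiv X U hcov hU M p x) :=
  congrArg (fun m => m.hom x) (cechHHIso_naturality X U hcov hU M N φ p)

/-- compatibility with the action of global functions -/
theorem cechHHEquiv_smul (hcov : ⨆ i, U i = ⊤)
    (hU : ∀ s : Finset ι, s.Nonempty → IsAffineOpen (⨅ i ∈ s, U i))
    (M : X.Modules) [Coh.IsQCoh M] (p : ℕ) (r : Coh.Γtop X) (x : ↑(CohB1.cechH U M p)) :
    cechHHEquiv X U hcov hU M p
        (HomologicalComplex.homologyMap ((cechComplexFunctor U).map (Coh.smulAb M r).hom) p x) =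
      r • cechHHEquiv X U hcov hU M p x :=
  cechHHEquiv_naturality X U hcov hU M M (Coh.smulAb M r) p x

end

end Groth.Agent.Lib.Cohomology
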