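import Groth.Agent.Lib.Cohomology.Helper3_SubConst
import Groth.Agent.Lib.Helper70.StalkCons
import Groth.Agent.Lib.Helper70.StalkPullGerm

/-!
# Generic stabilisation of chains of subsheaves of a locally constant sheaf (helper3)

* `LocSurjOver U₀ b`: `b` is locally surjective on étale schemes over `U₀`;
* `stalk_surjective_of_locSurjOver`: then `b` is surjective on stalks at geometric points through `U₀`;
* `exists_stab`: an increasing chain of subsheaves of a finite locally constant sheaf on a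
  locally Noetherian scheme stabilises over some nonempty étale scheme;
* `isIso_stalk_pull_iff`: stalks of inverse images;
* `exists_lift_immersion`: lifting geometric points through immersions.
-/

set_option autoImplicit false
universe u
open CategoryTheory CategoryTheory.Limits Opposite AlgebraicGeometry Topology TopologicalSpace

namespace Groth.Agent.Lib.Cohomology.ChainStab

open Groth.Agent.Lib.Cohomology.LocConst Groth.Agent.Lib.Cohomology.EtExc
open Groth.Agent.Lib.Cohomology.Constr Groth.Agent.Lib.Cohomology.SubConst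

variable {T : Scheme.{u}}

/-- `b : A ⟶ B` is locally surjective on étale `T`-schemes over `U₀`. -/
def LocSurjOver (U₀ : T.Etale) {A B : EtCoh.Ab T} (b : A ⟶ B) : Prop :=
  ∀ (U' : T.Etale) (_ : U' ⟶ U₀) (s : B.obj.obj (op U')),
    ∃ R : Sieve U', R ∈ T.smallEtaleTopology U' ∧ ∀ ⦃V' : T.Etale⦄ (q : V' ⟶ U'), R q →
      ∃ h' : A.obj.obj (op V'), (b.hom.app (op V')).hom h' = (B.obj.map q.op).hom s

set_option backward.isDefEq.respectTransparency.types false in
theorem stalk_surjective_of_locSurjOver {U₀ : T.Etale} {A B : EtCoh.Ab T} (b : A ⟶ B)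
    (hb : LocSurjOver U₀ b) {Ω : Type u} [Field Ω] [IsSepClosed Ω]
    (ζ : Spec (CommRingCat.of Ω) ⟶ T) (x₀ : (Scheme.pointSmallEtale ζ).fiber.obj U₀) :
    Function.Surjective ((EtCoh.stalk ζ).map b) := by
  intro p
  let Φ := Scheme.pointSmallEtale ζ
  obtain ⟨U', x', z, rfl⟩ := Φ.toPresheafFiber_jointly_surjective (P := B.obj) p
  let e1 : Φ.fiber.Elements := ⟨U', x'⟩
  let e2 : Φ.fiber.Elements := ⟨U₀, x₀⟩
  let e := IsCofiltered.min e1 e2
  let f1 : e ⟶ e1 := IsCofiltered.minToLeft e1 e2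
  let f2 : e ⟶ e2 := IsCofiltered.minToRight e1 e2
  obtain ⟨R, hR, hRs⟩ := hb e.1 f2.1 ((B.obj.map f1.1.op).hom z)
  obtain ⟨V', g, hg, y, hy⟩ := Φ.jointly_surjective R hR e.2
  obtain ⟨h', hh'⟩ := hRs g hg
  refine ⟨Φ.toPresheafFiber V' y A.obj h', ?_⟩
  have n1 := ConcreteCategory.congr_hom (Φ.toPresheafFiber_naturality b.hom V' y) h'
  rw [ConcreteCategory.comp_apply, ConcreteCategory.comp_apply] at n1
  refine n1.trans ?_
  have k1 := ConcreteCategory.congr_hom (Φ.toPresheafFiber_w g y B.obj)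
    ((B.obj.map f1.1.op).hom z)
  have k2 := ConcreteCategory.congr_hom (Φ.toPresheafFiber_w f1.1 e.2 B.obj) z
  rw [ConcreteCategory.comp_apply] at k1 k2
  have q1 : Φ.fiber.map f1.1 e.2 = x' := f1.2
  rw [hy] at k1
  rw [q1] at k2
  have hh'' : (b.hom.app (op V')) h' = (B.obj.map g.op) ((B.obj.map f1.1.op).hom z) := hh'
  rw [hh'']
  exact k1.trans k2

section Chain

variable [IsLocallyNoetherian T] {F : EtCoh.Ab T} (H : ℕ → EtCoh.Ab T) (ι : ∀ k, H k ⟶ F)
  [∀ k, Mono (ι k)] (a : ∀ k l, k ≤ l → (H k ⟶ H l))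
  (ha : ∀ k l (h : k ≤ l), a k l h ≫ ι l = ι k)

include ha in
/-- an increasing chain of subsheaves of a finite locally constant sheaf stabilises over a
nonempty étale scheme. -/
theorem exists_stab (t₀ : T) (hF : EtCoh.IsFiniteLocallyConstant F) :
    ∃ (N₀ : ℕ) (U₀ : T.Etale) (_ : U₀.left),
      ∀ k (hk : N₀ ≤ k), LocSurjOver U₀ (a N₀ k hk) := by
  classical
  obtain ⟨W₀, y, M, hM, -, ⟨α₀⟩⟩ := exists_triv_of_isFLC hF t₀
  obtain ⟨W, j, w₁, hw₁⟩ := exists_dense_point_open W₀ y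
  let α := restrTriv T.smallEtaleTopology F j α₀
  have hsec : ∀ k l (h : k ≤ l) (U : T.Etale) (x : (H k).obj.obj (op U)),
      ((ι l).hom.app (op U)).hom (((a k l h).hom.app (op U)).hom x) =
        ((ι k).hom.app (op U)).hom x := by
    intro k l h U x
    rw [← ha k l h]
    rfl
  have hmono : Monotone (fun k => {m : M | Good (ι k) α m}) := by
    rintro k l hkl m ⟨U, g, u, h, hh⟩
    exact ⟨U, g, u, ((a k l hkl).hom.app (op U)).hom h, (hsec k l hkl U h).trans hh⟩
  let S : ℕ →o Set M := ⟨fun k => {m : M | Good (ι k) α m}, hmono⟩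
  obtain ⟨N₀, hN₀⟩ := WellFoundedGT.monotone_chain_condition S
  obtain ⟨U₀, g₀, u₀, hU₀⟩ := exists_common_sections (ι N₀) α w₁ hw₁
  refine ⟨N₀, U₀, u₀, fun k hk U' p s => ?_⟩
  let α' := restrTriv T.smallEtaleTopology F (p ≫ g₀) α
  obtain ⟨R, hR, hRs⟩ := exists_sieve_const T.smallEtaleTopology F α'
    (fun _ : Unit => ((ι k).hom.app (op U')).hom s)
  refine ⟨R, hR, fun V' q hq => ?_⟩
  obtain ⟨m, hm⟩ := hRs q hq ()
  by_cases hV : IsEmpty V'.left
  · exact ⟨0, sections_eq_of_isEmpty _ V' _ _⟩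
  · rw [not_isEmpty_iff] at hV
    obtain ⟨v⟩ := hV
    have e1 : (secTriv T.smallEtaleTopology F (restrTriv T.smallEtaleTopology F q α')).hom m =
        resF α (q ≫ p ≫ g₀) m := by
      rw [secTriv_restrTriv, secTriv_restrTriv, resF_comp]
      rfl
    have e2 : ((ι k).hom.app (op V')).hom (((H k).obj.map q.op).hom s) =
        resF α (q ≫ p ≫ g₀) m := by
      rw [nat_apply, ← hm, e1]
    have hgood : m ∈ S k := ⟨V', q ≫ p ≫ g₀, v, _, e2⟩
    rw [← hN₀ k hk] at hgood
    obtain ⟨h, hh⟩ := hU₀ m hgood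
    refine ⟨((H N₀).obj.map (q ≫ p).op).hom h, ?_⟩
    apply sections_injective_of_mono (ι k) V'
    rw [hsec, nat_apply, hh, e2, ← resF_comp, Category.assoc]

end Chain

/-- stalks of inverse images: `(g⁻¹φ)_ζ` is an isomorphism iff `φ_{g ζ}` is. -/
theorem isIso_stalk_pull_iff {X : Scheme.{u}} (g : T ⟶ X) {A B : EtCoh.Ab X} (φ : A ⟶ B)
    {Ω : Type u} [Field Ω] [IsSepClosed Ω] (ζ : Spec (CommRingCat.of Ω) ⟶ T) :
    IsIso ((EtCoh.stalk ζ).map ((EtCoh.pull g).map φ)) ↔ IsIso ((EtCoh.stalk (ζ ≫ g)).map φ) := by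
  haveI : ((EtCoh.bc g).sheafPushforwardContinuous AddCommGrpCat.{u + 1} X.smallEtaleTopology
      T.smallEtaleTopology).IsRightAdjoint := (EtCoh.pullPushAdj g).isRightAdjoint
  exact NatIso.isIso_map_iff
    (Groth.Agent.Lib.Helper70.StalkPullGerm.stalkPullIso g ζ AddCommGrpCat.{u + 1}) φ

/-- a point of `Spec` of a field landing in the image of a closed immersion lifts -/
theorem exists_lift_closedImmersion {Z X : Scheme.{u}} (i : Z ⟶ X) [IsClosedImmersion i]
    {Ω : Type u} [Field Ω] (ξ : Spec (CommRingCat.of Ω) ⟶ X)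
    (h : ξ.base default ∈ Set.range i.base) : ∃ ζ : Spec (CommRingCat.of Ω) ⟶ Z, ζ ≫ i = ξ := by
  obtain ⟨z, hz⟩ := h
  obtain ⟨p, hp1, hp2⟩ := Scheme.Pullback.exists_preimage_pullback (f := ξ) (g := i) default z
    hz.symm
  haveI : Surjective (pullback.fst ξ i) := ⟨fun t => ⟨p, Subsingleton.elim _ _⟩⟩
  haveI : IsIso (pullback.fst ξ i) := isIso_of_isClosedImmersion_of_surjective _
  refine ⟨inv (pullback.fst ξ i) ≫ pullback.snd ξ i, ?_⟩
  rw [Category.assoc, ← pullback.condition, IsIso.inv_hom_id_assoc]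

/-- a point of `Spec` of a field landing in the image of an immersion lifts -/
theorem exists_lift_immersion {Z X : Scheme.{u}} (g : Z ⟶ X) [IsImmersion g]
    {Ω : Type u} [Field Ω] (ξ : Spec (CommRingCat.of Ω) ⟶ X)
    (h : ξ.base default ∈ Set.range g.base) : ∃ ζ : Spec (CommRingCat.of Ω) ⟶ Z, ζ ≫ g = ξ := by
  obtain ⟨z, hz⟩ := h
  have hfac : g.liftCoborder ≫ g.coborderRange.ι = g := g.liftCoborder_ι
  have hz' : g.coborderRange.ι.base (g.liftCoborder.base z) = ξ.base default := by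
    rw [← hz]
    exact congrArg (fun k : Z ⟶ X => k.base z) hfac
  have hsub : Set.range ξ.base ⊆ Set.range g.coborderRange.ι.base := by
    rintro _ ⟨t, rfl⟩
    rw [Subsingleton.elim t default, ← hz']
    exact ⟨_, rfl⟩
  let ξ' := IsOpenImmersion.lift g.coborderRange.ι ξ hsub
  have hξ' : ξ' ≫ g.coborderRange.ι = ξ := IsOpenImmersion.lift_fac _ _ _
  have hpt : ξ'.base default = g.liftCoborder.base z := by
    apply g.coborderRange.ι.isOpenEmbedding.injective
    rw [hz', ← hξ']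
    rfl
  obtain ⟨ζ, hζ⟩ := exists_lift_closedImmersion g.liftCoborder ξ' ⟨z, hpt.symm⟩
  exact ⟨ζ, by rw [← hfac, ← Category.assoc, hζ, hξ']⟩

end Groth.Agent.Lib.Cohomology.ChainStab
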