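import Groth.Agent.Lib.Cohomology.Helper3_CardConstr

/-!
# A sheaf squeezed between two constant sheaves on an irreducible scheme (helper3)

`isIso_of_const_mono`: `X` irreducible, `ξ` a geometric generic point, monomorphisms
`a : const M' ⟶ G`, `b : G ⟶ const M` with `a ≫ b = const ι`.  If `a` is an isomorphism on the stalk
at `ξ` then `a` is an isomorphism.
-/

set_option autoImplicit false
universe u
open CategoryTheory CategoryTheory.Limits Opposite AlgebraicGeometry Topology TopologicalSpace

namespace Groth.Agent.Lib.Cohomology.ConstMono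

open Groth.Agent.Lib.Cohomology.LocConst Groth.Agent.Lib.Cohomology.EtExc
open Groth.Agent.Lib.Cohomology.SubConst Groth.Agent.Lib.Cohomology.CardConstr

variable {X : Scheme.{u}}

/-- the constant presheaf -/
abbrev kP (M : AddCommGrpCat.{u + 1}) : X.Etaleᵒᵖ ⥤ AddCommGrpCat.{u + 1} :=
  (Functor.const X.Etaleᵒᵖ).obj M

/-- the constant sheaf -/
noncomputable abbrev kS (M : AddCommGrpCat.{u + 1}) : EtCoh.Ab X :=
  (constantSheaf X.smallEtaleTopology AddCommGrpCat.{u + 1}).obj M

/-- the unit `M ⟶ (const M)(W)` -/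
noncomputable def unitK (M : AddCommGrpCat.{u + 1}) (W : X.Etale) :
    M ⟶ (kS (X := X) M).obj.obj (op W) :=
  (toSheafify X.smallEtaleTopology (kP M)).app (op W)

lemma unitK_map (M : AddCommGrpCat.{u + 1}) {W W' : X.Etale} (k : W' ⟶ W) (m : M) :
    ((kS (X := X) M).obj.map k.op).hom ((unitK M W).hom m) = (unitK M W').hom m := by
  have := (toSheafify X.smallEtaleTopology (kP (X := X) M)).naturality k.op
  simp only [Functor.const_obj_obj, Functor.const_obj_map, Category.id_comp] at this
  exact (ConcreteCategory.congr_hom this m).symm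

lemma unitK_nat {M N : AddCommGrpCat.{u + 1}} (h : M ⟶ N) (W : X.Etale) (m : M) :
    ((((constantSheaf X.smallEtaleTopology AddCommGrpCat.{u + 1}).map h).hom.app (op W)).hom
      ((unitK M W).hom m)) = (unitK N W).hom (h.hom m) := by
  have := congrArg (fun a => a.app (op W))
    (toSheafify_naturality X.smallEtaleTopology ((Functor.const X.Etaleᵒᵖ).map h))
  exact (ConcreteCategory.congr_hom this m).symm

lemma unitK_injective (M : AddCommGrpCat.{u + 1}) (W : X.Etale)
    (hW : (⊥ : Sieve W) ∉ X.smallEtaleTopology W) : Function.Injective (unitK (X := X) M W).hom := by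
  intro n n' hnn
  by_contra hne
  apply hW
  have hli : Presheaf.IsLocallyInjective X.smallEtaleTopology
      (toSheafify X.smallEtaleTopology (kP (X := X) M)) :=
    Presheaf.isLocallyInjective_toSheafify' _ _
  have h1 : Presheaf.equalizerSieve (F := kP (X := X) M) (X := op W) n n' ∈
      X.smallEtaleTopology W :=
    hli.equalizerSieve_mem n n' hnn
  have h2 : Presheaf.equalizerSieve (F := kP (X := X) M) (X := op W) n n' = ⊥ := by
    ext Z f
    simp only [Presheaf.equalizerSieve_apply, Sieve.bot_apply, iff_false]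
    intro h
    exact hne h
  rwa [h2] at h1

lemma unitK_locSurj (M : AddCommGrpCat.{u + 1}) (W : X.Etale)
    (t : (kS (X := X) M).obj.obj (op W)) :
    Presheaf.imageSieve (toSheafify X.smallEtaleTopology (kP (X := X) M)) t ∈
      X.smallEtaleTopology W := by
  have hls : Presheaf.IsLocallySurjective X.smallEtaleTopology
      (toSheafify X.smallEtaleTopology (kP (X := X) M)) :=
    Presheaf.isLocallySurjective_toSheafify' _ _
  exact hls.imageSieve_mem t

set_option backward.isDefEq.respectTransparency.types false in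
theorem isIso_of_const_mono [IrreducibleSpace ↥X]
    {Ω : Type u} [Field Ω] [IsSepClosed Ω] (ξ : Spec (CommRingCat.of Ω) ⟶ X)
    (hξ : ξ.base default = genericPoint ↥X)
    {M' M : AddCommGrpCat.{u + 1}} (ι : M' ⟶ M) (G : EtCoh.Ab X)
    (a : kS M' ⟶ G) (b : G ⟶ kS M) [Mono a] [Mono b]
    (hab : a ≫ b = (constantSheaf X.smallEtaleTopology AddCommGrpCat.{u + 1}).map ι)
    (hst : IsIso ((EtCoh.stalk ξ).map a)) : IsIso a := by
  classical
  let Φ := Scheme.pointSmallEtale ξ
  have hbinj : ∀ U : X.Etale, Function.Injective (b.hom.app (op U)).hom :=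
    fun U => sections_injective_of_mono b U
  have habs : ∀ (W : X.Etale) (t : (kS (X := X) M').obj.obj (op W)),
      (b.hom.app (op W)).hom ((a.hom.app (op W)).hom t) =
        (((constantSheaf X.smallEtaleTopology AddCommGrpCat.{u + 1}).map ι).hom.app (op W)).hom t := by
    intro W t
    rw [← hab]
    rfl
  have hsurj : Function.Surjective ((EtCoh.stalk ξ).map a) :=
    (ConcreteCategory.bijective_of_isIso ((EtCoh.stalk ξ).map a)).2
  haveI hls : Sheaf.IsLocallySurjective a := by
    constructor
    intro W s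
    refine X.smallEtaleTopology.superset_covering ?_
      (unitK_locSurj M W ((b.hom.app (op W)).hom s))
    rintro W' f ⟨c, hc⟩
    have hc' : (unitK M W').hom c =
        ((kS (X := X) M).obj.map f.op).hom ((b.hom.app (op W)).hom s) := hc
    have hbs' : (b.hom.app (op W')).hom ((G.obj.map f.op).hom s) = (unitK M W').hom c := by
      rw [hc']
      exact nat_apply b f s
    by_cases hne : Nonempty W'.left
    · obtain ⟨w'⟩ := hne
      have hgen : genericPoint ↥X ∈ Set.range W'.hom.base := by
        have hopen : IsOpen (Set.range W'.hom.base) := (isOpenMap_of_etale W'.hom).isOpen_range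
        rw [(genericPoint_spec ↥X).mem_open_set_iff hopen]
        exact ⟨W'.hom.base w', trivial, w', rfl⟩
      obtain ⟨w₀, hw₀⟩ := hgen
      obtain ⟨l, hl1, -⟩ :=
        Scheme.exists_fac_of_etale_of_isSepClosed W'.hom ξ w₀ (hw₀.trans hξ.symm)
      let x' : Φ.fiber.obj W' := Over.homMk l hl1
      obtain ⟨p, hp⟩ := hsurj (germ ξ G W' x' ((G.obj.map f.op).hom s))
      obtain ⟨W₁, x₁, t₁, rfl⟩ := Φ.toPresheafFiber_jointly_surjective (P := (kS (X := X) M').obj) p
      obtain ⟨W₂, g₂, hg₂, x₂, hx₂⟩ := Φ.jointly_surjective _ (unitK_locSurj M' W₁ t₁) x₁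
      obtain ⟨c', hc''⟩ := hg₂
      have hc₂ : (unitK M' W₂).hom c' = ((kS (X := X) M').obj.map g₂.op).hom t₁ := hc''
      -- germ of a(unit c') at x₂ equals germ of s' at x'
      have n1 := ConcreteCategory.congr_hom (Φ.toPresheafFiber_naturality a.hom W₁ x₁) t₁
      rw [ConcreteCategory.comp_apply, ConcreteCategory.comp_apply] at n1
      have e1 : germ ξ G W₂ x₂ ((a.hom.app (op W₂)).hom ((unitK M' W₂).hom c')) =
          germ ξ G W' x' ((G.obj.map f.op).hom s) := by
        rw [hc₂, nat_apply a g₂ t₁, germ_map, hx₂]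
        exact n1.symm.trans hp
      -- common refinement
      let e1' : Φ.fiber.Elements := ⟨W₂, x₂⟩
      let e2' : Φ.fiber.Elements := ⟨W', x'⟩
      let e := IsCofiltered.min e1' e2'
      let f1 : e ⟶ e1' := IsCofiltered.minToLeft e1' e2'
      let f2 : e ⟶ e2' := IsCofiltered.minToRight e1' e2'
      have q1 : Φ.fiber.map f1.1 e.2 = x₂ := f1.2
      have q2 : Φ.fiber.map f2.1 e.2 = x' := f2.2
      have e2 : germ ξ G e.1 e.2 ((G.obj.map f1.1.op).hom
            ((a.hom.app (op W₂)).hom ((unitK M' W₂).hom c'))) =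
          germ ξ G e.1 e.2 ((G.obj.map f2.1.op).hom ((G.obj.map f.op).hom s)) := by
        rw [germ_map, germ_map, q1, q2]
        exact e1
      rw [GrothendieckTopology.Point.toPresheafFiber_eq_iff'] at e2
      obtain ⟨W₃, g₃, x₃, hx₃, hz⟩ := e2
      -- W₃ is nonempty
      have hW₃ : (⊥ : Sieve W₃) ∉ X.smallEtaleTopology W₃ :=
        Groth.Agent.Lib.Cohomology.LocConst.bot_not_mem W₃ ((fiberHom ξ x₃).base default)
      -- compare in `const M` over `W₃`
      have hcomp : (unitK M W₃).hom (ι.hom c') = (unitK M W₃).hom c := by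
        have k1 := congrArg (fun z => (b.hom.app (op W₃)).hom z) hz
        simp only at k1
        rw [nat_apply b g₃, nat_apply b f1.1, habs, unitK_nat, unitK_map, unitK_map,
          nat_apply b g₃, nat_apply b f2.1, hbs', unitK_map, unitK_map] at k1
        exact k1
      have hcc : ι.hom c' = c := unitK_injective M W₃ hW₃ hcomp
      refine ⟨(unitK M' W').hom c', ?_⟩
      apply hbinj W'
      change (b.hom.app (op W')).hom ((a.hom.app (op W')).hom ((unitK M' W').hom c')) =
        (b.hom.app (op W')).hom ((G.obj.map f.op).hom s)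
      rw [habs, unitK_nat, hcc, hbs']
    · haveI : IsEmpty W'.left := not_nonempty_iff.1 hne
      exact ⟨0, sections_eq_of_isEmpty G W' _ _⟩
  haveI : Epi a := inferInstance
  exact isIso_of_mono_of_epi a

end Groth.Agent.Lib.Cohomology.ConstMono
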