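import Groth.Agent.Lib.Cohomology.Helper3_CardConstr
import Groth.Prelude.Def_EtMod2

/-!
# A sheaf squeezed between two constant sheaves on an irreducible scheme (helper3)

`isIso_of_const_mono`: `X` irreducible, `ξ` a geometric generic point, monomorphisms
`a : const M' ⟶ G`, `b : G ⟶ const M` with `a ≫ b = const ι`.  If `a` is an isomorphism on the stalk
at `ξ` then `a` is an isomorphism.
-/

set_option autoImplicit false
universe u
open CategoryTheory CategoryTheory.Limits Opposite AlgebraicGeometry Topology TopologicalSpace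

namespace Groth.Agent.Lib.Cohomology.ConstMonoMod

open Groth.Agent.Lib.Cohomology.LocConst Groth.Agent.Lib.Cohomology.EtExc
open Groth.Agent.Lib.Cohomology.SubConst Groth.Agent.Lib.Cohomology.CardConstr

variable {X : Scheme.{u}} {Λ : Type (u + 1)} [CommRing Λ]

section Helpers

lemma nat_applyM {H F : EtModW.Mod Λ X} (ι : H ⟶ F) {U U' : X.Etale} (p : U' ⟶ U)
    (h : H.obj.obj (op U)) :
    (ι.hom.app (op U')).hom ((H.obj.map p.op).hom h) =
      (F.obj.map p.op).hom ((ι.hom.app (op U)).hom h) := by
  have := ConcreteCategory.congr_hom (ι.hom.naturality p.op) h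
  simpa using this

lemma sections_injective_of_monoM {F G : EtModW.Mod Λ X} (φ : F ⟶ G) [Mono φ]
    (V : X.Etale) : Function.Injective (φ.hom.app (op V)).hom := by
  have : Mono ((sheafToPresheaf X.smallEtaleTopology (ModuleCat.{u + 1} Λ) ⋙
      (evaluation X.Etaleᵒᵖ (ModuleCat.{u + 1} Λ)).obj (op V)).map φ) := inferInstance
  exact (ModuleCat.mono_iff_injective _).1 this

lemma sections_eq_of_isEmptyM (G : EtModW.Mod Λ X) (U : X.Etale) [IsEmpty U.left]
    (s s' : G.obj.obj (op U)) : s = s' := by
  have h1 : Presieve.IsSheaf X.smallEtaleTopology (G.obj ⋙ forget (ModuleCat.{u + 1} Λ)) :=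
    (isSheaf_iff_isSheaf_of_type _ _).1
      ((Presheaf.isSheaf_iff_isSheaf_forget _ G.obj (forget (ModuleCat.{u + 1} Λ))).1 G.property)
  refine (h1 _ (bot_mem_of_isEmpty U)).isSeparatedFor.ext ?_
  intro Y f hf
  exact hf.elim

variable {Ω : Type u} [Field Ω] [IsSepClosed Ω] (ζ : Spec (CommRingCat.of Ω) ⟶ X)
  (G : EtModW.Mod Λ X)

/-- the germ map -/
noncomputable abbrev germM (U : X.Etale) (x : (Scheme.pointSmallEtale ζ).fiber.obj U) :
    G.obj.obj (op U) ⟶ (Scheme.pointSmallEtale ζ).presheafFiber.obj G.obj :=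
  (Scheme.pointSmallEtale ζ).toPresheafFiber U x G.obj

lemma germM_map {U U' : X.Etale} (f : U' ⟶ U) (x' : (Scheme.pointSmallEtale ζ).fiber.obj U')
    (z : G.obj.obj (op U)) :
    germM ζ G U' x' ((G.obj.map f.op).hom z) =
      germM ζ G U ((Scheme.pointSmallEtale ζ).fiber.map f x') z := by
  have k := ConcreteCategory.congr_hom
    ((Scheme.pointSmallEtale ζ).toPresheafFiber_w f x' G.obj) z
  rw [ConcreteCategory.comp_apply] at k
  exact k

end Helpers

/-- the constant presheaf -/
abbrev kP (M : (ModuleCat.{u + 1} Λ)) : X.Etaleᵒᵖ ⥤ (ModuleCat.{u + 1} Λ) :=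
  (Functor.const X.Etaleᵒᵖ).obj M

/-- the constant sheaf -/
noncomputable abbrev kS (M : (ModuleCat.{u + 1} Λ)) : EtModW.Mod Λ X :=
  (constantSheaf X.smallEtaleTopology (ModuleCat.{u + 1} Λ)).obj M

/-- the unit `M ⟶ (const M)(W)` -/
noncomputable def unitK (M : (ModuleCat.{u + 1} Λ)) (W : X.Etale) :
    M ⟶ (kS (X := X) M).obj.obj (op W) :=
  (toSheafify X.smallEtaleTopology (kP M)).app (op W)

lemma unitK_map (M : (ModuleCat.{u + 1} Λ)) {W W' : X.Etale} (k : W' ⟶ W) (m : M) :
    ((kS (X := X) M).obj.map k.op).hom ((unitK M W).hom m) = (unitK M W').hom m := by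
  have := (toSheafify X.smallEtaleTopology (kP (X := X) M)).naturality k.op
  simp only [Functor.const_obj_obj, Functor.const_obj_map, Category.id_comp] at this
  exact (ConcreteCategory.congr_hom this m).symm

lemma unitK_nat {M N : (ModuleCat.{u + 1} Λ)} (h : M ⟶ N) (W : X.Etale) (m : M) :
    ((((constantSheaf X.smallEtaleTopology (ModuleCat.{u + 1} Λ)).map h).hom.app (op W)).hom
      ((unitK M W).hom m)) = (unitK N W).hom (h.hom m) := by
  have := congrArg (fun a => a.app (op W))
    (toSheafify_naturality X.smallEtaleTopology ((Functor.const X.Etaleᵒᵖ).map h))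
  exact (ConcreteCategory.congr_hom this m).symm

lemma unitK_injective (M : (ModuleCat.{u + 1} Λ)) (W : X.Etale)
    (hW : (⊥ : Sieve W) ∉ X.smallEtaleTopology W) : Function.Injective (unitK (X := X) M W).hom := by
  intro n n' hnn
  by_contra hne
  apply hW
  have hli : Presheaf.IsLocallyInjective X.smallEtaleTopology
      (toSheafify X.smallEtaleTopology (kP (X := X) M)) :=
    Presheaf.isLocallyInjective_toSheafify' _ _
  have h1 : Presheaf.equalizerSieve (F := kP (X := X) M) (X := op W) n n' ∈
      X.smallEtaleTopology W :=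
    hli.equalizerSieve_mem n n' hnn
  have h2 : Presheaf.equalizerSieve (F := kP (X := X) M) (X := op W) n n' = ⊥ := by
    ext Z f
    simp only [Presheaf.equalizerSieve_apply, Sieve.bot_apply, iff_false]
    intro h
    exact hne h
  rwa [h2] at h1

lemma unitK_locSurj (M : (ModuleCat.{u + 1} Λ)) (W : X.Etale)
    (t : (kS (X := X) M).obj.obj (op W)) :
    Presheaf.imageSieve (toSheafify X.smallEtaleTopology (kP (X := X) M)) t ∈
      X.smallEtaleTopology W := by
  have hls : Presheaf.IsLocallySurjective X.smallEtaleTopology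
      (toSheafify X.smallEtaleTopology (kP (X := X) M)) :=
    Presheaf.isLocallySurjective_toSheafify' _ _
  exact hls.imageSieve_mem t

set_option backward.isDefEq.respectTransparency.types false in
theorem isIso_of_const_mono [IrreducibleSpace ↥X]
    {Ω : Type u} [Field Ω] [IsSepClosed Ω] (ξ : Spec (CommRingCat.of Ω) ⟶ X)
    (hξ : ξ.base default = genericPoint ↥X)
    {M' M : (ModuleCat.{u + 1} Λ)} (ι : M' ⟶ M) (G : EtModW.Mod Λ X)
    (a : kS M' ⟶ G) (b : G ⟶ kS M) [Mono a] [Mono b]
    (hab : a ≫ b = (constantSheaf X.smallEtaleTopology (ModuleCat.{u + 1} Λ)).map ι)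
    (hst : IsIso ((EtModW.stalk Λ ξ).map a)) : IsIso a := by
  classical
  haveI : PreservesFilteredColimitsOfSize.{u, u} (forget (ModuleCat.{u + 1} Λ)) :=
    preservesFilteredColimitsOfSize_shrink.{u, u + 1, u, u + 1} _
  let Φ := Scheme.pointSmallEtale ξ
  have hbinj : ∀ U : X.Etale, Function.Injective (b.hom.app (op U)).hom :=
    fun U => sections_injective_of_monoM b U
  have habs : ∀ (W : X.Etale) (t : (kS (X := X) M').obj.obj (op W)),
      (b.hom.app (op W)).hom ((a.hom.app (op W)).hom t) =
        (((constantSheaf X.smallEtaleTopology (ModuleCat.{u + 1} Λ)).map ι).hom.app (op W)).hom t := by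
    intro W t
    rw [← hab]
    rfl
  have hsurj : Function.Surjective ((EtModW.stalk Λ ξ).map a) :=
    (ConcreteCategory.bijective_of_isIso ((EtModW.stalk Λ ξ).map a)).2
  haveI hls : Sheaf.IsLocallySurjective a := by
    constructor
    intro W s
    refine X.smallEtaleTopology.superset_covering ?_
      (unitK_locSurj M W ((b.hom.app (op W)).hom s))
    rintro W' f ⟨c, hc⟩
    have hc' : (unitK M W').hom c =
        ((kS (X := X) M).obj.map f.op).hom ((b.hom.app (op W)).hom s) := hc
    have hbs' : (b.hom.app (op W')).hom ((G.obj.map f.op).hom s) = (unitK M W').hom c := by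
      rw [hc']
      exact nat_applyM b f s
    by_cases hne : Nonempty W'.left
    · obtain ⟨w'⟩ := hne
      have hgen : genericPoint ↥X ∈ Set.range W'.hom.base := by
        have hopen : IsOpen (Set.range W'.hom.base) := (isOpenMap_of_etale W'.hom).isOpen_range
        rw [(genericPoint_spec ↥X).mem_open_set_iff hopen]
        exact ⟨W'.hom.base w', trivial, w', rfl⟩
      obtain ⟨w₀, hw₀⟩ := hgen
      obtain ⟨l, hl1, -⟩ :=
        Scheme.exists_fac_of_etale_of_isSepClosed W'.hom ξ w₀ (hw₀.trans hξ.symm)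
      let x' : Φ.fiber.obj W' := Over.homMk l hl1
      obtain ⟨p, hp⟩ := hsurj (germM ξ G W' x' ((G.obj.map f.op).hom s))
      obtain ⟨W₁, x₁, t₁, rfl⟩ := Φ.toPresheafFiber_jointly_surjective (P := (kS (X := X) M').obj) p
      obtain ⟨W₂, g₂, hg₂, x₂, hx₂⟩ := Φ.jointly_surjective _ (unitK_locSurj M' W₁ t₁) x₁
      obtain ⟨c', hc''⟩ := hg₂
      have hc₂ : (unitK M' W₂).hom c' = ((kS (X := X) M').obj.map g₂.op).hom t₁ := hc''
      -- germ of a(unit c') at x₂ equals germ of s' at x'
      have n1 := ConcreteCategory.congr_hom (Φ.toPresheafFiber_naturality a.hom W₁ x₁) t₁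
      rw [ConcreteCategory.comp_apply, ConcreteCategory.comp_apply] at n1
      have e1 : germM ξ G W₂ x₂ ((a.hom.app (op W₂)).hom ((unitK M' W₂).hom c')) =
          germM ξ G W' x' ((G.obj.map f.op).hom s) := by
        rw [hc₂, nat_applyM a g₂ t₁, germM_map, hx₂]
        exact n1.symm.trans hp
      -- common refinement
      let e1' : Φ.fiber.Elements := ⟨W₂, x₂⟩
      let e2' : Φ.fiber.Elements := ⟨W', x'⟩
      let e := IsCofiltered.min e1' e2'
      let f1 : e ⟶ e1' := IsCofiltered.minToLeft e1' e2'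
      let f2 : e ⟶ e2' := IsCofiltered.minToRight e1' e2'
      have q1 : Φ.fiber.map f1.1 e.2 = x₂ := f1.2
      have q2 : Φ.fiber.map f2.1 e.2 = x' := f2.2
      have e2 : germM ξ G e.1 e.2 ((G.obj.map f1.1.op).hom
            ((a.hom.app (op W₂)).hom ((unitK M' W₂).hom c'))) =
          germM ξ G e.1 e.2 ((G.obj.map f2.1.op).hom ((G.obj.map f.op).hom s)) := by
        rw [germM_map, germM_map, q1, q2]
        exact e1
      rw [GrothendieckTopology.Point.toPresheafFiber_eq_iff'] at e2
      obtain ⟨W₃, g₃, x₃, hx₃, hz⟩ := e2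
      -- W₃ is nonempty
      have hW₃ : (⊥ : Sieve W₃) ∉ X.smallEtaleTopology W₃ :=
        Groth.Agent.Lib.Cohomology.LocConst.bot_not_mem W₃ ((fiberHom ξ x₃).base default)
      -- compare in `const M` over `W₃`
      have hcomp : (unitK M W₃).hom (ι.hom c') = (unitK M W₃).hom c := by
        have k1 := congrArg (fun z => (b.hom.app (op W₃)).hom z) hz
        simp only at k1
        rw [nat_applyM b g₃, nat_applyM b f1.1, habs, unitK_nat, unitK_map, unitK_map,
          nat_applyM b g₃, nat_applyM b f2.1, hbs', unitK_map, unitK_map] at k1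
        exact k1
      have hcc : ι.hom c' = c := unitK_injective M W₃ hW₃ hcomp
      refine ⟨(unitK M' W').hom c', ?_⟩
      apply hbinj W'
      change (b.hom.app (op W')).hom ((a.hom.app (op W')).hom ((unitK M' W').hom c')) =
        (b.hom.app (op W')).hom ((G.obj.map f.op).hom s)
      rw [habs, unitK_nat, hcc, hbs']
    · haveI : IsEmpty W'.left := not_nonempty_iff.1 hne
      exact ⟨0, sections_eq_of_isEmptyM G W' _ _⟩
  haveI : Epi a := inferInstance
  exact isIso_of_mono_of_epi a

end Groth.Agent.Lib.Cohomology.ConstMonoMod
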