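import Groth.Agent.Lib.Cohomology.Helper3_ExtFunct

/-!
# Split injectivity of the map on Ext induced by an exact functor with an exact retraction (helper3)

If `L : C ⥤ D`, `L' : D ⥤ C` are exact additive functors with `L ⋙ L' ≅ 𝟭 C`, then the map
`Ext A B q → Ext A' B' q` induced by `L` (and isomorphisms `A' ≅ L A`, `L B ≅ B'`) has a retraction.
-/

universe w w' v v' u u'

open CategoryTheory CategoryTheory.Limits CategoryTheory.Abelian

namespace Groth.Agent.Lib.Cohomology.ExtSplit

open ExtFunct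

variable {C : Type u} [Category.{v} C] [Abelian C] [HasExt.{w} C] [EnoughInjectives C]
variable {D : Type u'} [Category.{v'} D] [Abelian D] [HasExt.{w'} D]

theorem exists_retraction (L : C ⥤ D) (L' : D ⥤ C) [L.Additive] [PreservesFiniteLimits L]
    [PreservesFiniteColimits L] [L'.Additive] [PreservesFiniteLimits L']
    [PreservesFiniteColimits L'] (η : L ⋙ L' ≅ 𝟭 C) {A B : C} {A' B' : D}
    (α : A' ≅ L.obj A) (β : L.obj B ≅ B') (q : ℕ) :
    ∃ r : Ext.{w'} A' B' q →+ Ext.{w} A B q,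
      ∀ x : Ext.{w} A B q, r (conjMap L α.hom β.hom q x) = x := by
  have : PreservesFiniteLimits (L ⋙ L') := comp_preservesFiniteLimits _ _
  have : PreservesFiniteColimits (L ⋙ L') := comp_preservesFiniteColimits _ _
  refine ⟨conjMap L' (η.inv.app A ≫ L'.map α.inv) (L'.map β.inv ≫ η.hom.app B) q, fun x => ?_⟩
  rw [conjMap_comp, conjMap_natIso _ _ η, conjMap_id]
  have h1 : ((η.inv.app A ≫ L'.map α.inv) ≫ L'.map α.hom) ≫ η.hom.app A = 𝟙 _ := by
    rw [Category.assoc, Category.assoc, ← Functor.map_comp_assoc, Iso.inv_hom_id,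
      CategoryTheory.Functor.map_id, Category.id_comp]
    exact Iso.inv_hom_id_app _ _
  have h2 : η.inv.app B ≫ L'.map β.hom ≫ L'.map β.inv ≫ η.hom.app B = 𝟙 _ := by
    rw [← Functor.map_comp_assoc, Iso.hom_inv_id, CategoryTheory.Functor.map_id, Category.id_comp]
    exact Iso.inv_hom_id_app _ _
  have h3 : (Ext.mk₀ (𝟙 A)).comp (x.comp (Ext.mk₀ (𝟙 B)) (add_zero q)) (zero_add q) = x := by
    rw [Ext.comp_mk₀_id, Ext.mk₀_id_comp]
  rw [h1, h2]
  exact h3

end Groth.Agent.Lib.Cohomology.ExtSplit
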