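import Groth.Prelude.Def_EtCore
import Groth.Agent.S0101
import Groth.Agent.Lib.Cohomology.Helper3_ExtSplit

/-!
# A morphism of schemes with a section induces split injections on étale cohomology (helper3)

`exists_split δ σ w G G' β q`: for `σ ≫ δ = 𝟙 Z` and `β : δ⁻¹ G ≅ G'`, the pullback map
`H^q(Z, G) → H^q(Z', G')` has a retraction.  Also `bcId`, `pushId`, `pullId`, `pullRetract`.
-/

set_option autoImplicit false
open CategoryTheory CategoryTheory.Limits AlgebraicGeometry Opposite CategoryTheory.Abelian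
universe u

namespace Groth.Agent.Lib.Cohomology.EtSplit

open ExtFunct

noncomputable instance pull_pfl {X Y : Scheme.{u}} (f : X ⟶ Y) : PreservesFiniteLimits (EtCoh.pull f) :=
  Groth.Agent.S0101.result f

set_option backward.isDefEq.respectTransparency.types false in
/-- base change along the identity is isomorphic to the identity functor -/
noncomputable def bcId (Z : Scheme.{u}) : EtCoh.bc (𝟙 Z) ≅ 𝟭 Z.Etale :=
  (MorphismProperty.Over.mapPullbackAdj (P := EtCoh.etaleMP.{u}) (Q := ⊤) (𝟙 Z)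
    (inferInstance : AlgebraicGeometry.Etale (𝟙 Z)) trivial).rightAdjointUniq
    (Adjunction.id.ofNatIsoLeft (MorphismProperty.Over.mapId (P := EtCoh.etaleMP.{u}) (Q := ⊤) Z).symm)

set_option backward.isDefEq.respectTransparency.types false in
/-- direct image along the identity is isomorphic to the identity functor -/
noncomputable def pushId (Z : Scheme.{u}) : EtCoh.push (𝟙 Z) ≅ 𝟭 (EtCoh.Ab Z) :=
  Functor.sheafPushforwardContinuousId' (bcId Z) AddCommGrpCat.{u + 1} Z.smallEtaleTopology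

/-- inverse image along the identity is isomorphic to the identity functor -/
noncomputable def pullId (Z : Scheme.{u}) : EtCoh.pull (𝟙 Z) ≅ 𝟭 (EtCoh.Ab Z) :=
  (EtCoh.pullPushAdj (𝟙 Z)).leftAdjointUniq (Adjunction.id.ofNatIsoRight (pushId Z).symm)

/-- if `σ ≫ δ = 𝟙`, then `δ⁻¹` followed by `σ⁻¹` is isomorphic to the identity -/
noncomputable def pullRetract {Z' Z : Scheme.{u}} (δ : Z' ⟶ Z) (σ : Z ⟶ Z') (w : σ ≫ δ = 𝟙 Z) :
    EtCoh.pull δ ⋙ EtCoh.pull σ ≅ 𝟭 (EtCoh.Ab Z) :=
  (EtCore.pullComp σ δ).symm ≪≫ EtCore.pullCongr w ≪≫ pullId Z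

/-- A morphism with a section induces split injections on étale cohomology. -/
theorem exists_split {Z' Z : Scheme.{u}} (δ : Z' ⟶ Z) (σ : Z ⟶ Z') (w : σ ≫ δ = 𝟙 Z)
    (G : EtCoh.Ab Z) (G' : EtCoh.Ab Z') (β : (EtCoh.pull δ).obj G ≅ G') (q : ℕ) :
    ∃ (i : EtCoh.H Z G q →+ EtCoh.H Z' G' q) (r : EtCoh.H Z' G' q →+ EtCoh.H Z G q),
      ∀ x, r (i x) = x := by
  obtain ⟨r, hr⟩ := ExtSplit.exists_retraction (EtCoh.pull δ) (EtCoh.pull σ) (pullRetract δ σ w)
    (A := EtCoh.const Z ℤ) (B := G) (EtCore.pullConst δ ℤ).symm β q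
  exact ⟨conjMap (EtCoh.pull δ) (EtCore.pullConst δ ℤ).symm.hom β.hom q, r, hr⟩

end Groth.Agent.Lib.Cohomology.EtSplit
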