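import Groth.Agent.Lib.Cohomology.Helper3_LocConst
import Mathlib.CategoryTheory.Sites.Pullback
import Mathlib.CategoryTheory.Limits.Preserves.Shapes.Kernels
import Mathlib.Algebra.Category.Grp.Kernels
import Mathlib.CategoryTheory.Sites.EpiMono
import Mathlib.Algebra.Homology.ShortComplex.ShortExact
import Mathlib.Algebra.Homology.ShortComplex.Ab
import Mathlib.Algebra.Homology.ShortComplex.ExactFunctor
import Mathlib.CategoryTheory.Sites.LeftExact
import Mathlib.Algebra.Group.Shrink
import Mathlib.Logic.Small.Defs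
import Mathlib.Data.Countable.Small

/-!
# Kernels, cokernels and extensions of locally constant sheaves (helper3)
-/

set_option autoImplicit false
universe u
open CategoryTheory CategoryTheory.Limits Opposite

namespace Groth.Agent.Lib.Cohomology.LocConst

variable {C : Type (u + 1)} [Category.{u} C] (J : GrothendieckTopology C) (T : C)

noncomputable instance overPullback_isLeftAdjoint :
    (J.overPullback AddCommGrpCat.{u + 1} T).IsLeftAdjoint :=
  ((Over.forget T).sheafAdjunctionCocontinuous AddCommGrpCat.{u + 1} (J.over T) J).isLeftAdjoint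

noncomputable instance overPullback_preservesFiniteLimits :
    PreservesFiniteLimits (J.overPullback AddCommGrpCat.{u + 1} T) := by
  have : PreservesLimitsOfSize.{0, 0} (J.overPullback AddCommGrpCat.{u + 1} T) :=
    (Adjunction.ofIsRightAdjoint (J.overPullback AddCommGrpCat.{u + 1} T)).rightAdjoint_preservesLimits
  exact PreservesLimitsOfSize.preservesFiniteLimits _

noncomputable instance overPullback_preservesFiniteColimits :
    PreservesFiniteColimits (J.overPullback AddCommGrpCat.{u + 1} T) := by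
  have : PreservesColimitsOfSize.{0, 0} (J.overPullback AddCommGrpCat.{u + 1} T) :=
    (Adjunction.ofIsLeftAdjoint (J.overPullback AddCommGrpCat.{u + 1} T)).leftAdjoint_preservesColimits
  exact PreservesColimitsOfSize.preservesFiniteColimits _

noncomputable instance overPullback_additive : (J.overPullback AddCommGrpCat.{u + 1} T).Additive :=
  Functor.additive_of_preserves_binary_products _

noncomputable instance cS_preservesFiniteLimits : PreservesFiniteLimits (cS J T) := by
  change PreservesFiniteLimits (Functor.const (Over T)ᵒᵖ ⋙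
    presheafToSheaf (J.over T) AddCommGrpCat.{u + 1})
  haveI h1 : PreservesFiniteLimits (Functor.const (Over T)ᵒᵖ :
      AddCommGrpCat.{u + 1} ⥤ _) := inferInstance
  haveI h2 : PreservesFiniteLimits (presheafToSheaf (J.over T) AddCommGrpCat.{u + 1}) :=
    inferInstance
  exact comp_preservesFiniteLimits _ _

noncomputable instance cS_preservesFiniteColimits : PreservesFiniteColimits (cS J T) := by
  have : PreservesColimitsOfSize.{0, 0} (cS J T) :=
    (constantSheafAdj (J.over T) AddCommGrpCat.{u + 1} Over.mkIdTerminal).leftAdjoint_preservesColimits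
  exact PreservesColimitsOfSize.preservesFiniteColimits _

noncomputable instance cS_additive : (cS J T).Additive := by
  haveI : (cS J T).IsLeftAdjoint :=
    (constantSheafAdj (J.over T) AddCommGrpCat.{u + 1} Over.mkIdTerminal).isLeftAdjoint
  exact Functor.additive_of_preserves_binary_products _

variable {J T}

/-- the kernel of a map which on `T` is `const(h)` is `const(ker h)` on `T` -/
noncomputable def kernelTriv {F G : Sheaf J AddCommGrpCat.{u + 1}} (φ : F ⟶ G)
    {M N : AddCommGrpCat.{u + 1}} (α : F.over T ≅ (cS J T).obj M) (β : G.over T ≅ (cS J T).obj N)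
    (h : M ⟶ N)
    (hc : (J.overPullback AddCommGrpCat.{u + 1} T).map φ ≫ β.hom = α.hom ≫ (cS J T).map h) :
    (kernel φ).over T ≅ (cS J T).obj (kernel h) :=
  PreservesKernel.iso (J.overPullback AddCommGrpCat.{u + 1} T) φ ≪≫
    kernel.mapIso _ _ α β hc ≪≫ (PreservesKernel.iso (cS J T) h).symm

/-- the cokernel of a map which on `T` is `const(h)` is `const(coker h)` on `T` -/
noncomputable def cokernelTriv {F G : Sheaf J AddCommGrpCat.{u + 1}} (φ : F ⟶ G)
    {M N : AddCommGrpCat.{u + 1}} (α : F.over T ≅ (cS J T).obj M) (β : G.over T ≅ (cS J T).obj N)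
    (h : M ⟶ N)
    (hc : (J.overPullback AddCommGrpCat.{u + 1} T).map φ ≫ β.hom = α.hom ≫ (cS J T).map h) :
    (cokernel φ).over T ≅ (cS J T).obj (cokernel h) :=
  PreservesCokernel.iso (J.overPullback AddCommGrpCat.{u + 1} T) φ ≪≫
    cokernel.mapIso _ _ α β hc ≪≫ (PreservesCokernel.iso (cS J T) h).symm

/-- a finite abelian group in `Type (u+1)` has a model in `Type` -/
lemma exists_small_model (K : AddCommGrpCat.{u + 1}) [Finite K] :
    ∃ (M : Type) (_ : AddCommGroup M) (_ : Finite M),
      Nonempty (K ≅ AddCommGrpCat.of (ULift.{u + 1} M)) := by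
  haveI : Small.{0} K := inferInstance
  refine ⟨Shrink.{0} K, inferInstance, Finite.of_equiv K (equivShrink K), ⟨?_⟩⟩
  exact ((Shrink.addEquiv (α := K)).symm.trans AddEquiv.ulift.symm).toAddCommGrpIso

instance finite_kernel {M N : AddCommGrpCat.{u + 1}} [Finite M] (h : M ⟶ N) :
    Finite (kernel h : AddCommGrpCat.{u + 1}) := by
  have e := AddCommGrpCat.kernelIsoKer h
  exact Finite.of_equiv _ e.addCommGroupIsoToAddEquiv.symm.toEquiv

instance finite_cokernel {M N : AddCommGrpCat.{u + 1}} [Finite N] (h : M ⟶ N) :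
    Finite (cokernel h : AddCommGrpCat.{u + 1}) := by
  have e := AddCommGrpCat.cokernelIsoQuotient h
  haveI : Finite (AddCommGrpCat.of (N ⧸ (AddCommGrpCat.Hom.hom h).range)) :=
    Finite.of_surjective (QuotientAddGroup.mk (s := (AddCommGrpCat.Hom.hom h).range))
      QuotientAddGroup.mk_surjective
  exact Finite.of_equiv _ e.addCommGroupIsoToAddEquiv.symm.toEquiv


section Ext

variable (J)

lemma cS_hom_ext {V : C} {M : AddCommGrpCat.{u + 1}} {H : Sheaf (J.over V) AddCommGrpCat.{u + 1}}
    (f₁ f₂ : (cS J V).obj M ⟶ H)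
    (h : eta J V M (Over.mk (𝟙 V)) ≫ f₁.hom.app (op (Over.mk (𝟙 V))) =
      eta J V M (Over.mk (𝟙 V)) ≫ f₂.hom.app (op (Over.mk (𝟙 V)))) : f₁ = f₂ := by
  apply Sheaf.hom_ext
  apply sheafify_hom_ext _ _ _ H.property
  apply constPresheaf_hom_ext
  exact h

/-- the section map `M ⟶ F(V)` of a trivialisation of `F` over `V` -/
noncomputable def secTriv (F : Sheaf J AddCommGrpCat.{u + 1}) {V : C} {M : AddCommGrpCat.{u + 1}}
    (α : F.over V ≅ (cS J V).obj M) : M ⟶ F.obj.obj (op V) :=
  eta J V M (Over.mk (𝟙 V)) ≫ α.inv.hom.app (op (Over.mk (𝟙 V)))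

/-- the canonical map `V' → V` in `Over V` -/
def tOver {V V' : C} (g : V' ⟶ V) : (Over.map g).obj (Over.mk (𝟙 V')) ⟶ Over.mk (𝟙 V) :=
  Over.homMk g (by simp)

lemma secTriv_restrTriv' (F : Sheaf J AddCommGrpCat.{u + 1}) {V V' : C} (g : V' ⟶ V)
    {M : AddCommGrpCat.{u + 1}} (α : F.over V ≅ (cS J V).obj M) :
    secTriv J F (restrTriv J F g α) =
      eta J V M ((Over.map g).obj (Over.mk (𝟙 V'))) ≫
        α.inv.hom.app (op ((Over.map g).obj (Over.mk (𝟙 V')))) := by
  have e3 := eta_constRestr_inv J g M (Over.mk (𝟙 V'))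
  have e5 : (restrTriv J F g α).inv.hom.app (op (Over.mk (𝟙 V'))) =
      (constRestr J g M).inv.hom.app (op (Over.mk (𝟙 V'))) ≫
        α.inv.hom.app (op ((Over.map g).obj (Over.mk (𝟙 V')))) := by
    simp only [restrTriv, Iso.trans_inv, Iso.symm_inv, Functor.mapIso_inv]
    change ((constRestr J g M).inv.hom.app (op (Over.mk (𝟙 V'))) ≫
        α.inv.hom.app (op ((Over.map g).obj (Over.mk (𝟙 V'))))) ≫ 𝟙 _ = _
    rw [Category.comp_id]
  unfold secTriv
  rw [e5]
  exact (Category.assoc _ _ _).symm.trans (congrArg (· ≫ _) e3)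

lemma secTriv_restrTriv (F : Sheaf J AddCommGrpCat.{u + 1}) {V V' : C} (g : V' ⟶ V)
    {M : AddCommGrpCat.{u + 1}} (α : F.over V ≅ (cS J V).obj M) :
    secTriv J F (restrTriv J F g α) = secTriv J F α ≫ F.obj.map g.op := by
  rw [secTriv_restrTriv']
  have h1 := eta_map J V M (tOver g)
  have h2 := α.inv.hom.naturality (tOver g).op
  have h3 : (F.over V).obj.map (tOver g).op = F.obj.map g.op := rfl
  unfold secTriv
  rw [Category.assoc]
  refine Eq.trans ?_ (congrArg (eta J V M (Over.mk (𝟙 V)) ≫ ·) (h2.trans (congrArg _ h3)))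
  exact (congrArg (· ≫ α.inv.hom.app (op ((Over.map g).obj (Over.mk (𝟙 V'))))) h1.symm).trans
    (Category.assoc _ _ _)

lemma secTriv_injective (F : Sheaf J AddCommGrpCat.{u + 1}) {V : C} (hV : (⊥ : Sieve V) ∉ J V)
    {M : AddCommGrpCat.{u + 1}} (α : F.over V ≅ (cS J V).obj M) :
    Function.Injective (secTriv J F α).hom := by
  have h1 := eta_injective J V M (Over.mk (𝟙 V)) hV
  have h2 : Function.Injective (α.inv.hom.app (op (Over.mk (𝟙 V)))).hom := by
    intro a b hab
    have := congrArg (α.hom.hom.app (op (Over.mk (𝟙 V)))).hom hab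
    have hid : ∀ c, (α.hom.hom.app (op (Over.mk (𝟙 V)))).hom
        ((α.inv.hom.app (op (Over.mk (𝟙 V)))).hom c) = c := fun c => by
      have := congrArg (fun k => (k.hom.app (op (Over.mk (𝟙 V)))).hom c) α.inv_hom_id
      exact this
    rwa [hid, hid] at this
  exact h2.comp h1

/-- local lifting of finitely many sections along an epimorphism -/
lemma exists_sieve_lift {F G : Sheaf J AddCommGrpCat.{u + 1}} (π : F ⟶ G) [Epi π] {W : C}
    {I : Type*} [Finite I] (z : I → G.obj.obj (op W)) :
    ∃ R : Sieve W, R ∈ J W ∧ ∀ ⦃V : C⦄ (g : V ⟶ W), R g → ∀ i,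
      ∃ x : F.obj.obj (op V), (π.hom.app (op V)).hom x = (G.obj.map g.op).hom (z i) := by
  haveI : Sheaf.IsLocallySurjective π := (Sheaf.isLocallySurjective_iff_epi' _ π).2 inferInstance
  refine ⟨⨅ i, Presheaf.imageSieve π.hom (z i),
    iInf_mem_of_finite J _ (fun i => Presheaf.imageSieve_mem J π.hom (U := op W) (z i)), ?_⟩
  intro V g hg i
  have : Presheaf.imageSieve π.hom (z i) g := (iInf_le (fun i => Presheaf.imageSieve π.hom (z i)) i) _ hg
  exact this

/-- finitely many sections of a trivialised sheaf are locally constant sections -/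
lemma exists_sieve_const (F : Sheaf J AddCommGrpCat.{u + 1}) {V : C} {M : AddCommGrpCat.{u + 1}}
    (α : F.over V ≅ (cS J V).obj M) {I : Type*} [Finite I] (y : I → F.obj.obj (op V)) :
    ∃ R : Sieve V, R ∈ J V ∧ ∀ ⦃V' : C⦄ (g : V' ⟶ V), R g → ∀ i,
      ∃ m : M, (secTriv J F (restrTriv J F g α)).hom m = (F.obj.map g.op).hom (y i) := by
  let T₀ : Over V := Over.mk (𝟙 V)
  let zz : I → ((cS J V).obj M).obj.obj (op T₀) := fun i => (α.hom.hom.app (op T₀)).hom (y i)
  let S' : Sieve T₀ := ⨅ i, Presheaf.imageSieve (toSheafify (J.over V) (cP V M)) (zz i)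
  have hS' : S' ∈ (J.over V) T₀ :=
    iInf_mem_of_finite (J.over V) _ (fun i =>
      Presheaf.imageSieve_mem (J.over V) (toSheafify (J.over V) (cP V M)) (U := op T₀) (zz i))
  refine ⟨Sieve.overEquiv T₀ S', (J.mem_over_iff _).1 hS', ?_⟩
  intro V' g hg i
  have hgt : S' (tOver g) := by
    have h1 := (Sieve.overEquiv_iff S' g).1 hg
    let e : (Over.map g).obj (Over.mk (𝟙 V')) ⟶ Over.mk (g ≫ T₀.hom) :=
      Over.homMk (𝟙 V') (by simp [T₀])
    have h2 : e ≫ (Over.homMk g : Over.mk (g ≫ T₀.hom) ⟶ T₀) = tOver g :=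
      Over.mkIdTerminal.hom_ext _ _
    rw [← h2]
    exact S'.downward_closed h1 e
  have h1 : Presheaf.imageSieve (toSheafify (J.over V) (cP V M)) (zz i) (tOver g) :=
    (iInf_le (fun i => Presheaf.imageSieve (toSheafify (J.over V) (cP V M)) (zz i)) i) _ hgt
  obtain ⟨m, hm⟩ := h1
  refine ⟨m, ?_⟩
  rw [secTriv_restrTriv']
  have hm' : (eta J V M ((Over.map g).obj (Over.mk (𝟙 V')))).hom m =
      (((cS J V).obj M).obj.map (tOver g).op).hom (zz i) := hm
  have h2 := α.inv.hom.naturality (tOver g).op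
  have h3 : ∀ c, (α.inv.hom.app (op T₀)).hom ((α.hom.hom.app (op T₀)).hom c) = c := fun c => by
    have := congrArg (fun k => (k.hom.app (op T₀)).hom c) α.hom_inv_id
    exact this
  change (α.inv.hom.app (op ((Over.map g).obj (Over.mk (𝟙 V'))))).hom
    ((eta J V M ((Over.map g).obj (Over.mk (𝟙 V')))).hom m) = _
  rw [hm']
  have h4 := congrArg (fun k => k.hom (zz i)) h2
  refine h4.trans ?_
  change ((F.over V).obj.map (tOver g).op).hom ((α.inv.hom.app (op T₀)).hom (zz i)) = _
  rw [h3]
  rfl

end Ext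


section Core

variable (J)

lemma sections_injective_of_mono {F G : Sheaf J AddCommGrpCat.{u + 1}} (φ : F ⟶ G) [Mono φ]
    (V : C) : Function.Injective (φ.hom.app (op V)).hom := by
  have : Mono ((sheafToPresheaf J AddCommGrpCat.{u + 1} ⋙
      (evaluation Cᵒᵖ AddCommGrpCat.{u + 1}).obj (op V)).map φ) := inferInstance
  exact (AddCommGrpCat.mono_iff_injective _).1 this

/-- an extension of trivialised sheaves with finite value groups, with a set-theoretic splitting
whose defects are constant, is trivialised (with finite value group) -/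
theorem nonempty_triv_of_extension {S : ShortComplex (Sheaf J AddCommGrpCat.{u + 1})}
    (hS : S.ShortExact) {V : C} (hV : (⊥ : Sieve V) ∉ J V) {M' M'' : AddCommGrpCat.{u + 1}}
    [Finite M'] [Finite M'']
    (α₁ : S.X₁.over V ≅ (cS J V).obj M') (α₃ : S.X₃.over V ≅ (cS J V).obj M'')
    (s : M'' → S.X₂.obj.obj (op V))
    (hs : ∀ m'', (S.g.hom.app (op V)).hom (s m'') = (secTriv J S.X₃ α₃).hom m'')
    (hd : ∀ a b, ∃ m' : M', (S.f.hom.app (op V)).hom ((secTriv J S.X₁ α₁).hom m') =
      s (a + b) - s a - s b) :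
    ∃ (E : AddCommGrpCat.{u + 1}) (_ : Finite E), Nonempty (S.X₂.over V ≅ (cS J V).obj E) := by
  classical
  let e' := secTriv J S.X₁ α₁
  let e'' := secTriv J S.X₃ α₃
  let fV : S.X₁.obj.obj (op V) →+ S.X₂.obj.obj (op V) := (S.f.hom.app (op V)).hom
  let gV : S.X₂.obj.obj (op V) →+ S.X₃.obj.obj (op V) := (S.g.hom.app (op V)).hom
  have hgf : ∀ y, gV (fV y) = 0 := fun y =>
    congrArg (fun k => (k.hom.app (op V)).hom y) S.zero
  have he''inj : Function.Injective e''.hom := secTriv_injective J S.X₃ hV α₃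
  have he'inj : Function.Injective e'.hom := secTriv_injective J S.X₁ hV α₁
  haveI := hS.mono_f
  have hfinj : Function.Injective fV := sections_injective_of_mono J S.f V
  let I : AddSubgroup (S.X₂.obj.obj (op V)) := (fV.comp e'.hom).range
  have hI : ∀ m', fV (e'.hom m') ∈ I := fun m' => ⟨m', rfl⟩
  have hs0 : s 0 ∈ I := by
    obtain ⟨m', hm'⟩ := hd 0 0
    have h1 : fV (e'.hom m') = - s 0 := by
      rw [show fV (e'.hom m') = s (0 + 0) - s 0 - s 0 from hm', add_zero]; abel
    have h2 : s 0 = - fV (e'.hom m') := by rw [h1, neg_neg]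
    rw [h2]
    exact I.neg_mem (hI m')
  let Esub : AddSubgroup (S.X₂.obj.obj (op V)) :=
    { carrier := {x | ∃ m'', x - s m'' ∈ I}
      zero_mem' := ⟨0, by rw [zero_sub]; exact I.neg_mem hs0⟩
      add_mem' := by
        rintro x y ⟨a, ha⟩ ⟨b, hb⟩
        refine ⟨a + b, ?_⟩
        obtain ⟨m', hm'⟩ := hd a b
        have : x + y - s (a + b) = (x - s a) + (y - s b) - fV (e'.hom m') := by
          rw [show fV (e'.hom m') = s (a + b) - s a - s b from hm']; abel
        rw [this]
        exact I.sub_mem (I.add_mem ha hb) (hI m')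
      neg_mem' := by
        rintro x ⟨a, ha⟩
        refine ⟨-a, ?_⟩
        obtain ⟨m', hm'⟩ := hd a (-a)
        have : -x - s (-a) = -(x - s a) + fV (e'.hom m') - s 0 := by
          rw [show fV (e'.hom m') = s (a + -a) - s a - s (-a) from hm', add_neg_cancel]; abel
        rw [this]
        exact I.sub_mem (I.add_mem (I.neg_mem ha) (hI m')) hs0 }
  have hmem : ∀ x, x ∈ Esub ↔ ∃ m'', x - s m'' ∈ I := fun x => Iff.rfl
  have hfin : Finite Esub := by
    have hsub : (Esub : Set (S.X₂.obj.obj (op V))) ⊆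
        Set.range (fun p : M' × M'' => fV (e'.hom p.1) + s p.2) := by
      rintro x ⟨a, ⟨m', hm'⟩⟩
      refine ⟨(m', a), ?_⟩
      change fV (e'.hom m') + s a = x
      rw [show fV (e'.hom m') = x - s a from hm']; abel
    exact ((Set.finite_range _).subset hsub).to_subtype
  have hgE : ∀ x : Esub, gV x ∈ e''.hom.range := by
    rintro ⟨x, a, i, hi⟩
    refine ⟨a, ?_⟩
    change e''.hom a = gV x
    have : x = fV (e'.hom i) + s a := by
      rw [show fV (e'.hom i) = x - s a from hi]; abel
    rw [this, map_add, hgf, zero_add, hs]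
  let a : M' →+ Esub := (fV.comp e'.hom).codRestrict Esub (fun m' =>
    ⟨0, by change fV (e'.hom m') - s 0 ∈ I; exact I.sub_mem (hI m') hs0⟩)
  let gE : Esub →+ e''.hom.range := (gV.comp Esub.subtype).codRestrict _ hgE
  let b : Esub →+ M'' := (AddMonoidHom.ofInjective he''inj).symm.toAddMonoidHom.comp gE
  have hb : ∀ x : Esub, e''.hom (b x) = gV x := fun x =>
    congrArg Subtype.val ((AddMonoidHom.ofInjective he''inj).apply_symm_apply (gE x))
  have hba : ∀ m', b (a m') = 0 := by
    intro m'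
    apply he''inj
    rw [hb, map_zero]
    exact hgf _
  let SE : ShortComplex AddCommGrpCat.{u + 1} :=
    ShortComplex.mk (AddCommGrpCat.ofHom a) (AddCommGrpCat.ofHom b) (by
      ext m'
      exact hba m')
  have hSE : SE.ShortExact := by
    refine ShortComplex.ShortExact.mk' ?_ ?_ ?_
    · rw [ShortComplex.ab_exact_iff]
      rintro ⟨x, hx⟩ hbx
      obtain ⟨m'', hm''⟩ := (hmem x).1 hx
      have h1 : gV x = 0 := by
        have := hb ⟨x, hx⟩
        rw [show b ⟨x, hx⟩ = 0 from hbx, map_zero] at this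
        exact this.symm
      have h2 : e''.hom m'' = 0 := by
        obtain ⟨i, hi⟩ := hm''
        have : x = fV (e'.hom i) + s m'' := by
          rw [show fV (e'.hom i) = x - s m'' from hi]; abel
        rw [this, map_add, hgf, zero_add, hs] at h1
        exact h1
      have h3 : m'' = 0 := he''inj (h2.trans (map_zero _).symm)
      rw [h3] at hm''
      have h4 : x ∈ I := by
        have := I.add_mem hm'' hs0
        rwa [sub_add_cancel] at this
      obtain ⟨m', hm'⟩ := h4
      exact ⟨m', Subtype.ext hm'⟩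
    · rw [AddCommGrpCat.mono_iff_injective]
      intro m₁ m₂ h12
      have := congrArg Subtype.val h12
      exact he'inj (hfinj this)
    · rw [AddCommGrpCat.epi_iff_surjective]
      intro m''
      refine ⟨⟨s m'', m'', by rw [sub_self]; exact I.zero_mem⟩, ?_⟩
      apply he''inj
      change e''.hom (b _) = _
      rw [hb]
      exact hs m''
  -- sheaf level
  have h₁ := hSE.map_of_exact (cS J V)
  have h₂ := hS.map_of_exact (J.overPullback AddCommGrpCat.{u + 1} V)
  let adj := constantSheafAdj (J.over V) AddCommGrpCat.{u + 1} (Over.mkIdTerminal (X := V))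
  let τ₂ : (cS J V).obj (AddCommGrpCat.of Esub) ⟶ S.X₂.over V :=
    (adj.homEquiv (AddCommGrpCat.of Esub) (S.X₂.over V)).symm (AddCommGrpCat.ofHom Esub.subtype)
  have hτ₂ : eta J V (AddCommGrpCat.of Esub) (Over.mk (𝟙 V)) ≫ τ₂.hom.app (op (Over.mk (𝟙 V))) =
      AddCommGrpCat.ofHom Esub.subtype := by
    have h1 := (adj.homEquiv (AddCommGrpCat.of Esub) (S.X₂.over V)).apply_symm_apply
      (AddCommGrpCat.ofHom Esub.subtype)
    rw [Adjunction.homEquiv_unit] at h1
    have h2 : adj.unit.app (AddCommGrpCat.of Esub) =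
        eta J V (AddCommGrpCat.of Esub) (Over.mk (𝟙 V)) := by
      simp [adj, constantSheafAdj, eta]
    rw [h2] at h1
    exact h1
  let φ : SE.map (cS J V) ⟶ S.map (J.overPullback AddCommGrpCat.{u + 1} V) :=
    { τ₁ := α₁.inv
      τ₂ := τ₂
      τ₃ := α₃.inv
      comm₁₂ := by
        apply cS_hom_ext
        change eta J V M' (Over.mk (𝟙 V)) ≫ α₁.inv.hom.app (op (Over.mk (𝟙 V))) ≫
            S.f.hom.app (op V) =
          eta J V M' (Over.mk (𝟙 V)) ≫
          ((cS J V).map (AddCommGrpCat.ofHom a)).hom.app (op (Over.mk (𝟙 V))) ≫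
            τ₂.hom.app (op (Over.mk (𝟙 V)))
        rw [← Category.assoc _ _ (τ₂.hom.app (op (Over.mk (𝟙 V)))), eta_nat, Category.assoc, hτ₂]
        rfl
      comm₂₃ := by
        apply cS_hom_ext
        change eta J V (AddCommGrpCat.of Esub) (Over.mk (𝟙 V)) ≫ τ₂.hom.app (op (Over.mk (𝟙 V))) ≫
            S.g.hom.app (op V) =
          eta J V (AddCommGrpCat.of Esub) (Over.mk (𝟙 V)) ≫
          ((cS J V).map (AddCommGrpCat.ofHom b)).hom.app (op (Over.mk (𝟙 V))) ≫
            α₃.inv.hom.app (op (Over.mk (𝟙 V)))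
        rw [← Category.assoc _ _ (α₃.inv.hom.app (op (Over.mk (𝟙 V)))), eta_nat, Category.assoc]
        refine ((Category.assoc _ _ _).symm.trans
          (congrArg (· ≫ S.g.hom.app (op V)) hτ₂)).trans ?_
        ext x
        exact (hb x).symm }
  haveI : IsIso φ.τ₁ := inferInstanceAs (IsIso α₁.inv)
  haveI : IsIso φ.τ₃ := inferInstanceAs (IsIso α₃.inv)
  have hiso : IsIso φ.τ₂ := ShortComplex.isIso₂_of_shortExact_of_isIso₁₃ φ h₁ h₂
  exact ⟨AddCommGrpCat.of Esub, hfin, ⟨(asIso φ.τ₂).symm⟩⟩

end Core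

end Groth.Agent.Lib.Cohomology.LocConst
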