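import Groth.Agent.Lib.Cohomology.Helper3_LocConst2
import Groth.Agent.Lib.Cohomology.Helper3_LocConst3

/-!
# Finite locally constant sheaves on the small étale site: kernels, cokernels, extensions (helper3)
-/

set_option autoImplicit false
universe u
open CategoryTheory CategoryTheory.Limits Opposite AlgebraicGeometry

namespace Groth.Agent.Lib.Cohomology.LocConst

open Groth.Agent.Lib.Cohomology.EtExc Groth.Agent.Lib.Cohomology.EtFlasque

variable {X : Scheme.{u}}

/-- pointwise criterion for being finite locally constant -/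
lemma isFLC_of_forall_point (H : EtCoh.Ab X)
    (h : ∀ x : X, ∃ (T : X.Etale) (t : T.left) (E : AddCommGrpCat.{u + 1}) (_ : Finite E),
      T.hom.base t = x ∧ Nonempty (H.over T ≅ (cS X.smallEtaleTopology T).obj E)) :
    EtCoh.IsFiniteLocallyConstant H := by
  choose T t E hE ht hiso using h
  refine ⟨X, T, fun x => ⟨x, t x, ht x⟩, fun x => ?_⟩
  haveI := hE x
  obtain ⟨M, iM, fM, ⟨e⟩⟩ := exists_small_model (E x)
  exact ⟨M, iM, fM, ⟨(hiso x).some ≪≫ (cS X.smallEtaleTopology (T x)).mapIso e⟩⟩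

/-- a finite locally constant sheaf is trivialised near every point -/
lemma exists_triv_of_isFLC {F : EtCoh.Ab X} (hF : EtCoh.IsFiniteLocallyConstant F) (x : X) :
    ∃ (U : X.Etale) (y : U.left) (M : AddCommGrpCat.{u + 1}) (_ : Finite M),
      U.hom.base y = x ∧ Nonempty (F.over U ≅ (cS X.smallEtaleTopology U).obj M) := by
  obtain ⟨ι, U, hc, hα⟩ := hF
  obtain ⟨i, y, hy⟩ := hc x
  obtain ⟨M, iM, fM, ⟨α⟩⟩ := hα i
  refine ⟨U i, y, AddCommGrpCat.of (ULift.{u + 1} M), ?_, hy, ⟨α⟩⟩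
  change Finite (ULift.{u + 1} M)
  infer_instance

/-- two finite locally constant sheaves are trivialised on a common neighbourhood of any point -/
lemma exists_common_triv {F G : EtCoh.Ab X} (hF : EtCoh.IsFiniteLocallyConstant F)
    (hG : EtCoh.IsFiniteLocallyConstant G) (x : X) :
    ∃ (W : X.Etale) (w : W.left) (M N : AddCommGrpCat.{u + 1}) (_ : Finite M) (_ : Finite N),
      W.hom.base w = x ∧ Nonempty (F.over W ≅ (cS X.smallEtaleTopology W).obj M) ∧
        Nonempty (G.over W ≅ (cS X.smallEtaleTopology W).obj N) := by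
  obtain ⟨U, y, M, fM, hy, ⟨α⟩⟩ := exists_triv_of_isFLC hF x
  obtain ⟨U', y', N, fN, hy', ⟨β⟩⟩ := exists_triv_of_isFLC hG x
  obtain ⟨W, p, q, w, hw⟩ := exists_common U U' y y' (hy.trans hy'.symm)
  exact ⟨W, w, M, N, fM, fN, hw.trans hy, ⟨restrTriv X.smallEtaleTopology F p α⟩,
    ⟨restrTriv X.smallEtaleTopology G q β⟩⟩

lemma hom_base_of_hom {T W : X.Etale} (g : T ⟶ W) (t : T.left) :
    T.hom.base t = W.hom.base (g.left.base t) := by
  have h1 : g.left ≫ W.hom = T.hom := CategoryTheory.Over.w g.toCommaMorphism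
  rw [← h1, Scheme.Hom.comp_base, TopCat.comp_app]

theorem isFLC_kernel_cokernel {F G : EtCoh.Ab X} (φ : F ⟶ G)
    (hF : EtCoh.IsFiniteLocallyConstant F) (hG : EtCoh.IsFiniteLocallyConstant G) :
    EtCoh.IsFiniteLocallyConstant (kernel φ) ∧ EtCoh.IsFiniteLocallyConstant (cokernel φ) := by
  have key : ∀ x : X, ∃ (T : X.Etale) (t : T.left) (M N : AddCommGrpCat.{u + 1}) (_ : Finite M)
      (_ : Finite N) (h : M ⟶ N) (α : F.over T ≅ (cS X.smallEtaleTopology T).obj M)
      (β : G.over T ≅ (cS X.smallEtaleTopology T).obj N), T.hom.base t = x ∧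
      (X.smallEtaleTopology.overPullback AddCommGrpCat.{u + 1} T).map φ ≫ β.hom =
        α.hom ≫ (cS X.smallEtaleTopology T).map h := by
    intro x
    obtain ⟨W, w, M, N, fM, fN, hw, ⟨α⟩, ⟨β⟩⟩ := exists_common_triv hF hG x
    obtain ⟨T, g, t, h, ht, hc⟩ := exists_cover_groupHom φ W α β w
    exact ⟨T, t, M, N, fM, fN, h, _, _, (hom_base_of_hom g t).trans ((congrArg _ ht).trans hw), hc⟩
  constructor
  · apply isFLC_of_forall_point
    intro x
    obtain ⟨T, t, M, N, fM, fN, h, α, β, ht, hc⟩ := key x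
    exact ⟨T, t, kernel h, inferInstance, ht, ⟨kernelTriv φ α β h hc⟩⟩
  · apply isFLC_of_forall_point
    intro x
    obtain ⟨T, t, M, N, fM, fN, h, α, β, ht, hc⟩ := key x
    exact ⟨T, t, cokernel h, inferInstance, ht, ⟨cokernelTriv φ α β h hc⟩⟩


theorem isFLC_extension {S : ShortComplex (EtCoh.Ab X)} (hS : S.ShortExact)
    (h₁ : EtCoh.IsFiniteLocallyConstant S.X₁) (h₃ : EtCoh.IsFiniteLocallyConstant S.X₃) :
    EtCoh.IsFiniteLocallyConstant S.X₂ := by
  apply isFLC_of_forall_point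
  intro x
  obtain ⟨W, w, M', M'', fM', fM'', hw, ⟨α₁⟩, ⟨α₃⟩⟩ := exists_common_triv h₁ h₃ x
  haveI := hS.epi_g
  -- step 1: local lifts
  obtain ⟨R₁, hR₁, hR₁'⟩ := exists_sieve_lift X.smallEtaleTopology S.g
    (fun m'' : M'' => (secTriv X.smallEtaleTopology S.X₃ α₃).hom m'')
  obtain ⟨V, g, v, hg, hv⟩ := exists_mem_sieve_point W R₁ hR₁ w
  choose s hs using hR₁' g hg
  let α₁V := restrTriv X.smallEtaleTopology S.X₁ g α₁
  let α₃V := restrTriv X.smallEtaleTopology S.X₃ g α₃
  have hsV : ∀ m'', (S.g.hom.app (op V)).hom (s m'') =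
      (secTriv X.smallEtaleTopology S.X₃ α₃V).hom m'' := by
    intro m''
    rw [hs m'']
    have := secTriv_restrTriv X.smallEtaleTopology S.X₃ g α₃
    exact (congrArg (fun k => k.hom m'') this).symm
  -- step 2: defects
  have hdef : ∀ p : M'' × M'', ∃ y : S.X₁.obj.obj (op V),
      (S.f.hom.app (op V)).hom y = s (p.1 + p.2) - s p.1 - s p.2 := by
    intro p
    apply exists_of_g_zero hS V
    rw [map_sub, map_sub, hsV, hsV, hsV, map_add]
    abel
  choose y hy using hdef
  obtain ⟨R₂, hR₂, hR₂'⟩ := exists_sieve_const X.smallEtaleTopology S.X₁ α₁V y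
  obtain ⟨V', g', v', hg', hv'⟩ := exists_mem_sieve_point V R₂ hR₂ v
  have hconst := hR₂' g' hg'
  let α₁V' := restrTriv X.smallEtaleTopology S.X₁ g' α₁V
  let α₃V' := restrTriv X.smallEtaleTopology S.X₃ g' α₃V
  let s' : M'' → S.X₂.obj.obj (op V') := fun m'' => (S.X₂.obj.map g'.op).hom (s m'')
  have natg : ∀ z : S.X₂.obj.obj (op V), (S.g.hom.app (op V')).hom ((S.X₂.obj.map g'.op).hom z) =
      (S.X₃.obj.map g'.op).hom ((S.g.hom.app (op V)).hom z) := fun z =>
    congrArg (fun κ => κ.hom z) (S.g.hom.naturality g'.op)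
  have natf : ∀ z : S.X₁.obj.obj (op V), (S.f.hom.app (op V')).hom ((S.X₁.obj.map g'.op).hom z) =
      (S.X₂.obj.map g'.op).hom ((S.f.hom.app (op V)).hom z) := fun z =>
    congrArg (fun κ => κ.hom z) (S.f.hom.naturality g'.op)
  have hs' : ∀ m'', (S.g.hom.app (op V')).hom (s' m'') =
      (secTriv X.smallEtaleTopology S.X₃ α₃V').hom m'' := by
    intro m''
    change (S.g.hom.app (op V')).hom ((S.X₂.obj.map g'.op).hom (s m'')) = _
    rw [natg, hsV]
    have := secTriv_restrTriv X.smallEtaleTopology S.X₃ g' α₃V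
    exact (congrArg (fun k => k.hom m'') this).symm
  have hd' : ∀ a b, ∃ m' : M', (S.f.hom.app (op V')).hom
      ((secTriv X.smallEtaleTopology S.X₁ α₁V').hom m') = s' (a + b) - s' a - s' b := by
    intro a b
    obtain ⟨m', hm'⟩ := hconst (a, b)
    refine ⟨m', ?_⟩
    rw [hm', natf, hy (a, b), map_sub, map_sub]
  obtain ⟨E, fE, hE⟩ := nonempty_triv_of_extension X.smallEtaleTopology hS (bot_not_mem V' v')
    α₁V' α₃V' s' hs' hd'
  refine ⟨V', v', E, fE, ?_, hE⟩
  rw [hom_base_of_hom g' v', hv', hom_base_of_hom g v, hv, hw]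

end Groth.Agent.Lib.Cohomology.LocConst
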