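import Groth.Agent.Lib.Cohomology.Helper3_OverPull2
import Groth.Agent.Lib.Cohomology.Helper3_LocConst4
import Groth.Agent.Lib.Cohomology.Helper3_EtSplit
import Groth.Prelude.Def_PBC
import Groth.Prelude.Def_EtCore

/-!
# Constructible abelian sheaves on the small étale site: kernels, cokernels, extensions (helper3)
-/

set_option autoImplicit false
universe u
open CategoryTheory CategoryTheory.Limits Opposite AlgebraicGeometry

namespace Groth.Agent.Lib.Cohomology.Constr

open Groth.Agent.Lib.Cohomology.LocConst Groth.Agent.Lib.Cohomology.OverPull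
open Groth.Agent.Lib.Cohomology.EtSplit

variable {X : Scheme.{u}}

lemma isFLC_of_iso {F F' : EtCoh.Ab X} (e : F ≅ F') (hF : EtCoh.IsFiniteLocallyConstant F) :
    EtCoh.IsFiniteLocallyConstant F' := by
  obtain ⟨ι, U, hU, hα⟩ := hF
  refine ⟨ι, U, hU, fun i => ?_⟩
  obtain ⟨M, iM, fM, ⟨α⟩⟩ := hα i
  exact ⟨M, iM, fM, ⟨(X.smallEtaleTopology.overPullback AddCommGrpCat.{u + 1} (U i)).mapIso e.symm ≪≫ α⟩⟩

lemma isFLC_pull {Y : Scheme.{u}} (f : X ⟶ Y) (G : EtCoh.Ab Y)
    (hG : EtCoh.IsFiniteLocallyConstant G) :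
    EtCoh.IsFiniteLocallyConstant ((EtCoh.pull f).obj G) := by
  obtain ⟨ι, U, hU, hα⟩ := hG
  refine ⟨ι, fun i => (EtCoh.bc f).obj (U i), covers_bc f U hU, fun i => ?_⟩
  obtain ⟨M, iM, fM, ⟨α⟩⟩ := hα i
  exact ⟨M, iM, fM, nonempty_pull_const f G (U i) _ α⟩

lemma isFLC_pull_comp {T T' : Scheme.{u}} (h : T' ⟶ T) (g : T ⟶ X) (F : EtCoh.Ab X)
    (hF : EtCoh.IsFiniteLocallyConstant ((EtCoh.pull g).obj F)) :
    EtCoh.IsFiniteLocallyConstant ((EtCoh.pull (h ≫ g)).obj F) :=
  isFLC_of_iso ((EtCore.pullComp h g).app F).symm (isFLC_pull h _ hF)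

instance pull_additive {Y : Scheme.{u}} (f : X ⟶ Y) : (EtCoh.pull f).Additive :=
  (EtCoh.pullPushAdj f).left_adjoint_additive

instance pull_preservesFiniteColimits {Y : Scheme.{u}} (f : X ⟶ Y) :
    PreservesFiniteColimits (EtCoh.pull f) := by
  have : PreservesColimitsOfSize.{0, 0} (EtCoh.pull f) :=
    (EtCoh.pullPushAdj f).leftAdjoint_preservesColimits
  exact PreservesColimitsOfSize.preservesFiniteColimits _

/-- common refinement of two adapted stratifications -/
theorem adaptedStrata_common {F G : EtCoh.Ab X} {S : Set X} (hF : EtPBC.AdaptedStrata F S)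
    (hG : EtPBC.AdaptedStrata G S) :
    ∃ (n : ℕ) (T : Fin n → Scheme.{u}) (g : ∀ i, T i ⟶ X),
      (∀ i, IsImmersion (g i)) ∧
      (∀ i, Topology.IsConstructible ((Subtype.val : S → X) ⁻¹' Set.range (g i))) ∧
      Pairwise (fun i j => Disjoint (Set.range (g i)) (Set.range (g j))) ∧
      (⋃ i, Set.range (g i)) = S ∧
      ∀ i, EtCoh.IsFiniteLocallyConstant ((EtCoh.pull (g i)).obj F) ∧
        EtCoh.IsFiniteLocallyConstant ((EtCoh.pull (g i)).obj G) := by
  obtain ⟨n, T, g, himm, hcons, hdisj, hun, hflc⟩ := hF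
  obtain ⟨n', T', g', himm', hcons', hdisj', hun', hflc'⟩ := hG
  let e := finProdFinEquiv (m := n) (n := n')
  haveI := himm
  haveI := himm'
  let TT : Fin (n * n') → Scheme.{u} := fun k => pullback (g (e.symm k).1) (g' (e.symm k).2)
  let gg : ∀ k, TT k ⟶ X := fun k =>
    pullback.fst (g (e.symm k).1) (g' (e.symm k).2) ≫ g (e.symm k).1
  have hrange : ∀ k, Set.range (gg k) =
      Set.range (g (e.symm k).1) ∩ Set.range (g' (e.symm k).2) := fun k =>
    Scheme.Pullback.range_fst_comp _ _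
  refine ⟨n * n', TT, gg, fun k => inferInstance, fun k => ?_, ?_, ?_, fun k => ⟨?_, ?_⟩⟩
  · rw [hrange, Set.preimage_inter]
    exact (hcons _).inter (hcons' _)
  · intro k l hkl
    change Disjoint (Set.range (gg k)) (Set.range (gg l))
    rw [hrange, hrange]
    have hne : e.symm k ≠ e.symm l := fun h => hkl (e.symm.injective h)
    by_cases h1 : (e.symm k).1 = (e.symm l).1
    · have h2 : (e.symm k).2 ≠ (e.symm l).2 := fun h2 => hne (Prod.ext h1 h2)
      exact (hdisj' h2).mono Set.inter_subset_right Set.inter_subset_right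
    · exact (hdisj h1).mono Set.inter_subset_left Set.inter_subset_left
  · ext x
    simp only [Set.mem_iUnion, hrange, Set.mem_inter_iff]
    constructor
    · rintro ⟨k, hk1, -⟩
      rw [← hun]
      exact Set.mem_iUnion.2 ⟨_, hk1⟩
    · intro hx
      have h1 := hx
      rw [← hun] at h1
      obtain ⟨i, hi⟩ := Set.mem_iUnion.1 h1
      rw [← hun'] at hx
      obtain ⟨j, hj⟩ := Set.mem_iUnion.1 hx
      refine ⟨e (i, j), ?_, ?_⟩
      · rw [Equiv.symm_apply_apply]; exact hi
      · rw [Equiv.symm_apply_apply]; exact hj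
  · exact isFLC_pull_comp _ _ F (hflc _)
  · have h1 := isFLC_pull_comp (pullback.snd (g (e.symm k).1) (g' (e.symm k).2)) _ G (hflc' _)
    have h2 : pullback.snd (g (e.symm k).1) (g' (e.symm k).2) ≫ g' (e.symm k).2 = gg k :=
      pullback.condition.symm
    rw [h2] at h1
    exact h1

end Groth.Agent.Lib.Cohomology.Constr
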