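import Groth.Agent.Lib.Cohomology.Helper3_Constr
import Mathlib.Topology.Constructible
import Mathlib.AlgebraicGeometry.IdealSheaf.Subscheme
import Mathlib.AlgebraicGeometry.Morphisms.Immersion

/-!
# Gluing adapted stratifications (helper3)
-/

set_option autoImplicit false
universe u
open CategoryTheory CategoryTheory.Limits Opposite AlgebraicGeometry Topology

namespace Groth.Agent.Lib.Cohomology.Constr

section Top

variable {X : Type*} [TopologicalSpace X]

/-- a subset of an open `W ⊆ U` that is constructible in `W` is constructible in `U` provided `W` is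
retrocompact in `U`. -/
lemma constr_of_open {U W R : Set X} (hW : IsOpen W) (hWU : W ⊆ U)
    (hret : IsRetrocompact ((↑) ⁻¹' W : Set U)) (hRW : R ⊆ W)
    (hR : IsConstructible ((↑) ⁻¹' R : Set W)) : IsConstructible ((↑) ⁻¹' R : Set U) := by
  have hj : IsOpenEmbedding (Set.inclusion hWU) :=
    IsOpenEmbedding.inclusion hWU (hW.preimage continuous_subtype_val)
  have h1 := hR.image_of_isOpenEmbedding hj (by rwa [Set.range_inclusion])
  convert h1 using 1
  ext ⟨x, hx⟩
  simp only [Set.mem_preimage, Set.mem_image, Subtype.exists]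
  constructor
  · intro h
    exact ⟨x, hRW h, h, rfl⟩
  · rintro ⟨y, hy, hyR, hxy⟩
    have : y = x := congrArg Subtype.val hxy
    subst this
    exact hyR

/-- restriction of a constructible subset to a smaller open subspace. -/
lemma constr_restrict_open {S U R : Set X} (hU : IsOpen U) (hUS : U ⊆ S)
    (hR : IsConstructible ((↑) ⁻¹' R : Set S)) : IsConstructible ((↑) ⁻¹' R : Set U) := by
  have hj : IsOpenEmbedding (Set.inclusion hUS) :=
    IsOpenEmbedding.inclusion hUS (hU.preimage continuous_subtype_val)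
  have h1 := hR.preimage_of_isOpenEmbedding hj
  exact h1

/-- transport of constructibility along an open embedding. -/
lemma constr_image_of_isOpenEmbedding {Y : Type*} [TopologicalSpace Y] {j : Y → X}
    (hj : IsOpenEmbedding j) {V' R : Set Y} (hV' : IsOpen V') {V : Set X} (hV : j '' V' = V)
    (hR : IsConstructible ((↑) ⁻¹' R : Set V')) :
    IsConstructible ((↑) ⁻¹' (j '' R) : Set V) := by
  subst hV
  have hψ : IsOpenEmbedding (Set.MapsTo.restrict j V' (j '' V') (Set.mapsTo_image j V')) :=
    hj.restrict _ hV'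
  have hsurj := Set.surjective_mapsTo_image_restrict j V'
  have h1 := hR.image_of_isOpenEmbedding hψ (by
    rw [hsurj.range_eq]
    intro U hU _
    simpa using hU)
  convert h1 using 1
  ext ⟨x, hx⟩
  simp only [Set.mem_preimage, Set.mem_image, Subtype.exists]
  constructor
  · rintro ⟨y, hyR, rfl⟩
    obtain ⟨y', hy', hyy'⟩ := hx
    have : y' = y := hj.injective hyy'
    subst this
    exact ⟨y', hy', hyR, rfl⟩
  · rintro ⟨y, hy, hyR, hxy⟩
    exact ⟨y, hyR, congrArg Subtype.val hxy⟩

end Top

variable {X : Scheme.{u}}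

/-- A scheme structure on the locally closed subset `A ∩ B`. -/
noncomputable abbrev lcScheme (A : X.Opens) (B : TopologicalSpace.Closeds X) : Scheme.{u} :=
  pullback A.ι (Scheme.IdealSheafData.vanishingIdeal B).subschemeι

noncomputable abbrev lcι (A : X.Opens) (B : TopologicalSpace.Closeds X) : lcScheme A B ⟶ X :=
  pullback.fst A.ι (Scheme.IdealSheafData.vanishingIdeal B).subschemeι ≫ A.ι

instance (A : X.Opens) (B : TopologicalSpace.Closeds X) : IsImmersion (lcι A B) := by
  unfold lcι
  infer_instance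

lemma range_lcι (A : X.Opens) (B : TopologicalSpace.Closeds X) :
    Set.range (lcι A B) = (A : Set X) ∩ (B : Set X) := by
  rw [Scheme.Pullback.range_fst_comp, Scheme.Opens.range_ι,
    Scheme.IdealSheafData.range_subschemeι, Scheme.IdealSheafData.coe_support_vanishingIdeal]

/-- adapted strata indexed by an arbitrary finite type. -/
theorem adaptedStrata_of_finite {F : EtCoh.Ab X} {S : Set X} {ι : Type*} [Finite ι]
    (T : ι → Scheme.{u}) (g : ∀ i, T i ⟶ X) (himm : ∀ i, IsImmersion (g i))
    (hcons : ∀ i, IsConstructible ((Subtype.val : S → X) ⁻¹' Set.range (g i)))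
    (hdisj : Pairwise (fun i j => Disjoint (Set.range (g i)) (Set.range (g j))))
    (hun : (⋃ i, Set.range (g i)) = S)
    (hflc : ∀ i, EtCoh.IsFiniteLocallyConstant ((EtCoh.pull (g i)).obj F)) :
    EtPBC.AdaptedStrata F S := by
  let e := Finite.equivFin ι
  refine ⟨Nat.card ι, fun p => T (e.symm p), fun p => g (e.symm p), fun p => himm _,
    fun p => hcons _, fun p q hpq => hdisj (e.symm.injective.ne hpq), ?_, fun p _ => hflc _⟩
  rw [← hun]
  exact e.symm.surjective.iUnion_comp (fun i => Set.range (g i))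

lemma isCompact_preimage_val {Y : Type*} [TopologicalSpace Y] {S W : Set Y} (hWS : W ⊆ S)
    (hW : IsCompact W) : IsCompact ((↑) ⁻¹' W : Set S) := by
  rw [Subtype.isCompact_iff]
  rwa [Subtype.image_preimage_coe, Set.inter_eq_right.2 hWS]

/-- gluing adapted stratifications along a finite cover by compact opens. -/
theorem adaptedStrata_glue (F : EtCoh.Ab X) (S : Set X) [QuasiSeparatedSpace S] {m : ℕ}
    (W : Fin m → X.Opens) (hWc : ∀ k, IsCompact (W k : Set X))
    (hS : (⋃ k, (W k : Set X)) = S) (h : ∀ k, EtPBC.AdaptedStrata F (W k : Set X)) :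
    EtPBC.AdaptedStrata F S := by
  choose n T g himm hcons hdisj hun hflc using h
  haveI := himm
  have hWS : ∀ k, (W k : Set X) ⊆ S := fun k => by
    rw [← hS]; exact Set.subset_iUnion (fun k => (W k : Set X)) k
  have hret : ∀ k, IsRetrocompact ((↑) ⁻¹' (W k : Set X) : Set S) := fun k =>
    (isCompact_preimage_val (hWS k) (hWc k)).isRetrocompact
      ((W k).2.preimage continuous_subtype_val)
  have hWcons : ∀ k, IsConstructible ((↑) ⁻¹' (W k : Set X) : Set S) := fun k =>
    (hret k).isConstructible ((W k).2.preimage continuous_subtype_val)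
  let B : Fin m → TopologicalSpace.Closeds X := fun k =>
    ⟨(⋃ l : {l : Fin m // l < k}, (W l.1 : Set X))ᶜ,
      (isOpen_iUnion fun l : {l : Fin m // l < k} => (W l.1).2).isClosed_compl⟩
  have hB : ∀ k, ((B k : TopologicalSpace.Closeds X) : Set X) =
      (⋃ l : {l : Fin m // l < k}, (W l.1 : Set X))ᶜ := fun k => rfl
  let TT : (Σ k, Fin (n k)) → Scheme.{u} := fun a =>
    pullback (g a.1 a.2) (lcι (W a.1) (B a.1))
  let gg : ∀ a, TT a ⟶ X := fun a =>
    pullback.fst (g a.1 a.2) (lcι (W a.1) (B a.1)) ≫ g a.1 a.2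
  have hrange : ∀ a, Set.range (gg a) =
      Set.range (g a.1 a.2) ∩ ((W a.1 : Set X) ∩ (B a.1 : Set X)) := fun a => by
    rw [← range_lcι]
    exact Scheme.Pullback.range_fst_comp _ _
  have hsub : ∀ k i, Set.range (g k i) ⊆ (W k : Set X) := fun k i => by
    rw [← hun k]; exact Set.subset_iUnion (fun i => Set.range (g k i)) i
  refine adaptedStrata_of_finite TT gg (fun a => inferInstance) (fun a => ?_) ?_ ?_
    (fun a => isFLC_pull_comp _ _ F (hflc _ _))
  · rw [hrange, Set.preimage_inter, Set.preimage_inter]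
    refine (constr_of_open (W a.1).2 (hWS _) (hret _) (hsub _ _) (hcons _ _)).inter
      ((hWcons _).inter ?_)
    rw [hB, Set.preimage_compl, Set.preimage_iUnion]
    exact (IsConstructible.iUnion fun l => hWcons _).compl
  · intro a b hab
    change Disjoint (Set.range (gg a)) (Set.range (gg b))
    rw [hrange, hrange, Set.disjoint_left]
    rintro x ⟨hxa, hxWa, hxBa⟩ ⟨hxb, hxWb, hxBb⟩
    obtain ⟨k, i⟩ := a
    obtain ⟨l, j⟩ := b
    dsimp only at hxa hxWa hxBa hxb hxWb hxBb
    have hkl : k = l := by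
      rcases lt_trichotomy k l with h | h | h
      · exfalso
        rw [hB] at hxBb
        exact hxBb (Set.mem_iUnion.2 ⟨⟨k, h⟩, hxWa⟩)
      · exact h
      · exfalso
        rw [hB] at hxBa
        exact hxBa (Set.mem_iUnion.2 ⟨⟨l, h⟩, hxWb⟩)
    subst hkl
    have hij : i ≠ j := fun hij => hab (by rw [hij])
    exact Set.disjoint_left.1 (hdisj k hij) hxa hxb
  · ext x
    simp only [Set.mem_iUnion, hrange]
    constructor
    · rintro ⟨a, -, hxW, -⟩
      exact hWS _ hxW
    · intro hx
      rw [← hS] at hx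
      obtain ⟨k, hk, hmin⟩ := (wellFounded_lt (α := Fin m)).has_min
        {k | x ∈ (W k : Set X)} (Set.mem_iUnion.1 hx)
      have hk' : x ∈ (W k : Set X) := hk
      have hxg : x ∈ ⋃ i, Set.range (g k i) := by rw [hun k]; exact hk'
      obtain ⟨i, hi⟩ := Set.mem_iUnion.1 hxg
      refine ⟨⟨k, i⟩, hi, hk', ?_⟩
      rw [hB]
      intro hmem
      obtain ⟨⟨l, hl⟩, hxl⟩ := Set.mem_iUnion.1 hmem
      exact hmin l hxl hl

/-- restricting an adapted stratification to an open subset. -/
theorem adaptedStrata_restrict_open (F : EtCoh.Ab X) {S : Set X} (U : X.Opens)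
    (hUS : (U : Set X) ⊆ S) (h : EtPBC.AdaptedStrata F S) :
    EtPBC.AdaptedStrata F (U : Set X) := by
  obtain ⟨n, T, g, himm, hcons, hdisj, hun, hflc⟩ := h
  haveI := himm
  have hrange : ∀ i, Set.range (pullback.fst (g i) U.ι ≫ g i) =
      Set.range (g i) ∩ (U : Set X) := fun i => by
    rw [Scheme.Pullback.range_fst_comp, Scheme.Opens.range_ι]
  refine ⟨n, fun i => pullback (g i) U.ι, fun i => pullback.fst (g i) U.ι ≫ g i,
    fun i => inferInstance, fun i => ?_, ?_, ?_, fun i _ => isFLC_pull_comp _ _ F (hflc i)⟩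
  · rw [hrange, Set.preimage_inter]
    refine (constr_restrict_open U.2 hUS (hcons i)).inter ?_
    have : ((↑) ⁻¹' (U : Set X) : Set (U : Set X)) = Set.univ := by
      ext x; simpa using x.2
    rw [this]
    exact IsConstructible.univ
  · intro i j hij
    change Disjoint (Set.range (pullback.fst (g i) U.ι ≫ g i))
      (Set.range (pullback.fst (g j) U.ι ≫ g j))
    rw [hrange, hrange]
    exact (hdisj hij).mono Set.inter_subset_left Set.inter_subset_left
  · simp only [hrange]
    rw [← Set.iUnion_inter, hun]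
    exact Set.inter_eq_right.2 hUS

/-- strata for the restriction of `F` to an open subscheme give strata for `F`. -/
theorem adaptedStrata_of_open (F : EtCoh.Ab X) (U' V : X.Opens) (hV : IsAffineOpen V)
    (hVU : V ≤ U') (h : EtPBC.IsConstructible ((EtCoh.pull U'.ι).obj F)) :
    EtPBC.AdaptedStrata F (V : Set X) := by
  have hV' : IsAffineOpen (U'.ι ⁻¹ᵁ V) :=
    hV.preimage_of_isOpenImmersion U'.ι (by rw [Scheme.Opens.opensRange_ι]; exact hVU)
  obtain ⟨n, T, g, himm, hcons, hdisj, hun, hflc⟩ := h _ hV'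
  haveI := himm
  have hj : IsOpenEmbedding (U'.ι : U' → X) := U'.ι.isOpenEmbedding
  have himg : (U'.ι : U' → X) '' ((U'.ι ⁻¹ᵁ V : U'.toScheme.Opens) : Set U') = (V : Set X) := by
    rw [Scheme.Hom.coe_preimage, Set.image_preimage_eq_inter_range, Scheme.Opens.range_ι]
    exact Set.inter_eq_left.2 hVU
  have hrange : ∀ i, Set.range (g i ≫ U'.ι) = (U'.ι : U' → X) '' Set.range (g i) := fun i => by
    rw [Scheme.Hom.comp_base, TopCat.coe_comp, Set.range_comp]
  refine ⟨n, T, fun i => g i ≫ U'.ι, fun i => inferInstance, fun i => ?_, ?_, ?_, fun i _ =>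
    isFLC_of_iso ((EtCore.pullComp (g i) U'.ι).app F).symm (hflc i)⟩
  · rw [hrange]
    exact constr_image_of_isOpenEmbedding hj (U'.ι ⁻¹ᵁ V).2 himg (hcons i)
  · intro i j hij
    change Disjoint (Set.range (g i ≫ U'.ι)) (Set.range (g j ≫ U'.ι))
    rw [hrange, hrange]
    exact (Set.disjoint_image_iff hj.injective).2 (hdisj hij)
  · simp only [hrange]
    rw [← Set.image_iUnion, hun]
    exact himg

/-- gluing over an arbitrary finite index type. -/
theorem adaptedStrata_glue' (F : EtCoh.Ab X) (S : Set X) [QuasiSeparatedSpace S] {κ : Type*}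
    [Finite κ] (W : κ → X.Opens) (hWc : ∀ k, IsCompact (W k : Set X))
    (hS : (⋃ k, (W k : Set X)) = S) (h : ∀ k, EtPBC.AdaptedStrata F (W k : Set X)) :
    EtPBC.AdaptedStrata F S := by
  let e := Finite.equivFin κ
  refine adaptedStrata_glue F S (fun p => W (e.symm p)) (fun p => hWc _) ?_ (fun p => h _)
  rw [← hS]
  exact e.symm.surjective.iUnion_comp (fun k => (W k : Set X))

/-- finite affine subcovers of a quasi-compact open with a local property. -/
lemma exists_finite_affine_cover (A : X.Opens) (hA : IsCompact (A : Set X))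
    (P : X.Opens → Prop)
    (hP : ∀ x ∈ A, ∃ V : X.Opens, IsAffineOpen V ∧ x ∈ V ∧ V ≤ A ∧ P V) :
    ∃ (κ : Type u) (_ : Finite κ) (W : κ → X.Opens), (∀ k, IsAffineOpen (W k)) ∧
      (∀ k, P (W k)) ∧ (⋃ k, (W k : Set X)) = (A : Set X) := by
  choose V hVaff hxV hVA hPV using hP
  obtain ⟨t, ht⟩ := hA.elim_nhds_subcover' (fun x hx => (V x hx : Set X))
    (fun x hx => (V x hx).2.mem_nhds (hxV x hx))
  refine ⟨↥t, inferInstance, fun k => V k.1.1 k.1.2, fun k => hVaff _ _, fun k => hPV _ _, ?_⟩
  apply subset_antisymm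
  · exact Set.iUnion_subset fun k => hVA _ _
  · intro x hx
    obtain ⟨y, hy, hxy⟩ := Set.mem_iUnion₂.1 (ht hx)
    exact Set.mem_iUnion.2 ⟨⟨y, hy⟩, hxy⟩

lemma quasiSeparatedSpace_of_isAffineOpen {A : X.Opens} (hA : IsAffineOpen A) :
    QuasiSeparatedSpace (A : Set X) :=
  (isQuasiSeparated_iff_quasiSeparatedSpace (A : Set X) A.2).1 hA.isQuasiSeparated

/-- pulling back an adapted stratification along a morphism, affine-locally. -/
theorem adaptedStrata_pull {Y : Scheme.{u}} (f : X ⟶ Y) (F : EtCoh.Ab Y) (V : Y.Opens)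
    (hV : IsAffineOpen V) (W : X.Opens) (hW : IsAffineOpen W) (hWV : W ≤ f ⁻¹ᵁ V)
    (h : EtPBC.AdaptedStrata F (V : Set Y)) :
    EtPBC.AdaptedStrata ((EtCoh.pull f).obj F) (W : Set X) := by
  obtain ⟨n, T, g, himm, hcons, hdisj, hun, hflc⟩ := h
  haveI := himm
  have hrange : ∀ i, Set.range (pullback.fst (W.ι ≫ f) (g i) ≫ W.ι) =
      (W : Set X) ∩ f ⁻¹' Set.range (g i) := fun i => by
    rw [Scheme.Hom.comp_base, TopCat.coe_comp, Set.range_comp, Scheme.Pullback.range_fst,
      Scheme.Hom.comp_base, TopCat.coe_comp, Set.preimage_comp,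
      Set.image_preimage_eq_inter_range, Scheme.Opens.range_ι, Set.inter_comm]
  haveI : IsAffine W.toScheme := hW
  haveI : IsAffine V.toScheme := hV
  have hφ : IsSpectralMap (f.resLE V W hWV) := (f.resLE V W hWV).isSpectralMap
  haveI : QuasiSeparatedSpace (W : Set X) := quasiSeparatedSpace_of_isAffineOpen hW
  haveI : CompactSpace (V : Set Y) := isCompact_iff_compactSpace.1 hV.isCompact
  have hval : ∀ x : W.toScheme, V.ι ((f.resLE V W hWV) x) = f (W.ι x) := fun x => by
    rw [← Scheme.Hom.comp_apply, ← Scheme.Hom.comp_apply, f.resLE_comp_ι hWV]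
  refine ⟨n, fun i => pullback (W.ι ≫ f) (g i), fun i => pullback.fst (W.ι ≫ f) (g i) ≫ W.ι,
    fun i => inferInstance, fun i => ?_, ?_, ?_, fun i _ => ?_⟩
  · rw [hrange]
    have hpre : ((↑) ⁻¹' ((W : Set X) ∩ f ⁻¹' Set.range (g i)) : Set (W : Set X)) =
        (f.resLE V W hWV : W → V) ⁻¹' ((↑) ⁻¹' Set.range (g i) : Set (V : Set Y)) := by
      ext x
      have h3 : (Subtype.val ((f.resLE V W hWV : W → V) x) : Y) = f x.1 := hval x
      constructor
      · rintro ⟨-, h⟩
        change Subtype.val ((f.resLE V W hWV : W → V) x) ∈ Set.range (g i)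
        rw [h3]; exact h
      · intro h
        change Subtype.val ((f.resLE V W hWV : W → V) x) ∈ Set.range (g i) at h
        rw [h3] at h
        exact ⟨x.2, h⟩
    rw [hpre]
    exact (hcons i).preimage hφ.toContinuous (fun s hs hsr =>
      (hφ.isCompact_preimage_of_isOpen hs hsr.isCompact).isRetrocompact
        (hs.preimage hφ.toContinuous))
  · intro i j hij
    change Disjoint (Set.range (pullback.fst (W.ι ≫ f) (g i) ≫ W.ι))
      (Set.range (pullback.fst (W.ι ≫ f) (g j) ≫ W.ι))
    rw [hrange, hrange]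
    exact ((hdisj hij).preimage f).mono Set.inter_subset_right Set.inter_subset_right
  · simp only [hrange]
    rw [← Set.inter_iUnion, ← Set.preimage_iUnion, hun]
    exact Set.inter_eq_left.2 hWV
  · have h1 := isFLC_pull_comp (pullback.snd (W.ι ≫ f) (g i)) (g i) F (hflc i)
    have h2 : pullback.snd (W.ι ≫ f) (g i) ≫ g i =
        (pullback.fst (W.ι ≫ f) (g i) ≫ W.ι) ≫ f := by
      rw [Category.assoc]; exact pullback.condition.symm
    rw [h2] at h1
    exact isFLC_of_iso ((EtCore.pullComp (pullback.fst (W.ι ≫ f) (g i) ≫ W.ι) f).app F) h1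

end Groth.Agent.Lib.Cohomology.Constr
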