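import Mathlib.Topology.Constructible
import Mathlib.Topology.Spectral.ConstructibleTopology
import Mathlib.Topology.Spectral.Prespectral
import Mathlib.Topology.LocallyClosed

/-!
# Constructible sets in quasi-compact quasi-separated prespectral spaces (helper3)
-/

set_option autoImplicit false
open Topology Set

namespace Groth.Agent.Lib.Cohomology.ConstrTop

variable {X : Type*} [TopologicalSpace X]

/-- constructible sets are clopen in the constructible topology. -/
lemma isOpen_ct_and_compl [CompactSpace X] {s : Set X} (hs : IsConstructible s) :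
    IsOpen[constructibleTopology X] s ∧ IsOpen[constructibleTopology X] sᶜ := by
  induction hs using IsConstructible.empty_union_induction with
  | open_retrocompact U hUopen hUcomp =>
    refine ⟨hUcomp.isCompact.isOpen_constructibleTopology_of_isOpen hUopen, ?_⟩
    exact IsCompact.isOpen_constructibleTopology_of_isClosed (by rw [compl_compl]; exact hUcomp.isCompact)
      hUopen.isClosed_compl
  | union s hs t ht hs' ht' =>
    refine ⟨@IsOpen.union X _ _ (constructibleTopology X) hs'.1 ht'.1, ?_⟩
    rw [compl_union]
    exact @IsOpen.inter X (constructibleTopology X) _ _ hs'.2 ht'.2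
  | compl s hs hs' =>
    refine ⟨hs'.2, ?_⟩
    rw [compl_compl]; exact hs'.1

section Spectral

variable [CompactSpace X] [QuasiSober X] [PrespectralSpace X] [QuasiSeparatedSpace X]

lemma compactSpace_ct : @CompactSpace X (constructibleTopology X) :=
  @Function.Surjective.compactSpace (WithConstructibleTopology X) X _ (constructibleTopology X)
    WithTopology.ofTopology (WithTopology.continuous_ofTopology _) _
    (WithTopology.ofTopology_surjective _)

/-- the constructible topology is finer than the original one. -/
lemma isOpen_ct_of_isOpen {s : Set X} (hs : IsOpen s) : IsOpen[constructibleTopology X] s := by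
  obtain ⟨S, hS, rfl⟩ := PrespectralSpace.isTopologicalBasis.open_eq_sUnion hs
  exact @isOpen_sUnion X (constructibleTopology X) S
    (fun t ht => (hS ht).2.isOpen_constructibleTopology_of_isOpen (hS ht).1)

lemma isCompact_of_isCompact_ct {s : Set X} (hs : @IsCompact X (constructibleTopology X) s) :
    IsCompact s := by
  have hcont : @Continuous X X (constructibleTopology X) _ id :=
    @Continuous.mk X X (constructibleTopology X) _ id (fun s hs => isOpen_ct_of_isOpen hs)
  have := @IsCompact.image X X (constructibleTopology X) _ s id hs hcont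
  simpa using this

/-- constructible sets are quasi-compact. -/
lemma isCompact_of_isConstructible {s : Set X} (hs : IsConstructible s) : IsCompact s := by
  apply isCompact_of_isCompact_ct
  haveI := compactSpace_ct (X := X)
  have hcl : @IsClosed X (constructibleTopology X) s :=
    @IsClosed.mk X (constructibleTopology X) s (isOpen_ct_and_compl hs).2
  exact @IsClosed.isCompact X (constructibleTopology X) s _ hcl

/-- a cover by constructible sets has a finite subcover. -/
lemma exists_finite_subcover {ι : Type*} (R : ι → Set X) (hR : ∀ i, IsConstructible (R i))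
    (hcov : (⋃ i, R i) = univ) : ∃ t : Finset ι, (⋃ i ∈ t, R i) = univ := by
  haveI := compactSpace_ct (X := X)
  have h1 := @IsCompact.elim_finite_subcover X (constructibleTopology X) univ ι
    (@isCompact_univ X (constructibleTopology X) _) R (fun i => (isOpen_ct_and_compl (hR i)).1)
    (by rw [hcov])
  obtain ⟨t, ht⟩ := h1
  exact ⟨t, Set.eq_univ_of_univ_subset ht⟩

/-- images of constructible sets under an embedding with constructible range. -/
lemma isConstructible_image_of_isEmbedding {T : Type*} [TopologicalSpace T] {g : T → X}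
    (hg : IsEmbedding g) (hR : IsConstructible (range g)) {Z : Set T} (hZ : IsConstructible Z) :
    IsConstructible (g '' Z) := by
  haveI hTc : CompactSpace T := by
    rw [← isCompact_univ_iff, hg.isCompact_iff, image_univ]
    exact isCompact_of_isConstructible hR
  induction hZ using IsConstructible.empty_union_induction with
  | open_retrocompact U hUopen hUcomp =>
    have hUc : IsCompact U := hUcomp.isCompact
    obtain ⟨O₀, hO₀, rfl⟩ := hg.isInducing.isOpen_iff.1 hUopen
    obtain ⟨W, hWc, hWo, hUW, hWO⟩ := PrespectralSpace.exists_isCompact_and_isOpen_between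
      (hUc.image hg.continuous) hO₀ (image_preimage_subset g O₀)
    have : g '' (g ⁻¹' O₀) = range g ∩ W := by
      apply subset_antisymm
      · exact subset_inter (image_subset_range _ _) hUW
      · rintro _ ⟨⟨t, rfl⟩, ht⟩
        exact ⟨t, hWO ht, rfl⟩
    rw [this]
    exact hR.inter (hWc.isConstructible hWo)
  | union s hs t ht hs' ht' => rw [image_union]; exact hs'.union ht'
  | compl s hs hs' =>
    rw [← range_sdiff_image hg.injective]
    exact hR.sdiff hs'

/-- a constructible locally closed set is the difference of two quasi-compact opens. -/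
lemma exists_compact_opens_of_isLocallyClosed {E : Set X} (hE : IsLocallyClosed E)
    (hEc : IsConstructible E) :
    ∃ O O' : Set X, IsOpen O ∧ IsCompact O ∧ IsOpen O' ∧ IsCompact O' ∧ E = O \ O' := by
  obtain ⟨O₀, Z₀, hO₀, hZ₀, rfl⟩ := hE
  obtain ⟨O, hOc, hOo, hEO, hOO₀⟩ := PrespectralSpace.exists_isCompact_and_isOpen_between
    (isCompact_of_isConstructible hEc) hO₀ inter_subset_left
  have hE' : O₀ ∩ Z₀ = O ∩ Z₀ :=
    subset_antisymm (subset_inter hEO inter_subset_right) (inter_subset_inter_left _ hOO₀)
  refine ⟨O, O \ Z₀, hOo, hOc, hOo.sdiff hZ₀, ?_, ?_⟩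
  · apply isCompact_of_isConstructible
    have : O \ Z₀ = O \ (O₀ ∩ Z₀) := by
      rw [hE']; ext x; simp only [mem_diff, mem_inter_iff]; tauto
    rw [this]
    exact (hOc.isConstructible hOo).sdiff hEc
  · rw [hE']; ext x; simp only [mem_diff, mem_inter_iff]; tauto

end Spectral

section Atoms

variable {J : Type*} (Q : J → Set X)

/-- open part of the atom of the Boolean algebra generated by the `Q j` given by `σ`. -/
def atomA (σ : J → Bool) : Set X := ⋂ j, (if σ j = true then Q j else univ)

/-- closed part of the atom. -/
def atomB (σ : J → Bool) : Set X := ⋂ j, (if σ j = true then univ else (Q j)ᶜ)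

variable {Q}

lemma mem_atomA {σ : J → Bool} {x : X} : x ∈ atomA Q σ ↔ ∀ j, σ j = true → x ∈ Q j := by
  simp only [atomA, mem_iInter]
  constructor
  · intro h j hj
    have := h j
    rwa [if_pos hj] at this
  · intro h j
    by_cases hj : σ j = true
    · rw [if_pos hj]; exact h j hj
    · rw [if_neg hj]; trivial

lemma mem_atomB {σ : J → Bool} {x : X} : x ∈ atomB Q σ ↔ ∀ j, σ j = false → x ∉ Q j := by
  simp only [atomB, mem_iInter]
  constructor
  · intro h j hj
    have := h j
    rw [if_neg (by simp [hj])] at this
    exact this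
  · intro h j
    by_cases hj : σ j = true
    · rw [if_pos hj]; trivial
    · rw [if_neg hj]; exact h j (by simpa using hj)

lemma isOpen_atomA [Finite J] (hQ : ∀ j, IsOpen (Q j)) (σ : J → Bool) : IsOpen (atomA Q σ) :=
  isOpen_iInter_of_finite (fun j => by split_ifs; exacts [hQ j, isOpen_univ])

lemma isClosed_atomB (hQ : ∀ j, IsOpen (Q j)) (σ : J → Bool) : IsClosed (atomB Q σ) :=
  isClosed_iInter (fun j => by split_ifs; exacts [isClosed_univ, (hQ j).isClosed_compl])

lemma isConstructible_atomA [Finite J] [QuasiSeparatedSpace X] (hQo : ∀ j, IsOpen (Q j))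
    (hQc : ∀ j, IsCompact (Q j)) (σ : J → Bool) : IsConstructible (atomA Q σ) :=
  IsConstructible.iInter (fun j => by
    split_ifs; exacts [(hQc j).isConstructible (hQo j), IsConstructible.univ])

lemma isConstructible_atomB [Finite J] [QuasiSeparatedSpace X] (hQo : ∀ j, IsOpen (Q j))
    (hQc : ∀ j, IsCompact (Q j)) (σ : J → Bool) : IsConstructible (atomB Q σ) :=
  IsConstructible.iInter (fun j => by
    split_ifs; exacts [IsConstructible.univ, ((hQc j).isConstructible (hQo j)).compl])

lemma atoms_disjoint {σ τ : J → Bool} (h : σ ≠ τ) :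
    Disjoint (atomA Q σ ∩ atomB Q σ) (atomA Q τ ∩ atomB Q τ) := by
  obtain ⟨j, hj⟩ := Function.ne_iff.1 h
  rw [Set.disjoint_left]
  rintro x ⟨hA, hB⟩ ⟨hA', hB'⟩
  cases hσ : σ j <;> cases hτ : τ j
  · exact hj (hσ.trans hτ.symm)
  · exact mem_atomB.1 hB j hσ (mem_atomA.1 hA' j hτ)
  · exact mem_atomB.1 hB' j hτ (mem_atomA.1 hA j hσ)
  · exact hj (hσ.trans hτ.symm)

open Classical in
lemma mem_atom_self (x : X) :
    x ∈ atomA Q (fun j => decide (x ∈ Q j)) ∩ atomB Q (fun j => decide (x ∈ Q j)) := by
  refine ⟨mem_atomA.2 fun j hj => ?_, mem_atomB.2 fun j hj => ?_⟩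
  · simpa using hj
  · simpa using hj

lemma atom_subset_of_mem {σ : J → Bool} {x : X} (hx : x ∈ atomA Q σ ∩ atomB Q σ) {a b : J}
    (hxE : x ∈ Q a \ Q b) : atomA Q σ ∩ atomB Q σ ⊆ Q a \ Q b := by
  have ha : σ a = true := by
    cases h : σ a
    · exact absurd hxE.1 (mem_atomB.1 hx.2 a h)
    · rfl
  have hb : σ b = false := by
    cases h : σ b
    · rfl
    · exact absurd (mem_atomA.1 hx.1 b h) hxE.2
  rintro y ⟨hyA, hyB⟩
  exact ⟨mem_atomA.1 hyA a ha, mem_atomB.1 hyB b hb⟩

end Atoms

end Groth.Agent.Lib.Cohomology.ConstrTop
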