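import Groth.Agent.Lib.Cohomology.Helper3_Constr2
import Groth.Agent.Lib.Cohomology.Helper3_ConstrTop
import Mathlib.AlgebraicGeometry.Properties

/-!
# Constructibility from a cover by constructible locally closed pieces (helper3)
-/

set_option autoImplicit false
universe u
open CategoryTheory CategoryTheory.Limits Opposite AlgebraicGeometry Topology

namespace Groth.Agent.Lib.Cohomology.Constr

open Groth.Agent.Lib.Cohomology.ConstrTop

variable {X : Scheme.{u}}

lemma quasiSeparatedSpace_univ [QuasiSeparatedSpace X] : QuasiSeparatedSpace (Set.univ : Set X) :=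
  (isQuasiSeparated_iff_quasiSeparatedSpace Set.univ isOpen_univ).1 isQuasiSeparated_univ

/-- on a qcqs scheme a constructible sheaf has a global adapted stratification. -/
theorem adaptedStrata_univ_of_isConstructible [CompactSpace X] [QuasiSeparatedSpace X]
    (F : EtCoh.Ab X) (hF : EtPBC.IsConstructible F) :
    EtPBC.AdaptedStrata F (Set.univ : Set X) := by
  haveI := quasiSeparatedSpace_univ (X := X)
  obtain ⟨κ, hκ, W, hWaff, -, hWcov⟩ :=
    exists_finite_affine_cover (⊤ : X.Opens)
      (by rw [TopologicalSpace.Opens.coe_top]; exact isCompact_univ)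
      (fun _ => True) (by
        intro x hx
        obtain ⟨_, ⟨V, hVaff, rfl⟩, hxV, -⟩ := X.isBasis_affineOpens.exists_subset_of_mem_open
          (Set.mem_univ x) isOpen_univ
        exact ⟨V, hVaff, hxV, le_top, trivial⟩)
  rw [TopologicalSpace.Opens.coe_top] at hWcov
  exact adaptedStrata_glue' F Set.univ W
    (fun k => (hWaff k).isCompact) hWcov (fun k => hF (W k) (hWaff k))

theorem isConstructible_of_adaptedStrata_univ (F : EtCoh.Ab X)
    (h : EtPBC.AdaptedStrata F (Set.univ : Set X)) : EtPBC.IsConstructible F :=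
  fun U _ => adaptedStrata_restrict_open F U (Set.subset_univ _) h

lemma isConstructible_preimage_val_univ {Y : Type*} [TopologicalSpace Y] {R : Set Y}
    (hR : IsConstructible R) : IsConstructible ((↑) ⁻¹' R : Set (Set.univ : Set Y)) :=
  hR.preimage_of_isOpenEmbedding isOpen_univ.isOpenEmbedding_subtypeVal

lemma isConstructible_of_preimage_val_univ {Y : Type*} [TopologicalSpace Y] {R : Set Y}
    (hR : IsConstructible ((↑) ⁻¹' R : Set (Set.univ : Set Y))) : IsConstructible R := by
  have h1 := hR.image_of_isOpenEmbedding isOpen_univ.isOpenEmbedding_subtypeVal (by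
    rw [Subtype.range_coe]
    intro U hU _
    simpa using hU)
  rwa [Subtype.image_preimage_coe, Set.univ_inter] at h1

/-- a finite cover by constructible locally closed pieces along which `F` is finite locally
constant yields a global adapted stratification. -/
theorem adaptedStrata_univ_of_cover [CompactSpace X] [QuasiSeparatedSpace X] (F : EtCoh.Ab X)
    {κ : Type*} [Finite κ] (S : κ → Scheme.{u}) (h : ∀ k, S k ⟶ X)
    (himm : ∀ k, IsImmersion (h k)) (hc : ∀ k, IsConstructible (Set.range (h k)))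
    (hcov : (⋃ k, Set.range (h k)) = Set.univ)
    (hflc : ∀ k, EtCoh.IsFiniteLocallyConstant ((EtCoh.pull (h k)).obj F)) :
    EtPBC.AdaptedStrata F (Set.univ : Set X) := by
  haveI := himm
  have hloc : ∀ k, ∃ O O' : Set X, IsOpen O ∧ IsCompact O ∧ IsOpen O' ∧ IsCompact O' ∧
      Set.range (h k) = O \ O' := fun k =>
    exists_compact_opens_of_isLocallyClosed (h k).isLocallyClosed_range (hc k)
  choose O O' hOo hOc hO'o hO'c hE using hloc
  let Q : κ ⊕ κ → Set X := Sum.elim O O'
  have hQo : ∀ j, IsOpen (Q j) := by rintro (k | k); exacts [hOo k, hO'o k]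
  have hQc : ∀ j, IsCompact (Q j) := by rintro (k | k); exacts [hOc k, hO'c k]
  let I := {σ : κ ⊕ κ → Bool // (atomA Q σ ∩ atomB Q σ).Nonempty}
  have hk : ∀ σ : I, ∃ k, atomA Q σ.1 ∩ atomB Q σ.1 ⊆ Set.range (h k) := by
    rintro ⟨σ, x, hx⟩
    have hx' : x ∈ ⋃ k, Set.range (h k) := by rw [hcov]; trivial
    obtain ⟨k, hk⟩ := Set.mem_iUnion.1 hx'
    refine ⟨k, ?_⟩
    rw [hE k] at hk ⊢
    exact atom_subset_of_mem (Q := Q) hx (a := Sum.inl k) (b := Sum.inr k) hk
  choose kk hkk using hk
  let A : I → X.Opens := fun σ => ⟨atomA Q σ.1, isOpen_atomA hQo σ.1⟩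
  let B : I → TopologicalSpace.Closeds X := fun σ => ⟨atomB Q σ.1, isClosed_atomB hQo σ.1⟩
  have hrange : ∀ σ : I, Set.range (pullback.fst (h (kk σ)) (lcι (A σ) (B σ)) ≫ h (kk σ)) =
      atomA Q σ.1 ∩ atomB Q σ.1 := fun σ => by
    rw [Scheme.Pullback.range_fst_comp, range_lcι]
    exact Set.inter_eq_right.2 (hkk σ)
  refine adaptedStrata_of_finite (fun σ : I => pullback (h (kk σ)) (lcι (A σ) (B σ)))
    (fun σ => pullback.fst (h (kk σ)) (lcι (A σ) (B σ)) ≫ h (kk σ)) (fun σ => inferInstance)
    (fun σ => ?_) ?_ ?_ (fun σ => isFLC_pull_comp _ _ F (hflc _))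
  · rw [hrange]
    exact isConstructible_preimage_val_univ
      ((isConstructible_atomA hQo hQc σ.1).inter (isConstructible_atomB hQo hQc σ.1))
  · intro σ τ hστ
    change Disjoint (Set.range (pullback.fst (h (kk σ)) (lcι (A σ) (B σ)) ≫ h (kk σ)))
      (Set.range (pullback.fst (h (kk τ)) (lcι (A τ) (B τ)) ≫ h (kk τ)))
    rw [hrange, hrange]
    exact atoms_disjoint (fun hh => hστ (Subtype.ext hh))
  · simp only [hrange]
    apply Set.eq_univ_of_forall
    intro x
    classical
    have hx := mem_atom_self (Q := Q) x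
    exact Set.mem_iUnion.2 ⟨⟨_, x, hx⟩, hx⟩

end Groth.Agent.Lib.Cohomology.Constr
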