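import Groth.Agent.Lib.Cohomology.Helper3_Constr3
import Mathlib.AlgebraicGeometry.Noetherian
import Mathlib.Topology.NoetherianSpace
import Mathlib.Topology.Sober

/-!
# Constructible sheaves on locally Noetherian schemes via generic local constancy (helper3)
-/

set_option autoImplicit false
universe u
open CategoryTheory CategoryTheory.Limits Opposite AlgebraicGeometry Topology TopologicalSpace

namespace Groth.Agent.Lib.Cohomology.Constr

open Groth.Agent.Lib.Cohomology.ConstrTop

section Top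

variable {Y : Type*} [TopologicalSpace Y]

lemma exists_open_inter_closure_aux {R : Set Y} (hR : IsConstructible R) :
    ∀ x : Y, (x ∈ R → ∃ O, IsOpen O ∧ x ∈ O ∧ O ∩ closure {x} ⊆ R) ∧
      (x ∉ R → ∃ O, IsOpen O ∧ x ∈ O ∧ O ∩ closure {x} ⊆ Rᶜ) := by
  induction hR using IsConstructible.empty_union_induction with
  | open_retrocompact U hUopen hUcomp =>
    intro x
    refine ⟨fun hx => ⟨U, hUopen, hx, Set.inter_subset_left⟩, fun hx => ⟨Set.univ, isOpen_univ,
      trivial, ?_⟩⟩
    rintro y ⟨-, hy⟩ hyU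
    exact hx (by
      have := mem_closure_iff.1 hy U hUopen hyU
      obtain ⟨z, hzU, hz⟩ := this
      rw [Set.mem_singleton_iff] at hz
      rwa [hz] at hzU)
  | union s hs t ht hs' ht' =>
    intro x
    constructor
    · rintro (hx | hx)
      · obtain ⟨O, hO, hxO, hsub⟩ := (hs' x).1 hx
        exact ⟨O, hO, hxO, hsub.trans Set.subset_union_left⟩
      · obtain ⟨O, hO, hxO, hsub⟩ := (ht' x).1 hx
        exact ⟨O, hO, hxO, hsub.trans Set.subset_union_right⟩
    · intro hx
      obtain ⟨O, hO, hxO, hsub⟩ := (hs' x).2 (fun h => hx (Or.inl h))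
      obtain ⟨O', hO', hxO', hsub'⟩ := (ht' x).2 (fun h => hx (Or.inr h))
      refine ⟨O ∩ O', hO.inter hO', ⟨hxO, hxO'⟩, ?_⟩
      rintro y ⟨⟨hyO, hyO'⟩, hy⟩
      rw [Set.compl_union]
      exact ⟨hsub ⟨hyO, hy⟩, hsub' ⟨hyO', hy⟩⟩
  | compl s hs hs' =>
    intro x
    refine ⟨fun hx => (hs' x).2 hx, fun hx => ?_⟩
    rw [compl_compl]
    exact (hs' x).1 (by simpa using hx)

/-- a constructible set containing `x` contains a neighbourhood of `x` in `closure {x}`. -/
lemma exists_open_inter_closure_subset {R : Set Y} (hR : IsConstructible R) {x : Y} (hx : x ∈ R) :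
    ∃ O, IsOpen O ∧ x ∈ O ∧ O ∩ closure {x} ⊆ R :=
  (exists_open_inter_closure_aux hR x).1 hx

lemma isConstructible_of_isLocallyClosed [NoetherianSpace Y] {E : Set Y}
    (hE : IsLocallyClosed E) : IsConstructible E := by
  have hopen : ∀ O : Set Y, IsOpen O → IsConstructible O := fun O hO =>
    IsRetrocompact.isConstructible hO (fun V _ _ => NoetherianSpace.isCompact _)
  obtain ⟨O, Z, hO, hZ, rfl⟩ := hE
  exact (hopen O hO).inter (hopen _ hZ.isOpen_compl).of_compl

/-- in a Noetherian sober space a nonempty closed set has a point whose closure contains a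
neighbourhood of the point in the closed set. -/
lemma exists_generic_open [NoetherianSpace Y] [QuasiSober Y] (C : Closeds Y) (hC : C ≠ ⊥) :
    ∃ (x : Y) (V : Set Y), IsOpen V ∧ x ∈ V ∧ x ∈ C ∧ V ∩ (C : Set Y) ⊆ closure {x} := by
  classical
  obtain ⟨S, hSirr, rfl⟩ := NoetherianSpace.exists_finset_irreducible C
  have hSne : S.Nonempty := by
    rw [Finset.nonempty_iff_ne_empty]
    rintro rfl
    exact hC (by simp)
  obtain ⟨Z, hZ⟩ := S.exists_maximal hSne
  have hZS : Z ∈ S := hZ.prop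
  have hZirr : IsIrreducible (Z : Set Y) := hSirr ⟨Z, hZS⟩
  have hgen := hZirr.isGenericPoint_genericPoint Z.isClosed
  set x := hZirr.genericPoint with hx
  have hcl : closure {x} = (Z : Set Y) := hgen.def
  have hxZ : x ∈ (Z : Set Y) := by rw [← hcl]; exact subset_closure rfl
  refine ⟨x, (⋃ Z' ∈ S.erase Z, (Z' : Set Y))ᶜ, ?_, ?_, ?_, ?_⟩
  · refine IsClosed.isOpen_compl (self := ?_)
    exact Set.Finite.isClosed_biUnion (S.erase Z).finite_toSet (fun Z' _ => Z'.isClosed)
  · intro hmem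
    obtain ⟨Z', hZ', hxZ'⟩ := Set.mem_iUnion₂.1 hmem
    have hZ'S : Z' ∈ S := Finset.mem_of_mem_erase hZ'
    have hle : Z ≤ Z' := by
      intro y hy
      have hy' : y ∈ closure {x} := by rw [hcl]; exact hy
      exact (closure_minimal (Set.singleton_subset_iff.2 hxZ') Z'.isClosed) hy'
    have := hZ.le_of_ge hZ'S hle
    exact (Finset.ne_of_mem_erase hZ') (le_antisymm this hle)
  · have : Z ≤ S.sup id := Finset.le_sup (f := id) hZS
    exact this hxZ
  · rintro y ⟨hyV, hyC⟩
    rw [hcl]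
    have hyC' : y ∈ ((S.sup id : Closeds Y) : Set Y) := hyC
    rw [Closeds.coe_finset_sup, Finset.sup_set_eq_biUnion] at hyC'
    obtain ⟨Z', hZ'S, hyZ'⟩ := Set.mem_iUnion₂.1 hyC'
    by_cases hZZ' : Z' = Z
    · rw [← hZZ']; exact hyZ'
    · exact absurd (Set.mem_iUnion₂.2 ⟨Z', Finset.mem_erase.2 ⟨hZZ', hZ'S⟩, hyZ'⟩) hyV

end Top

variable {X : Scheme.{u}}

/-- generic local constancy of a constructible sheaf along the closure of any point. -/
theorem exists_flc_on_closure_of_isConstructible (F : EtCoh.Ab X)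
    (hF : EtPBC.IsConstructible F) (x : X) :
    ∃ (V : X.Opens) (T : Scheme.{u}) (g : T ⟶ X), IsImmersion g ∧ x ∈ V ∧
      Set.range g = (V : Set X) ∩ closure {x} ∧
      EtCoh.IsFiniteLocallyConstant ((EtCoh.pull g).obj F) := by
  obtain ⟨_, ⟨U, hUaff, rfl⟩, hxU, -⟩ := X.isBasis_affineOpens.exists_subset_of_mem_open
    (Set.mem_univ x) isOpen_univ
  obtain ⟨n, T, g, himm, hcons, hdisj, hun, hflc⟩ := hF U hUaff
  haveI := himm
  have hx' : x ∈ ⋃ i, Set.range (g i) := by rw [hun]; exact hxU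
  obtain ⟨i, hi⟩ := Set.mem_iUnion.1 hx'
  obtain ⟨O, hO, hxO, hsub⟩ := exists_open_inter_closure_subset (hcons i)
    (x := (⟨x, hxU⟩ : (U : Set X))) hi
  have hVo : IsOpen (Subtype.val '' O : Set X) := U.2.isOpenMap_subtype_val O hO
  have hsub' : (Subtype.val '' O : Set X) ∩ closure {x} ⊆ Set.range (g i) := by
    rintro y ⟨⟨y', hy'O, rfl⟩, hy⟩
    have : y' ∈ closure ({(⟨x, hxU⟩ : (U : Set X))} : Set (U : Set X)) := by
      rw [closure_subtype, Set.image_singleton]
      exact hy
    exact hsub ⟨hy'O, this⟩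
  refine ⟨⟨_, hVo⟩, pullback (g i) (lcι ⟨_, hVo⟩ ⟨closure {x}, isClosed_closure⟩),
    pullback.fst (g i) (lcι ⟨_, hVo⟩ ⟨closure {x}, isClosed_closure⟩) ≫ g i, inferInstance,
    ⟨⟨x, hxU⟩, hxO, rfl⟩, ?_, isFLC_pull_comp _ _ F (hflc i)⟩
  rw [Scheme.Pullback.range_fst_comp, range_lcι]
  exact Set.inter_eq_right.2 hsub'

/-- Noetherian induction: finite covers of closed subsets by locally closed pieces of finite
local constancy. -/
theorem exists_cover_of_generic_flc [IsNoetherian X] (F : EtCoh.Ab X)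
    (H : ∀ x : X, ∃ (V : X.Opens) (T : Scheme.{u}) (g : T ⟶ X), IsImmersion g ∧ x ∈ V ∧
      Set.range g = (V : Set X) ∩ closure {x} ∧
      EtCoh.IsFiniteLocallyConstant ((EtCoh.pull g).obj F)) (C : Closeds X) :
    ∃ (κ : Type) (_ : Finite κ) (S : κ → Scheme.{u}) (h : ∀ k, S k ⟶ X),
      (∀ k, IsImmersion (h k)) ∧ (⋃ k, Set.range (h k)) = (C : Set X) ∧
      ∀ k, EtCoh.IsFiniteLocallyConstant ((EtCoh.pull (h k)).obj F) := by
  apply wellFounded_lt.induction C
  clear C
  intro C IH
  by_cases hC : C = ⊥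
  · subst hC
    exact ⟨PEmpty, inferInstance, fun k => k.elim, fun k => k.elim, fun k => k.elim,
      by simp, fun k => k.elim⟩
  · obtain ⟨x, V₂, hV₂o, hxV₂, hxC, hsub⟩ := exists_generic_open C hC
    obtain ⟨V, T, g, himm, hxV, hrange, hflc⟩ := H x
    haveI := himm
    let V' : X.Opens := V ⊓ ⟨V₂, hV₂o⟩
    let C' : Closeds X := C ⊓ ⟨(V' : Set X)ᶜ, V'.2.isClosed_compl⟩
    have hxV' : x ∈ V' := ⟨hxV, hxV₂⟩
    have hC'lt : C' < C := by
      refine lt_of_le_of_ne inf_le_left (fun heq => ?_)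
      have : x ∈ C' := by rw [heq]; exact hxC
      exact this.2 hxV'
    obtain ⟨κ, hκ, S, h, hhimm, hhun, hhflc⟩ := IH C' hC'lt
    have hclC : closure {x} ⊆ (C : Set X) :=
      closure_minimal (Set.singleton_subset_iff.2 hxC) C.isClosed
    have hrange' : Set.range (pullback.fst g V'.ι ≫ g) = (V' : Set X) ∩ (C : Set X) := by
      rw [Scheme.Pullback.range_fst_comp, hrange, Scheme.Opens.range_ι]
      ext y
      constructor
      · rintro ⟨⟨-, hy⟩, hyV'⟩
        exact ⟨hyV', hclC hy⟩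
      · rintro ⟨hyV', hyC⟩
        exact ⟨⟨hyV'.1, hsub ⟨hyV'.2, hyC⟩⟩, hyV'⟩
    refine ⟨Option κ, inferInstance, fun o => Option.rec (pullback g V'.ι) S o,
      fun o => Option.rec (pullback.fst g V'.ι ≫ g) h o, ?_, ?_, ?_⟩
    · rintro (_ | k)
      · change IsImmersion (pullback.fst g V'.ι ≫ g)
        infer_instance
      · exact hhimm k
    · rw [Set.iUnion_option]
      change Set.range (pullback.fst g V'.ι ≫ g) ∪ (⋃ k, Set.range (h k)) = (C : Set X)
      rw [hrange', hhun]
      ext y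
      constructor
      · rintro (hy | hy)
        · exact hy.2
        · exact hy.1
      · intro hy
        by_cases hyV' : y ∈ (V' : Set X)
        · exact Or.inl ⟨hyV', hy⟩
        · exact Or.inr ⟨hy, hyV'⟩
    · rintro (_ | k)
      · exact isFLC_pull_comp _ _ F hflc
      · exact hhflc k

/-- on a Noetherian scheme generic local constancy along closures of points gives a global adapted
stratification. -/
theorem adaptedStrata_univ_of_generic_flc [IsNoetherian X] (F : EtCoh.Ab X)
    (H : ∀ x : X, ∃ (V : X.Opens) (T : Scheme.{u}) (g : T ⟶ X), IsImmersion g ∧ x ∈ V ∧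
      Set.range g = (V : Set X) ∩ closure {x} ∧
      EtCoh.IsFiniteLocallyConstant ((EtCoh.pull g).obj F)) :
    EtPBC.AdaptedStrata F (Set.univ : Set X) := by
  obtain ⟨κ, hκ, S, h, himm, hun, hflc⟩ := exists_cover_of_generic_flc F H ⊤
  haveI := himm
  exact adaptedStrata_univ_of_cover F S h himm
    (fun k => isConstructible_of_isLocallyClosed (h k).isLocallyClosed_range)
    (by rw [hun]; rfl) hflc

/-- locally Noetherian case. -/
theorem isConstructible_of_generic_flc [IsLocallyNoetherian X] (F : EtCoh.Ab X)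
    (H : ∀ x : X, ∃ (V : X.Opens) (T : Scheme.{u}) (g : T ⟶ X), IsImmersion g ∧ x ∈ V ∧
      Set.range g = (V : Set X) ∩ closure {x} ∧
      EtCoh.IsFiniteLocallyConstant ((EtCoh.pull g).obj F)) :
    EtPBC.IsConstructible F := by
  intro U hU
  haveI : IsAffine U.toScheme := hU
  haveI : IsNoetherian U.toScheme := { }
  refine adaptedStrata_of_open F U U hU le_rfl (isConstructible_of_adaptedStrata_univ _
    (adaptedStrata_univ_of_generic_flc _ ?_))
  intro x'
  obtain ⟨V, T, g, himm, hxV, hrange, hflc⟩ := H (U.ι x')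
  haveI := himm
  refine ⟨U.ι ⁻¹ᵁ V, pullback g U.ι, pullback.snd g U.ι, inferInstance, hxV, ?_, ?_⟩
  · rw [Scheme.Pullback.range_snd, hrange, Set.preimage_inter,
      U.ι.isEmbedding.isInducing.closure_eq_preimage_closure_image, Set.image_singleton]
    rfl
  · have h1 := isFLC_pull_comp (pullback.fst g U.ι) g F hflc
    rw [pullback.condition] at h1
    exact isFLC_of_iso ((EtCore.pullComp (pullback.snd g U.ι) U.ι).app F) h1

end Groth.Agent.Lib.Cohomology.Constr
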