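import Mathlib
import Groth.Agent.Lib.Cohomology.helper5_RightDerivedShift

/-!
# Right derived functors of `lim` over `Δ` via the alternating coface complex (helper3)

For an abelian category `A` with limits of shape `SimplexCategory` such that `SimplexCategory ⥤ A`
has enough injectives: `(lim.rightDerived n).obj F ≅ H^n(alternating coface complex of F)`.

Strategy: dimension shifting.  `T^n F := H^n(K F)` has long exact sequences (evaluation is exact),
`T^0 ≅ lim` naturally, and `T^{n+1}` vanishes on the décalage `Dec G = sh ⋙ G` (extra codegeneracy);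
an injective `I` is a retract of `Dec I`.
-/

set_option autoImplicit false
universe v u
open CategoryTheory CategoryTheory.Limits AlgebraicTopology Simplicial

namespace Groth.Agent.Lib.Cohomology.CosimpLim

/-! ### The shift functor on the simplex category -/

/-- the monotone map `0 ↦ 0`, `i + 1 ↦ θ i + 1` -/
def shFun {m n : ℕ} (θ : Fin (m + 1) →o Fin (n + 1)) : Fin (m + 2) →o Fin (n + 2) where
  toFun := Fin.cases 0 (fun i => (θ i).succ)
  monotone' := by
    intro a b hab
    induction a using Fin.cases with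
    | zero => exact Fin.zero_le _
    | succ a =>
      induction b using Fin.cases with
      | zero => exact absurd hab (by simp [Fin.succ_ne_zero])
      | succ b =>
        simp only [Fin.cases_succ]
        exact Fin.succ_le_succ_iff.2 (θ.monotone (Fin.succ_le_succ_iff.1 hab))

/-- `[n] ↦ [n + 1]`, adding a new first vertex -/
def sh : SimplexCategory ⥤ SimplexCategory where
  obj Δ := SimplexCategory.mk (Δ.len + 1)
  map {Δ Δ'} θ := SimplexCategory.Hom.mk (shFun θ.toOrderHom)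
  map_id Δ := by
    ext i : 3
    induction i using Fin.cases with
    | zero => rfl
    | succ i => rfl
  map_comp {Δ Δ' Δ''} θ θ' := by
    ext i : 3
    induction i using Fin.cases with
    | zero => rfl
    | succ i => rfl

lemma sh_map_zero {Δ Δ' : SimplexCategory} (θ : Δ ⟶ Δ') :
    (sh.map θ).toOrderHom 0 = 0 := rfl

lemma sh_map_succ {Δ Δ' : SimplexCategory} (θ : Δ ⟶ Δ') (i : Fin (Δ.len + 1)) :
    (sh.map θ).toOrderHom i.succ = (θ.toOrderHom i).succ := rfl

/-- `δ⁰ : [n] ⟶ [n + 1]` as a natural transformation -/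
def η : 𝟭 SimplexCategory ⟶ sh where
  app Δ := SimplexCategory.δ (n := Δ.len) 0
  naturality {Δ Δ'} θ := by
    ext i : 3
    rfl

lemma sh_map_δ {n : ℕ} (i : Fin (n + 2)) :
    sh.map (SimplexCategory.δ i) = SimplexCategory.δ i.succ := by
  ext j : 3
  induction j using Fin.cases with
  | zero =>
    change (0 : Fin (n + 3)) = i.succ.succAbove 0
    exact (Fin.succ_succAbove_zero i).symm
  | succ j =>
    change (i.succAbove j).succ = i.succ.succAbove j.succ
    exact (Fin.succ_succAbove_succ i j).symm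

/-! ### The décalage of a cosimplicial object and its contracting homotopy -/

section Dec

variable {A : Type u} [Category.{v} A] [Preadditive A]

open AlternatingCofaceMapComplex

/-- the décalage `[n] ↦ G [n + 1]` -/
abbrev Dec (G : SimplexCategory ⥤ A) : SimplexCategory ⥤ A := sh ⋙ G

/-- the canonical map `G ⟶ Dec G` (coface `δ⁰`) -/
def toDec (G : SimplexCategory ⥤ A) : G ⟶ Dec G := Functor.whiskerRight η G

lemma toDec_app (G : SimplexCategory ⥤ A) (Δ : SimplexCategory) :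
    (toDec G).app Δ = G.map (SimplexCategory.δ (n := Δ.len) 0) := rfl

lemma δ_zero_σ_zero (G : SimplexCategory ⥤ A) (n : ℕ) :
    G.map (SimplexCategory.δ (n := n) 0) ≫ G.map (SimplexCategory.σ (n := n) 0) = 𝟙 _ := by
  rw [← G.map_comp]
  have : SimplexCategory.δ (n := n) 0 ≫ SimplexCategory.σ 0 = 𝟙 _ :=
    SimplexCategory.δ_comp_σ_self (i := (0 : Fin (n + 1)))
  rw [this, G.map_id]

instance (G : SimplexCategory ⥤ A) (Δ : SimplexCategory) : IsSplitMono ((toDec G).app Δ) :=
  ⟨⟨⟨G.map (SimplexCategory.σ (n := Δ.len) 0), δ_zero_σ_zero G Δ.len⟩⟩⟩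

instance (G : SimplexCategory ⥤ A) : Mono (toDec G) := by
  have : ∀ Δ, Mono ((toDec G).app Δ) := fun Δ => inferInstance
  exact NatTrans.mono_of_mono_app _

/-- the extra codegeneracy of the décalage -/
def sg (G : SimplexCategory ⥤ A) (n : ℕ) : (Dec G).obj ⦋n + 1⦌ ⟶ (Dec G).obj ⦋n⦌ :=
  G.map (SimplexCategory.σ (n := n + 1) 0)

lemma Dec_δ (G : SimplexCategory ⥤ A) {n : ℕ} (i : Fin (n + 2)) :
    CosimplicialObject.δ (Dec G) i = G.map (SimplexCategory.δ i.succ) :=
  congrArg (fun f => G.map f) (sh_map_δ i)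

lemma h3' (G : SimplexCategory ⥤ A) (n : ℕ) :
    G.map (SimplexCategory.δ (Fin.succ (0 : Fin (n + 2)))) ≫
      G.map (SimplexCategory.σ (n := n + 1) 0) = 𝟙 (G.obj ⦋n + 1⦌) := by
  rw [← G.map_comp]
  have : SimplexCategory.δ (0 : Fin (n + 2)).succ ≫ SimplexCategory.σ (n := n + 1) 0 = 𝟙 _ :=
    SimplexCategory.δ_comp_σ_succ (i := (0 : Fin (n + 2)))
  rw [this, G.map_id]

lemma h4' (G : SimplexCategory ⥤ A) (n : ℕ) (i : Fin (n + 2)) :
    G.map (SimplexCategory.δ i.succ.succ) ≫ G.map (SimplexCategory.σ (n := n + 2) 0) =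
      G.map (SimplexCategory.σ (n := n + 1) 0) ≫ G.map (SimplexCategory.δ i.succ) := by
  rw [← G.map_comp, ← G.map_comp]
  congr 1
  exact SimplexCategory.δ_comp_σ_of_gt (i := i.succ) (j := (0 : Fin (n + 2)))
    (Fin.succ_pos i)

lemma h3 (G : SimplexCategory ⥤ A) (n : ℕ) :
    CosimplicialObject.δ (Dec G) (0 : Fin (n + 2)) ≫ sg G n = 𝟙 _ :=
  (congrArg (fun f => G.map f ≫ G.map (SimplexCategory.σ (n := n + 1) 0))
    (sh_map_δ (0 : Fin (n + 2)))).trans (h3' G n)

lemma h4 (G : SimplexCategory ⥤ A) (n : ℕ) (i : Fin (n + 2)) :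
    CosimplicialObject.δ (Dec G) i.succ ≫ sg G (n + 1) =
      sg G n ≫ CosimplicialObject.δ (Dec G) i :=
  ((congrArg (fun f => G.map f ≫ G.map (SimplexCategory.σ (n := n + 2) 0))
    (sh_map_δ i.succ)).trans (h4' G n i)).trans
    (congrArg (fun f => G.map (SimplexCategory.σ (n := n + 1) 0) ≫ G.map f) (sh_map_δ i)).symm

theorem homotopy_succ (Z : CosimplicialObject A) (σ : ∀ n : ℕ, Z.obj ⦋n + 1⦌ ⟶ Z.obj ⦋n⦌)
    (h3 : ∀ n, Z.δ (0 : Fin (n + 2)) ≫ σ n = 𝟙 _)
    (h4 : ∀ n (i : Fin (n + 2)), Z.δ i.succ ≫ σ (n + 1) = σ n ≫ Z.δ i) (n : ℕ) :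
    objD Z (n + 1) ≫ σ (n + 1) + σ n ≫ objD Z n = 𝟙 _ := by
  simp only [objD, Preadditive.sum_comp, Preadditive.comp_sum, Preadditive.zsmul_comp,
    Preadditive.comp_zsmul]
  rw [Fin.sum_univ_succ]
  simp only [Fin.val_zero, pow_zero, one_smul, Fin.val_succ, h3 (n + 1), h4 n]
  rw [add_assoc, ← Finset.sum_add_distrib]
  have : ∀ i : Fin (n + 2), (-1 : ℤ) ^ ((i : ℕ) + 1) • (σ n ≫ Z.δ i) +
      (-1 : ℤ) ^ (i : ℕ) • (σ n ≫ Z.δ i) = 0 := fun i => by
    rw [pow_succ, ← add_smul]; simp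
  simp [this]

theorem Dec_homotopy (G : SimplexCategory ⥤ A) (n : ℕ) :
    objD (Dec G) (n + 1) ≫ sg G (n + 1) + sg G n ≫ objD (Dec G) n = 𝟙 _ :=
  homotopy_succ (Dec G) (sg G) (h3 G) (h4 G) n

end Dec

/-! ### Homology of the alternating coface complex -/

section Abelian

variable {A : Type u} [Category.{v} A] [Abelian A]

open AlternatingCofaceMapComplex

/-- the alternating coface complex functor -/
abbrev K : (SimplexCategory ⥤ A) ⥤ CochainComplex A ℕ := alternatingCofaceMapComplex A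

lemma K_d (G : SimplexCategory ⥤ A) (n : ℕ) :
    ((K (A := A)).obj G).d n (n + 1) = objD G n := by
  exact CochainComplex.of_d (fun n => G.obj ⦋n⦌) (objD G) n

lemma K_map_f {G G' : SimplexCategory ⥤ A} (φ : G ⟶ G') (n : ℕ) :
    ((K (A := A)).map φ).f n = φ.app ⦋n⦌ := rfl

instance : (K (A := A)).PreservesZeroMorphisms where
  map_zero X Y := by
    ext n
    rfl

/-- `T^n G = H^n(K G)` -/
noncomputable abbrev T (n : ℕ) : (SimplexCategory ⥤ A) ⥤ A :=
  K (A := A) ⋙ HomologicalComplex.homologyFunctor A _ n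

lemma exact_of_homotopy {X Y Z : A} (f : X ⟶ Y) (g : Y ⟶ Z) (w : f ≫ g = 0) (s : Z ⟶ Y)
    (s' : Y ⟶ X) (h : g ≫ s + s' ≫ f = 𝟙 Y) : (ShortComplex.mk f g w).Exact := by
  rw [ShortComplex.exact_iff_kernel_ι_comp_cokernel_π_zero]
  change kernel.ι g ≫ cokernel.π f = 0
  have e : kernel.ι g ≫ cokernel.π f = kernel.ι g ≫ (g ≫ s + s' ≫ f) ≫ cokernel.π f := by
    rw [h, Category.id_comp]
  rw [e, Preadditive.add_comp, Preadditive.comp_add, Category.assoc, Category.assoc,
    cokernel.condition, comp_zero, comp_zero, add_zero, kernel.condition_assoc, zero_comp]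

theorem isZero_T_succ_Dec (G : SimplexCategory ⥤ A) (n : ℕ) :
    IsZero ((T (A := A) (n + 1)).obj (Dec G)) := by
  apply HomologicalComplex.ExactAt.isZero_homology
  rw [HomologicalComplex.exactAt_iff' _ n (n + 1) (n + 2) (by simp) (by simp)]
  refine exact_of_homotopy _ _ _ (sg G (n + 1)) (sg G n) ?_
  change ((K (A := A)).obj (Dec G)).d (n + 1) (n + 1 + 1) ≫ _ +
    _ ≫ ((K (A := A)).obj (Dec G)).d n (n + 1) = 𝟙 _
  rw [K_d, K_d]
  exact Dec_homotopy G n

theorem isZero_T_succ_of_injective (I : SimplexCategory ⥤ A) [Injective I] (n : ℕ) :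
    IsZero ((T (A := A) (n + 1)).obj I) := by
  rw [IsZero.iff_id_eq_zero]
  have hr : toDec I ≫ Injective.factorThru (𝟙 I) (toDec I) = 𝟙 I := Injective.comp_factorThru _ _
  have h0 : (T (A := A) (n + 1)).map (toDec I) = 0 := (isZero_T_succ_Dec I n).eq_of_tgt _ _
  rw [← (T (A := A) (n + 1)).map_id, ← hr, Functor.map_comp, h0, zero_comp]

/-! ### Long exact sequences -/

section LES

variable {S : ShortComplex (SimplexCategory ⥤ A)} (hS : S.ShortExact)

include hS in
lemma K_shortExact : (S.map (K (A := A))).ShortExact := by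
  apply HomologicalComplex.shortExact_of_degreewise_shortExact
  intro i
  exact hS.map_of_exact ((evaluation SimplexCategory A).obj ⦋i⦌)

include hS in
theorem T_shift [Injective S.X₂] (n : ℕ) :
    Nonempty ((T (A := A) (n + 1)).obj S.X₃ ≅ (T (A := A) (n + 2)).obj S.X₁) :=
  ⟨(K_shortExact hS).δIso (n + 1) (n + 2) rfl (isZero_T_succ_of_injective S.X₂ n)
    (isZero_T_succ_of_injective S.X₂ (n + 1))⟩

include hS in
theorem T_one_cokernel [Injective S.X₂] :
    ∃ (π : (T (A := A) 0).obj S.X₃ ⟶ (T (A := A) 1).obj S.X₁)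
      (w : (T (A := A) 0).map S.g ≫ π = 0), Epi π ∧ (ShortComplex.mk _ _ w).Exact :=
  ⟨(K_shortExact hS).δ 0 1 rfl, (K_shortExact hS).comp_δ 0 1 rfl,
    (K_shortExact hS).epi_δ 0 1 rfl (isZero_T_succ_of_injective S.X₂ 0),
    (K_shortExact hS).homology_exact₃ 0 1 rfl⟩

end LES

/-! ### Degree zero: `T⁰ ≅ lim` -/

section Lim

variable [HasLimitsOfShape SimplexCategory A]

lemma objD_zero (X : SimplexCategory ⥤ A) :
    objD X 0 = X.map (SimplexCategory.δ (n := 0) 0) - X.map (SimplexCategory.δ (n := 0) 1) := by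
  have : objD X 0 = CosimplicialObject.δ X (0 : Fin 2) - CosimplicialObject.δ X (1 : Fin 2) := by
    simp [objD, Fin.sum_univ_succ, sub_eq_add_neg]
  exact this

/-- the inclusion of the zero cycles, with its target retyped -/
noncomputable def ι0 (X : SimplexCategory ⥤ A) : ((K (A := A)).obj X).cycles 0 ⟶ X.obj ⦋0⦌ :=
  ((K (A := A)).obj X).iCycles 0

instance (X : SimplexCategory ⥤ A) : Mono (ι0 X) :=
  inferInstanceAs (Mono (((K (A := A)).obj X).iCycles 0))

lemma ι0_δ (X : SimplexCategory ⥤ A) :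
    ι0 X ≫ X.map (SimplexCategory.δ (n := 0) 0) = ι0 X ≫ X.map (SimplexCategory.δ (n := 0) 1) := by
  have h : ι0 X ≫ objD X 0 = 0 := by
    rw [← K_d]
    exact ((K (A := A)).obj X).iCycles_d 0 1
  rw [objD_zero, Preadditive.comp_sub, sub_eq_zero] at h
  exact h

lemma ι0_vertex (X : SimplexCategory ⥤ A) (n : ℕ) (a : Fin (n + 1)) :
    ι0 X ≫ X.map (SimplexCategory.const ⦋0⦌ ⦋n⦌ a) =
      ι0 X ≫ X.map (SimplexCategory.const ⦋0⦌ ⦋n⦌ 0) := by
  have e1 : SimplexCategory.const ⦋0⦌ ⦋n⦌ a =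
      SimplexCategory.δ (n := 0) 0 ≫ SimplexCategory.mkOfLe 0 a (Fin.zero_le a) :=
    SimplexCategory.Hom.ext_zero_left _ _ rfl
  have e2 : SimplexCategory.const ⦋0⦌ ⦋n⦌ 0 =
      SimplexCategory.δ (n := 0) 1 ≫ SimplexCategory.mkOfLe 0 a (Fin.zero_le a) :=
    SimplexCategory.Hom.ext_zero_left _ _ rfl
  rw [e1, e2, X.map_comp, X.map_comp, ← Category.assoc, ← Category.assoc, ι0_δ]

lemma ι0_vertex' (X : SimplexCategory ⥤ A) (Δ : SimplexCategory) (a : Fin (Δ.len + 1)) :
    ι0 X ≫ X.map (SimplexCategory.const ⦋0⦌ Δ a) =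
      ι0 X ≫ X.map (SimplexCategory.const ⦋0⦌ Δ 0) := by
  induction Δ using SimplexCategory.rec with
  | _ n => exact ι0_vertex X n a

/-- the cone over `X` with apex the zero cycles -/
noncomputable abbrev coneOfCycles (X : SimplexCategory ⥤ A) : Cone X where
  pt := ((K (A := A)).obj X).cycles 0
  π :=
    { app := fun Δ => ι0 X ≫ X.map (SimplexCategory.const ⦋0⦌ Δ 0)
      naturality := by
        intro Δ Δ' θ
        dsimp
        rw [Category.id_comp, Category.assoc, ← X.map_comp, SimplexCategory.const_comp]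
        exact (ι0_vertex' X Δ' _).symm }

lemma limit_π_comp_d (X : SimplexCategory ⥤ A) :
    limit.π X ⦋0⦌ ≫ ((K (A := A)).obj X).d 0 1 = 0 := by
  have h : limit.π X ⦋0⦌ ≫ objD X 0 = 0 := by
    rw [objD_zero, Preadditive.comp_sub, sub_eq_zero, limit.w, limit.w]
  exact (congrArg (fun t => limit.π X ⦋0⦌ ≫ t) (K_d X 0)).trans h

/-- `lim X ⟶ Z⁰(K X)` -/
noncomputable def κ (X : SimplexCategory ⥤ A) : limit X ⟶ ((K (A := A)).obj X).cycles 0 :=
  ((K (A := A)).obj X).liftCycles (limit.π X ⦋0⦌) 1 (by simp) (limit_π_comp_d X)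

lemma κ_ι0 (X : SimplexCategory ⥤ A) : κ X ≫ ι0 X = limit.π X ⦋0⦌ :=
  ((K (A := A)).obj X).liftCycles_i _ _ _ _

/-- `Z⁰(K X) ⟶ lim X` -/
noncomputable def lift0 (X : SimplexCategory ⥤ A) : ((K (A := A)).obj X).cycles 0 ⟶ limit X :=
  limit.lift X (coneOfCycles X)

lemma lift0_π (X : SimplexCategory ⥤ A) (Δ : SimplexCategory) :
    lift0 X ≫ limit.π X Δ = ι0 X ≫ X.map (SimplexCategory.const ⦋0⦌ Δ 0) :=
  limit.lift_π _ _

/-- `lim X ≅ Z⁰(K X)` -/
noncomputable def limIso (X : SimplexCategory ⥤ A) : limit X ≅ ((K (A := A)).obj X).cycles 0 where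
  hom := κ X
  inv := lift0 X
  hom_inv_id := by
    apply limit.hom_ext
    intro Δ
    rw [Category.assoc, lift0_π, Category.id_comp, ← Category.assoc, κ_ι0, limit.w]
  inv_hom_id := by
    rw [← cancel_mono (ι0 X), Category.assoc, κ_ι0, lift0_π, Category.id_comp,
      SimplexCategory.const_eq_id, X.map_id, Category.comp_id]

lemma κ_naturality {X Y : SimplexCategory ⥤ A} (g : X ⟶ Y) :
    limMap g ≫ κ Y = κ X ≫ HomologicalComplex.cyclesMap ((K (A := A)).map g) 0 := by
  rw [← cancel_mono (ι0 Y), Category.assoc, Category.assoc, κ_ι0, limMap_π]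
  have : HomologicalComplex.cyclesMap ((K (A := A)).map g) 0 ≫ ι0 Y = ι0 X ≫ g.app ⦋0⦌ :=
    HomologicalComplex.cyclesMap_i ((K (A := A)).map g) 0
  rw [this, ← Category.assoc, κ_ι0]

/-- `lim X ≅ T⁰ X` -/
noncomputable def e0 (X : SimplexCategory ⥤ A) : lim.obj X ≅ (T (A := A) 0).obj X :=
  limIso X ≪≫ ((K (A := A)).obj X).isoHomologyπ₀

lemma e0_naturality {X Y : SimplexCategory ⥤ A} (g : X ⟶ Y) :
    lim.map g ≫ (e0 Y).hom = (e0 X).hom ≫ (T (A := A) 0).map g := by
  change limMap g ≫ κ Y ≫ ((K (A := A)).obj Y).homologyπ 0 =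
    (κ X ≫ ((K (A := A)).obj X).homologyπ 0) ≫
      HomologicalComplex.homologyMap ((K (A := A)).map g) 0
  rw [← Category.assoc, κ_naturality, Category.assoc, Category.assoc,
    HomologicalComplex.homologyπ_naturality]

end Lim

/-! ### The main theorem -/

section Main

variable [HasLimitsOfShape SimplexCategory A] [EnoughInjectives (SimplexCategory ⥤ A)]
  [(lim : (SimplexCategory ⥤ A) ⥤ A).Additive]

/-- `0 ⟶ F ⟶ I ⟶ I/F ⟶ 0` with `I` injective -/
noncomputable abbrev injSES (F : SimplexCategory ⥤ A) : ShortComplex (SimplexCategory ⥤ A) :=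
  ShortComplex.mk _ _ (cokernel.condition (Injective.ι F))

omit [HasLimitsOfShape SimplexCategory A] [(lim : (SimplexCategory ⥤ A) ⥤ A).Additive] in
lemma injSES_shortExact (F : SimplexCategory ⥤ A) : (injSES F).ShortExact :=
  { exact := ShortComplex.exact_of_g_is_cokernel _ (cokernelIsCokernel (injSES F).f) }

instance (F : SimplexCategory ⥤ A) : Injective (injSES F).X₂ :=
  inferInstanceAs (Injective (Injective.under F))

instance : PreservesFiniteLimits (lim : (SimplexCategory ⥤ A) ⥤ A) := by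
  have : PreservesLimitsOfSize.{0, 0} (lim : (SimplexCategory ⥤ A) ⥤ A) :=
    constLimAdj.rightAdjoint_preservesLimits
  infer_instance

theorem rightDerived_lim_iso_succ (n : ℕ) : ∀ F : SimplexCategory ⥤ A,
    Nonempty (((lim : (SimplexCategory ⥤ A) ⥤ A).rightDerived (n + 1)).obj F ≅
      (T (A := A) (n + 1)).obj F) := by
  induction n with
  | zero =>
    intro F
    have hS := injSES_shortExact F
    obtain ⟨π, w, hπ, hex⟩ := RDShift.exists_rightDerived_one_cokernel hS
      (lim : (SimplexCategory ⥤ A) ⥤ A)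
    obtain ⟨π', w', hπ', hex'⟩ := T_one_cokernel hS
    have w'' : lim.map (injSES F).g ≫ (e0 (injSES F).X₃).hom ≫ π' = 0 := by
      rw [← Category.assoc, e0_naturality, Category.assoc, w', comp_zero]
    have hex'' : (ShortComplex.mk _ _ w'').Exact := by
      refine (ShortComplex.exact_iff_of_iso ?_).2 hex'
      exact ShortComplex.isoMk (e0 _) (e0 _) (Iso.refl _) (e0_naturality _).symm (by simp)
    have : Epi ((e0 (injSES F).X₃).hom ≫ π') := epi_comp _ _
    exact ⟨IsColimit.coconePointUniqueUpToIso hex.gIsCokernel hex''.gIsCokernel⟩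
  | succ n ih =>
    intro F
    have hS := injSES_shortExact F
    obtain ⟨e1⟩ := RDShift.rightDerived_shift hS (lim : (SimplexCategory ⥤ A) ⥤ A) n
    obtain ⟨e2⟩ := ih (injSES F).X₃
    obtain ⟨e3⟩ := T_shift hS n
    exact ⟨e1 ≪≫ e2 ≪≫ e3⟩

/-- `R^n lim F ≅ H^n` of the alternating coface complex. -/
theorem nonempty_rightDerived_lim_iso (F : SimplexCategory ⥤ A) (n : ℕ) :
    Nonempty (((lim : (SimplexCategory ⥤ A) ⥤ A).rightDerived n).obj F ≅
      ((alternatingCofaceMapComplex A).obj F).homology n) := by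
  cases n with
  | zero =>
    exact ⟨(Functor.rightDerivedZeroIsoSelf (lim : (SimplexCategory ⥤ A) ⥤ A)).app F ≪≫ e0 F⟩
  | succ n => exact rightDerived_lim_iso_succ n F

end Main

end Abelian

end Groth.Agent.Lib.Cohomology.CosimpLim
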