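import Mathlib.AlgebraicTopology.AlternatingFaceMapComplex
import Mathlib.Algebra.Category.Grp.Preadditive

/-!
# Exactness of the alternating coface complex of a cosimplicial abelian group with an
extra codegeneracy (helper3)
-/

set_option autoImplicit false
universe w
open CategoryTheory AlgebraicTopology Simplicial

namespace Groth.Agent.Lib.Cohomology.ExtraDeg

variable (Z : CosimplicialObject AddCommGrpCat.{w}) (H : AddCommGrpCat.{w})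
  (ε : H ⟶ Z.obj ⦋0⦌) (τ : Z.obj ⦋0⦌ ⟶ H) (σ : ∀ n : ℕ, Z.obj ⦋n + 1⦌ ⟶ Z.obj ⦋n⦌)

open AlternatingCofaceMapComplex

include τ in
theorem eps_injective (h1 : ε ≫ τ = 𝟙 H) : Function.Injective ε.hom := by
  intro x y hxy
  have := congrArg τ.hom hxy
  have e : ∀ z, τ.hom (ε.hom z) = z := fun z => by
    have := congrArg (fun f => f.hom z) h1
    simpa using this
  rwa [e, e] at this

theorem eps_comp_d (h5 : ε ≫ Z.δ (0 : Fin 2) = ε ≫ Z.δ (1 : Fin 2)) : ε ≫ objD Z 0 = 0 := by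
  have : objD Z 0 = Z.δ (0 : Fin 2) - Z.δ (1 : Fin 2) := by
    simp [objD, Fin.sum_univ_succ, sub_eq_add_neg]
  rw [this, Preadditive.comp_sub, h5, sub_self]

theorem d_comp_sigma_zero (h2 : Z.δ (1 : Fin 2) ≫ σ 0 = τ ≫ ε)
    (h3 : ∀ n, Z.δ (0 : Fin (n + 2)) ≫ σ n = 𝟙 _) : objD Z 0 ≫ σ 0 = 𝟙 _ - τ ≫ ε := by
  have : objD Z 0 = Z.δ (0 : Fin 2) - Z.δ (1 : Fin 2) := by
    simp [objD, Fin.sum_univ_succ, sub_eq_add_neg]
  rw [this, Preadditive.sub_comp, h3 0, h2]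

theorem homotopy_succ (h3 : ∀ n, Z.δ (0 : Fin (n + 2)) ≫ σ n = 𝟙 _)
    (h4 : ∀ n (i : Fin (n + 2)), Z.δ i.succ ≫ σ (n + 1) = σ n ≫ Z.δ i) (n : ℕ) :
    objD Z (n + 1) ≫ σ (n + 1) + σ n ≫ objD Z n = 𝟙 _ := by
  simp only [objD, Preadditive.sum_comp, Preadditive.comp_sum, Preadditive.zsmul_comp,
    Preadditive.comp_zsmul]
  rw [Fin.sum_univ_succ]
  simp only [Fin.val_zero, pow_zero, one_smul, Fin.val_succ, h3 (n + 1), h4 n]
  rw [add_assoc, ← Finset.sum_add_distrib]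
  have : ∀ i : Fin (n + 2), (-1 : ℤ) ^ ((i : ℕ) + 1) • (σ n ≫ Z.δ i) +
      (-1 : ℤ) ^ (i : ℕ) • (σ n ≫ Z.δ i) = 0 := fun i => by
    rw [pow_succ, ← add_smul]; simp
  simp [this]

theorem exact_zero (h1 : ε ≫ τ = 𝟙 H) (h2 : Z.δ (1 : Fin 2) ≫ σ 0 = τ ≫ ε)
    (h3 : ∀ n, Z.δ (0 : Fin (n + 2)) ≫ σ n = 𝟙 _) (x : Z.obj ⦋0⦌)
    (hx : (objD Z 0).hom x = 0) : ∃ y, ε.hom y = x := by
  refine ⟨τ.hom x, ?_⟩
  have := congrArg (fun f => f.hom x) (d_comp_sigma_zero Z H ε τ σ h2 h3)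
  simp only [AddCommGrpCat.hom_comp, AddMonoidHom.coe_comp, Function.comp_apply, hx, map_zero,
    AddCommGrpCat.hom_sub, AddMonoidHom.sub_apply, AddCommGrpCat.hom_id, AddMonoidHom.id_apply]
    at this
  exact (sub_eq_zero.mp this.symm).symm

theorem exact_succ (h3 : ∀ n, Z.δ (0 : Fin (n + 2)) ≫ σ n = 𝟙 _)
    (h4 : ∀ n (i : Fin (n + 2)), Z.δ i.succ ≫ σ (n + 1) = σ n ≫ Z.δ i) (n : ℕ)
    (x : Z.obj ⦋n + 1⦌) (hx : (objD Z (n + 1)).hom x = 0) : ∃ y, (objD Z n).hom y = x := by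
  refine ⟨(σ n).hom x, ?_⟩
  have := congrArg (fun f => f.hom x) (homotopy_succ Z σ h3 h4 n)
  simp only [AddCommGrpCat.hom_comp, AddMonoidHom.coe_comp, Function.comp_apply, hx, map_zero,
    AddCommGrpCat.hom_add, AddMonoidHom.add_apply, AddCommGrpCat.hom_id, AddMonoidHom.id_apply,
    zero_add] at this
  exact this

end Groth.Agent.Lib.Cohomology.ExtraDeg
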