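import Groth.Agent.Lib.Cohomology.Helper3_PullFunct2
import Groth.Agent.Lib.Cohomology.Helper3_ExtraDeg
import Mathlib.AlgebraicTopology.ExtraDegeneracy
import Mathlib.AlgebraicTopology.CechNerve

/-!
# The cosimplicial cohomology groups of the Čech nerve of a map with a section (helper3)
-/

set_option autoImplicit false
universe u
open CategoryTheory CategoryTheory.Limits TopologicalSpace Opposite Simplicial AlgebraicTopology

namespace Groth.Agent.Lib.Cohomology.DescentSection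

open PullFunct

variable {X S : TopCat.{u}} (f : X ⟶ S)

/-- the Čech nerve -/
noncomputable abbrev N : SimplicialObject TopCat.{u} := (Arrow.mk f).cechNerve

/-- the structure maps to the base -/
noncomputable abbrev bs (Δ : SimplexCategory) : (N f).obj (op Δ) ⟶ S :=
  WidePullback.base (fun _ : Fin (Δ.len + 1) => f)

lemma map_bs {Δ Δ' : SimplexCategory} (θ : Δ ⟶ Δ') : (N f).map θ.op ≫ bs f Δ = bs f Δ' :=
  WidePullback.lift_base ..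

variable (F : CohTop.Ab S)

/-- the constant sheaf `ℤ` -/
noncomputable abbrev ZS : CohTop.Ab S := CohTop.const S (ULift.{u} ℤ)

/-- the cosimplicial abelian group `[p] ↦ Ext^q(b_p⁻¹ ℤ, b_p⁻¹ F)` -/
noncomputable def Zq (q : ℕ) : CosimplicialObject AddCommGrpCat.{u} where
  obj Δ := AddCommGrpCat.of (Ψ (ZS (S := S)) F q (bs f Δ))
  map {Δ Δ'} θ := AddCommGrpCat.ofHom
    (PullFunct.map (ZS (S := S)) F q ((N f).map θ.op) (bs f Δ) (bs f Δ') (map_bs f θ))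
  map_id Δ := by
    ext x
    exact (map_congr _ _ q ((N f).map_id (op Δ)) _ _ _ (Category.id_comp _) x).trans
      (map_id _ _ q _ _ x)
  map_comp {Δ Δ' Δ''} θ θ' := by
    ext x
    refine (map_congr _ _ q ((N f).map_comp θ'.op θ.op) _ _ _
      (by rw [Category.assoc, map_bs, map_bs]) x).trans ?_
    exact (map_comp _ _ q ((N f).map θ'.op) ((N f).map θ.op) (bs f Δ) (bs f Δ') (bs f Δ'')
      (map_bs f θ) (map_bs f θ') _ x).symm

variable (s : S ⟶ X) (hs : s ≫ f = 𝟙 S)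

/-- the extra degeneracy of the augmented Čech nerve -/
noncomputable abbrev ed : SimplicialObject.Augmented.ExtraDegeneracy (Arrow.mk f).augmentedCechNerve :=
  Arrow.AugmentedCechNerve.extraDegeneracy (Arrow.mk f) ⟨s, hs⟩

lemma s'_bs : (ed f s hs).s' ≫ bs f ⦋0⦌ = 𝟙 S := (ed f s hs).s'_comp_ε

lemma s_bs (n : ℕ) : (ed f s hs).s n ≫ bs f ⦋n + 1⦌ = bs f ⦋n⦌ :=
  Arrow.AugmentedCechNerve.ExtraDegeneracy.s_comp_base (Arrow.mk f) ⟨s, hs⟩ n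

/-- `Ext^q(ℤ, F)` in the `Ψ` form -/
noncomputable abbrev Hq (q : ℕ) : AddCommGrpCat.{u} :=
  AddCommGrpCat.of (Ψ (ZS (S := S)) F q (𝟙 S))

/-- coaugmentation -/
noncomputable def εq (q : ℕ) : Hq F q ⟶ (Zq f F q).obj ⦋0⦌ :=
  AddCommGrpCat.ofHom (PullFunct.map (ZS (S := S)) F q (bs f ⦋0⦌) (𝟙 S) (bs f ⦋0⦌)
    (Category.comp_id _))

/-- retraction of the coaugmentation -/
noncomputable def τq (q : ℕ) : (Zq f F q).obj ⦋0⦌ ⟶ Hq F q :=
  AddCommGrpCat.ofHom (PullFunct.map (ZS (S := S)) F q (ed f s hs).s' (bs f ⦋0⦌) (𝟙 S)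
    (s'_bs f s hs))

/-- extra codegeneracy -/
noncomputable def σq (q : ℕ) (n : ℕ) : (Zq f F q).obj ⦋n + 1⦌ ⟶ (Zq f F q).obj ⦋n⦌ :=
  AddCommGrpCat.ofHom (PullFunct.map (ZS (S := S)) F q ((ed f s hs).s n) (bs f ⦋n + 1⦌)
    (bs f ⦋n⦌) (s_bs f s hs n))

lemma h1 (q : ℕ) : εq f F q ≫ τq f F s hs q = 𝟙 _ := by
  ext x
  change PullFunct.map _ _ q _ _ _ (s'_bs f s hs)
    (PullFunct.map _ _ q _ _ _ (Category.comp_id _) x) = x
  exact map_map_eq_self _ _ q _ _ (s'_bs f s hs) _ _ _ _ x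

lemma h2 (q : ℕ) : (Zq f F q).δ (1 : Fin 2) ≫ σq f F s hs q 0 = τq f F s hs q ≫ εq f F q := by
  ext x
  change PullFunct.map _ _ q ((ed f s hs).s 0) (bs f ⦋1⦌) (bs f ⦋0⦌) (s_bs f s hs 0)
    (PullFunct.map _ _ q ((N f).map (SimplexCategory.δ (1 : Fin 2)).op) (bs f ⦋0⦌) (bs f ⦋1⦌)
      (map_bs f _) x) =
    PullFunct.map _ _ q (bs f ⦋0⦌) (𝟙 S) (bs f ⦋0⦌) (Category.comp_id _)
      (PullFunct.map _ _ q (ed f s hs).s' (bs f ⦋0⦌) (𝟙 S) (s'_bs f s hs) x)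
  exact map_map_eq_map_map _ _ q _ _ _ _ ((ed f s hs).s₀_comp_δ₁) _ _ _ _ _ _ _ _ x

lemma h3 (q : ℕ) (n : ℕ) : (Zq f F q).δ (0 : Fin (n + 2)) ≫ σq f F s hs q n = 𝟙 _ := by
  ext x
  change PullFunct.map _ _ q ((ed f s hs).s n) (bs f ⦋n + 1⦌) (bs f ⦋n⦌) (s_bs f s hs n)
    (PullFunct.map _ _ q ((N f).map (SimplexCategory.δ (0 : Fin (n + 2))).op) (bs f ⦋n⦌)
      (bs f ⦋n + 1⦌) (map_bs f _) x) = x
  exact map_map_eq_self _ _ q _ _ ((ed f s hs).s_comp_δ₀ n) _ _ _ _ x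

lemma h4 (q : ℕ) (n : ℕ) (i : Fin (n + 2)) :
    (Zq f F q).δ i.succ ≫ σq f F s hs q (n + 1) = σq f F s hs q n ≫ (Zq f F q).δ i := by
  ext x
  change PullFunct.map _ _ q ((ed f s hs).s (n + 1)) (bs f ⦋n + 1 + 1⦌) (bs f ⦋n + 1⦌)
      (s_bs f s hs (n + 1))
    (PullFunct.map _ _ q ((N f).map (SimplexCategory.δ i.succ).op) (bs f ⦋n + 1⦌)
      (bs f ⦋n + 1 + 1⦌) (map_bs f _) x) =
    PullFunct.map _ _ q ((N f).map (SimplexCategory.δ i).op) (bs f ⦋n⦌) (bs f ⦋n + 1⦌)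
      (map_bs f _)
      (PullFunct.map _ _ q ((ed f s hs).s n) (bs f ⦋n + 1⦌) (bs f ⦋n⦌) (s_bs f s hs n) x)
  exact map_map_eq_map_map _ _ q _ _ _ _ ((ed f s hs).s_comp_δ n i) _ _ _ _ _ _ _ _ x

lemma h5 (q : ℕ) : εq f F q ≫ (Zq f F q).δ (0 : Fin 2) = εq f F q ≫ (Zq f F q).δ (1 : Fin 2) := by
  ext x
  change PullFunct.map _ _ q ((N f).map (SimplexCategory.δ (0 : Fin 2)).op) (bs f ⦋0⦌) (bs f ⦋1⦌)
      (map_bs f _)
    (PullFunct.map _ _ q (bs f ⦋0⦌) (𝟙 S) (bs f ⦋0⦌) (Category.comp_id _) x) =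
    PullFunct.map _ _ q ((N f).map (SimplexCategory.δ (1 : Fin 2)).op) (bs f ⦋0⦌) (bs f ⦋1⦌)
      (map_bs f _)
    (PullFunct.map _ _ q (bs f ⦋0⦌) (𝟙 S) (bs f ⦋0⦌) (Category.comp_id _) x)
  exact map_map_eq_map_map _ _ q _ _ _ _
    ((map_bs f (SimplexCategory.δ (0 : Fin 2))).trans (map_bs f (SimplexCategory.δ (1 : Fin 2))).symm)
    _ _ _ _ _ _ _ _ x

end Groth.Agent.Lib.Cohomology.DescentSection
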