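import Groth.Agent.Lib.Cohomology.Helper3_DescentSection

/-!
# Input data for the degenerate descent spectral sequence of a map with a section (helper3)
-/

set_option autoImplicit false
universe u
open CategoryTheory CategoryTheory.Limits TopologicalSpace Opposite Simplicial AlgebraicTopology

namespace Groth.Agent.Lib.Cohomology.DescentSection

open PullFunct

variable {X S : TopCat.{u}} (f : X ⟶ S) (s : S ⟶ X) (hs : s ≫ f = 𝟙 S) (F : CohTop.Ab S)

include s hs in
theorem exists_data :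
    ∃ (A : ℕ → ℕ → AddCommGrpCat.{u}) (d : ∀ p q, A p q ⟶ A (p + 1) q)
      (eps : ∀ q, AddCommGrpCat.of (CohTop.H F q) ⟶ A 0 q),
      (∀ p q, d p q ≫ d (p + 1) q = 0) ∧ (∀ q, eps q ≫ d 0 q = 0) ∧
      (∀ q, Function.Injective (eps q).hom) ∧
      (∀ q (x : A 0 q), (d 0 q).hom x = 0 → ∃ y, (eps q).hom y = x) ∧
      (∀ p q (x : A (p + 1) q), (d (p + 1) q).hom x = 0 → ∃ y, (d p q).hom y = x) ∧
      ∀ p q : ℕ, Nonempty (A p q ≅ AddCommGrpCat.of (CohTop.H ((CohTop.pull
        (WidePullback.base (fun _ : Fin (p + 1) => f) :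
          widePullback S (fun _ : Fin (p + 1) => X) (fun _ => f) ⟶ S)).obj F) q)) := by
  let e₀ : ∀ q, AddCommGrpCat.of (CohTop.H F q) ≅ Hq F q := fun q =>
    (ΨEquivH₀ F q).symm.toAddCommGrpIso
  refine ⟨fun p q => (Zq f F q).obj ⦋p⦌, fun p q => AlternatingCofaceMapComplex.objD (Zq f F q) p,
    fun q => (e₀ q).hom ≫ εq f F q, ?_, ?_, ?_, ?_, ?_, ?_⟩
  · intro p q
    exact AlternatingCofaceMapComplex.d_squared (Zq f F q) p
  · intro q
    rw [Category.assoc, ExtraDeg.eps_comp_d (Zq f F q) (Hq F q) (εq f F q) (h5 f F q), comp_zero]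
  · intro q
    have h := ExtraDeg.eps_injective (Zq f F q) (Hq F q) (εq f F q) (τq f F s hs q) (h1 f F s hs q)
    intro x y hxy
    exact (ΨEquivH₀ F q).symm.injective (h hxy)
  · intro q x hx
    obtain ⟨y, hy⟩ := ExtraDeg.exact_zero (Zq f F q) (Hq F q) (εq f F q) (τq f F s hs q)
      (σq f F s hs q) (h1 f F s hs q) (h2 f F s hs q) (h3 f F s hs q) x hx
    refine ⟨ΨEquivH₀ F q y, ?_⟩
    change (εq f F q).hom ((ΨEquivH₀ F q).symm (ΨEquivH₀ F q y)) = x
    rw [AddEquiv.symm_apply_apply]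
    exact hy
  · intro p q x hx
    exact ExtraDeg.exact_succ (Zq f F q) (σq f F s hs q) (h3 f F s hs q) (h4 f F s hs q) p x hx
  · intro p q
    exact ⟨(ΨEquivH F q (bs f ⦋p⦌)).toAddCommGrpIso⟩

end Groth.Agent.Lib.Cohomology.DescentSection
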