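import Mathlib

/-!
# Natural isomorphisms of `Ab`-valued functors from compatible embeddings (helper3)

`F₁ ↪ E₁`, `F₂ ↪ E₂` natural transformations and `ρ : E₁ ⟶ E₂` carrying the image of `F₁`
bijectively onto the image of `F₂` give `F₁ ≅ F₂`.
-/

set_option autoImplicit false
universe w v u
open CategoryTheory

namespace Groth.Agent.Lib.Cohomology.NatIsoEmb

variable {C : Type u} [Category.{v} C] {F₁ F₂ E₁ E₂ : C ⥤ AddCommGrpCat.{w}}
  (γ₁ : F₁ ⟶ E₁) (γ₂ : F₂ ⟶ E₂) (ρ : E₁ ⟶ E₂)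
  (h₂ : ∀ G, Function.Injective (γ₂.app G).hom)
  (H1 : ∀ G (x : F₁.obj G), ∃ y : F₂.obj G, (γ₂.app G).hom y = (ρ.app G).hom ((γ₁.app G).hom x))
  (H2 : ∀ G (y : F₂.obj G), ∃ x : F₁.obj G, (γ₂.app G).hom y = (ρ.app G).hom ((γ₁.app G).hom x))
  (H3 : ∀ G (x : F₁.obj G), (ρ.app G).hom ((γ₁.app G).hom x) = 0 → x = 0)

/-- the comparison map on objects -/
noncomputable def β (G : C) : F₁.obj G →+ F₂.obj G where
  toFun x := (H1 G x).choose
  map_zero' := by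
    apply h₂ G
    rw [(H1 G 0).choose_spec, map_zero, map_zero, map_zero]
  map_add' x y := by
    apply h₂ G
    rw [(H1 G (x + y)).choose_spec, map_add, map_add, map_add, (H1 G x).choose_spec,
      (H1 G y).choose_spec]

lemma β_spec (G : C) (x : F₁.obj G) :
    (γ₂.app G).hom (β γ₁ γ₂ ρ h₂ H1 G x) = (ρ.app G).hom ((γ₁.app G).hom x) :=
  (H1 G x).choose_spec

include H2 H3 in
lemma β_bijective (G : C) : Function.Bijective (β γ₁ γ₂ ρ h₂ H1 G) := by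
  constructor
  · rw [injective_iff_map_eq_zero]
    intro x hx
    apply H3 G
    rw [← β_spec γ₁ γ₂ ρ h₂ H1 G x, hx, map_zero]
  · intro y
    obtain ⟨x, hx⟩ := H2 G y
    refine ⟨x, h₂ G ?_⟩
    rw [β_spec, hx]

lemma β_natural {G G' : C} (φ : G ⟶ G') (x : F₁.obj G) :
    β γ₁ γ₂ ρ h₂ H1 G' ((F₁.map φ).hom x) = (F₂.map φ).hom (β γ₁ γ₂ ρ h₂ H1 G x) := by
  apply h₂ G'
  rw [β_spec]
  have n1 : (γ₁.app G').hom ((F₁.map φ).hom x) = (E₁.map φ).hom ((γ₁.app G).hom x) :=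
    congrArg (fun k => k.hom x) (γ₁.naturality φ)
  have n2 : ∀ z, (ρ.app G').hom ((E₁.map φ).hom z) = (E₂.map φ).hom ((ρ.app G).hom z) :=
    fun z => congrArg (fun k => k.hom z) (ρ.naturality φ)
  have n3 : ∀ z, (γ₂.app G').hom ((F₂.map φ).hom z) = (E₂.map φ).hom ((γ₂.app G).hom z) :=
    fun z => congrArg (fun k => k.hom z) (γ₂.naturality φ)
  rw [n1, n2, n3, β_spec]

include h₂ H1 H2 H3 in
theorem nonempty_natIso : Nonempty (F₁ ≅ F₂) := by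
  refine ⟨NatIso.ofComponents (fun G =>
    (AddEquiv.ofBijective (β γ₁ γ₂ ρ h₂ H1 G) (β_bijective γ₁ γ₂ ρ h₂ H1 H2 H3 G)).toAddCommGrpIso)
    ?_⟩
  intro G G' φ
  ext x
  exact β_natural γ₁ γ₂ ρ h₂ H1 φ x

end Groth.Agent.Lib.Cohomology.NatIsoEmb
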