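import Groth.Agent.Lib.Helper47.RDerLES
import Groth.Agent.S14349
import Groth.Agent.S6773
import Groth.Agent.S16465
import Groth.Agent.S6774

/-!
# Right derived functors of a composite `F ⋙ G` with `F` exact (helper3)

If `F : C ⥤ C'` is exact, `G : C' ⥤ D` is left exact and `F` sends injectives to `G`-acyclic
objects, then `(F ⋙ G).rightDerived n ≅ F ⋙ G.rightDerived n` (isomorphism of functors), via
the uniqueness of universal δ-functors.
-/

set_option autoImplicit false
universe v u v' u' v'' u''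
open CategoryTheory CategoryTheory.Limits

namespace Groth.Agent.Lib.Cohomology.RDerComp

variable {C : Type u} [Category.{v} C] [Abelian C] [EnoughInjectives C]
  {C' : Type u'} [Category.{v'} C'] [Abelian C'] [EnoughInjectives C']
  {D : Type u''} [Category.{v''} D] [Abelian D]
  (F : C ⥤ C') [F.Additive] [PreservesFiniteLimits F] [PreservesFiniteColimits F]
  (G : C' ⥤ D) [G.Additive]

open Groth.Agent.Lib.Helper47.RDerLES

/-- the δ-functor `n ↦ F ⋙ RⁿG` for `F` exact -/
noncomputable def compDelta : DeltaF.CohDeltaFunctor C D ℕ where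
  F n := F ⋙ G.rightDerived n
  additive _ := inferInstance
  δ S hS n₀ n₁ h := (derivedLES G).δ (S.map F) (hS.map_of_exact F) n₀ n₁ h
  δ_natural hS hS' φ n₀ n₁ h :=
    (derivedLES G).δ_natural (hS.map_of_exact F) (hS'.map_of_exact F) (F.mapShortComplex.map φ) n₀ n₁ h
  exact₂ S hS n := (derivedLES G).exact₂ (S.map F) (hS.map_of_exact F) n
  comp_δ S hS n₀ n₁ h := (derivedLES G).comp_δ (S.map F) (hS.map_of_exact F) n₀ n₁ h
  exact₃ S hS n₀ n₁ h := (derivedLES G).exact₃ (S.map F) (hS.map_of_exact F) n₀ n₁ h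
  δ_comp S hS n₀ n₁ h := (derivedLES G).δ_comp (S.map F) (hS.map_of_exact F) n₀ n₁ h
  exact₁ S hS n₀ n₁ h := (derivedLES G).exact₁ (S.map F) (hS.map_of_exact F) n₀ n₁ h

theorem compDelta_isUniversal
    (hacyc : ∀ (n : ℕ) (I : C), Injective I → IsZero ((G.rightDerived (n + 1)).obj (F.obj I))) :
    (compDelta F G).IsUniversal :=
  Groth.Agent.S6773.result _ ((Groth.Agent.S14349.result _).2 hacyc)

/-- `(F ⋙ G).rightDerived n ≅ F ⋙ G.rightDerived n` for `F` exact with `F(injective)` `G`-acyclic,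
`G` left exact. -/
theorem nonempty_rightDerived_comp_iso [PreservesFiniteLimits G]
    (hacyc : ∀ (n : ℕ) (I : C), Injective I → IsZero ((G.rightDerived (n + 1)).obj (F.obj I)))
    (n : ℕ) : Nonempty ((F ⋙ G).rightDerived n ≅ F ⋙ G.rightDerived n) := by
  have h1 := Groth.Agent.S16465.result (F ⋙ G) (derivedLES (F ⋙ G))
  have h2 := compDelta_isUniversal F G hacyc
  let e : (derivedLES (F ⋙ G)).toCohDeltaFunctor.F 0 ≅ (compDelta F G).F 0 :=
    (F ⋙ G).rightDerivedZeroIsoSelf ≪≫ Functor.isoWhiskerLeft F G.rightDerivedZeroIsoSelf.symm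
  obtain ⟨φ, -, -⟩ := Groth.Agent.S6774.result _ _ h1 h2 e
  refine ⟨⟨φ.hom.app n, φ.inv.app n, ?_, ?_⟩⟩
  · have := congrArg (fun τ => DeltaF.CohDeltaFunctor.Hom.app τ n) φ.hom_inv_id
    exact this
  · have := congrArg (fun τ => DeltaF.CohDeltaFunctor.Hom.app τ n) φ.inv_hom_id
    exact this

end Groth.Agent.Lib.Cohomology.RDerComp
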