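import Groth.Agent.Lib.Cohomology.Helper3_EtMV3
import Groth.Agent.Lib.Helper70.Excision
import Groth.Agent.Lib.Cohomology.Helper3_RDerComp
import Groth.Agent.Lib.Cohomology.Helper3_RDerComp2
import Groth.Agent.Lib.Cohomology.Helper3_NatIsoEmb
import Groth.Prelude.Def_EtDual

/-!
# Etale excision for cohomology with supports (helper3)
-/

set_option autoImplicit false
universe u
open CategoryTheory CategoryTheory.Limits Opposite AlgebraicGeometry

namespace Groth.Agent.Lib.Cohomology.EtExc

open Groth.Agent.Lib.Helper47 Groth.Agent.Lib.Helper34 Groth.Agent.Lib.Cohomology.EtMV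

section Sections

variable {X : Scheme.{u}}

/-- sections over `W` -/
noncomputable abbrev secF (W : X.Etale) : EtCoh.Ab X ⥤ AddCommGrpCat.{u + 1} :=
  sheafToPresheaf X.smallEtaleTopology AddCommGrpCat.{u + 1} ⋙
    (evaluation X.Etaleᵒᵖ AddCommGrpCat.{u + 1}).obj (op W)

lemma exists_kernel_section {A B : EtCoh.Ab X} (φ : A ⟶ B) (W : X.Etale) (m : A.obj.obj (op W))
    (hm : (φ.hom.app (op W)).hom m = 0) :
    ∃ s : (kernel φ).obj.obj (op W), ((kernel.ι φ).hom.app (op W)).hom s = m := by
  have hS : (ShortComplex.mk (kernel.ι φ) φ (kernel.condition φ)).Exact :=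
    ShortComplex.exact_kernel φ
  have hG := hS.map_of_mono_of_preservesKernel (secF W) inferInstance inferInstance
  rw [ShortComplex.ab_exact_iff] at hG
  exact hG m hm

lemma sections_injective_of_mono {A B : EtCoh.Ab X} (φ : A ⟶ B) [Mono φ] (W : X.Etale) :
    Function.Injective (φ.hom.app (op W)).hom := by
  have : Mono ((secF W).map φ) := inferInstance
  exact (AddCommGrpCat.mono_iff_injective _).1 this

/-- a restriction vanishes iff the support avoids the image -/
lemma map_eq_zero_iff (G : EtCoh.Ab X) {V W : X.Etale} (g : V ⟶ W) (s : EtCoh.sect G W) :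
    G.obj.map g.op s = 0 ↔ EtShriek.sectSupp G W s ⊆ (Set.range g.left.base)ᶜ := by
  constructor
  · intro h x hx hxr
    obtain ⟨v, hv⟩ := hxr
    exact hx V g ⟨v, hv⟩ h
  · intro h
    apply Groth.Agent.Lib.Helper70.Supp.eq_zero_of_sectSupp_eq_empty
    rw [Set.eq_empty_iff_forall_notMem]
    intro v hv
    have h1 := Groth.Agent.Lib.Helper70.Excision.sectSupp_map_subset G g s hv
    exact h h1 ⟨v, rfl⟩

end Sections

section Gamma

variable {U X : Scheme.{u}} (j : U ⟶ X) [IsOpenImmersion j]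

/-- `Γ_Z(X, G) ⟶ G(X)` as a natural transformation -/
noncomputable def γ : EtDual.gammaSupp j ⟶ secF (EtCoh.top X) where
  app G := (kernel.ι (EtDual.unitApp j G)).hom.app (op (EtCoh.top X))
  naturality G G' φ := by
    have h : (EtDual.secSupp j).map φ ≫ kernel.ι (EtDual.unitApp j G') =
        kernel.ι (EtDual.unitApp j G) ≫ φ := kernel.lift_ι _ _ _
    exact congrArg (fun k => k.hom.app (op (EtCoh.top X))) h

lemma γ_injective (G : EtCoh.Ab X) : Function.Injective ((γ j).app G).hom :=
  sections_injective_of_mono (kernel.ι (EtDual.unitApp j G)) (EtCoh.top X)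

lemma unit_zero_iff (G : EtCoh.Ab X) (s : G.obj.obj (op (EtCoh.top X))) :
    ((EtDual.unitApp j G).hom.app (op (EtCoh.top X))).hom s = 0 ↔
      (G.obj.map (tU j).op).hom s = 0 := by
  have h := pullIsoRestr_unit j G s
  let e1 : ((EtCoh.pull j).obj G).obj.obj (op ((EtCoh.bc j).obj (EtCoh.top X))) ≅
      ((EtCoh.pull j).obj G).obj.obj (op (EtCoh.top U)) :=
    ((EtCoh.pull j).obj G).obj.mapIso (EtCore.bcTopIso j).symm.op
  let e2 : ((EtCoh.pull j).obj G).obj.obj (op (EtCoh.top U)) ≅
      ((EtShriek.restrAlong j).obj G).obj.obj (op (EtCoh.top U)) :=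
    (secF (EtCoh.top U)).mapIso ((EtRestr.pullIsoRestr j).app G)
  have hinj : Function.Injective (e1 ≪≫ e2).hom.hom :=
    (ConcreteCategory.bijective_of_isIso (e1 ≪≫ e2).hom).1
  have h' : (e1 ≪≫ e2).hom.hom (((EtDual.unitApp j G).hom.app (op (EtCoh.top X))).hom s) =
      (G.obj.map (tU j).op).hom s := h
  constructor
  · intro h0
    have := (congrArg (fun z => (e1 ≪≫ e2).hom.hom z) h0).trans (map_zero (e1 ≪≫ e2).hom.hom)
    exact h'.symm.trans this
  · intro h0
    exact hinj ((h'.trans h0).trans (map_zero (e1 ≪≫ e2).hom.hom).symm)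

lemma γ_res (G : EtCoh.Ab X) (x : (EtDual.gammaSupp j).obj G) :
    (G.obj.map (tU j).op).hom (((γ j).app G).hom x) = 0 := by
  rw [← unit_zero_iff]
  have h : kernel.ι (EtDual.unitApp j G) ≫ EtDual.unitApp j G = 0 := kernel.condition _
  exact congrArg (fun k => (k.hom.app (op (EtCoh.top X))).hom x) h

lemma exists_γ (G : EtCoh.Ab X) (s : G.obj.obj (op (EtCoh.top X)))
    (hs : (G.obj.map (tU j).op).hom s = 0) : ∃ x, ((γ j).app G).hom x = s :=
  exists_kernel_section (EtDual.unitApp j G) (EtCoh.top X) s ((unit_zero_iff j G s).2 hs)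

end Gamma

section Exc

variable {X X' : Scheme.{u}} (f : X' ⟶ X) [Etale f]

/-- `X'` as an object of the small etale site of `X` -/
noncomputable abbrev Xo : X.Etale := (EtShriek.compEtale f).obj (EtCoh.top X')

/-- the structure map `X' ⟶ X` in the small etale site of `X` -/
noncomputable def t : Xo f ⟶ EtCoh.top X := (EtCore.topIsTerminal X).from _

lemma t_left : (t f).left = f := by
  have h : (t f).left ≫ 𝟙 X = 𝟙 X' ≫ f := MorphismProperty.Over.w (t f)
  exact (Category.comp_id _).symm.trans (h.trans (Category.id_comp _))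

/-- sections of `f⁻¹ G` over `W'` are sections of `G` over `W' → X' → X` -/
noncomputable def rr (G : EtCoh.Ab X) (W' : X'.Etale) :
    ((EtCoh.pull f).obj G).obj.obj (op W') ≅ G.obj.obj (op ((EtShriek.compEtale f).obj W')) :=
  (secF W').mapIso ((EtRestr.pullIsoRestr f).app G)

lemma rr_hom_nat (G : EtCoh.Ab X) {W₁ W₂ : X'.Etale} (g : W₁ ⟶ W₂)
    (y : ((EtCoh.pull f).obj G).obj.obj (op W₂)) :
    (rr f G W₁).hom.hom ((((EtCoh.pull f).obj G).obj.map g.op).hom y) =
      (G.obj.map ((EtShriek.compEtale f).map g).op).hom ((rr f G W₂).hom.hom y) :=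
  congrArg (fun k => k.hom y) (((EtRestr.pullIsoRestr f).hom.app G).hom.naturality g.op)

lemma rr_inv_nat (G : EtCoh.Ab X) {W₁ W₂ : X'.Etale} (g : W₁ ⟶ W₂)
    (z : G.obj.obj (op ((EtShriek.compEtale f).obj W₂))) :
    (rr f G W₁).inv.hom ((G.obj.map ((EtShriek.compEtale f).map g).op).hom z) =
      (((EtCoh.pull f).obj G).obj.map g.op).hom ((rr f G W₂).inv.hom z) :=
  congrArg (fun k => k.hom z) (((EtRestr.pullIsoRestr f).inv.app G).hom.naturality g.op)

lemma rr_hom_inv (G : EtCoh.Ab X) (W' : X'.Etale) (z : G.obj.obj (op ((EtShriek.compEtale f).obj W'))) :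
    (rr f G W').hom.hom ((rr f G W').inv.hom z) = z :=
  congrArg (fun k => k.hom z) (rr f G W').inv_hom_id

lemma rr_inv_hom (G : EtCoh.Ab X) (W' : X'.Etale) (y : ((EtCoh.pull f).obj G).obj.obj (op W')) :
    (rr f G W').inv.hom ((rr f G W').hom.hom y) = y :=
  congrArg (fun k => k.hom y) (rr f G W').hom_inv_id

/-- restriction to `X'` followed by the identification with sections of `f⁻¹ G` -/
noncomputable def ρ : secF (EtCoh.top X) ⟶ EtCoh.pull f ⋙ secF (EtCoh.top X') where
  app G := G.obj.map (t f).op ≫ (rr f G (EtCoh.top X')).inv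
  naturality G G' φ := by
    have h1 : φ.hom.app (op (EtCoh.top X)) ≫ G'.obj.map (t f).op =
        G.obj.map (t f).op ≫ φ.hom.app (op (Xo f)) := (φ.hom.naturality (t f).op).symm
    have h2 : (EtShriek.restrAlong f).map φ ≫ (EtRestr.pullIsoRestr f).inv.app G' =
        (EtRestr.pullIsoRestr f).inv.app G ≫ (EtCoh.pull f).map φ :=
      (EtRestr.pullIsoRestr f).inv.naturality φ
    have h3 : φ.hom.app (op (Xo f)) ≫ (rr f G' (EtCoh.top X')).inv =
        (rr f G (EtCoh.top X')).inv ≫ ((EtCoh.pull f).map φ).hom.app (op (EtCoh.top X')) :=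
      congrArg (fun k => k.hom.app (op (EtCoh.top X'))) h2
    change φ.hom.app (op (EtCoh.top X)) ≫ G'.obj.map (t f).op ≫ (rr f G' (EtCoh.top X')).inv =
      (G.obj.map (t f).op ≫ (rr f G (EtCoh.top X')).inv) ≫
        ((EtCoh.pull f).map φ).hom.app (op (EtCoh.top X'))
    rw [← Category.assoc, h1, Category.assoc, h3, Category.assoc]

end Exc

section LeftExact

variable {U X : Scheme.{u}} (j : U ⟶ X) [IsOpenImmersion j]

lemma γ_nat {G G' : EtCoh.Ab X} (φ : G ⟶ G') (x : (EtDual.gammaSupp j).obj G) :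
    ((γ j).app G').hom (((EtDual.gammaSupp j).map φ).hom x) =
      (φ.hom.app (op (EtCoh.top X))).hom (((γ j).app G).hom x) :=
  congrArg (fun k => k.hom x) ((γ j).naturality φ)

instance preservesFiniteLimits_gammaSupp : PreservesFiniteLimits (EtDual.gammaSupp j) := by
  apply ((EtDual.gammaSupp j).preservesFiniteLimits_tfae.out 0 3).1
  intro S hS
  have h30 := (secF (EtCoh.top X)).preservesFiniteLimits_tfae.out 3 0
  have hsec := h30.1 (by infer_instance : PreservesFiniteLimits (secF (EtCoh.top X))) S hS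
  have := hS.mono_f
  have hinj1 : Function.Injective (S.f.hom.app (op (EtCoh.top X))).hom :=
    sections_injective_of_mono S.f _
  have hinj2 : Function.Injective (S.f.hom.app (op (Uo j))).hom :=
    sections_injective_of_mono S.f _
  constructor
  · rw [ShortComplex.ab_exact_iff]
    intro y hy
    have h1 : (S.g.hom.app (op (EtCoh.top X))).hom (((γ j).app S.X₂).hom y) = 0 := by
      rw [← γ_nat]
      exact (congrArg ((γ j).app S.X₃).hom hy).trans (map_zero _)
    obtain ⟨a, ha⟩ := (ShortComplex.ab_exact_iff _).1 hsec.1 (((γ j).app S.X₂).hom y) h1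
    have ha' : (S.f.hom.app (op (EtCoh.top X))).hom a = ((γ j).app S.X₂).hom y := ha
    have ha0 : (S.X₁.obj.map (tU j).op).hom a = 0 := by
      apply hinj2
      have hn := congrArg (fun k => k.hom a) (S.f.hom.naturality (tU j).op)
      refine hn.trans ?_
      change (S.X₂.obj.map (tU j).op).hom ((S.f.hom.app (op (EtCoh.top X))).hom a) = _
      rw [ha', γ_res, map_zero]
    obtain ⟨x, hx⟩ := exists_γ j S.X₁ a ha0
    refine ⟨x, γ_injective j S.X₂ ?_⟩
    refine (γ_nat j S.f x).trans ?_
    rw [hx, ha']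
  · rw [AddCommGrpCat.mono_iff_injective, injective_iff_map_eq_zero]
    intro x hx
    apply γ_injective j S.X₁
    apply hinj1
    rw [map_zero, map_zero, ← γ_nat]
    exact (congrArg ((γ j).app S.X₂).hom hx).trans (map_zero _)

end LeftExact

section Main

variable {X X' U U' : Scheme.{u}} (f : X' ⟶ X) [Etale f] (j : U ⟶ X) [IsOpenImmersion j]
  (j' : U' ⟶ X') [IsOpenImmersion j']
  (hU' : Set.range j'.base = f.base ⁻¹' Set.range j.base)
  (hZ : Set.BijOn f.base (Set.range j'.base)ᶜ (Set.range j.base)ᶜ)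
  (hκ : ∀ x' : ↥X', x' ∉ Set.range j'.base → Function.Surjective (f.residueFieldMap x'))

/-- `U' → X' → X` mapping to `X' → X` -/
noncomputable abbrev g' : (EtShriek.compEtale f).obj (Uo j') ⟶ Xo f :=
  (EtShriek.compEtale f).map (tU j')

lemma g'_left : (g' f j').left = j' := tU_left j'

/-- the closed complement as a subset of `(top X).left` -/
abbrev Zc : Set ↥(EtCoh.top X).left := (Set.range j.base)ᶜ

lemma range_tU : (Set.range (tU j).left.base)ᶜ = Zc j :=
  congrArg (fun k : U ⟶ X => (Set.range k.base)ᶜ) (tU_left j)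

include hU' in
lemma range_g' : (Set.range (g' f j').left.base)ᶜ = (t f).left.base ⁻¹' Zc j := by
  have e1 : (Set.range (g' f j').left.base)ᶜ = (Set.range j'.base)ᶜ :=
    congrArg (fun k : U' ⟶ X' => (Set.range k.base)ᶜ) (g'_left f j')
  have e2 : (t f).left.base ⁻¹' Zc j = f.base ⁻¹' Zc j :=
    congrArg (fun k : X' ⟶ X => k.base ⁻¹' Zc j) (t_left f)
  rw [e1, e2]
  ext x
  exact not_congr (Set.ext_iff.1 hU' x)

include hU' hZ hκ in
lemma bijOn_t (G : EtCoh.Ab X) :
    Set.BijOn (G.obj.map (t f).op) {s | EtShriek.sectSupp G (EtCoh.top X) s ⊆ Zc j}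
      {s' | EtShriek.sectSupp G (Xo f) s' ⊆ (t f).left.base ⁻¹' Zc j} := by
  have key : ∀ k : X' ⟶ X, k = f → Set.BijOn k.base (k.base ⁻¹' Zc j) (Zc j) ∧
      ∀ x ∈ k.base ⁻¹' Zc j, Function.Bijective (k.residueFieldMap x) := by
    rintro k rfl
    have e : k.base ⁻¹' Zc j = (Set.range j'.base)ᶜ := by
      ext x
      exact not_congr (Set.ext_iff.1 hU' x).symm
    refine ⟨by rw [e]; exact hZ, fun x hx => ⟨(k.residueFieldMap x).hom.injective, hκ x ?_⟩⟩
    rw [e] at hx
    exact hx
  obtain ⟨h1, h2⟩ := key (t f).left (t_left f)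
  exact Groth.Agent.Lib.Helper70.Excision.bijOn_restrict G (t f) (Zc j)
    j.isOpenEmbedding.isOpen_range.isClosed_compl h1 h2

lemma res_zero_iff (G : EtCoh.Ab X) (s : G.obj.obj (op (EtCoh.top X))) :
    (G.obj.map (tU j).op).hom s = 0 ↔ EtShriek.sectSupp G (EtCoh.top X) s ⊆ Zc j := by
  rw [← range_tU]
  exact map_eq_zero_iff G (tU j) s

include hU' in
lemma res_zero_iff' (G : EtCoh.Ab X) (s : G.obj.obj (op (Xo f))) :
    (G.obj.map (g' f j').op).hom s = 0 ↔
      EtShriek.sectSupp G (Xo f) s ⊆ (t f).left.base ⁻¹' Zc j := by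
  rw [← range_g' f j j' hU']
  exact map_eq_zero_iff G (g' f j') s

include hU' hZ hκ in
theorem nonempty_gammaSupp_iso :
    Nonempty (EtDual.gammaSupp j ≅ EtCoh.pull f ⋙ EtDual.gammaSupp j') := by
  refine NatIsoEmb.nonempty_natIso (γ j) (Functor.whiskerLeft (EtCoh.pull f) (γ j')) (ρ f)
    (fun G => γ_injective j' _) ?_ ?_ ?_
  · intro G x
    have hs := (res_zero_iff j G _).1 (γ_res j G x)
    have hs' := (bijOn_t f j j' hU' hZ hκ G).mapsTo hs
    have h0 := (res_zero_iff' f j j' hU' G _).2 hs'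
    refine exists_γ j' ((EtCoh.pull f).obj G) _ ?_
    change (((EtCoh.pull f).obj G).obj.map (tU j').op).hom
      ((rr f G (EtCoh.top X')).inv.hom ((G.obj.map (t f).op).hom (((γ j).app G).hom x))) = 0
    rw [← rr_inv_nat]
    exact (congrArg (rr f G (Uo j')).inv.hom h0).trans (map_zero _)
  · intro G y
    set s'' := ((γ j').app ((EtCoh.pull f).obj G)).hom y with hs''
    have h0 : (G.obj.map (g' f j').op).hom ((rr f G (EtCoh.top X')).hom.hom s'') = 0 := by
      rw [← rr_hom_nat]
      exact (congrArg (rr f G (Uo j')).hom.hom (γ_res j' _ y)).trans (map_zero _)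
    have hz := (res_zero_iff' f j j' hU' G _).1 h0
    obtain ⟨s, hs, hsz⟩ := (bijOn_t f j j' hU' hZ hκ G).surjOn hz
    obtain ⟨x, hx⟩ := exists_γ j G s ((res_zero_iff j G s).2 hs)
    refine ⟨x, ?_⟩
    change s'' = (rr f G (EtCoh.top X')).inv.hom ((G.obj.map (t f).op).hom (((γ j).app G).hom x))
    rw [hx]
    have hsz' : (G.obj.map (t f).op).hom s = (rr f G (EtCoh.top X')).hom.hom s'' := hsz
    rw [hsz', rr_inv_hom]
  · intro G x hx
    have hx' : (rr f G (EtCoh.top X')).inv.hom
        ((G.obj.map (t f).op).hom (((γ j).app G).hom x)) = 0 := hx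
    have h1 : (G.obj.map (t f).op).hom (((γ j).app G).hom x) = 0 := by
      have := congrArg (rr f G (EtCoh.top X')).hom.hom hx'
      rw [rr_hom_inv, map_zero] at this
      exact this
    have hs := (res_zero_iff j G _).1 (γ_res j G x)
    have h0 : EtShriek.sectSupp G (EtCoh.top X) (0 : G.obj.obj (op (EtCoh.top X))) ⊆ Zc j :=
      (res_zero_iff j G 0).1 (map_zero _)
    have := (bijOn_t f j j' hU' hZ hκ G).injOn hs h0 (h1.trans (map_zero _).symm)
    exact γ_injective j G (this.trans (map_zero _).symm)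

instance pull_additive : (EtCoh.pull f).Additive := (EtCoh.pullPushAdj f).left_adjoint_additive

instance pull_preservesFiniteLimits : PreservesFiniteLimits (EtCoh.pull f) := by
  have : PreservesFiniteLimits (EtShriek.restrAlong f) := by
    have : PreservesLimitsOfSize.{0, 0} (EtShriek.restrAlong f) :=
      (EtShriek.extZeroAdj f).rightAdjoint_preservesLimits
    infer_instance
  exact preservesFiniteLimits_of_natIso (EtRestr.pullIsoRestr f).symm

instance pull_preservesFiniteColimits : PreservesFiniteColimits (EtCoh.pull f) := by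
  have : PreservesColimitsOfSize.{0, 0} (EtCoh.pull f) :=
    (EtCoh.pullPushAdj f).leftAdjoint_preservesColimits
  infer_instance

include hU' hZ hκ in
/-- etale excision -/
theorem nonempty_HY_iso (F : EtCoh.Ab X) (r : ℕ) :
    Nonempty ((EtDual.HY j r).obj F ≅ (EtDual.HY j' r).obj ((EtCoh.pull f).obj F)) := by
  obtain ⟨e⟩ := nonempty_gammaSupp_iso f j j' hU' hZ hκ
  have e1 : (EtDual.gammaSupp j).rightDerived r ≅
      (EtCoh.pull f ⋙ EtDual.gammaSupp j').rightDerived r := RDerComp.rightDerivedIso e r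
  obtain ⟨e2⟩ := RDerComp.nonempty_rightDerived_comp_iso (EtCoh.pull f) (EtDual.gammaSupp j')
    (fun n I hI => by
      have : Injective ((EtCoh.pull f).obj I) := EtRestr.injective_pull f I
      exact Functor.isZero_rightDerived_obj_injective_succ _ _ _) r
  exact ⟨(e1 ≪≫ e2).app F⟩

end Main

end Groth.Agent.Lib.Cohomology.EtExc
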