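import Groth.Agent.Lib.Cohomology.Helper3_EtDepthMono
import Groth.Agent.Lib.Cohomology.Helper3_EtExc
import Groth.Agent.Lib.Helper34.EtOpenUnit
import Groth.Agent.Lib.Helper34.EtOpenZero

/-!
# Étale localisation of sections with supports and local cohomology sheaves (helper3)

For an open immersion `j : U → X` and an étale `g : W → X`, with `j_W : U ×_X W → W`:

* `unit_apply_eq_zero_iff'` : a section `s ∈ F(V)` is killed by `F → j_* j^* F` iff it restricts to
  zero on every `T → V` whose image in `X` lies in `U`;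
* `secSuppRestrIso` : `Γ_Y(F)|_W ≅ Γ_{Y_W}(F|_W)` naturally;
* `nonempty_locCoh_restr_iso` : `H^p_Y(F)|_W ≅ H^p_{Y_W}(F|_W)` naturally;
* `isZero_of_locally` : a sheaf is zero if it is so étale locally.
-/

set_option autoImplicit false
universe u
open CategoryTheory CategoryTheory.Limits AlgebraicGeometry Opposite

namespace Groth.Agent.Lib.Cohomology.EtDepthLoc

open Groth.Agent.Lib.Helper34 Groth.Agent.Lib.Helper47
open Groth.Agent.Lib.Cohomology.EtExc Groth.Agent.Lib.Cohomology

section Unit

variable {U X : Scheme.{u}} (j : U ⟶ X) [IsOpenImmersion j]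

lemma sheafIso_app_injective {A B : EtCoh.Ab X} (ψ : A ≅ B) (V : X.Etale) :
    Function.Injective (ψ.hom.hom.app (op V)).hom :=
  (ConcreteCategory.bijective_of_isIso ((secF V).mapIso ψ).hom).1

/-- the unit kills `s` iff the restriction to `V ×_X U` kills `s` -/
lemma unit_apply_eq_zero_iff (F : EtCoh.Ab X) (V : X.Etale) (s : F.obj.obj (op V)) :
    ((EtDual.unitApp j F).hom.app (op V)).hom s = 0 ↔
      (F.obj.map ((EtRestr.compBcAdj j).counit.app V).op).hom s = 0 := by
  have h := Adjunction.unit_leftAdjointUniq_hom_app (EtCoh.pullPushAdj j)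
    (EtRestr.restrPushAdj j) F
  have h3 := EtOpenUnit.unit_app_hom_app j F V
  let ψ : (EtCoh.push j).obj ((EtCoh.pull j).obj F) ≅
      (EtCoh.push j).obj ((EtShriek.restrAlong j).obj F) :=
    (EtCoh.push j).mapIso ((EtRestr.pullIsoRestr j).app F)
  have hinj := sheafIso_app_injective ψ V
  have h1 : (ψ.hom.hom.app (op V)).hom (((EtDual.unitApp j F).hom.app (op V)).hom s) =
      (F.obj.map ((EtRestr.compBcAdj j).counit.app V).op).hom s := by
    rw [← h3]
    exact congrArg (fun k => (k.hom.app (op V)).hom s) h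
  constructor
  · intro h0
    rw [← h1, h0]
    exact map_zero _
  · intro h0
    apply hinj
    rw [h1, h0]
    exact (map_zero _).symm

set_option backward.isDefEq.respectTransparency.types false in
/-- test-object form: the unit kills `s` iff `s` vanishes on every `T → V` lying over `U` -/
lemma unit_apply_eq_zero_iff' (F : EtCoh.Ab X) (V : X.Etale) (s : F.obj.obj (op V)) :
    ((EtDual.unitApp j F).hom.app (op V)).hom s = 0 ↔
      ∀ (T : X.Etale) (a : T ⟶ V), Set.range T.hom.base ⊆ Set.range j.base →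
        (F.obj.map a.op).hom s = 0 := by
  rw [unit_apply_eq_zero_iff]
  constructor
  · intro h0 T a hT
    haveI : Etale T.hom := T.prop
    let l : T.left ⟶ U := IsOpenImmersion.lift j T.hom hT
    have hl : l ≫ j = T.hom := IsOpenImmersion.lift_fac _ _ _
    have hle : Etale l := by
      have h1 : EtCoh.etaleMP (l ≫ j) := by rw [hl]; exact T.prop
      exact EtCoh.etaleMP.of_postcomp (W' := EtCoh.etaleMP) l j inferInstance h1
    let T' : U.Etale := MorphismProperty.Over.mk ⊤ l hle
    let e' : (EtShriek.compEtale j).obj T' ≅ T :=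
      MorphismProperty.Over.isoMk (Iso.refl _) ((Category.id_comp _).trans hl.symm)
    let a' : (EtShriek.compEtale j).obj T' ⟶ V := e'.hom ≫ a
    let b : T' ⟶ (EtCoh.bc j).obj V := (EtRestr.compBcAdj j).homEquiv T' V a'
    have hb : a' = (EtShriek.compEtale j).map b ≫ (EtRestr.compBcAdj j).counit.app V := by
      have h1 := (EtRestr.compBcAdj j).homEquiv_counit (X := T') (Y := V) (g := b)
      exact ((((EtRestr.compBcAdj j).homEquiv T' V).symm_apply_apply a').symm).trans h1
    have ha : a = e'.inv ≫ (EtShriek.compEtale j).map b ≫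
        (EtRestr.compBcAdj j).counit.app V := by
      rw [← hb, Iso.inv_hom_id_assoc]
    rw [ha, op_comp, op_comp, F.obj.map_comp, F.obj.map_comp]
    change (F.obj.map e'.inv.op).hom ((F.obj.map ((EtShriek.compEtale j).map b).op).hom
      ((F.obj.map ((EtRestr.compBcAdj j).counit.app V).op).hom s)) = 0
    rw [h0, map_zero, map_zero]
  · intro h
    apply h
    rintro _ ⟨x, rfl⟩
    exact ⟨((EtCoh.bc j).obj V).hom.base x, rfl⟩

/-- sections of `Γ_Y F` vanish on objects lying over `U` -/
lemma ι_apply_eq_zero (F : EtCoh.Ab X) (V : X.Etale)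
    (hV : Set.range V.hom.base ⊆ Set.range j.base)
    (t : ((EtDual.secSupp j).obj F).obj.obj (op V)) :
    ((kernel.ι (EtDual.unitApp j F)).hom.app (op V)).hom t = 0 := by
  have h : kernel.ι (EtDual.unitApp j F) ≫ EtDual.unitApp j F = 0 := kernel.condition _
  have h1 : ((EtDual.unitApp j F).hom.app (op V)).hom
      (((kernel.ι (EtDual.unitApp j F)).hom.app (op V)).hom t) = 0 :=
    congrArg (fun k => (k.hom.app (op V)).hom t) h
  have h2 := (unit_apply_eq_zero_iff' j F V _).1 h1 V (𝟙 V) hV
  rw [op_id, F.obj.map_id] at h2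
  exact h2

lemma sheafHom_eq_zero {A B : EtCoh.Ab X} (φ : A ⟶ B)
    (h : ∀ (V : X.Etale) (s : A.obj.obj (op V)), (φ.hom.app (op V)).hom s = 0) : φ = 0 := by
  apply Sheaf.hom_ext
  ext V s
  exact h V.unop s

end Unit

section Restr

variable {U X W : Scheme.{u}} (j : U ⟶ X) [IsOpenImmersion j] (g : W ⟶ X) [Etale g]

instance restr_preservesFiniteLimits' : PreservesFiniteLimits (EtShriek.restrAlong g) :=
  have : PreservesLimitsOfSize.{0, 0} (EtShriek.restrAlong g) :=
    (EtShriek.extZeroAdj g).rightAdjoint_preservesLimits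
  PreservesLimitsOfSize.preservesFiniteLimits _

instance restr_preservesFiniteColimits' : PreservesFiniteColimits (EtShriek.restrAlong g) :=
  have : PreservesColimitsOfSize.{0, 0} (EtShriek.restrAlong g) :=
    (EtRestr.restrPushAdj g).leftAdjoint_preservesColimits
  PreservesColimitsOfSize.preservesFiniteColimits _

instance restr_additive' : (EtShriek.restrAlong g).Additive :=
  Functor.additive_of_preserves_binary_products _

lemma range_comp_subset_of_range_subset_snd (T : W.Etale)
    (hT : Set.range T.hom.base ⊆ Set.range (pullback.snd j g).base) :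
    Set.range ((EtShriek.compEtale g).obj T).hom.base ⊆ Set.range j.base := by
  rintro _ ⟨x, rfl⟩
  obtain ⟨p, hp⟩ := hT ⟨x, rfl⟩
  refine ⟨(pullback.fst j g).base p, ?_⟩
  change (pullback.fst j g ≫ j).base p = (T.hom ≫ g).base x
  rw [pullback.condition, Scheme.Hom.comp_apply, Scheme.Hom.comp_apply, hp]

/-- (1): sections of `(Γ_Y F)|_W` are killed by the unit of `j_W` -/
lemma restr_ι_comp_unit (F : EtCoh.Ab X) :
    (EtShriek.restrAlong g).map (kernel.ι (EtDual.unitApp j F)) ≫
      EtDual.unitApp (pullback.snd j g) ((EtShriek.restrAlong g).obj F) = 0 := by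
  apply sheafHom_eq_zero
  intro T s
  change ((EtDual.unitApp (pullback.snd j g) ((EtShriek.restrAlong g).obj F)).hom.app (op T)).hom
    ((((EtShriek.restrAlong g).map (kernel.ι (EtDual.unitApp j F))).hom.app (op T)).hom s) = 0
  rw [unit_apply_eq_zero_iff']
  intro T'' a hT''
  have hnat := (kernel.ι (EtDual.unitApp j F)).hom.naturality ((EtShriek.compEtale g).map a).op
  have h1 := congrArg (fun k => k.hom s) hnat
  refine h1.symm.trans ?_
  exact ι_apply_eq_zero j F _ (range_comp_subset_of_range_subset_snd j g T'' hT'') _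

set_option backward.isDefEq.respectTransparency.types false in
/-- (2): sections of `Γ_{Y_W}(F|_W)` are killed by the restriction of the unit of `j` -/
lemma ι_comp_restr_unit (F : EtCoh.Ab X) :
    kernel.ι (EtDual.unitApp (pullback.snd j g) ((EtShriek.restrAlong g).obj F)) ≫
      (EtShriek.restrAlong g).map (EtDual.unitApp j F) = 0 := by
  apply sheafHom_eq_zero
  intro T s
  change ((EtDual.unitApp j F).hom.app (op ((EtShriek.compEtale g).obj T))).hom
    (((kernel.ι (EtDual.unitApp (pullback.snd j g)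
      ((EtShriek.restrAlong g).obj F))).hom.app (op T)).hom s) = 0
  rw [unit_apply_eq_zero_iff']
  intro T₀ a hT₀
  have e1 : a.left ≫ T.hom ≫ g = T₀.hom := MorphismProperty.Over.w a
  have hW : EtCoh.etaleMP ((a.left ≫ T.hom) ≫ g) := by
    rw [Category.assoc, e1]; exact T₀.prop
  let T₀' : W.Etale := MorphismProperty.Over.mk ⊤ (a.left ≫ T.hom)
    (EtCoh.etaleMP.of_postcomp (W' := EtCoh.etaleMP) (a.left ≫ T.hom) g inferInstance hW)
  let a' : T₀' ⟶ T := MorphismProperty.Over.homMk a.left rfl
  let e : (EtShriek.compEtale g).obj T₀' ≅ T₀ := MorphismProperty.Over.isoMk (Iso.refl _)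
    ((Category.id_comp T₀.hom).trans (e1.symm.trans (Category.assoc _ _ _).symm))
  have k1 : a = e.inv ≫ (EtShriek.compEtale g).map a' := by
    apply MorphismProperty.Over.Hom.ext
    exact (Category.id_comp a.left).symm
  have hrange : Set.range T₀'.hom.base ⊆ Set.range (pullback.snd j g).base := by
    rintro _ ⟨x, rfl⟩
    obtain ⟨u, hu⟩ := hT₀ ⟨x, rfl⟩
    have hgw : g.base ((a.left ≫ T.hom).base x) = T₀.hom.base x := by
      rw [← Scheme.Hom.comp_apply, Category.assoc, e1]
    obtain ⟨p, -, hp2⟩ := Scheme.Pullback.exists_preimage_pullback (f := j) (g := g) u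
      ((a.left ≫ T.hom).base x) (hu.trans hgw.symm)
    exact ⟨p, hp2⟩
  have h0 : ((EtDual.unitApp (pullback.snd j g) ((EtShriek.restrAlong g).obj F)).hom.app
      (op T)).hom (((kernel.ι (EtDual.unitApp (pullback.snd j g)
        ((EtShriek.restrAlong g).obj F))).hom.app (op T)).hom s) = 0 := by
    have hc : kernel.ι (EtDual.unitApp (pullback.snd j g) ((EtShriek.restrAlong g).obj F)) ≫
      EtDual.unitApp (pullback.snd j g) ((EtShriek.restrAlong g).obj F) = 0 := kernel.condition _
    exact congrArg (fun k => (k.hom.app (op T)).hom s) hc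
  have h2 := (unit_apply_eq_zero_iff' (pullback.snd j g) ((EtShriek.restrAlong g).obj F) T _).1
    h0 T₀' a' hrange
  rw [k1, op_comp, F.obj.map_comp]
  exact (congrArg (F.obj.map e.inv.op).hom h2).trans (map_zero _)

/-- the comparison map `(Γ_Y F)|_W → Γ_{Y_W}(F|_W)` -/
noncomputable def secSuppRestrHom (F : EtCoh.Ab X) :
    (EtShriek.restrAlong g).obj ((EtDual.secSupp j).obj F) ⟶
      (EtDual.secSupp (pullback.snd j g)).obj ((EtShriek.restrAlong g).obj F) :=
  kernel.lift _ ((EtShriek.restrAlong g).map (kernel.ι (EtDual.unitApp j F)))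
    (restr_ι_comp_unit j g F)

lemma secSuppRestrHom_ι (F : EtCoh.Ab X) :
    secSuppRestrHom j g F ≫
        kernel.ι (EtDual.unitApp (pullback.snd j g) ((EtShriek.restrAlong g).obj F)) =
      (EtShriek.restrAlong g).map (kernel.ι (EtDual.unitApp j F)) :=
  kernel.lift_ι _ _ _

instance isIso_secSuppRestrHom (F : EtCoh.Ab X) : IsIso (secSuppRestrHom j g F) := by
  haveI : Mono ((EtShriek.restrAlong g).map (kernel.ι (EtDual.unitApp j F))) := inferInstance
  haveI : Mono (secSuppRestrHom j g F) := mono_of_mono_fac (secSuppRestrHom_ι j g F)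
  let v : (EtDual.secSupp (pullback.snd j g)).obj ((EtShriek.restrAlong g).obj F) ⟶
      (EtShriek.restrAlong g).obj ((EtDual.secSupp j).obj F) :=
    kernel.lift ((EtShriek.restrAlong g).map (EtDual.unitApp j F))
      (kernel.ι (EtDual.unitApp (pullback.snd j g) ((EtShriek.restrAlong g).obj F)))
      (ι_comp_restr_unit j g F) ≫
    (PreservesKernel.iso (EtShriek.restrAlong g) (EtDual.unitApp j F)).inv
  have h1 : (PreservesKernel.iso (EtShriek.restrAlong g) (EtDual.unitApp j F)).inv ≫
      (EtShriek.restrAlong g).map (kernel.ι (EtDual.unitApp j F)) =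
      kernel.ι ((EtShriek.restrAlong g).map (EtDual.unitApp j F)) := by
    rw [Iso.inv_comp_eq, PreservesKernel.iso_hom, kernelComparison_comp_ι]
  have hv : v ≫ secSuppRestrHom j g F = 𝟙 _ := by
    rw [← cancel_mono (kernel.ι (EtDual.unitApp (pullback.snd j g)
      ((EtShriek.restrAlong g).obj F))), Category.assoc, secSuppRestrHom_ι, Category.id_comp,
      Category.assoc, h1, kernel.lift_ι]
  haveI : IsSplitEpi (secSuppRestrHom j g F) := IsSplitEpi.mk' ⟨v, hv⟩
  exact isIso_of_mono_of_isSplitEpi _

/-- `Γ_Y(−)|_W ≅ Γ_{Y_W}(−|_W)` -/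
noncomputable def secSuppRestrIso :
    EtDual.secSupp j ⋙ EtShriek.restrAlong g ≅
      EtShriek.restrAlong g ⋙ EtDual.secSupp (pullback.snd j g) :=
  NatIso.ofComponents (fun F => asIso (secSuppRestrHom j g F)) (by
    intro F G φ
    change (EtShriek.restrAlong g).map ((EtDual.secSupp j).map φ) ≫ secSuppRestrHom j g G =
      secSuppRestrHom j g F ≫
        (EtDual.secSupp (pullback.snd j g)).map ((EtShriek.restrAlong g).map φ)
    rw [← cancel_mono (kernel.ι (EtDual.unitApp (pullback.snd j g)
      ((EtShriek.restrAlong g).obj G))), Category.assoc, Category.assoc, secSuppRestrHom_ι,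
      EtDepthMono.secSupp_map_ι, ← Category.assoc, secSuppRestrHom_ι, ← Functor.map_comp,
      ← Functor.map_comp, EtDepthMono.secSupp_map_ι])

/-- `H^p_Y(−)|_W ≅ H^p_{Y_W}(−|_W)` -/
theorem nonempty_locCoh_restr_iso (p : ℕ) :
    Nonempty (EtDual.locCoh j p ⋙ EtShriek.restrAlong g ≅
      EtShriek.restrAlong g ⋙ EtDual.locCoh (pullback.snd j g) p) := by
  have hacyc : ∀ (n : ℕ) (I : EtCoh.Ab X), Injective I →
      IsZero (((EtDual.secSupp (pullback.snd j g)).rightDerived (n + 1)).obj
        ((EtShriek.restrAlong g).obj I)) := by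
    intro n I hI
    haveI := EtRestr.injective_restrAlong g I
    exact Functor.isZero_rightDerived_obj_injective_succ _ n _
  obtain ⟨e1⟩ := RDerComp.nonempty_rightDerived_comp_iso (F := EtShriek.restrAlong g)
    (G := EtDual.secSupp (pullback.snd j g)) hacyc p
  obtain ⟨e2⟩ := RDerComp.nonempty_rightDerived_post_iso (G := EtDual.secSupp j)
    (E := EtShriek.restrAlong g) p
  exact ⟨e2.symm ≪≫ RDerComp.rightDerivedIso (secSuppRestrIso j g) p ≪≫ e1⟩

end Restr

section Local

variable {X : Scheme.{u}}

set_option backward.isDefEq.respectTransparency.types false in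
/-- a sheaf is zero if it is so étale locally -/
theorem isZero_of_locally (G : EtCoh.Ab X)
    (h : ∀ x : X, ∃ (W : Scheme.{u}) (g : W ⟶ X) (_ : Etale g),
      x ∈ Set.range g.base ∧ IsZero ((EtShriek.restrAlong g).obj G)) : IsZero G := by
  rw [EtOpenZero.isZero_sheaf_iff]
  intro V
  have key : ∀ s : G.obj.obj (op V), s = 0 := by
    intro s
    apply Groth.Agent.Lib.Helper70.Supp.eq_zero_of_sectSupp_eq_empty G V s
    rw [Set.eq_empty_iff_forall_notMem]
    intro v hv
    obtain ⟨W, g, hg, ⟨w, hw⟩, hz⟩ := h (V.hom.base v)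
    obtain ⟨p, hp1, hp2⟩ := Scheme.Pullback.exists_preimage_pullback (f := V.hom) (g := g) v w
      hw.symm
    let T : X.Etale := (EtShriek.compEtale g).obj ((EtCoh.bc g).obj V)
    let a : T ⟶ V := (EtRestr.compBcAdj g).counit.app V
    have ha : a.left = pullback.fst V.hom g := rfl
    have hz' : (G.obj.map a.op).hom s = 0 := by
      have hz2 : IsZero (((EtShriek.restrAlong g).obj G).obj.obj (op ((EtCoh.bc g).obj V))) :=
        (EtOpenZero.isZero_sheaf_iff _).1 hz _
      haveI := AddCommGrpCat.subsingleton_of_isZero hz2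
      exact Subsingleton.elim
        (α := ((EtShriek.restrAlong g).obj G).obj.obj (op ((EtCoh.bc g).obj V))) _ _
    exact hv T a ⟨p, by rw [ha]; exact hp1⟩ hz'
  haveI : Subsingleton (G.obj.obj (op V)) := ⟨fun s t => by rw [key s, key t]⟩
  exact AddCommGrpCat.isZero_of_subsingleton _

end Local

end Groth.Agent.Lib.Cohomology.EtDepthLoc
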