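import Mathlib.Algebra.Homology.DerivedCategory.Ext.ExactSequences

/-!
# Vanishing of `Ext^p(X₃, Y)` in low degrees in terms of `Ext^p(X₂, Y) → Ext^p(X₁, Y)` (helper3)

For a short exact sequence `0 → X₁ → X₂ → X₃ → 0`: `Ext^p(X₃, Y) = 0` for all `p < n` iff
`Ext^p(X₂, Y) → Ext^p(X₁, Y)` is bijective for `p + 1 < n` and injective for `p + 1 = n`.
-/

set_option autoImplicit false
universe w v u
open CategoryTheory Abelian

namespace Groth.Agent.Lib.Cohomology.ExtPair

variable {C : Type u} [Category.{v} C] [Abelian C] [HasExt.{w} C]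
variable {S : ShortComplex C} (hS : S.ShortExact) (Y : C)

/-- the restriction map `Ext^p(X₂, Y) → Ext^p(X₁, Y)` -/
noncomputable def res (p : ℕ) : Ext.{w} S.X₂ Y p →+ Ext.{w} S.X₁ Y p :=
  (Ext.mk₀ S.f).precomp Y (zero_add p)

lemma res_apply (p : ℕ) (x : Ext.{w} S.X₂ Y p) :
    res (S := S) Y p x = (Ext.mk₀ S.f).comp x (zero_add p) := rfl

include hS in
lemma res_injective_of_vanish (p : ℕ) (h : ∀ x : Ext.{w} S.X₃ Y p, x = 0) :
    Function.Injective (res (S := S) Y p) := by
  rw [injective_iff_map_eq_zero]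
  intro x₂ hx₂
  obtain ⟨x₃, rfl⟩ := Ext.contravariant_sequence_exact₂ hS Y x₂ hx₂
  rw [h x₃, Ext.comp_zero]

include hS in
lemma res_surjective_of_vanish (p : ℕ) (h : ∀ x : Ext.{w} S.X₃ Y (1 + p), x = 0) :
    Function.Surjective (res (S := S) Y p) := by
  intro x₁
  obtain ⟨x₂, hx₂⟩ := Ext.contravariant_sequence_exact₁ hS Y x₁ rfl (h _)
  exact ⟨x₂, hx₂⟩

include hS in
theorem vanish_iff (n : ℕ) :
    (∀ p, p < n → ∀ x : Ext.{w} S.X₃ Y p, x = 0) ↔
      (∀ p, p + 1 < n → Function.Bijective (res (S := S) Y p)) ∧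
      (∀ p, p + 1 = n → Function.Injective (res (S := S) Y p)) := by
  constructor
  · intro h
    refine ⟨fun p hp => ⟨res_injective_of_vanish hS Y p (h p (by omega)),
      res_surjective_of_vanish hS Y p (h (1 + p) (by omega))⟩,
      fun p hp => res_injective_of_vanish hS Y p (h p (by omega))⟩
  · rintro ⟨hb, hi⟩ p hp x₃
    have hinj : Function.Injective (res (S := S) Y p) := by
      rcases Nat.lt_or_ge (p + 1) n with h1 | h1
      · exact (hb p h1).1
      · exact hi p (by omega)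
    have h2 : (Ext.mk₀ S.g).comp x₃ (zero_add p) = 0 := by
      apply hinj
      rw [map_zero, res_apply, Ext.mk₀_comp_mk₀_assoc, S.zero, Ext.mk₀_zero, Ext.zero_comp]
    cases p with
    | zero =>
      haveI := hS.epi_g
      exact Ext.precomp_mk₀_injective_of_epi Y S.g (h2.trans (map_zero _).symm)
    | succ p' =>
      obtain ⟨x₁, rfl⟩ := Ext.contravariant_sequence_exact₃ hS Y x₃ h2 (n₀ := p') (by omega)
      obtain ⟨x₂, rfl⟩ := (hb p' (by omega)).2 x₁
      rw [res_apply]
      exact hS.extClass_comp_assoc x₂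

end Groth.Agent.Lib.Cohomology.ExtPair
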