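import Groth.Agent.Lib.Cohomology.Helper3_EtMV5
import Groth.Agent.Lib.Cohomology.Helper3_ExtPair
import Groth.Agent.Lib.Cohomology.Helper3_EtExc
import Groth.Agent.Lib.Helper34.ExtRD
import Groth.Agent.Lib.Cohomology.Helper3_EtDepthLoc

/-!
# Étale depth and restriction maps on cohomology (helper3)

For an open immersion `j : U → X` with `Q = coker (j_! ℤ → ℤ)`:

* `hpull_iff` : `Ext^p(Q, F) = 0` for `p < n` iff `H^p(X, F) → H^p(U, F)` is bijective for
  `p + 1 < n` and injective for `p + 1 = n`;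
* `nonempty_ext_iso_HY` : `Ext^p(Q, F) ≅ H^p_Y(X, F)` (derived functors of `EtDual.gammaSupp j`).
-/

set_option autoImplicit false
universe u
open CategoryTheory CategoryTheory.Limits AlgebraicGeometry Opposite

namespace Groth.Agent.Lib.Cohomology.EtDepthExt

open Groth.Agent.Lib.Helper34 Groth.Agent.Lib.Helper47
open Groth.Agent.Lib.Cohomology Groth.Agent.Lib.Cohomology.EtMV Groth.Agent.Lib.Cohomology.EtExc

section Pair

variable {U X : Scheme.{u}} (j : U ⟶ X) [IsOpenImmersion j]

/-- the short complex `j_! ℤ → ℤ → Q` -/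
noncomputable def pairSC : ShortComplex (EtCoh.Ab X) :=
  ShortComplex.mk (c j) (cokernel.π (c j)) (cokernel.condition _)

lemma mono_c : Mono (c j) := by
  obtain ⟨ψ, hψ⟩ := exists_lift_of_injective j (Injective.under (P j)) (Injective.ι (P j))
  have hm : Mono (c j ≫ ψ) := by
    rw [hψ]
    exact Injective.ι_mono _
  exact @mono_of_mono _ _ _ _ _ (c j) ψ hm

theorem pairSC_shortExact : (pairSC j).ShortExact :=
  { exact := ShortComplex.exact_of_g_is_cokernel _ (cokernelIsCokernel _)
    mono_f := mono_c j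
    epi_g := by
      change Epi (cokernel.π (c j))
      infer_instance }

theorem hpull_iff (F : EtCoh.Ab X) [PreservesFiniteLimits (EtCoh.pull j)] (n : ℕ) :
    (∀ p, p < n → ∀ x : Abelian.Ext.{u + 1} (cokernel (c j)) F p, x = 0) ↔
      (∀ p, p + 1 < n → Function.Bijective (EtCore.Hpull j F p)) ∧
      (∀ p, p + 1 = n → Function.Injective (EtCore.Hpull j F p)) := by
  have h0 := ExtPair.vanish_iff (pairSC_shortExact j) F n
  have key : ∀ p, (EtCore.Hpull j F p : EtCoh.H X F p → EtCoh.H U ((EtCoh.pull j).obj F) p) =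
      (legEquiv j F p) ∘ (ExtPair.res (S := pairSC j) F p) := by
    intro p
    funext x
    exact Hpull_eq j F p x
  refine h0.trans ?_
  constructor
  · rintro ⟨hb, hi⟩
    refine ⟨fun p hp => ?_, fun p hp => ?_⟩
    · rw [key]
      exact (legEquiv j F p).bijective.comp (hb p hp)
    · rw [key]
      exact (legEquiv j F p).injective.comp (hi p hp)
  · rintro ⟨hb, hi⟩
    refine ⟨fun p hp => ?_, fun p hp => ?_⟩
    · have h1 := hb p hp
      rw [key] at h1
      exact (Function.Bijective.of_comp_iff' (legEquiv j F p).bijective _).1 h1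
    · have h1 := hi p hp
      rw [key] at h1
      exact Function.Injective.of_comp h1

end Pair

section HomQ

variable {U X : Scheme.{u}} (j : U ⟶ X) [IsOpenImmersion j]

/-- `Q = coker (j_! ℤ → ℤ)` -/
noncomputable abbrev Q : EtCoh.Ab X := cokernel (c j)

lemma secX_zero (G : EtCoh.Ab X) : secX X G 0 = 0 := by
  unfold secX
  rfl

lemma secX_add (G : EtCoh.Ab X) (φ ψ : EtCoh.const X ℤ ⟶ G) :
    secX X G (φ + ψ) = secX X G φ + secX X G ψ := by
  unfold secX
  rfl

lemma secX_comp {G G' : EtCoh.Ab X} (φ : EtCoh.const X ℤ ⟶ G) (g : G ⟶ G') :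
    secX X G' (φ ≫ g) = (g.hom.app (op (EtCoh.top X))).hom (secX X G φ) := by
  unfold secX
  rfl

lemma sec_zero (G : EtCoh.Ab X) : sec j G 0 = 0 := by
  have h := sec_c_comp j G 0
  rw [comp_zero, secX_zero, map_zero] at h
  exact h

lemma res_secX_π_comp (G : EtCoh.Ab X) (φ : Q j ⟶ G) :
    (G.obj.map (tU j).op).hom (secX X G (cokernel.π (c j) ≫ φ)) = 0 := by
  rw [← sec_c_comp, ← Category.assoc, cokernel.condition, zero_comp]
  exact sec_zero j G

/-- the map `Hom(Q, G) → Γ_Y(X, G)` -/
noncomputable def eFun (G : EtCoh.Ab X) (φ : Q j ⟶ G) : (EtDual.gammaSupp j).obj G :=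
  (exists_γ j G _ (res_secX_π_comp j G φ)).choose

lemma γ_eFun (G : EtCoh.Ab X) (φ : Q j ⟶ G) :
    ((γ j).app G).hom (eFun j G φ) = secX X G (cokernel.π (c j) ≫ φ) :=
  (exists_γ j G _ (res_secX_π_comp j G φ)).choose_spec

lemma eFun_add (G : EtCoh.Ab X) (φ ψ : Q j ⟶ G) :
    eFun j G (φ + ψ) = eFun j G φ + eFun j G ψ := by
  apply γ_injective j G
  rw [map_add, γ_eFun, γ_eFun, γ_eFun, Preadditive.comp_add, secX_add]

lemma eFun_bijective (G : EtCoh.Ab X) : Function.Bijective (eFun j G) := by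
  constructor
  · intro φ ψ h
    have h1 : secX X G (cokernel.π (c j) ≫ φ) = secX X G (cokernel.π (c j) ≫ ψ) := by
      rw [← γ_eFun, ← γ_eFun, h]
    exact (cancel_epi _).1 ((secX_bijective X G).1 h1)
  · intro x
    obtain ⟨φ₀, hφ₀⟩ := (secX_bijective X G).2 (((γ j).app G).hom x)
    have h0 : c j ≫ φ₀ = 0 := by
      apply sec_injective j G
      rw [sec_c_comp, hφ₀, sec_zero]
      exact γ_res j G x
    refine ⟨cokernel.desc (c j) φ₀ h0, ?_⟩
    apply γ_injective j G
    rw [γ_eFun, cokernel.π_desc, hφ₀]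

/-- `Hom(Q, G) ≃ Γ_Y(X, G)` -/
noncomputable def e (G : EtCoh.Ab X) : (Q j ⟶ G) ≃+ (EtDual.gammaSupp j).obj G :=
  AddEquiv.ofBijective (AddMonoidHom.mk' (eFun j G) (eFun_add j G)) (eFun_bijective j G)

lemma e_nat {G G' : EtCoh.Ab X} (φ : Q j ⟶ G) (g : G ⟶ G') :
    e j G' (φ ≫ g) = ((EtDual.gammaSupp j).map g).hom (e j G φ) := by
  apply γ_injective j G'
  change ((γ j).app G').hom (eFun j G' (φ ≫ g)) =
    ((γ j).app G').hom (((EtDual.gammaSupp j).map g).hom (eFun j G φ))
  rw [γ_eFun, γ_nat, γ_eFun, ← Category.assoc, secX_comp]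

/-- `Ext^p(Q, F) ≅ H^p_Y(X, F)` -/
theorem nonempty_ext_iso_HY (F : EtCoh.Ab X) (p : ℕ) :
    Nonempty (AddCommGrpCat.of (Abelian.Ext.{u + 1} (Q j) F p) ≅ (EtDual.HY j p).obj F) :=
  ExtRD.nonempty_ext_iso_rightDerived (Q j) (EtDual.gammaSupp j) (e j)
    (fun φ g => e_nat j φ g) p F

theorem ext_vanish_iff (F : EtCoh.Ab X) (p : ℕ) :
    (∀ x : Abelian.Ext.{u + 1} (Q j) F p, x = 0) ↔ IsZero ((EtDual.HY j p).obj F) := by
  obtain ⟨i⟩ := nonempty_ext_iso_HY j F p
  rw [← i.isZero_iff]
  constructor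
  · intro h
    haveI : Subsingleton (Abelian.Ext.{u + 1} (Q j) F p) := ⟨fun a b => by rw [h a, h b]⟩
    exact AddCommGrpCat.isZero_of_subsingleton _
  · intro h x
    haveI := AddCommGrpCat.subsingleton_of_isZero h
    exact Subsingleton.elim (α := Abelian.Ext.{u + 1} (Q j) F p) _ _

end HomQ

section Compare

open Groth.Agent.Lib.Cohomology.HomCmp Groth.Agent.Lib.Helper34.EtLocCohLES

variable {U X : Scheme.{u}} (j : U ⟶ X) [IsOpenImmersion j]

/-- for `I` injective, `I(V) → (j_* j^* I)(V)` is surjective -/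
lemma surjective_unit_app (I : EtCoh.Ab X) [Injective I] (V : X.Etale) :
    Function.Surjective ((EtDual.unitApp j I).hom.app (op V)).hom := by
  have h := Adjunction.unit_leftAdjointUniq_hom_app (EtCoh.pullPushAdj j)
    (EtRestr.restrPushAdj j) I
  have h3 := EtOpenUnit.unit_app_hom_app j I V
  let ψ : (EtCoh.push j).obj ((EtCoh.pull j).obj I) ≅
      (EtCoh.push j).obj ((EtShriek.restrAlong j).obj I) :=
    (EtCoh.push j).mapIso ((EtRestr.pullIsoRestr j).app I)
  have hinj := EtDepthLoc.sheafIso_app_injective ψ V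
  have hsurj : Function.Surjective (I.obj.map ((EtRestr.compBcAdj j).counit.app V).op).hom := by
    have := EtOpenUnit.mono_counit j V
    exact SiteFree.surjective_map_of_injective.{u + 1} X.smallEtaleTopology I
      ((EtRestr.compBcAdj j).counit.app V)
  intro t
  obtain ⟨s, hs⟩ := hsurj ((ψ.hom.hom.app (op V)).hom t)
  refine ⟨s, hinj ?_⟩
  have h1 : (ψ.hom.hom.app (op V)).hom (((EtDual.unitApp j I).hom.app (op V)).hom s) =
      (I.obj.map ((EtRestr.compBcAdj j).counit.app V).op).hom s := by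
    rw [← h3]
    exact congrArg (fun k => (k.hom.app (op V)).hom s) h
  rw [h1, hs]

/-- `Γ_Y(I)` is `Γ(X, -)`-acyclic for `I` injective -/
theorem rAcyc_sec_secSupp_injective (I : EtCoh.Ab X) [hI : Injective I] :
    RAcyc (secF (EtCoh.top X)) ((EtDual.secSupp j).obj I) := by
  have hS := (EtLocCohLES.T j).exact I hI
  have hI₃ : Injective ((EtCoh.push j).obj ((EtCoh.pull j).obj I)) := by
    have := EtRestr.injective_pull j I
    exact EtRestr.injective_push j _
  refine rAcyc_X₁_of_injective (secF (EtCoh.top X)) _ hS hI hI₃ ?_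
  exact (AddCommGrpCat.epi_iff_surjective _).2 (surjective_unit_app j I (EtCoh.top X))

/-- if `H^m_Y(F) = 0` for `m < q` then `Γ(X, H^q_Y(F)) ≅ H^q_Y(X, F)` -/
theorem nonempty_sec_locCoh_iso_HY (F : EtCoh.Ab X) (q : ℕ)
    (hbelow : ∀ m, m < q → IsZero ((EtDual.locCoh j m).obj F)) :
    Nonempty ((secF (EtCoh.top X)).obj ((EtDual.locCoh j q).obj F) ≅ (EtDual.HY j q).obj F) := by
  let I := injectiveResolution F
  let K := ((EtDual.secSupp j).mapHomologicalComplex (ComplexShape.up ℕ)).obj I.cocomplex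
  have hK : IsIso (RDer.homologyComparison (secF (EtCoh.top X)) K q) := by
    apply isIso_homologyComparison_of_vanishing_below (rAcycClass (secF (EtCoh.top X))) _ ?_
      (rAcyc_of_isZero (secF (EtCoh.top X))) q ?_
    · intro m
      haveI : Injective (I.cocomplex.X m) := I.injective m
      exact rAcyc_sec_secSupp_injective j _
    · intro m hm
      exact IsZero.of_iso (hbelow m hm) (I.isoRightDerivedObj (EtDual.secSupp j) m).symm
  let e1 : (((secF (EtCoh.top X)).mapHomologicalComplex (ComplexShape.up ℕ)).obj K).homology q ≅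
      (secF (EtCoh.top X)).obj (K.homology q) :=
    asIso (RDer.homologyComparison (secF (EtCoh.top X)) K q)
  let e2 : K.homology q ≅ (EtDual.locCoh j q).obj F :=
    (I.isoRightDerivedObj (EtDual.secSupp j) q).symm
  let e3 : (EtDual.HY j q).obj F ≅
      (((EtDual.gammaSupp j).mapHomologicalComplex (ComplexShape.up ℕ)).obj
        I.cocomplex).homology q :=
    I.isoRightDerivedObj (EtDual.gammaSupp j) q
  let e4 : ((secF (EtCoh.top X)).mapHomologicalComplex (ComplexShape.up ℕ)).obj K ≅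
      ((EtDual.gammaSupp j).mapHomologicalComplex (ComplexShape.up ℕ)).obj I.cocomplex :=
    HomologicalComplex.Hom.isoOfComponents (fun m => Iso.refl _) (by
      intro a b _
      simp only [Iso.refl_hom, Category.id_comp, Category.comp_id]
      rfl)
  exact ⟨(secF (EtCoh.top X)).mapIso e2.symm ≪≫ e1.symm ≪≫
    (HomologicalComplex.homologyFunctor _ _ q).mapIso e4 ≪≫ e3.symm⟩

/-- `depth_Y F ≥ n` implies `H^q_Y(X, F) = 0` for `q < n` -/
theorem isZero_HY_of_depthGE (F : EtCoh.Ab X) (n : ℕ) (h : EtDepth.DepthGE j F n) (q : ℕ)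
    (hq : q < n) : IsZero ((EtDual.HY j q).obj F) := by
  obtain ⟨i⟩ := nonempty_sec_locCoh_iso_HY j F q (fun m hm => h m (by omega))
  exact ((secF (EtCoh.top X)).map_isZero (h q hq)).of_iso i.symm

end Compare

section Main

variable {U X : Scheme.{u}} (j : U ⟶ X) [IsOpenImmersion j]

/-- étale depth is preserved by étale localisation -/
theorem depthGE_restr {W : Scheme.{u}} (g : W ⟶ X) [Etale g] (F : EtCoh.Ab X) (n : ℕ)
    (h : EtDepth.DepthGE j F n) :
    EtDepth.DepthGE (pullback.snd j g) ((EtShriek.restrAlong g).obj F) n := by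
  intro p hp
  obtain ⟨θ⟩ := EtDepthLoc.nonempty_locCoh_restr_iso j g p
  exact ((EtShriek.restrAlong g).map_isZero (h p hp)).of_iso (θ.app F).symm

set_option backward.isDefEq.respectTransparency.types false in
/-- if `H^q_{Y'}(X', F) = 0` for all `X'` étale over `X` and `q < n`, then `depth_Y F ≥ n` -/
theorem depthGE_of_HY_vanish (F : EtCoh.Ab X) (n : ℕ)
    (h : ∀ (W : Scheme.{u}) (g : W ⟶ X) [Etale g] (q : ℕ), q < n →
      IsZero ((EtDual.HY (pullback.snd j g) q).obj ((EtShriek.restrAlong g).obj F))) :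
    EtDepth.DepthGE j F n := by
  intro q
  induction q using Nat.strong_induction_on with
  | _ q ih =>
    intro hq
    rw [EtOpenZero.isZero_sheaf_iff]
    intro V
    haveI : Etale V.hom := V.prop
    have hbelow : ∀ m, m < q → IsZero ((EtDual.locCoh (pullback.snd j V.hom) m).obj
        ((EtShriek.restrAlong V.hom).obj F)) := by
      intro m hm
      obtain ⟨θ⟩ := EtDepthLoc.nonempty_locCoh_restr_iso j V.hom m
      exact ((EtShriek.restrAlong V.hom).map_isZero (ih m hm (by omega))).of_iso (θ.app F).symm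
    obtain ⟨i⟩ := nonempty_sec_locCoh_iso_HY (pullback.snd j V.hom)
      ((EtShriek.restrAlong V.hom).obj F) q hbelow
    have hz : IsZero ((secF (EtCoh.top V.left)).obj
        ((EtDual.locCoh (pullback.snd j V.hom) q).obj ((EtShriek.restrAlong V.hom).obj F))) :=
      (h V.left V.hom q hq).of_iso i
    obtain ⟨θ⟩ := EtDepthLoc.nonempty_locCoh_restr_iso j V.hom q
    have hz2 : IsZero ((secF (EtCoh.top V.left)).obj
        ((EtShriek.restrAlong V.hom).obj ((EtDual.locCoh j q).obj F))) :=
      hz.of_iso ((secF (EtCoh.top V.left)).mapIso (θ.app F))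
    let e : (EtShriek.compEtale V.hom).obj (EtCoh.top V.left) ≅ V :=
      MorphismProperty.Over.isoMk (Iso.refl _) rfl
    exact hz2.of_iso (((EtDual.locCoh j q).obj F).obj.mapIso e.op)

/-- `depth_Y F ≥ n` iff for all `X'` étale over `X` the restriction maps
`H^p(X', F) → H^p(U', F)` are bijective for `p + 1 < n` and injective for `p + 1 = n` -/
theorem depthGE_iff (F : EtCoh.Ab X) (n : ℕ) :
    EtDepth.DepthGE j F n ↔ ∀ (X' : Scheme.{u}) (g : X' ⟶ X) [Etale g]
      [PreservesFiniteLimits (EtCoh.pull (pullback.snd j g))],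
      (∀ p : ℕ, p + 1 < n → Function.Bijective
        (EtCore.Hpull (pullback.snd j g) ((EtCoh.pull g).obj F) p)) ∧
      (∀ p : ℕ, p + 1 = n → Function.Injective
        (EtCore.Hpull (pullback.snd j g) ((EtCoh.pull g).obj F) p)) := by
  constructor
  · intro h X' g _ _
    rw [← hpull_iff (pullback.snd j g) ((EtCoh.pull g).obj F) n]
    intro p hp
    rw [ext_vanish_iff]
    have h1 := isZero_HY_of_depthGE (pullback.snd j g) _ n (depthGE_restr j g F n h) p hp
    exact h1.of_iso ((EtDual.HY (pullback.snd j g) p).mapIso ((EtRestr.pullIsoRestr g).app F))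
  · intro h
    apply depthGE_of_HY_vanish
    intro W g _ q hq
    haveI : PreservesFiniteLimits (EtCoh.pull (pullback.snd j g)) := Groth.Agent.S0101.result _
    have h1 := (hpull_iff (pullback.snd j g) ((EtCoh.pull g).obj F) n).2 (h W g) q hq
    rw [ext_vanish_iff] at h1
    exact h1.of_iso ((EtDual.HY (pullback.snd j g) q).mapIso
      ((EtRestr.pullIsoRestr g).app F).symm)

end Main

end Groth.Agent.Lib.Cohomology.EtDepthExt
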