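import Groth.Agent.Lib.Cohomology.Helper3_EtExc
import Groth.Agent.Lib.Helper24.OpenPushout

/-!
# Sheaves acyclic on all etale schemes have surjective restrictions along open immersions (helper3)

The non-separated double `U ∪_V U` trick.
-/

set_option autoImplicit false
universe u
open CategoryTheory CategoryTheory.Limits Opposite AlgebraicGeometry

namespace Groth.Agent.Lib.Cohomology.EtFlasque

open Groth.Agent.Lib.Helper47 Groth.Agent.Lib.Helper34 Groth.Agent.Lib.Cohomology.EtMV
  Groth.Agent.Lib.Cohomology.EtExc Groth.Agent.Lib.Helper24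

section Geometry

variable {X U' V' : Scheme.{u}} (a : V' ⟶ U') [IsOpenImmersion a] (uh : U' ⟶ X) [Etale uh]

/-- the structure map of the double `U ∪_V U` -/
noncomputable def hW : pushout a a ⟶ X := pushout.desc uh uh rfl

lemma inl_hW : pushout.inl a a ≫ hW a uh = uh := pushout.inl_desc _ _ _

lemma inr_hW : pushout.inr a a ≫ hW a uh = uh := pushout.inr_desc _ _ _

instance : Etale (hW a uh) := by
  refine IsZariskiLocalAtSource.of_openCover (P := @Etale) (OpenPushout.cover a a) ?_
  intro i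
  cases i
  · change Etale (pushout.inl a a ≫ hW a uh)
    rw [inl_hW]
    infer_instance
  · change Etale (pushout.inr a a ≫ hW a uh)
    rw [inr_hW]
    infer_instance

end Geometry

section H1

variable {Y : Scheme.{u}}

/-- `H¹ = 0` makes global sections right exact -/
lemma surjective_sections_of_H1 {S : ShortComplex (EtCoh.Ab Y)} (hS : S.ShortExact)
    [Subsingleton (EtCoh.H Y S.X₁ 1)] :
    Function.Surjective (S.g.hom.app (op (EtCoh.top Y))).hom := by
  intro q
  obtain ⟨φ, hφ⟩ := (secX_bijective Y S.X₃).2 q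
  obtain ⟨x₂, hx₂⟩ := Abelian.Ext.covariant_sequence_exact₃ (EtCoh.const Y ℤ) hS
    (Abelian.Ext.mk₀ φ) (rfl : 0 + 1 = 1)
    (Subsingleton.elim (α := EtCoh.H Y S.X₁ 1) _ _)
  obtain ⟨ψ, rfl⟩ := Abelian.Ext.addEquiv₀.symm.surjective x₂
  have h1 : ψ ≫ S.g = φ := by
    apply Abelian.Ext.addEquiv₀.symm.injective
    rw [Abelian.Ext.addEquiv₀_symm_apply, Abelian.Ext.addEquiv₀_symm_apply,
      ← Abelian.Ext.mk₀_comp_mk₀]
    rw [Abelian.Ext.addEquiv₀_symm_apply] at hx₂
    exact hx₂
  refine ⟨secX Y S.X₂ ψ, ?_⟩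
  rw [← hφ, ← h1]
  rfl

end H1

section Main

variable {X : Scheme.{u}} {U V : X.Etale} (g : V ⟶ U) [IsOpenImmersion g.left]

instance etale_hom (T : X.Etale) : Etale T.hom := T.prop

/-- the double `U ∪_V U` in the small etale site of `X` -/
noncomputable abbrev Wo : X.Etale := Xo (hW g.left U.hom)

/-- the first copy of `U` -/
noncomputable def i₁ : U ⟶ Wo g :=
  MorphismProperty.Over.homMk (pushout.inl g.left g.left) (by
    change pushout.inl g.left g.left ≫ 𝟙 _ ≫ hW g.left U.hom = U.hom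
    rw [Category.id_comp, inl_hW])

/-- the second copy of `U` -/
noncomputable def i₂ : U ⟶ Wo g :=
  MorphismProperty.Over.homMk (pushout.inr g.left g.left) (by
    change pushout.inr g.left g.left ≫ 𝟙 _ ≫ hW g.left U.hom = U.hom
    rw [Category.id_comp, inr_hW])

lemma i₁_left : (i₁ g).left = pushout.inl g.left g.left := rfl
lemma i₂_left : (i₂ g).left = pushout.inr g.left g.left := rfl

lemma g_i₁_eq : g ≫ i₁ g = g ≫ i₂ g := by
  apply MorphismProperty.Over.Hom.ext
  exact pushout.condition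

instance mono_of_left {A B : X.Etale} (k : A ⟶ B) [Mono k.left] : Mono k :=
  (Scheme.Etale.forget X ⋙ Over.forget X).mono_of_mono_map (by assumption)

instance : Mono (i₁ g) := by
  have : Mono (i₁ g).left := (inferInstance : Mono (pushout.inl g.left g.left))
  exact mono_of_left _

instance : Mono g := by
  have : Mono g.left := inferInstance
  exact mono_of_left _

/-- the family `{i₁, i₂}` -/
noncomputable def πW : ∀ _ : Bool, U ⟶ Wo g := fun b => cond b (i₁ g) (i₂ g)

lemma cover_mem : Sieve.generate (Presieve.ofArrows (fun _ : Bool => U) (πW g)) ∈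
    X.smallEtaleTopology (Wo g) := by
  have eX : X.smallEtaleTopology =
      (X.smallPretopology (P := EtCoh.etaleMP) (Q := EtCoh.etaleMP)).toGrothendieck :=
    Scheme.smallGrothendieckTopology_eq_toGrothendieck_smallPretopology X le_rfl
  rw [eX]
  refine (Scheme.mem_toGrothendieck_smallPretopology (Wo g) _).2 ?_
  intro x
  rcases OpenPushout.exists_inl_or_inr g.left g.left x with ⟨u, hu⟩ | ⟨u, hu⟩
  · refine ⟨U, πW g true, u, Sieve.le_generate _ _ _ (Presieve.ofArrows.mk true), ?_, hu⟩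
    change Etale (pushout.inl g.left g.left)
    infer_instance
  · refine ⟨U, πW g false, u, Sieve.le_generate _ _ _ (Presieve.ofArrows.mk false), ?_, hu⟩
    change Etale (pushout.inr g.left g.left)
    infer_instance

lemma isSheafFor_cover (G : EtCoh.Ab X) :
    (Presieve.ofArrows (fun _ : Bool => U) (πW g)).IsSheafFor
      (G.obj ⋙ forget AddCommGrpCat.{u + 1}) := by
  have h1 : Presieve.IsSheaf X.smallEtaleTopology (G.obj ⋙ forget AddCommGrpCat.{u + 1}) :=
    (isSheaf_iff_isSheaf_of_type _ _).1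
      ((Presheaf.isSheaf_iff_isSheaf_forget _ G.obj (forget AddCommGrpCat.{u + 1})).1 G.property)
  exact (Presieve.isSheafFor_iff_generate _).2 (h1 _ (cover_mem g))

/-- a pair of maps to the two copies which agree in the double comes from `V` -/
lemma exists_factor (Z : X.Etale) (gi gj : Z ⟶ U) (hh : gi ≫ i₁ g = gj ≫ i₂ g) :
    ∃ w : Z ⟶ V, w ≫ g = gi := by
  have hl : gi.left ≫ pushout.inl g.left g.left = gj.left ≫ pushout.inr g.left g.left :=
    congrArg (fun k => k.left) hh
  have hr : Set.range gi.left.base ⊆ Set.range g.left.base := by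
    rintro _ ⟨z, rfl⟩
    have hz : pushout.inl g.left g.left (gi.left z) = pushout.inr g.left g.left (gj.left z) :=
      congrArg (fun k : Z.left ⟶ pushout g.left g.left => k z) hl
    obtain ⟨v, hv, -⟩ := OpenPushout.exists_of_inl_eq_inr g.left g.left hz
    exact ⟨v, hv⟩
  let l : Z.left ⟶ V.left := IsOpenImmersion.lift g.left gi.left hr
  have hl' : l ≫ g.left = gi.left := IsOpenImmersion.lift_fac _ _ _
  have hV : g.left ≫ U.hom = V.hom := MorphismProperty.Over.w g
  have hZ : gi.left ≫ U.hom = Z.hom := MorphismProperty.Over.w gi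
  refine ⟨MorphismProperty.Over.homMk l (by rw [← hV, ← Category.assoc, hl', hZ]), ?_⟩
  apply MorphismProperty.Over.Hom.ext
  exact hl'

/-- gluing a section on the first copy vanishing on `V` with zero on the second copy -/
lemma glue_Wo (Q : EtCoh.Ab X) (q₁ : Q.obj.obj (op U)) (h0 : (Q.obj.map g.op).hom q₁ = 0) :
    ∃ q : Q.obj.obj (op (Wo g)), (Q.obj.map (i₁ g).op).hom q = q₁ ∧
      (Q.obj.map (i₂ g).op).hom q = 0 := by
  let P := Q.obj ⋙ forget AddCommGrpCat.{u + 1}
  let xx : ∀ _ : Bool, P.obj (op U) := fun b =>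
    match b with
    | true => q₁
    | false => (0 : Q.obj.obj (op U))
  have hmix : ∀ (Z : X.Etale) (gi gj : Z ⟶ U), gi ≫ i₁ g = gj ≫ i₂ g →
      (Q.obj.map gi.op).hom q₁ = (Q.obj.map gj.op).hom 0 := by
    intro Z gi gj hh
    obtain ⟨w, hw⟩ := exists_factor g Z gi gj hh
    rw [map_zero, ← hw, op_comp, Functor.map_comp]
    change (Q.obj.map w.op).hom ((Q.obj.map g.op).hom q₁) = 0
    rw [h0, map_zero]
  have hcompat : Presieve.Arrows.Compatible P (πW g) xx := by
    intro i j Z gi gj hh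
    cases i <;> cases j
    · change (Q.obj.map gi.op).hom 0 = (Q.obj.map gj.op).hom 0
      rw [map_zero, map_zero]
    · exact (hmix Z gj gi hh.symm).symm
    · exact hmix Z gi gj hh
    · have e : gi = gj := (cancel_mono (i₁ g)).1 hh
      rw [e]
  obtain ⟨q, hq, -⟩ := (Presieve.isSheafFor_arrows_iff _ _).1 (isSheafFor_cover g Q) xx hcompat
  exact ⟨q, hq true, hq false⟩

lemma rr_sheaf_nat {X' : Scheme.{u}} (f : X' ⟶ X) [Etale f] {G G' : EtCoh.Ab X} (ψ : G ⟶ G')
    (W' : X'.Etale) (y : ((EtCoh.pull f).obj G).obj.obj (op W')) :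
    (rr f G' W').hom.hom ((((EtCoh.pull f).map ψ).hom.app (op W')).hom y) =
      (ψ.hom.app (op ((EtShriek.compEtale f).obj W'))).hom ((rr f G W').hom.hom y) :=
  congrArg (fun k => (k.hom.app (op W')).hom y) ((EtRestr.pullIsoRestr f).hom.naturality ψ)

lemma exists_of_g_zero {S : ShortComplex (EtCoh.Ab X)} (hS : S.ShortExact) (T : X.Etale)
    (x : S.X₂.obj.obj (op T)) (hx : (S.g.hom.app (op T)).hom x = 0) :
    ∃ y : S.X₁.obj.obj (op T), (S.f.hom.app (op T)).hom y = x := by
  have h30 := (secF T).preservesFiniteLimits_tfae.out 3 0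
  have hsec := h30.1 (by infer_instance : PreservesFiniteLimits (secF T)) S hS
  exact (ShortComplex.ab_exact_iff _).1 hsec.1 x hx

theorem surjective_map (F : EtCoh.Ab X)
    (hF : ∀ (W : X.Etale) (q : ℕ), 0 < q →
      Subsingleton (EtCoh.H W.left ((EtCoh.pull W.hom).obj F) q)) :
    Function.Surjective (F.obj.map g.op).hom := by
  intro s
  let S : ShortComplex (EtCoh.Ab X) :=
    ShortComplex.mk (Injective.ι F) (cokernel.π (Injective.ι F)) (cokernel.condition _)
  have hS : S.ShortExact :=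
    { exact := ShortComplex.exact_of_g_is_cokernel _ (cokernelIsCokernel _) }
  haveI : Injective S.X₂ := inferInstanceAs (Injective (Injective.under F))
  haveI := hS.mono_f
  have hzero : ∀ (T : X.Etale) (y : S.X₁.obj.obj (op T)),
      (S.g.hom.app (op T)).hom ((S.f.hom.app (op T)).hom y) = 0 := fun T y =>
    congrArg (fun k => (k.hom.app (op T)).hom y) S.zero
  -- (a) surjectivity over the double
  have hS' : (S.map (EtCoh.pull (hW g.left U.hom))).ShortExact :=
    hS.map_of_exact (EtCoh.pull (hW g.left U.hom))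
  haveI : Subsingleton (EtCoh.H (pushout g.left g.left)
      ((S.map (EtCoh.pull (hW g.left U.hom))).X₁) 1) :=
    hF (Scheme.Etale.mk (hW g.left U.hom)) 1 one_pos
  have ha := surjective_sections_of_H1 hS'
  have hWo : Function.Surjective (S.g.hom.app (op (Wo g))).hom := by
    intro q
    obtain ⟨i', hi'⟩ := ha ((rr (hW g.left U.hom) S.X₃ (EtCoh.top _)).inv.hom q)
    refine ⟨(rr (hW g.left U.hom) S.X₂ (EtCoh.top _)).hom.hom i', ?_⟩
    refine (rr_sheaf_nat (hW g.left U.hom) S.g (EtCoh.top _) i').symm.trans ?_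
    refine (congrArg (rr (hW g.left U.hom) S.X₃ (EtCoh.top _)).hom.hom hi').trans ?_
    exact rr_hom_inv _ _ _ _
  -- (b) flasqueness of the injective hull
  have hb : Function.Surjective (S.X₂.obj.map g.op) :=
    SiteFree.surjective_map_of_injective.{u + 1} X.smallEtaleTopology S.X₂ g
  obtain ⟨t, ht⟩ := hb ((S.f.hom.app (op V)).hom s)
  have ht' : (S.X₂.obj.map g.op).hom t = (S.f.hom.app (op V)).hom s := ht
  have natg : ∀ (A B : X.Etale) (k : A ⟶ B) (x : S.X₂.obj.obj (op B)),
      (S.X₃.obj.map k.op).hom ((S.g.hom.app (op B)).hom x) =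
        (S.g.hom.app (op A)).hom ((S.X₂.obj.map k.op).hom x) := fun A B k x =>
    (congrArg (fun κ => κ.hom x) (S.g.hom.naturality k.op)).symm
  have natf : ∀ (A B : X.Etale) (k : A ⟶ B) (x : S.X₁.obj.obj (op B)),
      (S.X₂.obj.map k.op).hom ((S.f.hom.app (op B)).hom x) =
        (S.f.hom.app (op A)).hom ((S.X₁.obj.map k.op).hom x) := fun A B k x =>
    (congrArg (fun κ => κ.hom x) (S.f.hom.naturality k.op)).symm
  have hq₁ : (S.X₃.obj.map g.op).hom ((S.g.hom.app (op U)).hom t) = 0 := by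
    rw [natg, ht', hzero]
  obtain ⟨q, hq1, hq2⟩ := glue_Wo g S.X₃ _ hq₁
  obtain ⟨i, hi⟩ := hWo q
  have hπ1 : (S.g.hom.app (op U)).hom (t - (S.X₂.obj.map (i₁ g).op).hom i) = 0 := by
    rw [map_sub, ← natg, hi, hq1, sub_self]
  have hπ2 : (S.g.hom.app (op U)).hom ((S.X₂.obj.map (i₂ g).op).hom i) = 0 := by
    rw [← natg, hi, hq2]
  obtain ⟨s₁, hs₁⟩ := exists_of_g_zero hS U _ hπ1
  obtain ⟨s₂, hs₂⟩ := exists_of_g_zero hS U _ hπ2
  refine ⟨s₁ + s₂, ?_⟩
  apply sections_injective_of_mono S.f V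
  rw [← natf, map_add, hs₁, hs₂, map_add, map_sub, ht']
  have e : (S.X₂.obj.map g.op).hom ((S.X₂.obj.map (i₁ g).op).hom i) =
      (S.X₂.obj.map g.op).hom ((S.X₂.obj.map (i₂ g).op).hom i) := by
    have e1 : ∀ k : U ⟶ Wo g, (S.X₂.obj.map g.op).hom ((S.X₂.obj.map k.op).hom i) =
        (S.X₂.obj.map (g ≫ k).op).hom i := fun k => by
      rw [op_comp, Functor.map_comp]
      rfl
    rw [e1, e1, g_i₁_eq]
  rw [e, sub_add_cancel]

end Main

end Groth.Agent.Lib.Cohomology.EtFlasque
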