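import Groth.Agent.Lib.Cohomology.Helper3_LocConst
import Groth.Agent.Lib.Cohomology.Helper3_EtFlasque
import Groth.Prelude.Def_EtRestW

/-!
# Locally constant sheaves on the small étale site (helper3)
-/

set_option autoImplicit false
universe u
open CategoryTheory CategoryTheory.Limits Opposite AlgebraicGeometry

namespace Groth.Agent.Lib.Cohomology.LocConst

open Groth.Agent.Lib.Cohomology.EtExc Groth.Agent.Lib.Cohomology.EtFlasque

variable {X : Scheme.{u}}

lemma exists_mem_sieve_point (W : X.Etale) (S : Sieve W) (hS : S ∈ X.smallEtaleTopology W)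
    (w : W.left) : ∃ (T : X.Etale) (g : T ⟶ W) (t : T.left), S g ∧ g.left.base t = w := by
  have eX : X.smallEtaleTopology =
      (X.smallPretopology (P := EtCoh.etaleMP) (Q := EtCoh.etaleMP)).toGrothendieck :=
    Scheme.smallGrothendieckTopology_eq_toGrothendieck_smallPretopology X le_rfl
  rw [eX] at hS
  obtain ⟨T, g, t, h1, -, h3⟩ := (Scheme.mem_toGrothendieck_smallPretopology W S).1 hS w
  exact ⟨T, g, t, h1, h3⟩

lemma bot_not_mem (T : X.Etale) (t : T.left) : (⊥ : Sieve T) ∉ X.smallEtaleTopology T := by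
  intro h
  obtain ⟨_, _, _, h1, -⟩ := exists_mem_sieve_point T ⊥ h t
  exact h1

/-- common refinement of two étale neighbourhoods -/
lemma exists_common (U U' : X.Etale) (y : U.left) (y' : U'.left)
    (h : U.hom.base y = U'.hom.base y') :
    ∃ (W : X.Etale) (_ : W ⟶ U) (_ : W ⟶ U') (w : W.left), W.hom.base w = U.hom.base y := by
  obtain ⟨z, hz1, hz2⟩ := Scheme.Pullback.exists_preimage_pullback (f := U.hom) (g := U'.hom) y y' h
  refine ⟨Xo (pullback.fst U.hom U'.hom ≫ U.hom),
    MorphismProperty.Over.homMk (pullback.fst U.hom U'.hom) (by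
      change pullback.fst U.hom U'.hom ≫ U.hom = 𝟙 _ ≫ pullback.fst U.hom U'.hom ≫ U.hom
      rw [Category.id_comp]),
    MorphismProperty.Over.homMk (pullback.snd U.hom U'.hom) (by
      change pullback.snd U.hom U'.hom ≫ U'.hom = 𝟙 _ ≫ pullback.fst U.hom U'.hom ≫ U.hom
      rw [Category.id_comp, pullback.condition]), z, ?_⟩
  change (𝟙 _ ≫ pullback.fst U.hom U'.hom ≫ U.hom).base z = _
  rw [Category.id_comp, Scheme.Hom.comp_base, TopCat.comp_app, hz1]


/-- a morphism between two sheaves trivialised on `W` (source with finite value group) is, on an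
étale neighbourhood of any point of `W`, induced by a group homomorphism -/
theorem exists_cover_groupHom {F G : EtCoh.Ab X} (φ : F ⟶ G) (W : X.Etale)
    {M N : AddCommGrpCat.{u + 1}} [Finite M]
    (α : F.over W ≅ (cS X.smallEtaleTopology W).obj M)
    (β : G.over W ≅ (cS X.smallEtaleTopology W).obj N) (w : W.left) :
    ∃ (T : X.Etale) (g : T ⟶ W) (t : T.left) (h : M ⟶ N), g.left.base t = w ∧
      (X.smallEtaleTopology.overPullback AddCommGrpCat.{u + 1} T).map φ ≫
          (restrTriv X.smallEtaleTopology G g β).hom =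
        (restrTriv X.smallEtaleTopology F g α).hom ≫ (cS X.smallEtaleTopology T).map h := by
  let ψ : (cS X.smallEtaleTopology W).obj M ⟶ (cS X.smallEtaleTopology W).obj N :=
    α.inv ≫ (X.smallEtaleTopology.overPullback AddCommGrpCat.{u + 1} W).map φ ≫ β.hom
  have hc : (X.smallEtaleTopology.overPullback AddCommGrpCat.{u + 1} W).map φ ≫ β.hom =
      α.hom ≫ ψ := by simp [ψ]
  obtain ⟨S, hS, hS'⟩ := exists_cover_const X.smallEtaleTopology W ψ
  obtain ⟨T, g, t, hg, ht⟩ := exists_mem_sieve_point W S hS w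
  obtain ⟨h, hh⟩ := hS' g hg (bot_not_mem T t)
  refine ⟨T, g, t, h, ht, ?_⟩
  rw [restrTriv_comm X.smallEtaleTopology φ g α β ψ hc, hh]

end Groth.Agent.Lib.Cohomology.LocConst
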