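import Groth.Agent.Lib.Cohomology.Helper3_EtDepthLoc
import Groth.Agent.Lib.Cohomology.Helper3_LocConst2
import Groth.Agent.Lib.Helper47.RDerLES

/-!
# Étale depth of finite locally constant `ℓ`-torsion sheaves (helper3)

* `isZero_locCoh_const_of_lTorsion` : dévissage: if `H^p_Y(ℤ/ℓ) = 0` for `p < n` then
  `H^p_Y(A_X) = 0` for `p < n` and every finite abelian `ℓ`-group `A`;
* `depthGE_of_flc` : the same for finite locally constant `ℓ`-torsion sheaves.
-/

set_option autoImplicit false
universe u
open CategoryTheory CategoryTheory.Limits AlgebraicGeometry Opposite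

namespace Groth.Agent.Lib.Cohomology.EtDepthFLC

open Groth.Agent.Lib.Helper34 Groth.Agent.Lib.Helper47
open Groth.Agent.Lib.Cohomology

section Const

variable {X : Scheme.{u}}

noncomputable instance constantSheaf_preservesFiniteLimits :
    PreservesFiniteLimits (constantSheaf X.smallEtaleTopology AddCommGrpCat.{u + 1}) := by
  unfold constantSheaf
  infer_instance

noncomputable instance constantSheaf_preservesFiniteColimits :
    PreservesFiniteColimits (constantSheaf X.smallEtaleTopology AddCommGrpCat.{u + 1}) := by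
  unfold constantSheaf
  infer_instance

noncomputable instance constantSheaf_additive :
    (constantSheaf X.smallEtaleTopology AddCommGrpCat.{u + 1}).Additive :=
  Functor.additive_of_preserves_binary_products _

end Const

section Devissage

variable {X U : Scheme.{u}} (j : U ⟶ X) [IsOpenImmersion j]

/-- in a short exact sequence, vanishing of `H^p_Y` of the outer terms gives it for the middle -/
lemma isZero_locCoh_of_shortExact (S : ShortComplex (EtCoh.Ab X)) (hS : S.ShortExact) (p : ℕ)
    (h1 : IsZero ((EtDual.locCoh j p).obj S.X₁)) (h3 : IsZero ((EtDual.locCoh j p).obj S.X₃)) :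
    IsZero ((EtDual.locCoh j p).obj S.X₂) := by
  have hex := RDerLES.exact₂ (EtDual.secSupp j) (RDerLES.chosen hS) p
  exact hex.isZero_of_both_zeros (h1.eq_of_src _ _) (h3.eq_of_tgt _ _)

lemma exists_order_prime (ℓ : ℕ) {A : Type*} [AddCommGroup A] (a : A) (ha : a ≠ 0)
    (ht : ∃ e : ℕ, ℓ ^ e • a = 0) : ∃ b : A, b ≠ 0 ∧ ℓ • b = 0 := by
  classical
  have he₀ : ℓ ^ (Nat.find ht) • a = 0 := Nat.find_spec ht
  have hpos : Nat.find ht ≠ 0 := by
    intro h0
    rw [h0, pow_zero, one_smul] at he₀
    exact ha he₀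
  obtain ⟨e₁, he₁⟩ := Nat.exists_eq_succ_of_ne_zero hpos
  refine ⟨ℓ ^ e₁ • a, ?_, ?_⟩
  · intro hz
    have := Nat.find_min' ht hz
    omega
  · rw [smul_smul, ← pow_succ', ← Nat.succ_eq_add_one, ← he₁]
    exact he₀

/-- dévissage on finite abelian `ℓ`-groups -/
theorem isZero_locCoh_const_of_lTorsion (ℓ : ℕ) (hℓ : ℓ.Prime) (n : ℕ)
    (hX : EtDepth.DepthGE j (EtCoh.const X (ZMod ℓ)) n) :
    ∀ (N : ℕ) (A : Type (u + 1)) [AddCommGroup A] [Finite A], Nat.card A ≤ N →
      (∀ a : A, ∃ e : ℕ, ℓ ^ e • a = 0) → ∀ p, p < n →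
        IsZero ((EtDual.locCoh j p).obj
          ((constantSheaf X.smallEtaleTopology AddCommGrpCat.{u + 1}).obj
            (AddCommGrpCat.of A))) := by
  haveI : Fact ℓ.Prime := ⟨hℓ⟩
  intro N
  induction N with
  | zero =>
    intro A _ _ hc ht p hp
    have := Nat.card_pos (α := A)
    omega
  | succ N ih =>
    intro A _ _ hc ht p hp
    by_cases hA : Subsingleton A
    · have hz : IsZero (AddCommGrpCat.of A) := AddCommGrpCat.isZero_of_subsingleton _
      change IsZero (((EtDual.secSupp j).rightDerived p).obj _)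
      exact ((EtDual.secSupp j).rightDerived p).map_isZero
        ((constantSheaf X.smallEtaleTopology AddCommGrpCat.{u + 1}).map_isZero hz)
    · rw [not_subsingleton_iff_nontrivial] at hA
      obtain ⟨a, ha⟩ := exists_ne (0 : A)
      obtain ⟨b, hb0, hbℓ⟩ := exists_order_prime ℓ a ha (ht a)
      have hord : addOrderOf b = ℓ := addOrderOf_eq_prime hbℓ hb0
      have hb' : (zmultiplesHom A b) (ℓ : ℤ) = 0 := by
        change (ℓ : ℤ) • b = 0
        rw [natCast_zsmul]
        exact hbℓ
      let f₀ : ZMod ℓ →+ A := ZMod.lift ℓ ⟨zmultiplesHom A b, hb'⟩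
      have hf₀ : Function.Injective f₀ := by
        rw [ZMod.lift_injective]
        intro m hm
        have hm' : m • b = 0 := hm
        rw [← addOrderOf_dvd_iff_zsmul_eq_zero, hord] at hm'
        exact (ZMod.intCast_zmod_eq_zero_iff_dvd m ℓ).2 hm'
      let f : ULift.{u + 1} (ZMod ℓ) →+ A := f₀.comp AddEquiv.ulift.toAddMonoidHom
      have hf : Function.Injective f := hf₀.comp AddEquiv.ulift.injective
      have hb_mem : b ∈ f.range := by
        refine ⟨ULift.up 1, ?_⟩
        change f₀ 1 = b
        have h1 := ZMod.lift_coe ℓ ⟨zmultiplesHom A b, hb'⟩ (1 : ℤ)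
        rw [Int.cast_one] at h1
        exact h1.trans (one_zsmul b)
      let Q : Type (u + 1) := A ⧸ f.range
      have hcard := AddSubgroup.card_eq_card_quotient_mul_card_addSubgroup f.range
      have hr : 2 ≤ Nat.card f.range := by
        haveI : Nontrivial f.range := ⟨⟨⟨b, hb_mem⟩, 0, fun h => hb0 (congrArg Subtype.val h)⟩⟩
        exact Finite.one_lt_card
      have hq : 0 < Nat.card Q := Nat.card_pos
      have hQc : Nat.card Q ≤ N := by
        have h1 : Nat.card Q * 2 ≤ Nat.card A := by
          rw [hcard]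
          exact Nat.mul_le_mul_left _ hr
        omega
      have hQt : ∀ q : Q, ∃ e : ℕ, ℓ ^ e • q = 0 := by
        intro q
        obtain ⟨a', rfl⟩ := QuotientAddGroup.mk_surjective q
        obtain ⟨e, he⟩ := ht a'
        refine ⟨e, ?_⟩
        rw [← QuotientAddGroup.mk_nsmul, he]
        rfl
      let S : ShortComplex AddCommGrpCat.{u + 1} :=
        ShortComplex.mk (AddCommGrpCat.ofHom f)
          (AddCommGrpCat.ofHom (QuotientAddGroup.mk' f.range)) (by
            ext x
            exact (QuotientAddGroup.eq_zero_iff _).2 ⟨x, rfl⟩)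
      have hS : S.ShortExact :=
        { exact := by
            rw [ShortComplex.ab_exact_iff]
            intro x₂ hx₂
            exact (QuotientAddGroup.eq_zero_iff x₂).1 hx₂
          mono_f := (AddCommGrpCat.mono_iff_injective _).2 hf
          epi_g := (AddCommGrpCat.epi_iff_surjective _).2 (QuotientAddGroup.mk'_surjective _) }
      have hS' := hS.map_of_exact (constantSheaf X.smallEtaleTopology AddCommGrpCat.{u + 1})
      exact isZero_locCoh_of_shortExact j _ hS' p (hX p hp) (ih Q hQc hQt p hp)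

end Devissage

section Triv

/-- the restriction of a constant sheaf to a localized site is constant -/
noncomputable def constOver {C : Type (u + 1)} [Category.{u} C] (J : GrothendieckTopology C)
    (W : C) (M : AddCommGrpCat.{u + 1}) :
    ((constantSheaf J AddCommGrpCat.{u + 1}).obj M).over W ≅
      (constantSheaf (J.over W) AddCommGrpCat.{u + 1}).obj M :=
  (((Over.forget W).pushforwardContinuousSheafificationCompatibility AddCommGrpCat.{u + 1}
    (J.over W) J).app ((Functor.const Cᵒᵖ).obj M)).symm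

variable {X : Scheme.{u}} (W : X.Etale)

instance etale_hom_of_etale : Etale W.hom := W.prop

set_option backward.isDefEq.respectTransparency.types false in
/-- `T ↦ (T → W)` from the small étale site of `W` to the slice over `W` -/
noncomputable def toOv : W.left.Etale ⥤ Over W where
  obj T := Over.mk (Y := (EtShriek.compEtale W.hom).obj T)
    (MorphismProperty.Over.homMk T.hom rfl : (EtShriek.compEtale W.hom).obj T ⟶ W)
  map {T T'} a := Over.homMk ((EtShriek.compEtale W.hom).map a) (by
    apply MorphismProperty.Over.Hom.ext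
    exact MorphismProperty.Over.w a)
  map_id T := by
    apply Over.OverMorphism.ext
    exact (EtShriek.compEtale W.hom).map_id T
  map_comp f g := by
    apply Over.OverMorphism.ext
    exact (EtShriek.compEtale W.hom).map_comp f g

set_option backward.isDefEq.respectTransparency.types false in
/-- sheaves isomorphic on the slice over `W` have isomorphic restrictions to `W` -/
theorem nonempty_restr_iso_of_over_iso {F G : EtCoh.Ab X} (β : F.over W ≅ G.over W) :
    Nonempty ((EtShriek.restrAlong W.hom).obj F ≅ (EtShriek.restrAlong W.hom).obj G) := by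
  let βp := (sheafToPresheaf (X.smallEtaleTopology.over W) AddCommGrpCat.{u + 1}).mapIso β
  let e : ((EtShriek.restrAlong W.hom).obj F).obj ≅ ((EtShriek.restrAlong W.hom).obj G).obj :=
    NatIso.ofComponents (fun T => βp.app (op ((toOv W).obj T.unop))) (by
      intro T₁ T₂ a
      exact βp.hom.naturality ((toOv W).map a.unop).op)
  exact ⟨(fullyFaithfulSheafToPresheaf _ _).preimageIso e⟩

end Triv

section Main

lemma sheafIso_app_injective' {C : Type*} [Category C] {K : GrothendieckTopology C}
    {A B : Sheaf K AddCommGrpCat.{u + 1}} (ψ : A ≅ B) (Z : Cᵒᵖ) :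
    Function.Injective (ψ.hom.hom.app Z).hom :=
  (ConcreteCategory.bijective_of_isIso
    (((sheafSections K AddCommGrpCat.{u + 1}).obj Z).mapIso ψ).hom).1

variable {X U : Scheme.{u}} (j : U ⟶ X) [IsOpenImmersion j]

set_option backward.isDefEq.respectTransparency.types false in
/-- the value group of a trivialisation of an `ℓ`-torsion sheaf near a point is `ℓ`-torsion -/
lemma lTorsion_of_triv (ℓ : ℕ) (F : EtCoh.Ab X) (hFt : EtDepth.IsLTorsion ℓ F) (W : X.Etale)
    (y : W.left) (M : AddCommGrpCat.{u + 1})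
    (β : F.over W ≅ (constantSheaf (X.smallEtaleTopology.over W) AddCommGrpCat.{u + 1}).obj M) :
    ∀ m : M, ∃ e : ℕ, ℓ ^ e • m = 0 := by
  intro m
  let σ : F.obj.obj (op W) := (β.inv.hom.app (op (Over.mk (𝟙 W)))).hom
    ((LocConst.eta X.smallEtaleTopology W M (Over.mk (𝟙 W))).hom m)
  obtain ⟨V, k, ⟨v, hv⟩, e, he⟩ := hFt W σ y
  refine ⟨e, ?_⟩
  let kk : Over.mk k ⟶ Over.mk (𝟙 W) := Over.homMk k (by simp)
  have hnat := β.inv.hom.naturality kk.op
  have h1 : (F.obj.map k.op).hom σ = (β.inv.hom.app (op (Over.mk k))).hom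
      ((LocConst.eta X.smallEtaleTopology W M (Over.mk k)).hom m) := by
    have h2 := congrArg (fun q => q.hom
      ((LocConst.eta X.smallEtaleTopology W M (Over.mk (𝟙 W))).hom m)) hnat
    have h3 := congrArg (fun q => q.hom m) (LocConst.eta_map X.smallEtaleTopology W M kk)
    exact h2.symm.trans (congrArg (β.inv.hom.app (op (Over.mk k))).hom h3)
  have h4 : (β.inv.hom.app (op (Over.mk k))).hom
      ((LocConst.eta X.smallEtaleTopology W M (Over.mk k)).hom (ℓ ^ e • m)) = 0 := by
    rw [map_nsmul, map_nsmul, ← h1]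
    exact he
  have hinj1 := sheafIso_app_injective' β.symm (op (Over.mk k))
  have h5 : (LocConst.eta X.smallEtaleTopology W M (Over.mk k)).hom (ℓ ^ e • m) = 0 :=
    hinj1 (h4.trans (map_zero _).symm)
  have hinj2 := LocConst.eta_injective X.smallEtaleTopology W M (Over.mk k)
    (LocConst.bot_not_mem V v)
  exact hinj2 (h5.trans (map_zero _).symm)

/-- if `depth_Y (ℤ/ℓ) ≥ n` then `depth_Y F ≥ n` for `F` finite locally constant `ℓ`-torsion -/
theorem depthGE_of_flc (ℓ : ℕ) (hℓ : ℓ.Prime) (n : ℕ)
    (hX : EtDepth.DepthGE j (EtCoh.const X (ZMod ℓ)) n) (F : EtCoh.Ab X)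
    (hFlc : EtCoh.IsFiniteLocallyConstant F) (hFt : EtDepth.IsLTorsion ℓ F) :
    EtDepth.DepthGE j F n := by
  intro p hp
  obtain ⟨ι, Uc, hcov, htriv⟩ := hFlc
  apply EtDepthLoc.isZero_of_locally
  intro x
  obtain ⟨i, y, hy⟩ := hcov x
  obtain ⟨M, _, _, ⟨β⟩⟩ := htriv i
  refine ⟨(Uc i).left, (Uc i).hom, (Uc i).prop, ⟨y, hy⟩, ?_⟩
  have hAt : ∀ m : ULift.{u + 1} M, ∃ e : ℕ, ℓ ^ e • m = 0 :=
    lTorsion_of_triv ℓ F hFt (Uc i) y (AddCommGrpCat.of (ULift.{u + 1} M)) β
  have hA0 := isZero_locCoh_const_of_lTorsion j ℓ hℓ n hX (Nat.card (ULift.{u + 1} M))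
    (ULift.{u + 1} M) le_rfl hAt p hp
  let β' : F.over (Uc i) ≅ ((constantSheaf X.smallEtaleTopology AddCommGrpCat.{u + 1}).obj
      (AddCommGrpCat.of (ULift.{u + 1} M))).over (Uc i) :=
    β ≪≫ (constOver X.smallEtaleTopology (Uc i) (AddCommGrpCat.of (ULift.{u + 1} M))).symm
  obtain ⟨ψ⟩ := nonempty_restr_iso_of_over_iso (Uc i) β'
  obtain ⟨θ⟩ := EtDepthLoc.nonempty_locCoh_restr_iso j (Uc i).hom p
  have hz : IsZero ((EtShriek.restrAlong (Uc i).hom).obj ((EtDual.locCoh j p).obj
      ((constantSheaf X.smallEtaleTopology AddCommGrpCat.{u + 1}).obj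
        (AddCommGrpCat.of (ULift.{u + 1} M))))) :=
    (EtShriek.restrAlong (Uc i).hom).map_isZero hA0
  exact hz.of_iso (θ.app F ≪≫ (EtDual.locCoh (pullback.snd j (Uc i).hom) p).mapIso ψ ≪≫
    (θ.app _).symm)

end Main

end Groth.Agent.Lib.Cohomology.EtDepthFLC
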