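import Mathlib.CategoryTheory.Abelian.RightDerived
import Mathlib.Algebra.Homology.HomologySequenceLemmas
import Mathlib.Algebra.Homology.HomologicalComplexAbelian

/-!
# Long exact sequence of right derived functors for a short exact sequence of functors

(helper3; dual of helper46's `DerivedLES`.)  Let `F₁ ⟶ F₂ ⟶ F₃` be additive functors `C ⥤ D`
between abelian categories (`C` with injective resolutions) such that
`0 ⟶ F₁ I ⟶ F₂ I ⟶ F₃ I ⟶ 0` is short exact for every injective `I`.
Then there is a long exact sequence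
`… ⟶ RⁿF₁ X ⟶ RⁿF₂ X ⟶ RⁿF₃ X ⟶ Rⁿ⁺¹F₁ X ⟶ …` with connecting maps natural in `X`
(and in the sequence of functors).
-/

set_option autoImplicit false
set_option backward.isDefEq.respectTransparency false
set_option backward.defeqAttrib.useBackward true

namespace Groth.Agent.Lib.Cohomology.RDerFunSES

open CategoryTheory Limits Category

universe v u v' u'

variable {C : Type u} [Category.{v} C] {D : Type u'} [Category.{v'} D]
  [Abelian C] [HasInjectiveResolutions C] [Abelian D]

/-- A sequence of additive functors `F₁ ⟶ F₂ ⟶ F₃` which is short exact on injective objects. -/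
structure FunSES (C : Type u) [Category.{v} C] (D : Type u') [Category.{v'} D]
    [Abelian C] [Abelian D] where
  F₁ : C ⥤ D
  F₂ : C ⥤ D
  F₃ : C ⥤ D
  [add₁ : F₁.Additive]
  [add₂ : F₂.Additive]
  [add₃ : F₃.Additive]
  α : F₁ ⟶ F₂
  β : F₂ ⟶ F₃
  zero : ∀ X : C, α.app X ≫ β.app X = 0
  exact : ∀ (I : C), Injective I → (ShortComplex.mk (α.app I) (β.app I) (zero I)).ShortExact

attribute [instance] FunSES.add₁ FunSES.add₂ FunSES.add₃

namespace FunSES

variable (T : FunSES C D)

lemma rel (n : ℕ) : (ComplexShape.up ℕ).Rel n (n + 1) := by simp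

/-- The short complex of cochain complexes obtained by evaluating on an injective resolution. -/
noncomputable def sc {X : C} (I : InjectiveResolution X) :
    ShortComplex (CochainComplex D ℕ) :=
  ShortComplex.mk ((NatTrans.mapHomologicalComplex T.α _).app I.cocomplex)
    ((NatTrans.mapHomologicalComplex T.β _).app I.cocomplex)
    (by ext i; simp; exact T.zero _)

omit [HasInjectiveResolutions C] in
lemma sc_shortExact {X : C} (I : InjectiveResolution X) : (T.sc I).ShortExact :=
  HomologicalComplex.shortExact_of_degreewise_shortExact _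
    (fun i => T.exact _ (I.injective i))

/-- The connecting morphism computed with a given injective resolution. -/
noncomputable def δ' {X : C} (I : InjectiveResolution X) (n : ℕ) :
    (T.F₃.rightDerived n).obj X ⟶ (T.F₁.rightDerived (n + 1)).obj X :=
  (I.isoRightDerivedObj T.F₃ n).hom ≫ (T.sc_shortExact I).δ n (n + 1) (rel n) ≫
    (I.isoRightDerivedObj T.F₁ (n + 1)).inv

lemma α_app_eq {X : C} (I : InjectiveResolution X) (n : ℕ) :
    (NatTrans.rightDerived T.α n).app X =
      (I.isoRightDerivedObj T.F₁ n).hom ≫ HomologicalComplex.homologyMap (T.sc I).f n ≫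
        (I.isoRightDerivedObj T.F₂ n).inv :=
  I.rightDerived_app_eq T.α n

lemma β_app_eq {X : C} (I : InjectiveResolution X) (n : ℕ) :
    (NatTrans.rightDerived T.β n).app X =
      (I.isoRightDerivedObj T.F₂ n).hom ≫ HomologicalComplex.homologyMap (T.sc I).g n ≫
        (I.isoRightDerivedObj T.F₃ n).inv :=
  I.rightDerived_app_eq T.β n

@[reassoc]
lemma α_β_app (X : C) (n : ℕ) :
    (NatTrans.rightDerived T.α n).app X ≫ (NatTrans.rightDerived T.β n).app X = 0 := by
  rw [← NatTrans.comp_app, ← NatTrans.rightDerived_comp]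
  have : T.α ≫ T.β = 0 := by ext X; exact T.zero X
  rw [this]
  let I := injectiveResolution X
  rw [I.rightDerived_app_eq (0 : T.F₁ ⟶ T.F₃) n]
  have : (NatTrans.mapHomologicalComplex (0 : T.F₁ ⟶ T.F₃) (ComplexShape.up ℕ)).app I.cocomplex = 0 := by
    ext i; simp
  rw [this]
  simp

/-- Exactness of `RⁿF₁ X ⟶ RⁿF₂ X ⟶ RⁿF₃ X`. -/
lemma exact₂ (X : C) (n : ℕ) :
    (ShortComplex.mk ((NatTrans.rightDerived T.α n).app X) ((NatTrans.rightDerived T.β n).app X)
      (T.α_β_app X n)).Exact := by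
  let I := injectiveResolution X
  have h := (T.sc_shortExact I).homology_exact₂ n
  refine ShortComplex.exact_of_iso ?_ h
  refine ShortComplex.isoMk (I.isoRightDerivedObj T.F₁ n).symm (I.isoRightDerivedObj T.F₂ n).symm
    (I.isoRightDerivedObj T.F₃ n).symm ?_ ?_
  · dsimp; rw [T.α_app_eq I n]; simp
  · dsimp; rw [T.β_app_eq I n]; simp

@[reassoc]
lemma β_δ' {X : C} (I : InjectiveResolution X) (n : ℕ) :
    (NatTrans.rightDerived T.β n).app X ≫ T.δ' I n = 0 := by
  rw [T.β_app_eq I n]
  dsimp only [δ']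
  simp only [assoc, Iso.inv_hom_id_assoc]
  rw [(T.sc_shortExact I).comp_δ_assoc n (n + 1) (rel n)]
  simp

@[reassoc]
lemma δ'_α {X : C} (I : InjectiveResolution X) (n : ℕ) :
    T.δ' I n ≫ (NatTrans.rightDerived T.α (n + 1)).app X = 0 := by
  rw [T.α_app_eq I (n + 1)]
  dsimp only [δ']
  simp only [assoc, Iso.inv_hom_id_assoc]
  rw [(T.sc_shortExact I).δ_comp_assoc n (n + 1) (rel n)]
  simp

/-- Exactness of `RⁿF₂ X ⟶ RⁿF₃ X ⟶ Rⁿ⁺¹F₁ X`. -/
lemma exact₃' {X : C} (I : InjectiveResolution X) (n : ℕ) :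
    (ShortComplex.mk ((NatTrans.rightDerived T.β n).app X) (T.δ' I n) (T.β_δ' I n)).Exact := by
  have h := (T.sc_shortExact I).homology_exact₃ n (n + 1) (rel n)
  refine ShortComplex.exact_of_iso ?_ h
  refine ShortComplex.isoMk (I.isoRightDerivedObj T.F₂ n).symm
    (I.isoRightDerivedObj T.F₃ n).symm (I.isoRightDerivedObj T.F₁ (n + 1)).symm ?_ ?_
  · dsimp; rw [T.β_app_eq I n]; simp
  · dsimp [δ']; simp

/-- Exactness of `RⁿF₃ X ⟶ Rⁿ⁺¹F₁ X ⟶ Rⁿ⁺¹F₂ X`. -/
lemma exact₁' {X : C} (I : InjectiveResolution X) (n : ℕ) :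
    (ShortComplex.mk (T.δ' I n) ((NatTrans.rightDerived T.α (n + 1)).app X) (T.δ'_α I n)).Exact := by
  have h := (T.sc_shortExact I).homology_exact₁ n (n + 1) (rel n)
  refine ShortComplex.exact_of_iso ?_ h
  refine ShortComplex.isoMk (I.isoRightDerivedObj T.F₃ n).symm
    (I.isoRightDerivedObj T.F₁ (n + 1)).symm (I.isoRightDerivedObj T.F₂ (n + 1)).symm ?_ ?_
  · dsimp [δ']; simp
  · dsimp; rw [T.α_app_eq I (n + 1)]; simp

/-- `R⁰F₁ X ⟶ R⁰F₂ X` is a monomorphism. -/
lemma mono_α_zero (X : C) : Mono ((NatTrans.rightDerived T.α 0).app X) := by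
  let I := injectiveResolution X
  rw [T.α_app_eq I 0]
  have hS := T.sc_shortExact I
  have : Mono (T.sc I).f := hS.mono_f
  have : Mono (HomologicalComplex.homologyMap (T.sc I).f 0) := by
    have h := HomologicalComplex.homologyπ_naturality (T.sc I).f 0
    have : IsIso ((T.sc I).X₁.homologyπ 0) := by
      refine HomologicalComplex.isIso_homologyπ _ 0 _ (by simp) ?_
      simp
    have e : HomologicalComplex.homologyMap (T.sc I).f 0 =
        inv ((T.sc I).X₁.homologyπ 0) ≫
          (HomologicalComplex.cyclesMap (T.sc I).f 0 ≫ (T.sc I).X₂.homologyπ 0) := by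
      rw [← h, IsIso.inv_hom_id_assoc]
    have : IsIso ((T.sc I).X₂.homologyπ 0) := by
      refine HomologicalComplex.isIso_homologyπ _ 0 _ (by simp) ?_
      simp
    rw [e]; infer_instance
  infer_instance

/-- Naturality of the connecting morphism in the object. -/
lemma δ'_naturality {X Y : C} (f : X ⟶ Y) (I : InjectiveResolution X)
    (J : InjectiveResolution Y) (n : ℕ) :
    (T.F₃.rightDerived n).map f ≫ T.δ' J n = T.δ' I n ≫ (T.F₁.rightDerived (n + 1)).map f := by
  let φ := InjectiveResolution.desc f J I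
  have comm : I.ι.f 0 ≫ φ.f 0 = f ≫ J.ι.f 0 := InjectiveResolution.desc_commutes_zero f J I
  let Φ : T.sc I ⟶ T.sc J := ShortComplex.homMk ((T.F₁.mapHomologicalComplex _).map φ)
    ((T.F₂.mapHomologicalComplex _).map φ) ((T.F₃.mapHomologicalComplex _).map φ)
    (NatTrans.mapHomologicalComplex_naturality T.α φ)
    (NatTrans.mapHomologicalComplex_naturality T.β φ)
  have hδ := HomologicalComplex.HomologySequence.δ_naturality Φ (T.sc_shortExact I)
    (T.sc_shortExact J) n (n + 1) (rel n)
  have h3 : (T.F₃.rightDerived n).map f ≫ (J.isoRightDerivedObj T.F₃ n).hom =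
      (I.isoRightDerivedObj T.F₃ n).hom ≫ HomologicalComplex.homologyMap Φ.τ₃ n :=
    InjectiveResolution.isoRightDerivedObj_hom_naturality f I J φ comm T.F₃ n
  have h1 : (I.isoRightDerivedObj T.F₁ (n + 1)).inv ≫ (T.F₁.rightDerived (n + 1)).map f =
      HomologicalComplex.homologyMap Φ.τ₁ (n + 1) ≫ (J.isoRightDerivedObj T.F₁ (n + 1)).inv :=
    InjectiveResolution.isoRightDerivedObj_inv_naturality f I J φ comm T.F₁ (n + 1)
  dsimp only [δ']
  rw [reassoc_of% h3, ← reassoc_of% hδ]
  simp only [assoc]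
  rw [h1]

/-- The connecting morphism does not depend on the resolution. -/
lemma δ'_eq {X : C} (I J : InjectiveResolution X) (n : ℕ) : T.δ' I n = T.δ' J n := by
  have h := T.δ'_naturality (𝟙 X) I J n
  simp only [CategoryTheory.Functor.map_id, id_comp, comp_id] at h
  exact h.symm

/-- The connecting morphism as a natural transformation `RⁿF₃ ⟶ Rⁿ⁺¹F₁`. -/
noncomputable def δ (n : ℕ) : T.F₃.rightDerived n ⟶ T.F₁.rightDerived (n + 1) where
  app X := T.δ' (injectiveResolution X) n
  naturality _ _ f := T.δ'_naturality f _ _ n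

lemma δ_app_eq {X : C} (I : InjectiveResolution X) (n : ℕ) : (T.δ n).app X = T.δ' I n :=
  T.δ'_eq _ _ n

@[reassoc (attr := simp)]
lemma β_δ_app (X : C) (n : ℕ) :
    (NatTrans.rightDerived T.β n).app X ≫ (T.δ n).app X = 0 := T.β_δ' _ n

@[reassoc (attr := simp)]
lemma δ_α_app (X : C) (n : ℕ) :
    (T.δ n).app X ≫ (NatTrans.rightDerived T.α (n + 1)).app X = 0 := T.δ'_α _ n

/-- Exactness of `RⁿF₂ X ⟶ RⁿF₃ X ⟶ Rⁿ⁺¹F₁ X`. -/
lemma exact₃ (X : C) (n : ℕ) :
    (ShortComplex.mk ((NatTrans.rightDerived T.β n).app X) ((T.δ n).app X)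
      (T.β_δ_app X n)).Exact := T.exact₃' _ n

/-- Exactness of `RⁿF₃ X ⟶ Rⁿ⁺¹F₁ X ⟶ Rⁿ⁺¹F₂ X`. -/
lemma exact₁ (X : C) (n : ℕ) :
    (ShortComplex.mk ((T.δ n).app X) ((NatTrans.rightDerived T.α (n + 1)).app X)
      (T.δ_α_app X n)).Exact := T.exact₁' _ n

end FunSES

/-- Naturality of `F ⟶ F.rightDerived 0` with respect to natural transformations. -/
lemma toRightDerivedZero_naturality {F G : C ⥤ D} [F.Additive] [G.Additive] (α : F ⟶ G) (X : C) :
    F.toRightDerivedZero.app X ≫ (NatTrans.rightDerived α 0).app X =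
      α.app X ≫ G.toRightDerivedZero.app X := by
  let I := injectiveResolution X
  have h1 := HomologicalComplex.homologyπ_naturality
    ((NatTrans.mapHomologicalComplex α (ComplexShape.up ℕ)).app I.cocomplex) 0
  have h2 : I.toRightDerivedZero' F ≫ HomologicalComplex.cyclesMap
      ((NatTrans.mapHomologicalComplex α (ComplexShape.up ℕ)).app I.cocomplex) 0 =
        α.app X ≫ I.toRightDerivedZero' G := by
    rw [← cancel_mono (HomologicalComplex.iCycles _ _)]
    simp
  rw [I.rightDerived_app_eq α 0, I.toRightDerivedZero_eq F, I.toRightDerivedZero_eq G]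
  simp only [assoc, Iso.inv_hom_id_assoc]
  rw [← reassoc_of% h2]
  congr 1
  change HomologicalComplex.homologyπ _ 0 ≫ HomologicalComplex.homologyMap _ 0 ≫ _ =
    _ ≫ HomologicalComplex.homologyπ _ 0 ≫ _
  rw [reassoc_of% h1]

end Groth.Agent.Lib.Cohomology.RDerFunSES
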