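import Groth.Agent.Lib.Cohomology.Helper3_OpenAdj
import Groth.Agent.Lib.Cohomology.Helper3_RDerFunSES
import Groth.Agent.Lib.Cohomology.Helper3_RDerComp
import Groth.Agent.Lib.Cohomology.Helper3_Acyclic
import Groth.Prelude.Def_LocCohZ

set_option autoImplicit false
set_option backward.isDefEq.respectTransparency false
set_option backward.defeqAttrib.useBackward true
universe u
open CategoryTheory CategoryTheory.Limits TopologicalSpace Opposite

namespace Groth.Agent.Lib.Cohomology.LocCohSh

open Groth.Agent.Lib.Cohomology.RDerFunSES Groth.Agent.Lib.Cohomology.OpenAdj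

variable {X : TopCat.{u}} (U : Opens X)

/-- the pullback–pushforward adjunction for the inclusion of `U` -/
noncomputable abbrev adj : CohTop.pull (CohCx.incl U) ⊣ CohTop.push (CohCx.incl U) :=
  TopCat.Sheaf.pullbackPushforwardAdjunction AddCommGrpCat.{u} (CohCx.incl U)

instance push_incl_additive : (CohTop.push (CohCx.incl U)).Additive := ⟨rfl⟩

instance pull_additive : (CohTop.pull (CohCx.incl U)).Additive := (adj U).left_adjoint_additive

/-- `0 ⟶ Γ_Z ⟶ 𝟭 ⟶ j_* j⁻¹`, exact on injectives (even on flasques) -/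
noncomputable def T : FunSES (CohTop.Ab X) (CohTop.Ab X) where
  F₁ := LocCohZ.sectSuppF U
  F₂ := 𝟭 _
  F₃ := CohTop.pull (CohCx.incl U) ⋙ CohTop.push (CohCx.incl U)
  α := { app := fun F => kernel.ι ((adj U).unit.app F)
         naturality := fun F G φ => by
          dsimp [LocCohZ.sectSuppF]
          simp }
  β := (adj U).unit
  zero F := kernel.condition _
  exact I hI := by
    have : TopCat.Sheaf.IsFlasque I := isFlasque_of_injective I
    have : Epi ((adj U).unit.app I) := epi_unit_of_flasque U I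
    refine ShortComplex.ShortExact.mk' ?_ (by dsimp; infer_instance) (by dsimp; infer_instance)
    exact ShortComplex.exact_of_f_is_kernel _ (kernelIsKernel _)

end Groth.Agent.Lib.Cohomology.LocCohSh

namespace Groth.Agent.Lib.Cohomology.LocCohSh

open Groth.Agent.Lib.Cohomology.RDerFunSES Groth.Agent.Lib.Cohomology.OpenAdj

section general

variable {C : Type*} [Category C] [Abelian C] [EnoughInjectives C]
  {D : Type*} [Category D] [Abelian D]

/-- higher right derived functors of an exact functor vanish -/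
theorem isZero_rightDerived_succ_of_exact (G : C ⥤ D) [G.Additive] [PreservesFiniteLimits G]
    [PreservesFiniteColimits G] (A : C) (n : ℕ) : IsZero ((G.rightDerived (n + 1)).obj A) :=
  isZero_rightDerived_succ_of_class G (fun _ => True) (fun _ _ => trivial)
    (fun _ _ _ _ => trivial)
    (fun S hS _ => by have := hS.epi_g; infer_instance) A trivial n

end general

variable {X : TopCat.{u}} (U : Opens X)

theorem isIso_δ_app (F : CohTop.Ab X) (i : ℕ) (hi : 1 ≤ i) : IsIso (((T U).δ i).app F) := by
  obtain ⟨k, rfl⟩ : ∃ k, i = k + 1 := ⟨i - 1, by omega⟩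
  have h0 : IsZero (((T U).F₂.rightDerived (k + 1)).obj F) :=
    isZero_rightDerived_succ_of_exact (𝟭 (CohTop.Ab X)) F k
  have h1 : IsZero (((T U).F₂.rightDerived (k + 1 + 1)).obj F) :=
    isZero_rightDerived_succ_of_exact (𝟭 (CohTop.Ab X)) F (k + 1)
  have hm : Mono (((T U).δ (k + 1)).app F) :=
    ((T U).exact₃ F (k + 1)).mono_g (h0.eq_of_src _ _)
  have he : Epi (((T U).δ (k + 1)).app F) :=
    ((T U).exact₁ F (k + 1)).epi_f (h1.eq_of_tgt _ _)
  exact isIso_of_mono_of_epi _

instance push_incl_preservesFiniteLimits : PreservesFiniteLimits (CohTop.push (CohCx.incl U)) :=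
  push_preservesFiniteLimits (CohCx.incl U)

instance pull_incl_preservesFiniteLimits : PreservesFiniteLimits (CohTop.pull (CohCx.incl U)) :=
  preservesFiniteLimits_of_natIso (pullIso U).symm

instance pull_incl_preservesFiniteColimits : PreservesFiniteColimits (CohTop.pull (CohCx.incl U)) :=
  preservesFiniteColimits_of_natIso (pullIso U).symm

theorem isZero_Rpush_pull_injective (n : ℕ) (I : CohTop.Ab X) (hI : Injective I) :
    IsZero ((((CohTop.push (CohCx.incl U)).rightDerived (n + 1))).obj
      ((CohTop.pull (CohCx.incl U)).obj I)) := by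
  have : TopCat.Sheaf.IsFlasque I := isFlasque_of_injective I
  have : TopCat.Sheaf.IsFlasque (CohTop.restr I U) := Restr.isFlasque_restr U I
  have h := isZero_Rpush_succ_of_flasque (CohCx.incl U) (CohTop.restr I U) n
  exact IsZero.of_iso h (((CohTop.push (CohCx.incl U)).rightDerived (n + 1)).mapIso ((pullIso U).app I))

/-- `ℋ^{i+1}_Z ≅ R^i j_* ∘ j⁻¹` for `i ≥ 1` -/
theorem nonempty_HZsh_succ_iso (i : ℕ) (hi : 1 ≤ i) :
    Nonempty (LocCohZ.HZsh U (i + 1) ≅ CohTop.pull (CohCx.incl U) ⋙ CohTop.Rpush (CohCx.incl U) i) := by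
  have : ∀ F, IsIso (((T U).δ i).app F) := fun F => isIso_δ_app U F i hi
  have : IsIso ((T U).δ i) := NatIso.isIso_of_isIso_app _
  obtain ⟨e⟩ := RDerComp.nonempty_rightDerived_comp_iso (CohTop.pull (CohCx.incl U))
    (CohTop.push (CohCx.incl U)) (isZero_Rpush_pull_injective U) i
  exact ⟨(asIso ((T U).δ i)).symm ≪≫ e⟩

/-- the map `j_* j⁻¹ ⟶ ℋ^1_Z` -/
noncomputable def π' : CohTop.pull (CohCx.incl U) ⋙ CohTop.push (CohCx.incl U) ⟶ LocCohZ.HZsh U 1 :=
  (T U).F₃.toRightDerivedZero ≫ (T U).δ 0

lemma unit_π'_app (F : CohTop.Ab X) : (adj U).unit.app F ≫ (π' U).app F = 0 := by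
  have h1 := toRightDerivedZero_naturality (T U).β F
  have h2 := (T U).β_δ_app F 0
  change (T U).β.app F ≫ (T U).F₃.toRightDerivedZero.app F ≫ ((T U).δ 0).app F = 0
  rw [← Category.assoc, ← h1, Category.assoc, h2, comp_zero]

lemma unit_π' : (adj U).unit ≫ π' U = 0 := by
  ext F : 2
  exact unit_π'_app U F

instance (F : CohTop.Ab X) : Epi ((π' U).app F) := by
  have h1 : IsZero (((T U).F₂.rightDerived (0 + 1)).obj F) :=
    isZero_rightDerived_succ_of_exact (𝟭 (CohTop.Ab X)) F 0
  have he : Epi (((T U).δ 0).app F) :=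
    ((T U).exact₁ F 0).epi_f (h1.eq_of_tgt _ _)
  have : PreservesFiniteLimits (T U).F₃ := by
    change PreservesFiniteLimits (CohTop.pull (CohCx.incl U) ⋙ CohTop.push (CohCx.incl U))
    infer_instance
  change Epi ((T U).F₃.toRightDerivedZero.app F ≫ ((T U).δ 0).app F)
  infer_instance

lemma exact_unit_π' (F : CohTop.Ab X) :
    (ShortComplex.mk ((adj U).unit.app F) ((π' U).app F) (unit_π'_app U F)).Exact := by
  have : PreservesFiniteLimits (T U).F₃ := by
    change PreservesFiniteLimits (CohTop.pull (CohCx.incl U) ⋙ CohTop.push (CohCx.incl U))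
    infer_instance
  have : PreservesFiniteLimits (T U).F₂ := by
    change PreservesFiniteLimits (𝟭 (CohTop.Ab X))
    infer_instance
  have h := (T U).exact₃ F 0
  refine ShortComplex.exact_of_iso ?_ h
  refine ShortComplex.isoMk (asIso ((T U).F₂.toRightDerivedZero.app F)).symm
    (asIso ((T U).F₃.toRightDerivedZero.app F)).symm (Iso.refl _) ?_ ?_
  · have hn := toRightDerivedZero_naturality (T U).β F
    have key : inv ((T U).F₂.toRightDerivedZero.app F) ≫ (T U).β.app F =
        (NatTrans.rightDerived (T U).β 0).app F ≫ inv ((T U).F₃.toRightDerivedZero.app F) := by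
      rw [IsIso.inv_comp_eq, ← Category.assoc, IsIso.eq_comp_inv]
      exact hn.symm
    exact key
  · dsimp [π']
    simp

/-- `ℋ^1_Z` is the cokernel of the unit `𝟭 ⟶ j_* j⁻¹` -/
noncomputable def isColimitπ' : IsColimit (CokernelCofork.ofπ (π' U) (unit_π' U)) :=
  evaluationJointlyReflectsColimits _ (fun F =>
    (isColimitMapCoconeCoforkEquiv' ((evaluation _ _).obj F) (unit_π' U)).symm
      (exact_unit_π' U F).gIsCokernel)

theorem nonempty_HZsh_one_iso :
    Nonempty (LocCohZ.HZsh U 1 ≅ cokernel (adj U).unit) :=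
  ⟨IsColimit.coconePointUniqueUpToIso (isColimitπ' U) (colimit.isColimit _)⟩

end Groth.Agent.Lib.Cohomology.LocCohSh
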