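import Groth.Agent.Lib.Cohomology.helper5_HomologyComparisonBelow
import Groth.Agent.Lib.Helper34.EtLocCohLES
import Groth.Prelude.Def_EtDepth

/-!
# Étale depth along a smaller closed subset (helper3)

For open immersions `j : U → X`, `k : V → X` with `U ⊆ V` (so `Z = X ∖ V ⊆ Y = X ∖ U`):

* `preservesFiniteLimits_secSupp` : `Γ_Z` (`EtDual.secSupp k`) is left exact;
* `isZero_secSupp_push` : `Γ_Z (j_* G) = 0`;
* `isIso_secSupp_map_ι` : `Γ_Z (Γ_Y F) → Γ_Z F` is an isomorphism;
* `rAcyc_secSupp_injective` : `Γ_Y I` is `Γ_Z`-acyclic for `I` injective;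
* `depthGE_of_range_subset` : `depth_Y F ≥ n → depth_Z F ≥ n`.
-/

set_option autoImplicit false
universe u
open CategoryTheory CategoryTheory.Limits AlgebraicGeometry Opposite

namespace Groth.Agent.Lib.Cohomology.EtDepthMono

open Groth.Agent.Lib.Cohomology.HomCmp Groth.Agent.Lib.Helper34 Groth.Agent.Lib.Helper47
open Groth.Agent.Lib.Helper34.EtLocCohLES

section LeftExact

variable {X V : Scheme.{u}} (k : V ⟶ X) [IsOpenImmersion k]

lemma secSupp_map_ι {F G : EtCoh.Ab X} (φ : F ⟶ G) :
    (EtDual.secSupp k).map φ ≫ kernel.ι (EtDual.unitApp k G) =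
      kernel.ι (EtDual.unitApp k F) ≫ φ := by
  dsimp [EtDual.secSupp]
  simp

lemma mono_secSupp_map {F G : EtCoh.Ab X} (φ : F ⟶ G) [Mono φ] :
    Mono ((EtDual.secSupp k).map φ) := by
  haveI : Mono (kernel.ι (EtDual.unitApp k F) ≫ φ) := mono_comp _ _
  exact mono_of_mono_fac (secSupp_map_ι k φ)

lemma unit_naturality {F G : EtCoh.Ab X} (φ : F ⟶ G) :
    φ ≫ EtDual.unitApp k G =
      EtDual.unitApp k F ≫ (EtCoh.push k).map ((EtCoh.pull k).map φ) :=
  (EtCoh.pullPushAdj k).unit.naturality φ

lemma exists_lift (S : ShortComplex (EtCoh.Ab X)) (hS : S.ShortExact) {T : EtCoh.Ab X}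
    (t : T ⟶ (EtDual.secSupp k).obj S.X₂) (ht : t ≫ (EtDual.secSupp k).map S.g = 0) :
    ∃ s : T ⟶ (EtDual.secSupp k).obj S.X₁, s ≫ (EtDual.secSupp k).map S.f = t := by
  haveI := hS.mono_f
  haveI : Mono ((EtCoh.push k).map ((EtCoh.pull k).map S.f)) := inferInstance
  have hpf : (t ≫ kernel.ι (EtDual.unitApp k S.X₂)) ≫ S.g = 0 := by
    have h1 : (t ≫ (EtDual.secSupp k).map S.g) ≫ kernel.ι (EtDual.unitApp k S.X₃) = 0 := by
      rw [ht, zero_comp]
    rw [Category.assoc, secSupp_map_ι] at h1
    rw [Category.assoc]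
    exact h1
  obtain ⟨r, hr⟩ : ∃ r : T ⟶ S.X₁, r ≫ S.f = t ≫ kernel.ι (EtDual.unitApp k S.X₂) :=
    ⟨hS.exact.lift _ hpf, ShortComplex.Exact.lift_f _ _ _⟩
  have h0 : r ≫ EtDual.unitApp k S.X₁ = 0 := by
    apply (cancel_mono ((EtCoh.push k).map ((EtCoh.pull k).map S.f))).1
    rw [Category.assoc, ← unit_naturality, ← Category.assoc, hr, Category.assoc,
      kernel.condition, comp_zero, zero_comp]
  refine ⟨kernel.lift _ r h0, ?_⟩
  apply (cancel_mono (kernel.ι (EtDual.unitApp k S.X₂))).1
  rw [Category.assoc, secSupp_map_ι, ← Category.assoc, kernel.lift_ι, hr]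

instance preservesFiniteLimits_secSupp : PreservesFiniteLimits (EtDual.secSupp k) := by
  apply ((EtDual.secSupp k).preservesFiniteLimits_tfae.out 0 3).1
  intro S hS
  haveI := hS.mono_f
  haveI hmono : Mono ((EtDual.secSupp k).map S.f) := mono_secSupp_map k S.f
  refine ⟨?_, hmono⟩
  apply ShortComplex.exact_of_f_is_kernel
  haveI : Mono (S.map (EtDual.secSupp k)).f := hmono
  exact KernelFork.IsLimit.ofι' _ _ (fun {T} t ht =>
    ⟨(exists_lift k S hS t ht).choose, (exists_lift k S hS t ht).choose_spec⟩)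

lemma isZero_secSupp_push_self (H : EtCoh.Ab V) :
    IsZero ((EtDual.secSupp k).obj ((EtCoh.push k).obj H)) := by
  haveI : Mono (EtDual.unitApp k ((EtCoh.push k).obj H)) :=
    mono_of_mono_fac (h := 𝟙 _) ((EtCoh.pullPushAdj k).right_triangle_components H)
  exact isZero_kernel_of_mono _

end LeftExact

section Two

variable {X V U : Scheme.{u}} (k : V ⟶ X) [IsOpenImmersion k]

lemma isZero_secSupp_push_comp (j' : U ⟶ V) (G : EtCoh.Ab U) :
    IsZero ((EtDual.secSupp k).obj ((EtCoh.push (j' ≫ k)).obj G)) :=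
  (isZero_secSupp_push_self k ((EtCoh.push j').obj G)).of_iso
    ((EtDual.secSupp k).mapIso ((EtCoh.pushComp k j').app G).symm)

variable (j : U ⟶ X) [IsOpenImmersion j] (hUV : Set.range j.base ⊆ Set.range k.base)

include hUV in
lemma isZero_secSupp_push (G : EtCoh.Ab U) :
    IsZero ((EtDual.secSupp k).obj ((EtCoh.push j).obj G)) := by
  obtain ⟨j', hj'⟩ : ∃ j' : U ⟶ V, j' ≫ k = j :=
    ⟨IsOpenImmersion.lift k j hUV, IsOpenImmersion.lift_fac _ _ _⟩
  subst hj'
  exact isZero_secSupp_push_comp k j' G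

include hUV in
lemma ι_comp_unit (F : EtCoh.Ab X) :
    kernel.ι (EtDual.unitApp k F) ≫ EtDual.unitApp j F = 0 := by
  rw [← secSupp_map_ι k (EtDual.unitApp j F)]
  have hz := isZero_secSupp_push k j hUV ((EtCoh.pull j).obj F)
  rw [hz.eq_of_tgt ((EtDual.secSupp k).map (EtDual.unitApp j F)) 0, zero_comp]

include hUV in
theorem isIso_secSupp_map_ι (F : EtCoh.Ab X) :
    IsIso ((EtDual.secSupp k).map (kernel.ι (EtDual.unitApp j F))) := by
  haveI hm : Mono ((EtDual.secSupp k).map (kernel.ι (EtDual.unitApp j F))) :=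
    mono_secSupp_map k _
  let t : (EtDual.secSupp k).obj F ⟶ kernel (EtDual.unitApp j F) :=
    kernel.lift _ (kernel.ι (EtDual.unitApp k F)) (ι_comp_unit k j hUV F)
  have ht : t ≫ kernel.ι (EtDual.unitApp j F) = kernel.ι (EtDual.unitApp k F) :=
    kernel.lift_ι _ _ _
  haveI : Mono ((EtCoh.push k).map ((EtCoh.pull k).map (kernel.ι (EtDual.unitApp j F)))) :=
    inferInstance
  have h0 : t ≫ EtDual.unitApp k (kernel (EtDual.unitApp j F)) = 0 := by
    rw [← cancel_mono ((EtCoh.push k).map ((EtCoh.pull k).map (kernel.ι (EtDual.unitApp j F)))),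
      Category.assoc, zero_comp, ← unit_naturality, ← Category.assoc, ht, kernel.condition]
  let s : (EtDual.secSupp k).obj F ⟶ (EtDual.secSupp k).obj (kernel (EtDual.unitApp j F)) :=
    kernel.lift _ t h0
  have hs : s ≫ (EtDual.secSupp k).map (kernel.ι (EtDual.unitApp j F)) = 𝟙 _ := by
    rw [← cancel_mono (kernel.ι (EtDual.unitApp k F)), Category.assoc, secSupp_map_ι,
      ← Category.assoc, kernel.lift_ι, ht, Category.id_comp]
  refine ⟨s, ?_, hs⟩
  rw [← cancel_mono ((EtDual.secSupp k).map (kernel.ι (EtDual.unitApp j F))), Category.assoc, hs,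
    Category.comp_id, Category.id_comp]

include hUV in
theorem rAcyc_secSupp_injective (I : EtCoh.Ab X) [hI : Injective I] :
    RAcyc (EtDual.secSupp k) ((EtDual.secSupp j).obj I) := by
  have hS := (EtLocCohLES.T j).exact I hI
  have hI₃ : Injective ((EtCoh.push j).obj ((EtCoh.pull j).obj I)) := by
    have := EtRestr.injective_pull j I
    exact EtRestr.injective_push j _
  refine rAcyc_X₁_of_injective (EtDual.secSupp k) _ hS hI hI₃ ?_
  have hz : IsZero ((EtDual.secSupp k).obj ((EtCoh.push j).obj ((EtCoh.pull j).obj I))) :=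
    isZero_secSupp_push k j hUV _
  exact ⟨fun a b _ => hz.eq_of_src a b⟩

include hUV in
theorem depthGE_of_range_subset (F : EtCoh.Ab X) (n : ℕ) (h : EtDepth.DepthGE j F n) :
    EtDepth.DepthGE k F n := by
  intro p hp
  let I := injectiveResolution F
  let K := ((EtDual.secSupp j).mapHomologicalComplex (ComplexShape.up ℕ)).obj I.cocomplex
  have hK : IsIso (RDer.homologyComparison (EtDual.secSupp k) K p) := by
    apply isIso_homologyComparison_of_vanishing_below (rAcycClass (EtDual.secSupp k)) _ ?_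
      (rAcyc_of_isZero (EtDual.secSupp k)) p ?_
    · intro m
      haveI : Injective (I.cocomplex.X m) := I.injective m
      exact rAcyc_secSupp_injective k j hUV _
    · intro m hm
      have hz : IsZero (((EtDual.secSupp j).rightDerived m).obj F) := h m (by omega)
      exact IsZero.of_iso hz (I.isoRightDerivedObj (EtDual.secSupp j) m).symm
  have hKp : IsZero (K.homology p) := by
    have hz : IsZero (((EtDual.secSupp j).rightDerived p).obj F) := h p hp
    exact IsZero.of_iso hz (I.isoRightDerivedObj (EtDual.secSupp j) p).symm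
  have h1 : IsZero ((((EtDual.secSupp k).mapHomologicalComplex (ComplexShape.up ℕ)).obj K).homology p) :=
    IsZero.of_iso ((EtDual.secSupp k).map_isZero hKp)
      (asIso (RDer.homologyComparison (EtDual.secSupp k) K p))
  let e : ((EtDual.secSupp k).mapHomologicalComplex (ComplexShape.up ℕ)).obj K ≅
      ((EtDual.secSupp k).mapHomologicalComplex (ComplexShape.up ℕ)).obj I.cocomplex :=
    HomologicalComplex.Hom.isoOfComponents
      (fun m => @asIso _ _ _ _
        ((EtDual.secSupp k).map (kernel.ι (EtDual.unitApp j (I.cocomplex.X m))))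
        (isIso_secSupp_map_ι k j hUV (I.cocomplex.X m)))
      (by
        intro a b _
        change (EtDual.secSupp k).map (kernel.ι (EtDual.unitApp j (I.cocomplex.X a))) ≫
            (EtDual.secSupp k).map (I.cocomplex.d a b) =
          (EtDual.secSupp k).map ((EtDual.secSupp j).map (I.cocomplex.d a b)) ≫
            (EtDual.secSupp k).map (kernel.ι (EtDual.unitApp j (I.cocomplex.X b)))
        rw [← Functor.map_comp, ← Functor.map_comp, secSupp_map_ι])
  have h2 : IsZero ((((EtDual.secSupp k).mapHomologicalComplex (ComplexShape.up ℕ)).obj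
      I.cocomplex).homology p) :=
    IsZero.of_iso h1 ((HomologicalComplex.homologyFunctor _ _ p).mapIso e).symm
  change IsZero (((EtDual.secSupp k).rightDerived p).obj F)
  exact IsZero.of_iso h2 (I.isoRightDerivedObj (EtDual.secSupp k) p)

end Two

end Groth.Agent.Lib.Cohomology.EtDepthMono
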