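import Groth.Prelude.Def_SpSeq
import Mathlib.Algebra.Category.Grp.Abelian
import Mathlib.Algebra.Category.Grp.Zero
import Mathlib.Algebra.Homology.ShortComplex.Ab
import Mathlib.Data.Int.Interval
import Mathlib.Order.Interval.Finset.Basic

/-!
# A degenerate first-page spectral sequence

Given rows `0 → H q → A 0 q → A 1 q → ⋯` which are exact (a resolution of `H q` by the `A p q`),
there is a cohomological spectral sequence starting at page one whose first page is `A p q`
(first quadrant, horizontal differentials), whose later pages are the homology of the first page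
with zero differentials, and which abuts to `H n` with the two-step filtration
`F^p = ⊤` for `p ≤ 0`, `F^p = ⊥` for `p > 0`.
-/

set_option autoImplicit false

namespace Groth.Agent.Lib.Cohomology.DegSS

open CategoryTheory Limits

universe v u

section Gen

variable {C : Type u} [Category.{v} C] [Abelian C]
variable (Z0 : C) (A : ℕ → ℕ → C)
  (d : ∀ p q, A p q ⟶ A (p + 1) q)

/-- Objects of page one. -/
def X1 : ℤ × ℤ → C
  | (Int.ofNat p, Int.ofNat q) => A p q
  | (Int.ofNat _, Int.negSucc _) => Z0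
  | (Int.negSucc _, _) => Z0

/-- Differentials of page one. -/
def d1 : ∀ i j : ℤ × ℤ, X1 Z0 A i ⟶ X1 Z0 A j
  | (Int.ofNat p, Int.ofNat q), (Int.ofNat p', Int.ofNat q') =>
      if h : p + 1 = p' ∧ q = q' then
        d p q ≫ eqToHom (by obtain ⟨rfl, rfl⟩ := h; rfl)
      else 0
  | (Int.ofNat _, Int.ofNat _), (Int.ofNat _, Int.negSucc _) => 0
  | (Int.ofNat _, Int.ofNat _), (Int.negSucc _, _) => 0
  | (Int.ofNat _, Int.negSucc _), _ => 0
  | (Int.negSucc _, _), _ => 0

lemma d1_eq (p q : ℕ) :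
    d1 Z0 A d (Int.ofNat p, Int.ofNat q) (Int.ofNat (p + 1), Int.ofNat q) = d p q := by
  simp only [d1]
  rw [dif_pos ⟨trivial, trivial⟩]
  exact Category.comp_id _

lemma d1_of_not (p q p' q' : ℕ) (h : ¬(p + 1 = p' ∧ q = q')) :
    d1 Z0 A d (Int.ofNat p, Int.ofNat q) (Int.ofNat p', Int.ofNat q') = 0 := by
  simp only [d1]
  rw [dif_neg h]

variable (hd : ∀ p q, d p q ≫ d (p + 1) q = 0)

/-- Page one, a complex of shape `up' (1, 0)` on `ℤ × ℤ`. -/
def page1 : HomologicalComplex C (ComplexShape.up' ((1 : ℤ), (0 : ℤ))) where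
  X := X1 Z0 A
  d := d1 Z0 A d
  shape := by
    rintro ⟨(p|p), (q|q)⟩ ⟨(p'|p'), (q'|q')⟩ h <;> try rfl
    apply d1_of_not
    rintro ⟨rfl, rfl⟩
    exact h rfl
  d_comp_d' := by
    rintro ⟨(p|p), (q|q)⟩ ⟨(p'|p'), (q'|q')⟩ ⟨(p''|p''), (q''|q'')⟩ _ _ <;>
      try (first | exact zero_comp | exact comp_zero)
    by_cases h1 : p + 1 = p' ∧ q = q'
    · obtain ⟨rfl, rfl⟩ := h1
      by_cases h2 : p + 1 + 1 = p'' ∧ q = q''
      · obtain ⟨rfl, rfl⟩ := h2
        rw [d1_eq, d1_eq]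
        exact hd p q
      · rw [d1_of_not _ _ _ _ _ _ _ h2, comp_zero]
    · rw [d1_of_not _ _ _ _ _ _ _ h1, zero_comp]

lemma exact_of_eq {X Y Z : C} {f f' : X ⟶ Y} {g g' : Y ⟶ Z} (w : f ≫ g = 0)
    (w' : f' ≫ g' = 0) (hf : f = f') (hg : g = g')
    (h : (ShortComplex.mk f' g' w').Exact) : (ShortComplex.mk f g w).Exact := by
  subst hf hg
  exact h

/-- Transport of a limit kernel fork along an equality of morphisms. -/
def isLimitKernelForkOfEq {X Y K : C} {g g' : X ⟶ Y} (h : g = g') (ι : K ⟶ X)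
    (w : ι ≫ g = 0) (w' : ι ≫ g' = 0) (hl : IsLimit (KernelFork.ofι ι w')) :
    IsLimit (KernelFork.ofι ι w) := by
  subst h
  exact hl

variable {Z0} (hZ0 : IsZero Z0)

include hZ0 in
lemma isZero_X1_negSucc_fst (p : ℕ) (q : ℤ) : IsZero (X1 Z0 A (Int.negSucc p, q)) := hZ0

include hZ0 in
lemma isZero_X1_negSucc_snd (p : ℤ) (q : ℕ) : IsZero (X1 Z0 A (p, Int.negSucc q)) := by
  cases p <;> exact hZ0

include hZ0 in
lemma isZero_X1 (pq : ℤ × ℤ) (h : pq.1 < 0 ∨ pq.2 < 0) : IsZero (X1 Z0 A pq) := by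
  obtain ⟨p, q⟩ := pq
  rcases h with h | h
  · cases p with
    | ofNat p => exact absurd h (by simp)
    | negSucc p => exact isZero_X1_negSucc_fst A hZ0 p q
  · cases q with
    | ofNat q => exact absurd h (by simp)
    | negSucc q => exact isZero_X1_negSucc_snd A hZ0 p q

lemma exactAt_of_isZero (pq : ℤ × ℤ) (h : IsZero (X1 Z0 A pq)) :
    (page1 Z0 A d hd).ExactAt pq := by
  rw [HomologicalComplex.exactAt_iff]
  exact ShortComplex.exact_of_isZero_X₂ _ h

variable (hex : ∀ p q, (ShortComplex.mk (d p q) (d (p + 1) q) (hd p q)).Exact)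

include hex in
lemma exactAt_succ (p q : ℕ) :
    (page1 Z0 A d hd).ExactAt (Int.ofNat (p + 1), Int.ofNat q) := by
  rw [HomologicalComplex.exactAt_iff' _ (Int.ofNat p, Int.ofNat q) _
    (Int.ofNat (p + 1 + 1), Int.ofNat q)
    (ComplexShape.prev_eq' _ (show (Int.ofNat p, Int.ofNat q) + ((1 : ℤ), (0 : ℤ)) = _ from rfl))
    (ComplexShape.next_eq' _ (show (Int.ofNat (p + 1), Int.ofNat q) + ((1 : ℤ), (0 : ℤ)) = _ from rfl))]
  exact exact_of_eq _ _ (d1_eq Z0 A d p q) (d1_eq Z0 A d (p + 1) q) (hex p q)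

variable (H : ℕ → C) (eps : ∀ q, H q ⟶ A 0 q) (heps : ∀ q, eps q ≫ d 0 q = 0)
  [∀ q, Mono (eps q)]
  (hex0 : ∀ q, (ShortComplex.mk (eps q) (d 0 q) (heps q)).Exact)

include hex0 in
lemma nonempty_homology_zero_iso (q : ℕ) :
    Nonempty ((page1 Z0 A d hd).homology (Int.ofNat 0, Int.ofNat q) ≅ H q) := by
  let K := page1 Z0 A d hd
  have hprev : (ComplexShape.up' ((1 : ℤ), (0 : ℤ))).prev (Int.ofNat 0, Int.ofNat q) =
      (Int.negSucc 0, Int.ofNat q) :=
    ComplexShape.prev_eq' _ (show (Int.negSucc 0, Int.ofNat q) + ((1 : ℤ), (0 : ℤ)) = _ from rfl)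
  have hnext : (ComplexShape.up' ((1 : ℤ), (0 : ℤ))).next (Int.ofNat 0, Int.ofNat q) =
      (Int.ofNat 1, Int.ofNat q) :=
    ComplexShape.next_eq' _ (show (Int.ofNat 0, Int.ofNat q) + ((1 : ℤ), (0 : ℤ)) = _ from rfl)
  let e := K.isoSc' _ _ _ hprev hnext
  let S := K.sc' (Int.negSucc 0, Int.ofNat q) (Int.ofNat 0, Int.ofNat q) (Int.ofNat 1, Int.ofNat q)
  have hf : S.f = 0 := rfl
  have hg : S.g = d 0 q := d1_eq Z0 A d 0 q
  have w : eps q ≫ S.g = 0 := by rw [hg]; exact heps q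
  let hl : S.LeftHomologyData :=
    ShortComplex.LeftHomologyData.ofIsLimitKernelFork S hf (KernelFork.ofι (eps q) w)
      (isLimitKernelForkOfEq hg (eps q) w (heps q) (hex0 q).fIsKernel)
  exact ⟨ShortComplex.homologyMapIso e ≪≫ hl.homologyIso⟩

end Gen

section Subquot

variable {C : Type u} [Category.{v} C] [Abelian C]

lemma isZero_subquot_of_eq {X : C} (Z B : Subobject X) (h : B ≤ Z) (e : B = Z) :
    IsZero (SpSeq.subquot Z B h) := by
  subst e
  unfold SpSeq.subquot
  haveI : IsIso (B.ofLE B h) := by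
    rw [Subobject.ofLE_refl]
    infer_instance
  exact isZero_cokernel_of_epi _

lemma nonempty_subquot_top_bot_iso {X : C} (Z B : Subobject X) (h : B ≤ Z) (hZ : Z = ⊤)
    (hB : B = ⊥) : Nonempty (SpSeq.subquot Z B h ≅ X) := by
  subst hZ hB
  unfold SpSeq.subquot
  have hz : IsZero ((⊥ : Subobject X) : C) :=
    (isZero_zero C).of_iso Subobject.botCoeIsoZero
  have h0 : (⊥ : Subobject X).ofLE ⊤ h = 0 := hz.eq_of_src _ _
  exact ⟨cokernelIsoOfEq h0 ≪≫ cokernelZeroIsoTarget ≪≫ asIso (⊤ : Subobject X).arrow⟩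

end Subquot

section SS

variable {C : Type u} [Category.{v} C] [Abelian C]
variable (K : HomologicalComplex C (ComplexShape.up' ((1 : ℤ), (0 : ℤ))))

/-- The pages `r ≥ 2`: homology of page one, zero differentials. -/
noncomputable def zeroCx (r : ℤ) : HomologicalComplex C (ComplexShape.up' ((r, 1 - r) : ℤ × ℤ)) where
  X pq := K.homology pq
  d _ _ := 0
  shape _ _ _ := rfl
  d_comp_d' _ _ _ _ _ := zero_comp

/-- All the pages. -/
noncomputable def pg (r : ℤ) : HomologicalComplex C (ComplexShape.up' ((r, 1 - r) : ℤ × ℤ)) :=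
  if h : r = 1 then by subst h; exact K else zeroCx K r

lemma pg_one : pg K 1 = K := by
  simp [pg]

lemma pg_of_ne (r : ℤ) (h : r ≠ 1) : pg K r = zeroCx K r := by
  simp [pg, h]

/-- Homology of a complex with zero differentials. -/
noncomputable def zeroCxHomologyIso (r : ℤ) (pq : ℤ × ℤ) :
    (zeroCx K r).homology pq ≅ K.homology pq :=
  (ShortComplex.HomologyData.ofZeros ((zeroCx K r).sc pq) rfl rfl).left.homologyIso

/-- The degenerate spectral sequence with first page `K`. -/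
noncomputable def ss : CohomologicalSpectralSequence C 1 where
  page r _ := pg K r
  iso r r' pq hrr' hr :=
    if h : r = 1 then
      eqToIso (by
        subst h
        subst hrr'
        rw [pg_one, pg_of_ne K (1 + 1) (by decide)]
        rfl)
    else
      (HomologicalComplex.homologyFunctor C _ pq).mapIso (eqToIso (pg_of_ne K r h)) ≪≫
        zeroCxHomologyIso K r pq ≪≫ eqToIso (by
          rw [pg_of_ne K r' (by lia)]
          rfl)

lemma ss_d_eq_zero (r : ℤ) (hr : 1 ≤ r) (h2 : 2 ≤ r) (i j : ℤ × ℤ) :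
    ((ss K).page r hr).d i j = 0 := by
  show (pg K r).d i j = 0
  rw [pg_of_ne K r (by lia)]
  rfl

lemma stationaryAt (pq : ℤ × ℤ) : SpSeq.StationaryAt (ss K) pq 2 :=
  ⟨by norm_num, fun r' h₀ h => ⟨ss_d_eq_zero K r' h₀ h _ _, ss_d_eq_zero K r' h₀ h _ _⟩⟩

lemma isBounded (hX : ∀ pq : ℤ × ℤ, (pq.1 < 0 ∨ pq.2 < 0) → IsZero (K.X pq)) :
    SpSeq.IsBounded (ss K) := by
  intro n
  apply (Set.finite_Icc (0 : ℤ) n).subset
  intro p hp
  simp only [Set.mem_setOf_eq] at hp
  by_contra hcon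
  apply hp
  show IsZero ((pg K 1).X (p, n - p))
  rw [pg_one]
  apply hX
  simp only [Set.mem_Icc, not_and_or, not_le] at hcon
  rcases hcon with h | h
  · left; exact h
  · right
    show n - p < 0
    lia

variable (Hn : ℤ → C)

/-- The two-step filtration. -/
noncomputable def fil (n : ℤ) (p : ℤ) : Subobject (Hn n) := if p ≤ 0 then ⊤ else ⊥

lemma fil_anti (n : ℤ) : Antitone (fil Hn n) := by
  intro p p' h
  unfold fil
  split_ifs <;> first | exact le_rfl | exact bot_le | exact le_top | (exfalso; lia)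

variable (h0 : ∀ q : ℤ, Nonempty (K.homology (0, q) ≅ Hn (0 + q)))
  (hne : ∀ p q : ℤ, p ≠ 0 → IsZero (K.homology (p, q)))

include h0 hne in
lemma nonempty_beta (pq : ℤ × ℤ) :
    Nonempty (((ss K).page 2 (by norm_num)).X pq ≅
      SpSeq.grPiece (fil Hn (pq.1 + pq.2)) (fil_anti Hn _) pq.1) := by
  have e1 : ((ss K).page 2 (by norm_num)).X pq = K.homology pq := by
    show (pg K 2).X pq = _
    rw [pg_of_ne K 2 (by decide)]
    rfl
  by_cases hp : pq.1 = 0
  · obtain ⟨p, q⟩ := pq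
    simp only at hp
    subst hp
    obtain ⟨e⟩ := h0 q
    obtain ⟨e'⟩ := nonempty_subquot_top_bot_iso (fil Hn (0 + q) 0) (fil Hn (0 + q) (0 + 1))
      (fil_anti Hn _ (Int.le_add_one le_rfl)) (by simp [fil]) (by simp [fil])
    exact ⟨eqToIso e1 ≪≫ e ≪≫ e'.symm⟩
  · have hz1 : IsZero (K.homology pq) := hne pq.1 pq.2 hp
    have hz2 : IsZero (SpSeq.grPiece (fil Hn (pq.1 + pq.2)) (fil_anti Hn _) pq.1) := by
      apply isZero_subquot_of_eq
      unfold fil
      split_ifs <;> first | rfl | (exfalso; lia)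
    exact ⟨eqToIso e1 ≪≫ hz1.iso hz2⟩

/-- The abutment data. -/
noncomputable def abut : SpSeq.Abutment (ss K) Hn where
  fil n := fil Hn n
  anti n := fil_anti Hn n
  rk _ := 2
  stat pq := stationaryAt K pq
  β pq := Classical.choice (nonempty_beta K Hn h0 hne pq)

lemma abut_isFinite (n : ℤ) : (abut K Hn h0 hne).IsFinite n :=
  ⟨⟨0, by show fil Hn n 0 = ⊤; simp [fil]⟩, ⟨1, by show fil Hn n 1 = ⊥; simp [fil]⟩⟩

end SS

section Main

variable {C : Type u} [Category.{v} C] [Abelian C]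

lemma X1_eq_ite (Z0 : C) (A : ℕ → ℕ → C) (p q : ℤ) :
    X1 Z0 A (p, q) = if 0 ≤ p ∧ 0 ≤ q then A p.toNat q.toNat else Z0 := by
  cases p with
  | ofNat p =>
    cases q with
    | ofNat q =>
      rw [if_pos ⟨Int.natCast_nonneg p, Int.natCast_nonneg q⟩]
      rfl
    | negSucc q =>
      rw [if_neg (fun h => absurd h.2 (by simp))]
      rfl
  | negSucc p =>
    rw [if_neg (fun h => absurd h.1 (by simp))]
    rfl

/-- General form: rows `0 → H q → A 0 q → A 1 q → ⋯` exact give a degenerate spectral sequence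
starting at page one. -/
theorem exists_degenerate_spectralSequence_general (Z0 : C) (hZ0 : IsZero Z0)
    (A : ℕ → ℕ → C) (H : ℕ → C) (d : ∀ p q, A p q ⟶ A (p + 1) q) (eps : ∀ q, H q ⟶ A 0 q)
    (hd : ∀ p q, d p q ≫ d (p + 1) q = 0) (heps : ∀ q, eps q ≫ d 0 q = 0)
    [∀ q, Mono (eps q)]
    (hex0 : ∀ q, (ShortComplex.mk (eps q) (d 0 q) (heps q)).Exact)
    (hex : ∀ p q, (ShortComplex.mk (d p q) (d (p + 1) q) (hd p q)).Exact) :
    ∃ (E : CohomologicalSpectralSequence C 1)
      (a : SpSeq.Abutment E (fun n : ℤ => if 0 ≤ n then H n.toNat else Z0)),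
      (∀ n, a.IsFinite n) ∧ SpSeq.IsBounded E ∧
      ∀ p q : ℤ, Nonempty ((E.page 1 le_rfl).X (p, q) ≅
        (if 0 ≤ p ∧ 0 ≤ q then A p.toNat q.toNat else Z0)) := by
  let K := page1 Z0 A d hd
  let Hn : ℤ → C := fun n : ℤ => if 0 ≤ n then H n.toNat else Z0
  have h0 : ∀ q : ℤ, Nonempty (K.homology (0, q) ≅ Hn (0 + q)) := by
    intro q
    cases q with
    | ofNat q =>
      obtain ⟨e⟩ := nonempty_homology_zero_iso A d hd H eps heps hex0 (Z0 := Z0) q
      have e2 : H q = Hn (0 + Int.ofNat q) := by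
        simp only [Hn, zero_add]
        rw [if_pos (show (0 : ℤ) ≤ Int.ofNat q from Int.natCast_nonneg q)]
        rfl
      exact ⟨e ≪≫ eqToIso e2⟩
    | negSucc q =>
      have hz1 : IsZero (K.homology (0, Int.negSucc q)) :=
        (exactAt_of_isZero A d hd _ (isZero_X1_negSucc_snd A hZ0 0 q)).isZero_homology
      have e2 : Hn (0 + Int.negSucc q) = Z0 := by
        simp only [Hn, zero_add]
        rw [if_neg (by simp)]
      exact ⟨hz1.iso (e2 ▸ hZ0)⟩
  have hne : ∀ p q : ℤ, p ≠ 0 → IsZero (K.homology (p, q)) := by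
    intro p q hp
    cases p with
    | ofNat p =>
      cases p with
      | zero => exact absurd rfl hp
      | succ p =>
        cases q with
        | ofNat q => exact (exactAt_succ A d hd hex p q).isZero_homology
        | negSucc q =>
          exact (exactAt_of_isZero A d hd _ (isZero_X1_negSucc_snd A hZ0 _ q)).isZero_homology
    | negSucc p =>
      exact (exactAt_of_isZero A d hd _ (isZero_X1_negSucc_fst A hZ0 p q)).isZero_homology
  refine ⟨ss K, abut K Hn h0 hne, abut_isFinite K Hn h0 hne,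
    isBounded K (fun pq h => isZero_X1 A hZ0 pq h), ?_⟩
  intro p q
  have e1 : ((ss K).page 1 le_rfl).X (p, q) = X1 Z0 A (p, q) := by
    show (pg K 1).X (p, q) = _
    rw [pg_one]
    rfl
  exact ⟨eqToIso (e1.trans (X1_eq_ite Z0 A p q))⟩

end Main

section Ab

universe w

/-- The degenerate spectral sequence of exact rows of abelian groups (elementwise hypotheses). -/
theorem exists_degenerate_spectralSequence
    (A : ℕ → ℕ → AddCommGrpCat.{w}) (H : ℕ → AddCommGrpCat.{w})
    (d : ∀ p q, A p q ⟶ A (p + 1) q) (eps : ∀ q, H q ⟶ A 0 q)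
    (hd : ∀ p q, d p q ≫ d (p + 1) q = 0) (heps : ∀ q, eps q ≫ d 0 q = 0)
    (hmono : ∀ q, Function.Injective (eps q).hom)
    (hex0 : ∀ q x, (d 0 q).hom x = 0 → ∃ y, (eps q).hom y = x)
    (hex : ∀ p q x, (d (p + 1) q).hom x = 0 → ∃ y, (d p q).hom y = x) :
    ∃ (E : CohomologicalSpectralSequence AddCommGrpCat.{w} 1)
      (a : SpSeq.Abutment E (fun n : ℤ =>
        if 0 ≤ n then H n.toNat else AddCommGrpCat.of PUnit.{w + 1})),
      (∀ n, a.IsFinite n) ∧ SpSeq.IsBounded E ∧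
      ∀ p q : ℤ, Nonempty ((E.page 1 le_rfl).X (p, q) ≅
        (if 0 ≤ p ∧ 0 ≤ q then A p.toNat q.toNat else AddCommGrpCat.of PUnit.{w + 1})) := by
  haveI : ∀ q, Mono (eps q) := fun q => (AddCommGrpCat.mono_iff_injective _).mpr (hmono q)
  have hZ0 : IsZero (AddCommGrpCat.of PUnit.{w + 1}) :=
    AddCommGrpCat.isZero_of_subsingleton _
  refine exists_degenerate_spectralSequence_general _ hZ0 A H d eps hd heps ?_ ?_
  · intro q
    rw [ShortComplex.ab_exact_iff]
    exact hex0 q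
  · intro p q
    rw [ShortComplex.ab_exact_iff]
    exact hex p q

end Ab

end Groth.Agent.Lib.Cohomology.DegSS
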