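import Groth.Agent.Lib.Cohomology.Helper3_SplitSeq
import Groth.Agent.Lib.Cohomology.helper5_DegSS

/-!
# The degenerate spectral sequence of a bigraded tower of split injections (helper3)
-/

universe w

open CategoryTheory

namespace Groth.Agent.Lib.Cohomology.SplitSeq

variable {Z : ℕ → ℕ → Type w} [∀ p q, AddCommGroup (Z p q)] {H : ℕ → Type w}
  [∀ q, AddCommGroup (H q)]

theorem exists_complex
    (h0 : ∀ q, ∃ (i : H q →+ Z 0 q) (r : Z 0 q →+ H q), ∀ x, r (i x) = x)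
    (hstep : ∀ p q, ∃ (i : Z p q →+ Z (p + 1) q) (r : Z (p + 1) q →+ Z p q), ∀ x, r (i x) = x) :
    ∃ (d : ∀ p q, AddCommGrpCat.of (Z p q) ⟶ AddCommGrpCat.of (Z (p + 1) q))
      (eps : ∀ q, AddCommGrpCat.of (H q) ⟶ AddCommGrpCat.of (Z 0 q)),
      (∀ p q, d p q ≫ d (p + 1) q = 0) ∧ (∀ q, eps q ≫ d 0 q = 0) ∧
      (∀ q, Function.Injective (eps q).hom) ∧
      (∀ q x, (d 0 q).hom x = 0 → ∃ y, (eps q).hom y = x) ∧
      (∀ p q x, (d (p + 1) q).hom x = 0 → ∃ y, (d p q).hom y = x) := by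
  choose i r hir using hstep
  choose i₀ r₀ h₀ using h0
  refine ⟨fun p q => AddCommGrpCat.ofHom
      (SplitSeq.d (i₀ q) (r₀ q) (fun p => i p q) (fun p => r p q) p),
    fun q => AddCommGrpCat.ofHom (i₀ q), ?_, ?_, ?_, ?_, ?_⟩
  · intro p q
    ext x
    exact SplitSeq.d_comp_d (i₀ q) (r₀ q) (h₀ q) (fun p => i p q) (fun p => r p q)
      (fun p => hir p q) p x
  · intro q
    ext x
    exact SplitSeq.eps_comp_d (i₀ q) (r₀ q) (h₀ q) (fun p => i p q) (fun p => r p q) x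
  · intro q
    exact SplitSeq.eps_injective (Z := fun p => Z p q) (i₀ q) (r₀ q) (h₀ q)
  · intro q x hx
    exact SplitSeq.exact_zero (i₀ q) (r₀ q) (fun p => i p q) (fun p => r p q)
      (fun p => hir p q) x hx
  · intro p q x hx
    exact SplitSeq.exact_succ (i₀ q) (r₀ q) (fun p => i p q) (fun p => r p q)
      (fun p => hir p q) p x hx

/-- A bigraded tower of split injections `H q → Z 0 q → Z 1 q → ⋯` gives a bounded spectral
sequence with `E_1^{p,q} ≅ Z p q` abutting to `H n`. -/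
theorem exists_spectralSequence
    (h0 : ∀ q, ∃ (i : H q →+ Z 0 q) (r : Z 0 q →+ H q), ∀ x, r (i x) = x)
    (hstep : ∀ p q, ∃ (i : Z p q →+ Z (p + 1) q) (r : Z (p + 1) q →+ Z p q), ∀ x, r (i x) = x) :
    ∃ (E : CohomologicalSpectralSequence AddCommGrpCat.{w} 1)
      (a : SpSeq.Abutment E (fun n : ℤ =>
        if 0 ≤ n then AddCommGrpCat.of (H n.toNat) else AddCommGrpCat.of PUnit.{w + 1})),
      (∀ n, a.IsFinite n) ∧ SpSeq.IsBounded E ∧
      ∀ p q : ℤ, Nonempty ((E.page 1 le_rfl).X (p, q) ≅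
        (if 0 ≤ p ∧ 0 ≤ q then AddCommGrpCat.of (Z p.toNat q.toNat)
          else AddCommGrpCat.of PUnit.{w + 1})) := by
  obtain ⟨d, eps, hd, heps, hmono, hex0, hex⟩ := exists_complex h0 hstep
  exact DegSS.exists_degenerate_spectralSequence (fun p q => AddCommGrpCat.of (Z p q))
    (fun q => AddCommGrpCat.of (H q)) d eps hd heps hmono hex0 hex

end Groth.Agent.Lib.Cohomology.SplitSeq
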