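import Groth.Agent.Lib.Cohomology.Helper3_EtSplit
import Groth.Agent.Lib.Cohomology.Helper3_SplitSeqSS
import Mathlib.CategoryTheory.Limits.Shapes.WidePullbacks

/-!
# Input data for the degenerate étale descent spectral sequence of a morphism with a section (helper3)

For `f : X ⟶ Y` with a section `s`, the projections `δ p : X_{p+1} ⟶ X_p` between the iterated
fibre products (forget the last factor) have sections `σ p` (insert `s ∘ base` in the last factor),
and so has `base : X_0 ⟶ Y`.  Hence the pullback maps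
`H^q(Y,F) → H^q(X_0,F|X_0) → H^q(X_1,F|X_1) → ⋯` are split injections, and
`SplitSeq` turns such a tower into an exact complex.
-/

set_option autoImplicit false
open CategoryTheory CategoryTheory.Limits AlgebraicGeometry Opposite
universe u

namespace Groth.Agent.Lib.Cohomology.EtDescentSection

variable {X Y : Scheme.{u}} (f : X ⟶ Y) (s : Y ⟶ X) (hs : s ≫ f = 𝟙 Y)

/-- the `(p+1)`-fold fibre product of `X` over `Y` -/
noncomputable abbrev Xp (p : ℕ) : Scheme.{u} :=
  widePullback Y (fun _ : Fin (p + 1) => X) (fun _ => f)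

/-- its projection to `Y` -/
noncomputable abbrev bp (p : ℕ) : Xp f p ⟶ Y := WidePullback.base (fun _ : Fin (p + 1) => f)

/-- forget the last factor -/
noncomputable def δ (p : ℕ) : Xp f (p + 1) ⟶ Xp f p :=
  WidePullback.lift (bp f (p + 1)) (fun i => WidePullback.π (fun _ : Fin (p + 1 + 1) => f) (Fin.castSucc i))
    (fun i => WidePullback.π_arrow (fun _ : Fin (p + 1 + 1) => f) (Fin.castSucc i))

lemma δ_base (p : ℕ) : δ f p ≫ bp f p = bp f (p + 1) :=
  WidePullback.lift_base _ _ _ _

/-- insert `s ∘ base` as last factor -/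
noncomputable def σ (p : ℕ) : Xp f p ⟶ Xp f (p + 1) :=
  WidePullback.lift (bp f p)
    (fun j => Fin.lastCases (bp f p ≫ s) (fun i => WidePullback.π (fun _ : Fin (p + 1) => f) i) j)
    (fun j => by
      refine Fin.lastCases ?_ (fun i => ?_) j
      · rw [Fin.lastCases_last, Category.assoc, hs, Category.comp_id]
      · rw [Fin.lastCases_castSucc]
        exact WidePullback.π_arrow _ _)

lemma σ_δ (p : ℕ) : σ f s hs p ≫ δ f p = 𝟙 (Xp f p) := by
  apply WidePullback.hom_ext
  · intro i
    rw [Category.assoc, Category.id_comp]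
    unfold δ
    rw [WidePullback.lift_π]
    unfold σ
    rw [WidePullback.lift_π, Fin.lastCases_castSucc]
  · rw [Category.assoc, Category.id_comp, δ_base]
    exact WidePullback.lift_base _ _ _ _

/-- the section of `X_0 ⟶ Y` -/
noncomputable def σ₀ : Y ⟶ Xp f 0 :=
  WidePullback.lift (𝟙 Y) (fun _ => s) (fun _ => hs)

lemma σ₀_base : σ₀ f s hs ≫ bp f 0 = 𝟙 Y :=
  WidePullback.lift_base _ _ _ _

variable (F : EtCoh.Ab Y)

include s hs in
theorem exists_split_succ (p q : ℕ) :
    ∃ (i : EtCoh.H (Xp f p) ((EtCoh.pull (bp f p)).obj F) q →+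
        EtCoh.H (Xp f (p + 1)) ((EtCoh.pull (bp f (p + 1))).obj F) q)
      (r : EtCoh.H (Xp f (p + 1)) ((EtCoh.pull (bp f (p + 1))).obj F) q →+
        EtCoh.H (Xp f p) ((EtCoh.pull (bp f p)).obj F) q), ∀ x, r (i x) = x :=
  EtSplit.exists_split (δ f p) (σ f s hs p) (σ_δ f s hs p) _ _
    (((EtCore.pullComp (δ f p) (bp f p)).symm ≪≫ EtCore.pullCongr (δ_base f p)).app F) q

include s hs in
theorem exists_split_zero (q : ℕ) :
    ∃ (i : EtCoh.H Y F q →+ EtCoh.H (Xp f 0) ((EtCoh.pull (bp f 0)).obj F) q)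
      (r : EtCoh.H (Xp f 0) ((EtCoh.pull (bp f 0)).obj F) q →+ EtCoh.H Y F q),
      ∀ x, r (i x) = x :=
  EtSplit.exists_split (bp f 0) (σ₀ f s hs) (σ₀_base f s hs) F _ (Iso.refl _) q

end Groth.Agent.Lib.Cohomology.EtDescentSection
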