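import Mathlib
import Groth.Prelude.Def_EtCore
import Groth.Prelude.Def_EtShriek2
import Groth.Agent.Lib.Helper47.EtRestr
import Groth.Agent.Lib.Helper34.EtOpenUnit

/-!
# Etale Mayer-Vietoris, part 1: sections of `j_! ℤ` (helper3)
-/

set_option autoImplicit false
universe u
open CategoryTheory CategoryTheory.Limits Opposite AlgebraicGeometry

namespace Groth.Agent.Lib.Cohomology.EtMV

open Groth.Agent.Lib.Helper47 Groth.Agent.Lib.Helper34

/-- the coefficient group `ℤ` in the right universe -/
abbrev MZ : AddCommGrpCat.{u + 1} := AddCommGrpCat.of (ULift.{u + 1} ℤ)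

/-- the canonical section `1` of the constant sheaf `ℤ` over the terminal object -/
noncomputable def one (X : Scheme.{u}) : (EtCoh.const X ℤ).obj.obj (op (EtCoh.top X)) :=
  ((EtCore.constAdj X).unit.app MZ.{u}).hom (ULift.up 1)

/-- morphisms out of the constant sheaf `ℤ` are global sections -/
noncomputable def secX (X : Scheme.{u}) (G : EtCoh.Ab X) :
    (EtCoh.const X ℤ ⟶ G) → G.obj.obj (op (EtCoh.top X)) :=
  fun φ => (φ.hom.app (op (EtCoh.top X))).hom (one X)

lemma secX_eq (X : Scheme.{u}) (G : EtCoh.Ab X) (φ : EtCoh.const X ℤ ⟶ G) :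
    secX X G φ = AddCommGrpCat.uliftZMultiplesAddEquiv _
      ((EtCore.constAdj X).homEquiv MZ.{u} G φ) := by
  rw [Adjunction.homEquiv_unit]
  rfl

lemma secX_bijective (X : Scheme.{u}) (G : EtCoh.Ab X) : Function.Bijective (secX X G) := by
  have : secX X G = fun φ => AddCommGrpCat.uliftZMultiplesAddEquiv _
      ((EtCore.constAdj X).homEquiv MZ.{u} G φ) := funext (secX_eq X G)
  rw [this]
  exact (AddCommGrpCat.uliftZMultiplesAddEquiv _).bijective.comp
    ((EtCore.constAdj X).homEquiv MZ.{u} G).bijective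

section PullConst

variable {X Y : Scheme.{u}} (f : X ⟶ Y)

/-- the unit characterisation of `pullConstIso` -/
lemma unit_pullConstIso_inv (M : AddCommGrpCat.{u + 1}) :
    (EtCore.constAdj X).unit.app M ≫ (EtCore.gsec X).map ((EtCore.pullConstIso f).inv.app M) =
      ((EtCore.constAdj Y).unit.app M ≫ (EtCore.gsec Y).map ((EtCoh.pullPushAdj f).unit.app
        ((constantSheaf Y.smallEtaleTopology AddCommGrpCat.{u + 1}).obj M))) ≫
        (EtCore.pushGsecIso f).hom.app _ := by
  have h := Adjunction.unit_leftAdjointUniq_hom_app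
    (((EtCore.constAdj Y).comp (EtCoh.pullPushAdj f)).ofNatIsoRight (EtCore.pushGsecIso f))
    (EtCore.constAdj X) M
  have h2 : (EtCore.constAdj X).unit.app M ≫
      (EtCore.gsec X).map ((EtCore.pullConstIso f).inv.app M) =
      ((((EtCore.constAdj Y).comp (EtCoh.pullPushAdj f)).ofNatIsoRight
        (EtCore.pushGsecIso f)).unit.app M) := by
    rw [← h, Category.assoc, ← Functor.map_comp]
    erw [Iso.hom_inv_id_app]
    erw [CategoryTheory.Functor.map_id, Category.comp_id]
  rw [h2]
  simp only [Adjunction.ofNatIsoRight_unit, Adjunction.comp_unit_app, NatTrans.comp_app,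
    Functor.whiskerLeft_app]
  rfl

/-- the canonical section of `f^{-1} ℤ_Y` over `X` -/
lemma pullConst_inv_one :
    ((EtCore.pullConst f ℤ).inv.hom.app (op (EtCoh.top X))).hom (one X) =
      (((EtCoh.pull f).obj (EtCoh.const Y ℤ)).obj.map (EtCore.bcTopIso f).inv.op).hom
        ((((EtCoh.pullPushAdj f).unit.app (EtCoh.const Y ℤ)).hom.app (op (EtCoh.top Y))).hom
          (one Y)) := by
  have h := unit_pullConstIso_inv f MZ.{u}
  have h' := congrArg (fun k => k.hom (ULift.up 1)) h
  exact h'

end PullConst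

section Etale

variable {U X : Scheme.{u}} (j : U ⟶ X) [IsOpenImmersion j]

/-- `U` as an object of the small etale site of `X` -/
noncomputable def Uo : X.Etale := (EtShriek.compEtale j).obj (EtCoh.top U)

/-- the structure map `U ⟶ X` in the small etale site of `X` -/
noncomputable def tU : Uo j ⟶ EtCoh.top X := (EtCore.topIsTerminal X).from _

lemma pullIsoRestr_unit (G : EtCoh.Ab X) (s : G.obj.obj (op (EtCoh.top X))) :
    (((EtRestr.pullIsoRestr j).hom.app G).hom.app (op (EtCoh.top U))).hom
      ((((EtCoh.pull j).obj G).obj.map (EtCore.bcTopIso j).inv.op).hom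
        ((((EtCoh.pullPushAdj j).unit.app G).hom.app (op (EtCoh.top X))).hom s)) =
      (G.obj.map (tU j).op).hom s := by
  have h := Adjunction.unit_leftAdjointUniq_hom_app (EtCoh.pullPushAdj j)
    (EtRestr.restrPushAdj j) G
  have hnat := ((EtRestr.pullIsoRestr j).hom.app G).hom.naturality (EtCore.bcTopIso j).inv.op
  have h1 := congrArg (fun k => (k.hom.app (op (EtCoh.top X))).hom s) h
  have h2 := congrArg (fun k => k.hom
    ((((EtCoh.pullPushAdj j).unit.app G).hom.app (op (EtCoh.top X))).hom s)) hnat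
  have h3 := EtOpenUnit.unit_app_hom_app j G (EtCoh.top X)
  refine h2.trans ?_
  have h4 : (((EtRestr.pullIsoRestr j).hom.app G).hom.app (op ((EtCoh.bc j).obj (EtCoh.top X)))).hom
      ((((EtCoh.pullPushAdj j).unit.app G).hom.app (op (EtCoh.top X))).hom s) =
      (G.obj.map ((EtRestr.compBcAdj j).counit.app (EtCoh.top X)).op).hom s := by
    rw [← h3]
    exact h1
  change (G.obj.map ((EtShriek.compEtale j).map (EtCore.bcTopIso j).inv).op).hom _ = _
  erw [h4]
  rw [← ConcreteCategory.comp_apply, ← Functor.map_comp, ← op_comp]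
  congr 4
  exact (EtCore.topIsTerminal X).hom_ext _ _

/-- the adjunction `j_! ⊣ j^{-1}` with `j^{-1} = EtCoh.pull j` -/
noncomputable def adj : EtShriek.extZero j ⊣ EtCoh.pull j :=
  (EtShriek.extZeroAdj j).ofNatIsoRight (EtRestr.pullIsoRestr j).symm

/-- `j_! ℤ_U` -/
noncomputable abbrev P : EtCoh.Ab X := (EtShriek.extZero j).obj (EtCoh.const U ℤ)

/-- the canonical map `j_! ℤ_U ⟶ ℤ_X` -/
noncomputable def c : P j ⟶ EtCoh.const X ℤ :=
  ((adj j).homEquiv _ _).symm (EtCore.pullConst j ℤ).inv

/-- maps out of `j_! ℤ_U` are sections over `U` -/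
noncomputable def sec (G : EtCoh.Ab X) : (P j ⟶ G) → G.obj.obj (op (Uo j)) :=
  fun ψ => secX U ((EtShriek.restrAlong j).obj G) ((EtShriek.extZeroAdj j).homEquiv _ _ ψ)

lemma sec_injective (G : EtCoh.Ab X) : Function.Injective (sec j G) :=
  (secX_bijective U _).1.comp ((EtShriek.extZeroAdj j).homEquiv _ _).injective

lemma homEquiv_c : (EtShriek.extZeroAdj j).homEquiv _ _ (c j) =
    (EtCore.pullConst j ℤ).inv ≫ (EtRestr.pullIsoRestr j).hom.app (EtCoh.const X ℤ) := by
  unfold c adj
  rw [Adjunction.homEquiv_ofNatIsoRight_symm_apply, Equiv.apply_symm_apply]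
  rfl

lemma sec_c_comp (G : EtCoh.Ab X) (φ : EtCoh.const X ℤ ⟶ G) :
    sec j G (c j ≫ φ) = (G.obj.map (tU j).op).hom (secX X G φ) := by
  unfold sec
  rw [Adjunction.homEquiv_naturality_right, homEquiv_c]
  unfold secX
  have h1 := pullConst_inv_one j
  have h2 := pullIsoRestr_unit j (EtCoh.const X ℤ) (one X)
  have h3 := φ.hom.naturality (tU j).op
  have h4 := congrArg (fun k => k.hom (one X)) h3
  refine Eq.trans ?_ h4
  change (φ.hom.app (op (Uo j))).hom ((((EtRestr.pullIsoRestr j).hom.app (EtCoh.const X ℤ)).hom.app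
    (op (EtCoh.top U))).hom (((EtCore.pullConst j ℤ).inv.hom.app (op (EtCoh.top U))).hom (one U))) = _
  rw [h1, h2]
  rfl

end Etale

end Groth.Agent.Lib.Cohomology.EtMV
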