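import Groth.Agent.Lib.Cohomology.Helper3_EtMV1

/-!
# Etale Mayer-Vietoris, part 2: `pullConst` is compatible with composition (helper3)
-/

set_option autoImplicit false
universe u
open CategoryTheory CategoryTheory.Limits Opposite AlgebraicGeometry

namespace Groth.Agent.Lib.Cohomology.EtMV

section Comp

variable {W U X : Scheme.{u}} (k : W ⟶ U) (j : U ⟶ X)

set_option backward.isDefEq.respectTransparency.types false in
lemma pushComp_app (G : EtCoh.Ab W) (V : X.Etale) :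
    ((EtCoh.pushComp j k).hom.app G).hom.app (op V) =
      G.obj.map ((MorphismProperty.Over.pullbackComp (P := EtCoh.etaleMP) (Q := ⊤)
        k j (k ≫ j) rfl).symm.inv.app V).op := by
  unfold EtCoh.pushComp
  rw [Functor.sheafPushforwardContinuousComp'_hom_app_hom_app]
  rfl

set_option backward.isDefEq.respectTransparency.types false in
lemma pushComp_top (G : EtCoh.Ab W)
    (y : G.obj.obj (op ((EtCoh.bc k).obj ((EtCoh.bc j).obj (EtCoh.top X))))) :
    (G.obj.map (EtCore.bcTopIso (k ≫ j)).inv.op).hom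
      ((((EtCoh.pushComp j k).hom.app G).hom.app (op (EtCoh.top X))).hom y) =
    (G.obj.map (EtCore.bcTopIso k).inv.op).hom
      ((G.obj.map ((EtCoh.bc k).map (EtCore.bcTopIso j).inv).op).hom y) := by
  rw [pushComp_app]
  have hT : IsTerminal ((EtCoh.bc k).obj ((EtCoh.bc j).obj (EtCoh.top X))) :=
    IsTerminal.isTerminalObj (EtCoh.bc k) _ (EtCore.bcTopIsTerminal j)
  let a : (EtCoh.bc (k ≫ j)).obj (EtCoh.top X) ⟶ (EtCoh.bc k).obj ((EtCoh.bc j).obj (EtCoh.top X)) :=
    (MorphismProperty.Over.pullbackComp (P := EtCoh.etaleMP) (Q := ⊤)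
        k j (k ≫ j) rfl).symm.inv.app (EtCoh.top X)
  have key : G.obj.map a.op ≫ G.obj.map (EtCore.bcTopIso (k ≫ j)).inv.op =
      G.obj.map ((EtCoh.bc k).map (EtCore.bcTopIso j).inv).op ≫
        G.obj.map (EtCore.bcTopIso k).inv.op := by
    rw [← Functor.map_comp, ← Functor.map_comp, ← op_comp, ← op_comp]
    congr 2
    exact hT.hom_ext _ _
  exact congrArg (fun m => m.hom y) key


/-- the unit characterisation of `pullComp` -/
lemma unit_pullComp_inv (G : EtCoh.Ab X) :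
    (EtCoh.pullPushAdj (k ≫ j)).unit.app G =
      (((EtCoh.pullPushAdj j).unit.app G ≫ (EtCoh.push j).map ((EtCoh.pullPushAdj k).unit.app
        ((EtCoh.pull j).obj G))) ≫ (EtCoh.pushComp j k).hom.app _) ≫
        (EtCoh.push (k ≫ j)).map ((EtCore.pullComp k j).inv.app G) := by
  have h := Adjunction.unit_leftAdjointUniq_hom_app (EtCoh.pullPushAdj (k ≫ j))
    (((EtCoh.pullPushAdj j).comp (EtCoh.pullPushAdj k)).ofNatIsoRight (EtCoh.pushComp j k)) G
  have h2 : (((EtCoh.pullPushAdj j).comp (EtCoh.pullPushAdj k)).ofNatIsoRight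
      (EtCoh.pushComp j k)).unit.app G =
      ((EtCoh.pullPushAdj j).unit.app G ≫ (EtCoh.push j).map ((EtCoh.pullPushAdj k).unit.app
        ((EtCoh.pull j).obj G))) ≫ (EtCoh.pushComp j k).hom.app _ := by
    simp only [Adjunction.ofNatIsoRight_unit, Adjunction.comp_unit_app, NatTrans.comp_app,
      Functor.whiskerLeft_app]
    rfl
  rw [← h2, ← h, Category.assoc, ← Functor.map_comp]
  erw [Iso.hom_inv_id_app]
  erw [CategoryTheory.Functor.map_id, Category.comp_id]

lemma pushGsec_comp (G : EtCoh.Ab W) :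
    (EtCore.pushGsecIso j).hom.app ((EtCoh.push k).obj G) ≫ (EtCore.pushGsecIso k).hom.app G =
      (EtCore.gsec X).map ((EtCoh.pushComp j k).hom.app G) ≫
        (EtCore.pushGsecIso (k ≫ j)).hom.app G := by
  ext y
  exact (pushComp_top k j G y).symm

theorem pullConst_comp (j₃ : W ⟶ X) (w : k ≫ j = j₃) :
    (EtCore.pullConst k ℤ).inv ≫ (EtCoh.pull k).map (EtCore.pullConst j ℤ).inv ≫
      (((EtCore.pullComp k j).symm ≪≫ EtCore.pullCongr w).app (EtCoh.const X ℤ)).hom =
    (EtCore.pullConst j₃ ℤ).inv := by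
  subst w
  have hθ : (((EtCore.pullComp k j).symm ≪≫ EtCore.pullCongr rfl).app (EtCoh.const X ℤ)).hom =
      (EtCore.pullComp k j).inv.app (EtCoh.const X ℤ) := by
    simp [EtCore.pullCongr]
  rw [hθ]
  apply ((EtCore.constAdj W).homEquiv MZ.{u} _).injective
  rw [Adjunction.homEquiv_unit, Adjunction.homEquiv_unit]
  have hk : (EtCore.constAdj W).unit.app MZ.{u} ≫ (EtCore.gsec W).map (EtCore.pullConst k ℤ).inv =
      ((EtCore.constAdj U).unit.app MZ.{u} ≫ (EtCore.gsec U).map ((EtCoh.pullPushAdj k).unit.app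
        (EtCoh.const U ℤ))) ≫ (EtCore.pushGsecIso k).hom.app ((EtCoh.pull k).obj (EtCoh.const U ℤ)) :=
    unit_pullConstIso_inv k MZ.{u}
  have hj : (EtCore.constAdj U).unit.app MZ.{u} ≫ (EtCore.gsec U).map (EtCore.pullConst j ℤ).inv =
      ((EtCore.constAdj X).unit.app MZ.{u} ≫ (EtCore.gsec X).map ((EtCoh.pullPushAdj j).unit.app
        (EtCoh.const X ℤ))) ≫ (EtCore.pushGsecIso j).hom.app ((EtCoh.pull j).obj (EtCoh.const X ℤ)) :=
    unit_pullConstIso_inv j MZ.{u}
  have hkj : (EtCore.constAdj W).unit.app MZ.{u} ≫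
      (EtCore.gsec W).map (EtCore.pullConst (k ≫ j) ℤ).inv =
      ((EtCore.constAdj X).unit.app MZ.{u} ≫ (EtCore.gsec X).map ((EtCoh.pullPushAdj (k ≫ j)).unit.app
        (EtCoh.const X ℤ))) ≫
        (EtCore.pushGsecIso (k ≫ j)).hom.app ((EtCoh.pull (k ≫ j)).obj (EtCoh.const X ℤ)) :=
    unit_pullConstIso_inv (k ≫ j) MZ.{u}
  have hc := unit_pullComp_inv k j (EtCoh.const X ℤ)
  have hp := pushGsec_comp k j ((EtCoh.pull k).obj ((EtCoh.pull j).obj (EtCoh.const X ℤ)))
  have n1 : (EtCore.gsec U).map ((EtCoh.push k).map ((EtCoh.pull k).map (EtCore.pullConst j ℤ).inv)) ≫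
      (EtCore.pushGsecIso k).hom.app ((EtCoh.pull k).obj ((EtCoh.pull j).obj (EtCoh.const X ℤ))) =
      (EtCore.pushGsecIso k).hom.app ((EtCoh.pull k).obj (EtCoh.const U ℤ)) ≫
        (EtCore.gsec W).map ((EtCoh.pull k).map (EtCore.pullConst j ℤ).inv) :=
    (EtCore.pushGsecIso k).hom.naturality ((EtCoh.pull k).map (EtCore.pullConst j ℤ).inv)
  have n2 : (EtCore.pullConst j ℤ).inv ≫
      (EtCoh.pullPushAdj k).unit.app ((EtCoh.pull j).obj (EtCoh.const X ℤ)) =
      (EtCoh.pullPushAdj k).unit.app (EtCoh.const U ℤ) ≫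
        (EtCoh.push k).map ((EtCoh.pull k).map (EtCore.pullConst j ℤ).inv) :=
    (EtCoh.pullPushAdj k).unit.naturality (EtCore.pullConst j ℤ).inv
  have n3 : (EtCore.gsec X).map ((EtCoh.push j).map ((EtCoh.pullPushAdj k).unit.app
      ((EtCoh.pull j).obj (EtCoh.const X ℤ)))) ≫
      (EtCore.pushGsecIso j).hom.app ((EtCoh.push k).obj ((EtCoh.pull k).obj
        ((EtCoh.pull j).obj (EtCoh.const X ℤ)))) =
      (EtCore.pushGsecIso j).hom.app ((EtCoh.pull j).obj (EtCoh.const X ℤ)) ≫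
        (EtCore.gsec U).map ((EtCoh.pullPushAdj k).unit.app ((EtCoh.pull j).obj (EtCoh.const X ℤ))) :=
    (EtCore.pushGsecIso j).hom.naturality
      ((EtCoh.pullPushAdj k).unit.app ((EtCoh.pull j).obj (EtCoh.const X ℤ)))
  have n4 : (EtCore.gsec X).map ((EtCoh.push (k ≫ j)).map
      ((EtCore.pullComp k j).inv.app (EtCoh.const X ℤ))) ≫
      (EtCore.pushGsecIso (k ≫ j)).hom.app ((EtCoh.pull (k ≫ j)).obj (EtCoh.const X ℤ)) =
      (EtCore.pushGsecIso (k ≫ j)).hom.app ((EtCoh.pull k).obj ((EtCoh.pull j).obj (EtCoh.const X ℤ))) ≫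
        (EtCore.gsec W).map ((EtCore.pullComp k j).inv.app (EtCoh.const X ℤ)) :=
    (EtCore.pushGsecIso (k ≫ j)).hom.naturality ((EtCore.pullComp k j).inv.app (EtCoh.const X ℤ))
  rw [hkj, hc]
  simp only [Functor.map_comp, Category.assoc]
  rw [reassoc_of% hk, ← reassoc_of% n1]
  rw [← Functor.map_comp_assoc (EtCore.gsec U), ← n2, Functor.map_comp_assoc, reassoc_of% hj,
    ← reassoc_of% n3, reassoc_of% hp, n4]

end Comp

end Groth.Agent.Lib.Cohomology.EtMV
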