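import Groth.Agent.Lib.Cohomology.Helper3_EtMV2
import Groth.Agent.Lib.Helper34.SiteFree

/-!
# Etale Mayer-Vietoris, part 3: the sheaf condition for the cover `{U, V}` (helper3)
-/

set_option autoImplicit false
universe u
open CategoryTheory CategoryTheory.Limits Opposite AlgebraicGeometry

namespace Groth.Agent.Lib.Cohomology.EtMV

open Groth.Agent.Lib.Helper47 Groth.Agent.Lib.Helper34

section One

variable {U X : Scheme.{u}} (j : U ⟶ X) [IsOpenImmersion j]

lemma tU_left : (tU j).left = j := by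
  have h : (tU j).left ≫ 𝟙 X = 𝟙 U ≫ j := MorphismProperty.Over.w (tU j)
  exact (Category.comp_id _).symm.trans (h.trans (Category.id_comp _))

instance mono_tU : Mono (tU j) := by
  have hj : Mono j := inferInstance
  have h0 : Mono ((tU j).left) := by rw [tU_left]; exact hj
  exact (Scheme.Etale.forget X ⋙ Over.forget X).mono_of_mono_map (by exact h0)

/-- injective sheaves are flasque for open immersions -/
lemma surjective_res_of_injective (I : EtCoh.Ab X) [Injective I] :
    Function.Surjective (I.obj.map (tU j).op) :=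
  SiteFree.surjective_map_of_injective.{u + 1} X.smallEtaleTopology I (tU j)

end One

section Cover

variable {X : Scheme.{u}} (U V : X.Opens)

/-- the two-element family `{U, V}` in the small etale site -/
noncomputable def Yc : Bool → X.Etale := fun b => cond b (Uo U.ι) (Uo V.ι)

/-- the structure maps of the family -/
noncomputable def πc : ∀ b, Yc U V b ⟶ EtCoh.top X := fun b => (EtCore.topIsTerminal X).from _

lemma πc_true : πc U V true = tU U.ι := rfl
lemma πc_false : πc U V false = tU V.ι := rfl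

variable (hUV : U ⊔ V = ⊤)

include hUV in
lemma cover_mem : Sieve.generate (Presieve.ofArrows (Yc U V) (πc U V)) ∈
    X.smallEtaleTopology (EtCoh.top X) := by
  have eX : X.smallEtaleTopology =
      (X.smallPretopology (P := EtCoh.etaleMP) (Q := EtCoh.etaleMP)).toGrothendieck :=
    Scheme.smallGrothendieckTopology_eq_toGrothendieck_smallPretopology X le_rfl
  rw [eX]
  refine (Scheme.mem_toGrothendieck_smallPretopology (EtCoh.top X) _).2 ?_
  intro x
  have hx : (x : X) ∈ U ⊔ V := by rw [hUV]; trivial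
  rcases hx with hx | hx
  · refine ⟨Yc U V true, πc U V true, (⟨x, hx⟩ : U), Sieve.le_generate _ _ _ (Presieve.ofArrows.mk true),
      ?_, ?_⟩
    · rw [πc_true, tU_left]; exact (inferInstance : Etale U.ι)
    · rw [πc_true, tU_left]; rfl
  · refine ⟨Yc U V false, πc U V false, (⟨x, hx⟩ : V),
      Sieve.le_generate _ _ _ (Presieve.ofArrows.mk false), ?_, ?_⟩
    · rw [πc_false, tU_left]; exact (inferInstance : Etale V.ι)
    · rw [πc_false, tU_left]; rfl

include hUV in
lemma isSheafFor_cover (G : EtCoh.Ab X) :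
    (Presieve.ofArrows (Yc U V) (πc U V)).IsSheafFor (G.obj ⋙ forget AddCommGrpCat.{u + 1}) := by
  have h1 : Presieve.IsSheaf X.smallEtaleTopology (G.obj ⋙ forget AddCommGrpCat.{u + 1}) :=
    (isSheaf_iff_isSheaf_of_type _ _).1
      ((Presheaf.isSheaf_iff_isSheaf_forget _ G.obj (forget AddCommGrpCat.{u + 1})).1 G.property)
  exact (Presieve.isSheafFor_iff_generate _).2 (h1 _ (cover_mem U V hUV))

include hUV in
/-- separatedness for the cover `{U, V}` -/
lemma sep (G : EtCoh.Ab X) (s s' : G.obj.obj (op (EtCoh.top X)))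
    (h1 : (G.obj.map (tU U.ι).op).hom s = (G.obj.map (tU U.ι).op).hom s')
    (h2 : (G.obj.map (tU V.ι).op).hom s = (G.obj.map (tU V.ι).op).hom s') : s = s' := by
  refine (isSheafFor_cover U V hUV G).isSeparatedFor.ext ?_
  rintro Y f ⟨b⟩
  cases b
  · exact h2
  · exact h1

end Cover

section Glue

variable {X : Scheme.{u}} (U V : X.Opens)

lemma left_comp_ι {W : X.Opens} (Z : X.Etale) (g : Z ⟶ Uo W.ι) : g.left ≫ W.ι = Z.hom := by
  have h : g.left ≫ 𝟙 _ ≫ W.ι = Z.hom := MorphismProperty.Over.w g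
  rw [Category.id_comp] at h
  exact h

lemma exists_to (W : X.Opens) (Z : X.Etale) (hr : Set.range (Z.hom : Z.left ⟶ X) ⊆ Set.range W.ι) :
    Nonempty (Z ⟶ Uo W.ι) := by
  let g : Z.left ⟶ X := Z.hom
  let l : Z.left ⟶ (W : Scheme.{u}) := IsOpenImmersion.lift W.ι g hr
  have hg : l ≫ 𝟙 _ ≫ W.ι = g := by
    rw [Category.id_comp, IsOpenImmersion.lift_fac]
  exact ⟨MorphismProperty.Over.homMk l hg⟩

/-- an object of the small etale site mapping to both `U` and `V` maps to `U ⊓ V` -/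
lemma exists_to_inf (Z : X.Etale) (gi : Z ⟶ Uo U.ι) (gj : Z ⟶ Uo V.ι) :
    Nonempty (Z ⟶ Uo (U ⊓ V).ι) := by
  have hi := left_comp_ι Z gi
  have hj := left_comp_ι Z gj
  apply exists_to
  rw [Scheme.Opens.range_ι]
  rintro _ ⟨z, rfl⟩
  constructor
  · rw [← hi]; exact (gi.left z).2
  · rw [← hj]; exact (gj.left z).2

variable (hUV : U ⊔ V = ⊤)

include hUV in
/-- gluing for the cover `{U, V}` -/
lemma glue (G : EtCoh.Ab X) (s₁ s₂ : G.obj.obj (op (EtCoh.top X)))
    (h : (G.obj.map (tU (U ⊓ V).ι).op).hom s₁ = (G.obj.map (tU (U ⊓ V).ι).op).hom s₂) :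
    ∃ s : G.obj.obj (op (EtCoh.top X)),
      (G.obj.map (tU U.ι).op).hom s = (G.obj.map (tU U.ι).op).hom s₁ ∧
      (G.obj.map (tU V.ι).op).hom s = (G.obj.map (tU V.ι).op).hom s₂ := by
  let P := G.obj ⋙ forget AddCommGrpCat.{u + 1}
  let xx : ∀ b, P.obj (op (Yc U V b)) := fun b =>
    match b with
    | true => (G.obj.map (tU U.ι).op).hom s₁
    | false => (G.obj.map (tU V.ι).op).hom s₂
  -- restriction of a global section along any map to the terminal object
  have hres : ∀ (Z Y : X.Etale) (g : Z ⟶ Y) (t : Y ⟶ EtCoh.top X) (t' : Z ⟶ EtCoh.top X)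
      (s : G.obj.obj (op (EtCoh.top X))),
      (G.obj.map g.op).hom ((G.obj.map t.op).hom s) = (G.obj.map t'.op).hom s := by
    intro Z Y g t t' s
    have e : g ≫ t = t' := (EtCore.topIsTerminal X).hom_ext _ _
    rw [← e, op_comp, Functor.map_comp]
    rfl
  have hmix : ∀ (Z : X.Etale) (gi : Z ⟶ Uo U.ι) (gj : Z ⟶ Uo V.ι),
      (G.obj.map gi.op).hom ((G.obj.map (tU U.ι).op).hom s₁) =
        (G.obj.map gj.op).hom ((G.obj.map (tU V.ι).op).hom s₂) := by
    intro Z gi gj
    obtain ⟨w⟩ := exists_to_inf U V Z gi gj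
    rw [hres Z _ gi (tU U.ι) (w ≫ tU (U ⊓ V).ι) s₁, hres Z _ gj (tU V.ι) (w ≫ tU (U ⊓ V).ι) s₂,
      ← hres Z _ w (tU (U ⊓ V).ι) (w ≫ tU (U ⊓ V).ι) s₁,
      ← hres Z _ w (tU (U ⊓ V).ι) (w ≫ tU (U ⊓ V).ι) s₂, h]
  have hcompat : Presieve.Arrows.Compatible P (πc U V) xx := by
    intro i j Z gi gj hh
    cases i <;> cases j
    · change (G.obj.map gi.op).hom ((G.obj.map (tU V.ι).op).hom s₂) =
        (G.obj.map gj.op).hom ((G.obj.map (tU V.ι).op).hom s₂)
      exact (hres Z _ gi (tU V.ι) (gi ≫ tU V.ι) s₂).trans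
        (hres Z _ gj (tU V.ι) (gi ≫ tU V.ι) s₂).symm
    · exact (hmix Z gj gi).symm
    · exact hmix Z gi gj
    · change (G.obj.map gi.op).hom ((G.obj.map (tU U.ι).op).hom s₁) =
        (G.obj.map gj.op).hom ((G.obj.map (tU U.ι).op).hom s₁)
      exact (hres Z _ gi (tU U.ι) (gi ≫ tU U.ι) s₁).trans
        (hres Z _ gj (tU U.ι) (gi ≫ tU U.ι) s₁).symm
  obtain ⟨s, hs, -⟩ := (Presieve.isSheafFor_arrows_iff _ _).1 (isSheafFor_cover U V hUV G) xx hcompat
  exact ⟨s, hs true, hs false⟩

end Glue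

end Groth.Agent.Lib.Cohomology.EtMV
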