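import Mathlib.Algebra.Homology.DerivedCategory.Ext.Map
import Mathlib.Algebra.Homology.DerivedCategory.Ext.EnoughInjectives
import Mathlib.Algebra.Homology.DerivedCategory.Ext.ExactSequences

/-!
# Functoriality of `Ext.mapExactFunctor` in the exact functor (helper3)

Generic abelian categories with enough injectives.
* `ext_induction` : induction principle for Ext classes (degree 0 + composition with classes of
  short exact sequences).
* `mapExactFunctor_natIso` : compatibility with natural isomorphisms of exact functors.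
* `mapExactFunctor_compFunctor` : composition of exact functors.
* `mapExactFunctor_idFunctor` : identity functor.
-/

universe w w' w'' v v' v'' u u' u''

open CategoryTheory CategoryTheory.Limits CategoryTheory.Abelian

namespace Groth.Agent.Lib.Cohomology.ExtFunct

section Induction

variable {C : Type u} [Category.{v} C] [Abelian C] [HasExt.{w} C] [EnoughInjectives C]

theorem ext_induction {X : C} (P : ∀ (Y : C) (n : ℕ), Ext.{w} X Y n → Prop)
    (h0 : ∀ (Y : C) (f : X ⟶ Y), P Y 0 (Ext.mk₀ f))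
    (hs : ∀ (S : ShortComplex C) (hS : S.ShortExact) (n : ℕ) (y : Ext.{w} X S.X₃ n),
      P S.X₃ n y → P S.X₁ (n + 1) (y.comp hS.extClass rfl)) :
    ∀ (n : ℕ) (Y : C) (x : Ext.{w} X Y n), P Y n x := by
  intro n
  induction n with
  | zero =>
    intro Y x
    rw [← Ext.mk₀_homEquiv₀_apply x]
    exact h0 Y _
  | succ n ih =>
    intro Y x
    let S : ShortComplex C := ShortComplex.mk (Injective.ι Y) (cokernel.π (Injective.ι Y)) (by simp)
    have hS : S.ShortExact :=
      { exact := ShortComplex.exact_cokernel _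
        mono_f := by dsimp [S]; infer_instance
        epi_g := by dsimp [S]; infer_instance }
    have : Injective S.X₂ := by dsimp [S]; infer_instance
    obtain ⟨y, hy⟩ := Ext.covariant_sequence_exact₁ X hS x (Ext.eq_zero_of_injective _) rfl
    rw [← hy]
    exact hs S hS n y (ih _ y)

end Induction

section Functors

variable {C : Type u} [Category.{v} C] [Abelian C] [HasExt.{w} C] [EnoughInjectives C]
variable {D : Type u'} [Category.{v'} D] [Abelian D] [HasExt.{w'} D]
variable {E : Type u''} [Category.{v''} E] [Abelian E] [HasExt.{w''} E]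

omit [EnoughInjectives C] in
theorem mapExactFunctor_comp_extClass (L : C ⥤ D) [L.Additive] [PreservesFiniteLimits L]
    [PreservesFiniteColimits L] {X : C} {S : ShortComplex C} (hS : S.ShortExact) {n : ℕ}
    (y : Ext.{w} X S.X₃ n) :
    (y.comp hS.extClass rfl).mapExactFunctor L =
      (y.mapExactFunctor L).comp (hS.map_of_exact L).extClass rfl :=
  (Ext.mapExactFunctor_comp L y hS.extClass rfl).trans
    (congrArg (fun z : Ext.{w'} (L.obj S.X₃) (L.obj S.X₁) 1 => (y.mapExactFunctor L).comp z rfl)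
      (Ext.mapExactFunctor_extClass L hS))

theorem mapExactFunctor_natIso (L L' : C ⥤ D) [L.Additive] [PreservesFiniteLimits L]
    [PreservesFiniteColimits L] [L'.Additive] [PreservesFiniteLimits L']
    [PreservesFiniteColimits L'] (e : L ≅ L') {X : C} :
    ∀ (n : ℕ) (Y : C) (x : Ext.{w} X Y n),
      (x.mapExactFunctor L).comp (Ext.mk₀ (e.hom.app Y)) (add_zero n) =
        (Ext.mk₀ (e.hom.app X)).comp (x.mapExactFunctor L') (zero_add n) := by
  refine ext_induction _ ?_ ?_
  · intro Y f
    rw [Ext.mapExactFunctor_mk₀, Ext.mapExactFunctor_mk₀, Ext.mk₀_comp_mk₀, Ext.mk₀_comp_mk₀,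
      e.hom.naturality]
  · intro S hS n y ih
    have hnat : (hS.map_of_exact L).extClass.comp (Ext.mk₀ (e.hom.app S.X₁)) (add_zero 1) =
        (Ext.mk₀ (e.hom.app S.X₃)).comp (hS.map_of_exact L').extClass (zero_add 1) :=
      ShortComplex.ShortExact.extClass_naturality (hS.map_of_exact L)
        (hS.map_of_exact L') (S.mapNatTrans e.hom)
    have e1 := mapExactFunctor_comp_extClass L hS y
    have e2 := mapExactFunctor_comp_extClass L' hS y
    refine (congrArg (fun z => z.comp (Ext.mk₀ (e.hom.app S.X₁)) (add_zero (n + 1))) e1).trans ?_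
    refine Eq.trans ?_ (congrArg (fun z => (Ext.mk₀ (e.hom.app X)).comp z (zero_add (n + 1))) e2).symm
    refine (Ext.comp_assoc_of_third_deg_zero _ _ _ _).trans ?_
    refine (congrArg (fun z => (y.mapExactFunctor L).comp z rfl) hnat).trans ?_
    refine (Ext.comp_assoc_of_second_deg_zero _ _ _ _).symm.trans ?_
    refine (congrArg (fun z => z.comp (hS.map_of_exact L').extClass rfl) ih).trans ?_
    exact Ext.comp_assoc _ _ _ _ _ (by omega)

theorem mapExactFunctor_compFunctor (L : C ⥤ D) (L' : D ⥤ E) [L.Additive]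
    [PreservesFiniteLimits L] [PreservesFiniteColimits L] [L'.Additive]
    [PreservesFiniteLimits L'] [PreservesFiniteColimits L']
    [PreservesFiniteLimits (L ⋙ L')] [PreservesFiniteColimits (L ⋙ L')] {X : C} :
    ∀ (n : ℕ) (Y : C) (x : Ext.{w} X Y n),
      (x.mapExactFunctor L).mapExactFunctor L' = x.mapExactFunctor (L ⋙ L') := by
  refine ext_induction _ ?_ ?_
  · intro Y f
    rw [Ext.mapExactFunctor_mk₀, Ext.mapExactFunctor_mk₀, Ext.mapExactFunctor_mk₀]
    rfl
  · intro S hS n y ih
    refine (congrArg (fun z => z.mapExactFunctor L') (mapExactFunctor_comp_extClass L hS y)).trans ?_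
    refine (mapExactFunctor_comp_extClass L' (hS.map_of_exact L) (y.mapExactFunctor L)).trans ?_
    refine Eq.trans ?_ (mapExactFunctor_comp_extClass (L ⋙ L') hS y).symm
    exact congrArg (fun z : Ext.{w''} ((L ⋙ L').obj X) ((L ⋙ L').obj S.X₃) n =>
      z.comp (hS.map_of_exact (L ⋙ L')).extClass rfl) ih

theorem mapExactFunctor_idFunctor {X : C} :
    ∀ (n : ℕ) (Y : C) (x : Ext.{w} X Y n), x.mapExactFunctor (𝟭 C) = x := by
  refine ext_induction _ ?_ ?_
  · intro Y f
    rw [Ext.mapExactFunctor_mk₀]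
    rfl
  · intro S hS n y ih
    refine (mapExactFunctor_comp_extClass (𝟭 C) hS y).trans ?_
    exact congrArg (fun z : Ext.{w} X S.X₃ n => z.comp hS.extClass rfl) ih

/-- Apply an exact functor to an Ext class and conjugate by morphisms. -/
noncomputable def conjMap (L : C ⥤ D) [L.Additive] [PreservesFiniteLimits L]
    [PreservesFiniteColimits L] {A B : C} {A' B' : D} (α : A' ⟶ L.obj A) (β : L.obj B ⟶ B')
    (q : ℕ) : Ext.{w} A B q →+ Ext.{w'} A' B' q :=
  ((Ext.mk₀ α).precomp B' (zero_add q)).comp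
    (((Ext.mk₀ β).postcomp (L.obj A) (add_zero q)).comp (L.mapExtAddHom A B q))

omit [EnoughInjectives C] in
lemma conjMap_apply (L : C ⥤ D) [L.Additive] [PreservesFiniteLimits L]
    [PreservesFiniteColimits L] {A B : C} {A' B' : D} (α : A' ⟶ L.obj A) (β : L.obj B ⟶ B')
    (q : ℕ) (x : Ext.{w} A B q) :
    conjMap L α β q x =
      (Ext.mk₀ α).comp ((x.mapExactFunctor L).comp (Ext.mk₀ β) (add_zero q)) (zero_add q) := rfl

theorem conjMap_natIso (L L' : C ⥤ D) [L.Additive] [PreservesFiniteLimits L]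
    [PreservesFiniteColimits L] [L'.Additive] [PreservesFiniteLimits L']
    [PreservesFiniteColimits L'] (e : L ≅ L') {A B : C} {A' B' : D} (α : A' ⟶ L.obj A)
    (β : L.obj B ⟶ B') (q : ℕ) (x : Ext.{w} A B q) :
    conjMap L α β q x = conjMap L' (α ≫ e.hom.app A) (e.inv.app B ≫ β) q x := by
  rw [conjMap_apply, conjMap_apply]
  have h := mapExactFunctor_natIso L L' e q B x
  have h2 : (x.mapExactFunctor L).comp (Ext.mk₀ β) (add_zero q) =
      (Ext.mk₀ (e.hom.app A)).comp ((x.mapExactFunctor L').comp (Ext.mk₀ (e.inv.app B ≫ β))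
        (add_zero q)) (zero_add q) := by
    rw [← Ext.mk₀_comp_mk₀, ← Ext.comp_assoc_of_third_deg_zero,
      ← Ext.comp_assoc_of_second_deg_zero, ← h, Ext.comp_assoc_of_third_deg_zero,
      Ext.comp_assoc_of_third_deg_zero, Ext.mk₀_comp_mk₀_assoc, Iso.hom_inv_id_app,
      Ext.mk₀_id_comp]
  rw [h2, Ext.mk₀_comp_mk₀_assoc]

theorem conjMap_comp (L : C ⥤ D) (L' : D ⥤ E) [L.Additive]
    [PreservesFiniteLimits L] [PreservesFiniteColimits L] [L'.Additive]
    [PreservesFiniteLimits L'] [PreservesFiniteColimits L']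
    [PreservesFiniteLimits (L ⋙ L')] [PreservesFiniteColimits (L ⋙ L')]
    {A B : C} {A' B' : D} {A'' B'' : E} (α : A' ⟶ L.obj A) (β : L.obj B ⟶ B')
    (α' : A'' ⟶ L'.obj A') (β' : L'.obj B' ⟶ B'') (q : ℕ) (x : Ext.{w} A B q) :
    conjMap L' α' β' q (conjMap L α β q x) =
      conjMap (L ⋙ L') (α' ≫ L'.map α) (L'.map β ≫ β') q x := by
  rw [conjMap_apply, conjMap_apply, conjMap_apply, Ext.mapExactFunctor_comp,
    Ext.mapExactFunctor_comp, Ext.mapExactFunctor_mk₀, Ext.mapExactFunctor_mk₀,
    mapExactFunctor_compFunctor L L' q B x, ← Ext.mk₀_comp_mk₀, ← Ext.mk₀_comp_mk₀]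
  simp only [Ext.comp_assoc_of_third_deg_zero, Ext.comp_assoc_of_second_deg_zero]

theorem conjMap_id {A B A' B' : C} (α : A' ⟶ A) (β : B ⟶ B') (q : ℕ) (x : Ext.{w} A B q) :
    conjMap (𝟭 C) α β q x = (Ext.mk₀ α).comp (x.comp (Ext.mk₀ β) (add_zero q)) (zero_add q) := by
  rw [conjMap_apply, mapExactFunctor_idFunctor q B x]

omit [EnoughInjectives C] in
theorem conjMap_congr (L : C ⥤ D) [L.Additive] [PreservesFiniteLimits L]
    [PreservesFiniteColimits L] {A B : C} {A' B' : D} {α α' : A' ⟶ L.obj A} {β β' : L.obj B ⟶ B'}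
    (hα : α = α') (hβ : β = β') (q : ℕ) (x : Ext.{w} A B q) :
    conjMap L α β q x = conjMap L α' β' q x := by
  subst hα hβ; rfl

omit [EnoughInjectives C] in
/-- Conjugation by isomorphisms as an additive equivalence of Ext groups. -/
noncomputable def conjEquiv {A A' B B' : C} (i : A' ≅ A) (j : B ≅ B') (q : ℕ) :
    Ext.{w} A B q ≃+ Ext.{w} A' B' q where
  toFun x := (Ext.mk₀ i.hom).comp (x.comp (Ext.mk₀ j.hom) (add_zero q)) (zero_add q)
  invFun y := (Ext.mk₀ i.inv).comp (y.comp (Ext.mk₀ j.inv) (add_zero q)) (zero_add q)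
  left_inv x := by
    dsimp only
    rw [Ext.comp_assoc_of_third_deg_zero, Ext.mk₀_comp_mk₀_assoc, Iso.inv_hom_id, Ext.mk₀_id_comp,
      Ext.comp_assoc_of_third_deg_zero, Ext.mk₀_comp_mk₀, Iso.hom_inv_id, Ext.comp_mk₀_id]
  right_inv y := by
    dsimp only
    rw [Ext.comp_assoc_of_third_deg_zero, Ext.mk₀_comp_mk₀_assoc, Iso.hom_inv_id, Ext.mk₀_id_comp,
      Ext.comp_assoc_of_third_deg_zero, Ext.mk₀_comp_mk₀, Iso.inv_hom_id, Ext.comp_mk₀_id]
  map_add' x y := by
    rw [Ext.add_comp, Ext.comp_add]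

end Functors

end Groth.Agent.Lib.Cohomology.ExtFunct
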