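import Groth.Agent.Lib.Cohomology.Helper3_EtMV3
import Groth.Agent.Lib.Cohomology.Helper3_MVAbstract
import Groth.Agent.S0101

/-!
# Etale Mayer-Vietoris, part 4: the short exact sequence
`0 → j_{UV!} ℤ → j_{U!} ℤ ⊞ j_{V!} ℤ → ℤ → 0` and the long exact sequence (helper3)
-/

set_option autoImplicit false
universe u
open CategoryTheory CategoryTheory.Limits Opposite AlgebraicGeometry

namespace Groth.Agent.Lib.Cohomology.EtMV

open Groth.Agent.Lib.Helper47 Groth.Agent.Lib.Helper34 Groth.Agent.Lib.Cohomology.MVAbstract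
  Groth.Agent.Lib.Helper10

section Transfer

variable {W U X : Scheme.{u}} (k : W ⟶ U) (j : U ⟶ X) [IsOpenImmersion j]
  (j₃ : W ⟶ X) [IsOpenImmersion j₃] (w : k ≫ j = j₃)

/-- the comparison `j^{-1} ⋙ k^{-1} ⟶ j₃^{-1}` -/
noncomputable def θ : EtCoh.pull j ⋙ EtCoh.pull k ⟶ EtCoh.pull j₃ :=
  ((EtCore.pullComp k j).symm ≪≫ EtCore.pullCongr w).hom

/-- the transition map `j₃_! ℤ ⟶ j_! ℤ` -/
noncomputable def m : P j₃ ⟶ P j :=
  ((adj j₃).homEquiv _ _).symm ((EtCore.pullConst k ℤ).inv ≫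
    (EtCoh.pull k).map ((adj j).unit.app (EtCoh.const U ℤ)) ≫ (θ k j j₃ w).app (P j))

lemma m_comp_c : m k j j₃ w ≫ c j = c j₃ := by
  unfold m c
  rw [adjunct_comp (adj j) (adj j₃) (EtCoh.pull k) (θ k j j₃ w)]
  congr 1
  exact pullConst_comp k j j₃ w

end Transfer

section SES

variable {X : Scheme.{u}} (U V : X.Opens)

/-- `j_{UV!} ℤ ⟶ j_{U!} ℤ` -/
noncomputable abbrev m₁ : P (U ⊓ V).ι ⟶ P U.ι :=
  m (X.homOfLE (inf_le_left : U ⊓ V ≤ U)) U.ι (U ⊓ V).ι (X.homOfLE_ι inf_le_left)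

/-- `j_{UV!} ℤ ⟶ j_{V!} ℤ` -/
noncomputable abbrev m₂ : P (U ⊓ V).ι ⟶ P V.ι :=
  m (X.homOfLE (inf_le_right : U ⊓ V ≤ V)) V.ι (U ⊓ V).ι (X.homOfLE_ι inf_le_right)

lemma ses_zero : biprod.lift (m₁ U V) (-(m₂ U V)) ≫ biprod.desc (c U.ι) (c V.ι) = 0 := by
  rw [biprod.lift_desc, Preadditive.neg_comp, m_comp_c, m_comp_c, add_neg_cancel]

/-- the Mayer-Vietoris complex of sheaves -/
noncomputable abbrev sesComplex : ShortComplex (EtCoh.Ab X) :=
  ShortComplex.mk _ _ (ses_zero U V)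

variable (hUV : U ⊔ V = ⊤)

/-- lifting a map out of `j_! ℤ` to a map out of `ℤ`, for an injective target -/
lemma exists_lift_of_injective {U' : Scheme.{u}} (j : U' ⟶ X) [IsOpenImmersion j]
    (I : EtCoh.Ab X) [Injective I] (ψ : P j ⟶ I) : ∃ φ : EtCoh.const X ℤ ⟶ I, c j ≫ φ = ψ := by
  obtain ⟨s, hs⟩ := surjective_res_of_injective j I (sec j I ψ)
  obtain ⟨φ, rfl⟩ := (secX_bijective X I).2 s
  refine ⟨φ, sec_injective j I ?_⟩
  rw [sec_c_comp]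
  exact hs

include hUV in
theorem ses_shortExact : (sesComplex U V).ShortExact := by
  apply shortExact_of_injective_test
  · intro I _ φ hφ
    have h1 : c U.ι ≫ φ = 0 := by
      have := congrArg (fun t => biprod.inl ≫ t) hφ
      simpa using this
    have h2 : c V.ι ≫ φ = 0 := by
      have := congrArg (fun t => biprod.inr ≫ t) hφ
      simpa using this
    apply (secX_bijective X I).1
    apply sep U V hUV I
    · rw [← sec_c_comp, ← sec_c_comp, h1, comp_zero]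
    · rw [← sec_c_comp, ← sec_c_comp, h2, comp_zero]
  · intro I _ ψ hψ
    have hm : m₁ U V ≫ biprod.inl ≫ ψ = m₂ U V ≫ biprod.inr ≫ ψ := by
      have h0 : biprod.lift (m₁ U V) (-(m₂ U V)) ≫ ψ = 0 := hψ
      rw [biprod.lift_eq, Preadditive.add_comp, Category.assoc, Category.assoc,
        Preadditive.neg_comp, ← sub_eq_add_neg, sub_eq_zero] at h0
      exact h0
    obtain ⟨φ₁, hφ₁⟩ := exists_lift_of_injective U.ι I (biprod.inl ≫ ψ)
    obtain ⟨φ₂, hφ₂⟩ := exists_lift_of_injective V.ι I (biprod.inr ≫ ψ)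
    have h3 : c (U ⊓ V).ι ≫ φ₁ = c (U ⊓ V).ι ≫ φ₂ := by
      have e1 : m₁ U V ≫ c U.ι = c (U ⊓ V).ι := m_comp_c _ _ _ _
      have e2 : m₂ U V ≫ c V.ι = c (U ⊓ V).ι := m_comp_c _ _ _ _
      calc c (U ⊓ V).ι ≫ φ₁ = m₁ U V ≫ c U.ι ≫ φ₁ := by rw [← e1, Category.assoc]
        _ = m₂ U V ≫ c V.ι ≫ φ₂ := by rw [hφ₁, hm, ← hφ₂]
        _ = c (U ⊓ V).ι ≫ φ₂ := by rw [← e2, Category.assoc]
    have h4 : (I.obj.map (tU (U ⊓ V).ι).op).hom (secX X I φ₁) =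
        (I.obj.map (tU (U ⊓ V).ι).op).hom (secX X I φ₂) := by
      rw [← sec_c_comp, ← sec_c_comp, h3]
    obtain ⟨s, hs1, hs2⟩ := glue U V hUV I _ _ h4
    obtain ⟨φ, rfl⟩ := (secX_bijective X I).2 s
    refine ⟨φ, ?_⟩
    apply biprod.hom_ext'
    · change biprod.inl ≫ biprod.desc (c U.ι) (c V.ι) ≫ φ = biprod.inl ≫ ψ
      rw [biprod.inl_desc_assoc, ← hφ₁]
      apply sec_injective U.ι I
      rw [sec_c_comp, sec_c_comp]
      exact hs1
    · change biprod.inr ≫ biprod.desc (c U.ι) (c V.ι) ≫ φ = biprod.inr ≫ ψ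
      rw [biprod.inr_desc_assoc, ← hφ₂]
      apply sec_injective V.ι I
      rw [sec_c_comp, sec_c_comp]
      exact hs2
  · intro I _ χ
    obtain ⟨φ, hφ⟩ := exists_lift_of_injective (U ⊓ V).ι I χ
    refine ⟨biprod.fst ≫ c U.ι ≫ φ, ?_⟩
    change biprod.lift (m₁ U V) (-(m₂ U V)) ≫ biprod.fst ≫ c U.ι ≫ φ = χ
    have e1 : m₁ U V ≫ c U.ι = c (U ⊓ V).ι := m_comp_c _ _ _ _
    rw [biprod.lift_fst_assoc, ← Category.assoc, e1, hφ]

end SES

end Groth.Agent.Lib.Cohomology.EtMV
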