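import Groth.Agent.Lib.Cohomology.Helper3_EtMV4

/-!
# Etale Mayer-Vietoris, part 5: the long exact sequence (helper3)
-/

set_option autoImplicit false
universe u
open CategoryTheory CategoryTheory.Limits Opposite AlgebraicGeometry

namespace Groth.Agent.Lib.Cohomology.EtMV

open Groth.Agent.Lib.Helper47 Groth.Agent.Lib.Helper34 Groth.Agent.Lib.Cohomology.MVAbstract
  Groth.Agent.Lib.Helper10 Groth.Agent.Lib.Helper68.EtShriekExact

section Leg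

variable {U X : Scheme.{u}} (j : U ⟶ X) [IsOpenImmersion j] [PreservesFiniteLimits (EtCoh.pull j)]
  (F : EtCoh.Ab X)

/-- the adjunction isomorphism `Ext^n(j_! ℤ, F) ≃ H^n(U, j^{-1} F)` -/
noncomputable def legEquiv (n : ℕ) :
    Abelian.Ext.{u + 1} (P j) F n ≃+ EtCoh.H U ((EtCoh.pull j).obj F) n :=
  ExtAdj.extAddEquiv (adj j) (EtCoh.const U ℤ) F n

lemma legEquiv_apply (n : ℕ) (y : Abelian.Ext.{u + 1} (P j) F n) :
    legEquiv j F n y = ExtAdj.phi (adj j) (EtCoh.const U ℤ) F n y := rfl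

lemma Hpull_eq (n : ℕ) (x : EtCoh.H X F n) :
    EtCore.Hpull j F n x = legEquiv j F n ((Abelian.Ext.mk₀ (c j)).comp x (zero_add n)) := by
  rw [legEquiv_apply]
  exact (phi_precomp_adjunct (adj j) (EtCore.pullConst j ℤ).inv n x).symm

end Leg

section Via

variable {W U X : Scheme.{u}} (k : W ⟶ U) (j : U ⟶ X) [IsOpenImmersion j]
  (j₃ : W ⟶ X) [IsOpenImmersion j₃] (w : k ≫ j = j₃)
  [PreservesFiniteLimits (EtCoh.pull j)] [PreservesFiniteLimits (EtCoh.pull j₃)]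
  [PreservesFiniteLimits (EtCoh.pull k)] (F : EtCoh.Ab X)

lemma HpullVia_eq (n : ℕ) (y : Abelian.Ext.{u + 1} (P j) F n) :
    EtCore.HpullVia k j j₃ w F n (legEquiv j F n y) =
      legEquiv j₃ F n ((Abelian.Ext.mk₀ (m k j j₃ w)).comp y (zero_add n)) := by
  rw [legEquiv_apply, legEquiv_apply]
  exact (phi_precomp_transfer (adj j) (adj j₃) (EtCoh.pull k) (θ k j j₃ w)
    (EtCore.pullConst k ℤ).inv n y).symm

end Via

section Main

theorem mv (X : Scheme.{u}) (U V : X.Opens) (hUV : U ⊔ V = ⊤) (F : EtCoh.Ab X)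
    [PreservesFiniteLimits (EtCoh.pull U.ι)] [PreservesFiniteLimits (EtCoh.pull V.ι)]
    [PreservesFiniteLimits (EtCoh.pull (X.homOfLE (inf_le_left : U ⊓ V ≤ U)))]
    [PreservesFiniteLimits (EtCoh.pull (X.homOfLE (inf_le_right : U ⊓ V ≤ V)))] :
    ∃ δ : ∀ n : ℕ, EtCoh.H ↑(U ⊓ V) ((EtCoh.pull (U ⊓ V).ι).obj F) n →+ EtCoh.H X F (n + 1),
      (AddMonoidHom.prod (EtCore.Hpull U.ι F 0) (EtCore.Hpull V.ι F 0)).ker = ⊥ ∧
      (∀ n : ℕ, (AddMonoidHom.prod (EtCore.Hpull U.ι F (n + 1)) (EtCore.Hpull V.ι F (n + 1))).ker = (δ n).range) ∧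
      (∀ n : ℕ, (((EtCore.HpullVia (X.homOfLE (inf_le_left : U ⊓ V ≤ U)) U.ι (U ⊓ V).ι (X.homOfLE_ι inf_le_left) F n)).comp (AddMonoidHom.fst _ _) - ((EtCore.HpullVia (X.homOfLE (inf_le_right : U ⊓ V ≤ V)) V.ι (U ⊓ V).ι (X.homOfLE_ι inf_le_right) F n)).comp (AddMonoidHom.snd _ _)).ker =
        (AddMonoidHom.prod (EtCore.Hpull U.ι F n) (EtCore.Hpull V.ι F n)).range) ∧
      (∀ n : ℕ, (δ n).ker = (((EtCore.HpullVia (X.homOfLE (inf_le_left : U ⊓ V ≤ U)) U.ι (U ⊓ V).ι (X.homOfLE_ι inf_le_left) F n)).comp (AddMonoidHom.fst _ _) - ((EtCore.HpullVia (X.homOfLE (inf_le_right : U ⊓ V ≤ V)) V.ι (U ⊓ V).ι (X.homOfLE_ι inf_le_right) F n)).comp (AddMonoidHom.snd _ _)).range) := by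
  haveI : PreservesFiniteLimits (EtCoh.pull (U ⊓ V).ι) := Groth.Agent.S0101.result _
  exact exists_delta (c U.ι) (c V.ι) (m₁ U V) (m₂ U V) (ses_zero U V) (ses_shortExact U V hUV)
    (fun n => legEquiv U.ι F n) (fun n => legEquiv V.ι F n) (fun n => legEquiv (U ⊓ V).ι F n)
    (fun n => EtCore.Hpull U.ι F n) (fun n => EtCore.Hpull V.ι F n)
    (fun n => EtCore.HpullVia (X.homOfLE (inf_le_left : U ⊓ V ≤ U)) U.ι (U ⊓ V).ι
      (X.homOfLE_ι inf_le_left) F n)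
    (fun n => EtCore.HpullVia (X.homOfLE (inf_le_right : U ⊓ V ≤ V)) V.ι (U ⊓ V).ι
      (X.homOfLE_ι inf_le_right) F n)
    (fun n x => Hpull_eq U.ι F n x) (fun n x => Hpull_eq V.ι F n x)
    (fun n y => HpullVia_eq _ U.ι (U ⊓ V).ι _ F n y)
    (fun n y => HpullVia_eq _ V.ι (U ⊓ V).ι _ F n y)

end Main

end Groth.Agent.Lib.Cohomology.EtMV
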