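import Groth.Agent.Lib.Cohomology.Helper3_RDerComp2

/-!
# `Ext^n(A, -)` as a universal δ-functor; `Ext^n(A,-) ≅ Rⁿ Hom(A,-)` (helper3)
-/

set_option autoImplicit false
set_option backward.isDefEq.respectTransparency false
set_option backward.defeqAttrib.useBackward true
universe w v u
open CategoryTheory CategoryTheory.Limits Opposite

namespace Groth.Agent.Lib.Cohomology.ExtDelta

variable {C : Type u} [Category.{v} C] [Abelian C] [HasExt.{w} C]

open Abelian

lemma δ_nat (A : C) {S S' : ShortComplex C} (hS : S.ShortExact) (hS' : S'.ShortExact) (φ : S ⟶ S')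
    (n₀ n₁ : ℕ) (h : n₀ + 1 = n₁) (x : Ext.{w} A S.X₃ n₀) :
    (x.comp (Ext.mk₀ φ.τ₃) (add_zero n₀)).comp hS'.extClass h =
      (x.comp hS.extClass h).comp (Ext.mk₀ φ.τ₁) (add_zero n₁) := by
  rw [Ext.comp_assoc_of_second_deg_zero, ← ShortComplex.ShortExact.extClass_naturality hS hS' φ,
    Ext.comp_assoc_of_third_deg_zero]

/-- `n ↦ Ext^n(A, -)` with the connecting maps given by the class of the short exact sequence -/
noncomputable def extDelta (A : C) : DeltaF.CohDeltaFunctor C AddCommGrpCat.{w} ℕ where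
  F n := extFunctorObj A n
  additive _ := inferInstance
  δ S hS n₀ n₁ h := AddCommGrpCat.ofHom (hS.extClass.postcomp A h)
  δ_natural {S S'} hS hS' φ n₀ n₁ h := by
    ext x
    exact δ_nat A hS hS' φ n₀ n₁ h x
  exact₂ S hS n := Ext.covariant_sequence_exact₂' A hS n
  comp_δ S hS n₀ n₁ h := by
    ext x
    change (x.comp (Ext.mk₀ S.g) (add_zero n₀)).comp hS.extClass h = 0
    rw [Ext.comp_assoc_of_second_deg_zero, ShortComplex.ShortExact.comp_extClass, Ext.comp_zero]
  exact₃ S hS n₀ n₁ h := Ext.covariant_sequence_exact₃' A hS n₀ n₁ h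
  δ_comp S hS n₀ n₁ h := by
    ext x
    change (x.comp hS.extClass h).comp (Ext.mk₀ S.f) (add_zero n₁) = 0
    rw [Ext.comp_assoc_of_third_deg_zero, ShortComplex.ShortExact.extClass_comp, Ext.comp_zero]
  exact₁ S hS n₀ n₁ h := Ext.covariant_sequence_exact₁' A hS n₀ n₁ h

instance preservesFiniteLimits_extFunctorObj_zero (A : C) :
    PreservesFiniteLimits (extFunctorObj.{w} A 0) := by
  rw [Functor.preservesFiniteLimits_iff_forall_exact_map_and_mono]
  intro S hS
  have := hS.mono_f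
  exact ⟨Ext.covariant_sequence_exact₂' A hS 0, Ext.mono_postcomp_mk₀_of_mono A S.f⟩

variable [EnoughInjectives C]

theorem extDelta_isUniversal (A : C) : (extDelta.{w} A).IsUniversal :=
  Groth.Agent.S6773.result _ ((Groth.Agent.S14349.result _).2 (fun n I hI => by
    have : Subsingleton (Ext.{w} A I (n + 1)) :=
      subsingleton_of_forall_eq 0 (fun e => Ext.eq_zero_of_injective e)
    exact AddCommGrpCat.isZero_of_subsingleton (AddCommGrpCat.of (Ext.{w} A I (n + 1)))))

open Groth.Agent.Lib.Helper47.RDerLES in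
/-- if `G ≅ Hom(A, -) = Ext⁰(A, -)` then `RⁿG ≅ Extⁿ(A, -)` -/
theorem nonempty_rightDerived_iso_extFunctorObj (A : C) (G : C ⥤ AddCommGrpCat.{w}) [G.Additive]
    (e : G ≅ extFunctorObj.{w} A 0) (q : ℕ) :
    Nonempty (G.rightDerived q ≅ extFunctorObj.{w} A q) := by
  have : PreservesFiniteLimits G := preservesFiniteLimits_of_natIso e.symm
  have h1 := Groth.Agent.S16465.result G (derivedLES G)
  have h2 := extDelta_isUniversal.{w} A
  let e0 : (derivedLES G).toCohDeltaFunctor.F 0 ≅ (extDelta.{w} A).F 0 :=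
    G.rightDerivedZeroIsoSelf ≪≫ e
  obtain ⟨φ, -, -⟩ := Groth.Agent.S6774.result _ _ h1 h2 e0
  refine ⟨⟨φ.hom.app q, φ.inv.app q, ?_, ?_⟩⟩
  · exact congrArg (fun τ => DeltaF.CohDeltaFunctor.Hom.app τ q) φ.hom_inv_id
  · exact congrArg (fun τ => DeltaF.CohDeltaFunctor.Hom.app τ q) φ.inv_hom_id

end Groth.Agent.Lib.Cohomology.ExtDelta
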