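import Groth.Agent.Lib.Cohomology.helper5_RightDerivedShift
import Groth.Agent.Lib.Cohomology.helper5_ExtShift
import Groth.Agent.Lib.Cohomology.Helper3_ExtDelta

/-!
# Right derived functors of a sheaf-valued functor whose sections are `Hom(P V, -)` (helper3)

Let `A` be an abelian category with enough injectives, `D` a small site, `P : D ⥤ A` a functor and
`G : A ⥤ Sheaf K Ab` a left exact additive functor whose underlying presheaf is naturally
`V ↦ Hom(P V, F) = Ext^0(P V, F)`.  Then `(R^q G) F` is the sheafification of the presheaf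
`V ↦ Ext^q(P V, F)` (dimension shifting, following helper5's `SiteRpushSheafify`).
-/

set_option autoImplicit false
universe u v₁ u₁
open CategoryTheory CategoryTheory.Limits Opposite

namespace Groth.Agent.Lib.Cohomology.ExtPreSh

open Abelian Groth.Agent.Lib.Cohomology.ExtShift

variable {A : Type u₁} [Category.{v₁} A] [Abelian A] [HasExt.{u} A]
variable {D : Type u} [SmallCategory D] (K : GrothendieckTopology D) (P : D ⥤ A)

/-- the presheaf `V ↦ Ext^q(P V, F)` -/
noncomputable def Epre (F : A) (q : ℕ) : Dᵒᵖ ⥤ AddCommGrpCat.{u} where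
  obj V := AddCommGrpCat.of (Ext.{u} (P.obj V.unop) F q)
  map g := AddCommGrpCat.ofHom ((Ext.mk₀ (P.map g.unop)).precomp F (zero_add q))
  map_id V := by
    ext x
    change (Ext.mk₀ (P.map (𝟙 V).unop)).comp x (zero_add q) = x
    rw [unop_id, P.map_id, Ext.mk₀_id_comp]
  map_comp g g' := by
    ext x
    change (Ext.mk₀ (P.map (g ≫ g').unop)).comp x (zero_add q) =
      (Ext.mk₀ (P.map g'.unop)).comp ((Ext.mk₀ (P.map g.unop)).comp x (zero_add q)) (zero_add q)
    rw [unop_comp, P.map_comp, ← Ext.mk₀_comp_mk₀_assoc]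

lemma Epre_map_apply (F : A) (q : ℕ) {V V' : Dᵒᵖ} (g : V ⟶ V')
    (x : Ext.{u} (P.obj V.unop) F q) :
    ((Epre P F q).map g).hom x = (Ext.mk₀ (P.map g.unop)).comp x (zero_add q) := rfl

/-- functoriality in the second variable -/
noncomputable def EpreMap {F F' : A} (φ : F ⟶ F') (q : ℕ) : Epre P F q ⟶ Epre P F' q where
  app V := AddCommGrpCat.ofHom ((Ext.mk₀ φ).postcomp (P.obj V.unop) (add_zero q))
  naturality V V' g := by
    ext x
    change ((Ext.mk₀ (P.map g.unop)).comp x (zero_add q)).comp (Ext.mk₀ φ) (add_zero q) =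
      (Ext.mk₀ (P.map g.unop)).comp (x.comp (Ext.mk₀ φ) (add_zero q)) (zero_add q)
    rw [Ext.comp_assoc_of_third_deg_zero]

lemma EpreMap_app_apply {F F' : A} (φ : F ⟶ F') (q : ℕ) (V : Dᵒᵖ)
    (x : Ext.{u} (P.obj V.unop) F q) :
    ((EpreMap P φ q).app V).hom x = x.comp (Ext.mk₀ φ) (add_zero q) := rfl

variable {S : ShortComplex A} (hS : S.ShortExact)

/-- the connecting map of presheaves -/
noncomputable def δpre (q : ℕ) : Epre P S.X₃ q ⟶ Epre P S.X₁ (q + 1) where
  app V := AddCommGrpCat.ofHom (extδ hS (P.obj V.unop) q)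
  naturality V V' g := by
    ext x
    change extδ hS _ q ((Ext.mk₀ (P.map g.unop)).comp x (zero_add q)) =
      (Ext.mk₀ (P.map g.unop)).comp (extδ hS _ q x) (zero_add (q + 1))
    rw [extδ_apply, extδ_apply]
    exact Ext.comp_assoc _ _ _ (zero_add q) rfl (by omega)

lemma isIso_δpre [Injective S.X₂] (q : ℕ) : IsIso (δpre P hS (q + 1)) := by
  have : ∀ V, IsIso ((δpre P hS (q + 1)).app V) := by
    intro V
    rw [ConcreteCategory.isIso_iff_bijective]
    exact ⟨extδ_injective hS _ q (fun x => Ext.eq_zero_of_injective x),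
      extδ_surjective hS _ (q + 1) (fun x => Ext.eq_zero_of_injective x)⟩
  exact NatIso.isIso_of_isIso_app _

/-- sheafification functor on `D` -/
noncomputable abbrev shY : (Dᵒᵖ ⥤ AddCommGrpCat.{u}) ⥤ Sheaf K AddCommGrpCat.{u} :=
  presheafToSheaf K AddCommGrpCat.{u}

/-- sheafified dimension shift -/
noncomputable def sheafifyδIso [Injective S.X₂] (q : ℕ) :
    (shY K).obj (Epre P S.X₃ (q + 1)) ≅ (shY K).obj (Epre P S.X₁ (q + 2)) :=
  have := isIso_δpre P hS q
  (shY K).mapIso (asIso (δpre P hS (q + 1)))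

/-- exactness of a short complex of presheaves of abelian groups can be checked sectionwise -/
lemma functor_exact_of_app {I : Type*} [Category I] (T : ShortComplex (I ⥤ AddCommGrpCat.{u}))
    (h : ∀ j : I, (T.map ((evaluation I AddCommGrpCat.{u}).obj j)).Exact) : T.Exact := by
  rw [ShortComplex.exact_iff_isZero_homology]
  apply Functor.isZero
  intro j
  have e := T.mapHomologyIso ((evaluation I AddCommGrpCat.{u}).obj j)
  exact IsZero.of_iso ((ShortComplex.exact_iff_isZero_homology _).1 (h j)) e.symm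

lemma EpreMap_g_δpre : EpreMap P S.g 0 ≫ δpre P hS 0 = 0 := by
  ext V x
  change extδ hS _ 0 (x.comp (Ext.mk₀ S.g) (add_zero 0)) = 0
  rw [extδ_apply, Ext.comp_assoc_of_second_deg_zero, hS.comp_extClass, Ext.comp_zero]

/-- the presheaf short complex `Hom(P -, I) → Hom(P -, Q) → Ext^1(P -, F)` -/
noncomputable abbrev preSC : ShortComplex (Dᵒᵖ ⥤ AddCommGrpCat.{u}) :=
  ShortComplex.mk _ _ (EpreMap_g_δpre P hS)

lemma preSC_exact : (preSC P hS).Exact := by
  apply functor_exact_of_app
  intro V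
  rw [ShortComplex.ab_exact_iff]
  intro x hx
  have hx' : x.comp hS.extClass (zero_add 1) = 0 := hx
  obtain ⟨y, hy⟩ := Ext.covariant_sequence_exact₃ (P.obj V.unop) hS x (zero_add 1) hx'
  exact ⟨y, hy⟩

lemma epi_δpre_zero [Injective S.X₂] : Epi (δpre P hS 0) := by
  have : ∀ V, Epi ((δpre P hS 0).app V) := by
    intro V
    rw [AddCommGrpCat.epi_iff_surjective]
    exact extδ_surjective hS _ 0 (fun x => Ext.eq_zero_of_injective x)
  exact NatTrans.epi_of_epi_app _

/-- a sheaf is the sheafification of its underlying presheaf -/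
noncomputable def counitIso (G : Sheaf K AddCommGrpCat.{u}) : (shY K).obj G.obj ≅ G :=
  asIso ((sheafificationAdjunction K AddCommGrpCat.{u}).counit.app G)

lemma counitIso_naturality {G G' : Sheaf K AddCommGrpCat.{u}} (φ : G ⟶ G') :
    (shY K).map φ.hom ≫ (counitIso K G').hom = (counitIso K G).hom ≫ φ :=
  (sheafificationAdjunction K AddCommGrpCat.{u}).counit.naturality φ

lemma counitIso_inv_naturality {G G' : Sheaf K AddCommGrpCat.{u}} (φ : G ⟶ G') :
    φ ≫ (counitIso K G').inv = (counitIso K G).inv ≫ (shY K).map φ.hom := by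
  rw [Iso.comp_inv_eq, Category.assoc, counitIso_naturality, Iso.inv_hom_id_assoc]

section LeftExact

/-- `F ↦ (V ↦ Hom(P V, F))` as a functor to presheaves -/
noncomputable def EpreF : A ⥤ (Dᵒᵖ ⥤ AddCommGrpCat.{u}) where
  obj F := Epre P F 0
  map φ := EpreMap P φ 0
  map_id F := by
    ext V x
    change x.comp (Ext.mk₀ (𝟙 F)) (add_zero 0) = x
    rw [Ext.comp_mk₀_id]
  map_comp φ ψ := by
    ext V x
    change x.comp (Ext.mk₀ (φ ≫ ψ)) (add_zero 0) =
      (x.comp (Ext.mk₀ φ) (add_zero 0)).comp (Ext.mk₀ ψ) (add_zero 0)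
    rw [Ext.comp_assoc_of_third_deg_zero, Ext.mk₀_comp_mk₀]

instance : PreservesFiniteLimits (EpreF P) := by
  apply preservesFiniteLimits_of_evaluation
  intro V
  have e : EpreF P ⋙ (evaluation Dᵒᵖ AddCommGrpCat.{u}).obj V ≅
      extFunctorObj.{u} (P.obj V.unop) 0 :=
    NatIso.ofComponents (fun F => Iso.refl _) (by
      intro F F' φ
      ext x
      rfl)
  exact preservesFiniteLimits_of_natIso e.symm

variable (G : A ⥤ Sheaf K AddCommGrpCat.{u})
  (e₀ : ∀ F : A, (G.obj F).obj ≅ Epre P F 0)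
  (he₀ : ∀ {F F' : A} (φ : F ⟶ F'), (G.map φ).hom ≫ (e₀ F').hom = (e₀ F).hom ≫ EpreMap P φ 0)

include he₀ in
/-- a sheaf valued functor with sections `Hom(P V, -)` is left exact -/
theorem preservesFiniteLimits_of_iso : PreservesFiniteLimits G := by
  have e : G ⋙ sheafToPresheaf K AddCommGrpCat.{u} ≅ EpreF P :=
    NatIso.ofComponents e₀ (fun φ => he₀ φ)
  have : PreservesFiniteLimits (G ⋙ sheafToPresheaf K AddCommGrpCat.{u}) :=
    preservesFiniteLimits_of_natIso e.symm
  exact preservesFiniteLimits_of_reflects_of_preserves G (sheafToPresheaf K AddCommGrpCat.{u})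

end LeftExact

section Main

variable (G : A ⥤ Sheaf K AddCommGrpCat.{u})
  (e₀ : ∀ F : A, (G.obj F).obj ≅ Epre P F 0)
  (he₀ : ∀ {F F' : A} (φ : F ⟶ F'), (G.map φ).hom ≫ (e₀ F').hom = (e₀ F).hom ≫ EpreMap P φ 0)

/-- the sheaf-level map `G Q ⟶ sheafify (Ext^1(P -, F))` -/
noncomputable def ρ : G.obj S.X₃ ⟶ (shY K).obj (Epre P S.X₁ 1) :=
  (counitIso K (G.obj S.X₃)).inv ≫ (shY K).map ((e₀ S.X₃).hom ≫ δpre P hS 0)

lemma epi_ρ [Injective S.X₂] : Epi (ρ K P hS G e₀) := by
  have := epi_δpre_zero P hS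
  have : Epi ((e₀ S.X₃).hom ≫ δpre P hS 0) := epi_comp _ _
  have : Epi ((shY K).map ((e₀ S.X₃).hom ≫ δpre P hS 0)) := inferInstance
  exact epi_comp _ _

include he₀ in
lemma map_g_ρ : G.map S.g ≫ ρ K P hS G e₀ = 0 := by
  rw [ρ, ← Category.assoc, counitIso_inv_naturality, Category.assoc, ← Functor.map_comp,
    ← Category.assoc, he₀ S.g, Category.assoc, EpreMap_g_δpre, comp_zero, Functor.map_zero,
    comp_zero]

include he₀ in
lemma exact_ρ : (ShortComplex.mk _ _ (map_g_ρ K P hS G e₀ he₀)).Exact := by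
  have h1 : ((preSC P hS).map (shY K)).Exact := (preSC_exact P hS).map _
  refine (ShortComplex.exact_iff_of_iso ?_).2 h1
  refine ShortComplex.isoMk ((counitIso K _).symm ≪≫ (shY K).mapIso (e₀ S.X₂))
    ((counitIso K _).symm ≪≫ (shY K).mapIso (e₀ S.X₃)) (Iso.refl _) ?_ ?_
  · change ((counitIso K (G.obj S.X₂)).inv ≫ (shY K).map (e₀ S.X₂).hom) ≫
        (shY K).map (EpreMap P S.g 0) =
      G.map S.g ≫ (counitIso K (G.obj S.X₃)).inv ≫ (shY K).map (e₀ S.X₃).hom
    rw [← Category.assoc (G.map S.g), counitIso_inv_naturality, Category.assoc, Category.assoc,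
      ← Functor.map_comp, ← Functor.map_comp, he₀ S.g]
  · change ((counitIso K (G.obj S.X₃)).inv ≫ (shY K).map (e₀ S.X₃).hom) ≫
      (shY K).map (δpre P hS 0) = ρ K P hS G e₀ ≫ 𝟙 _
    rw [Category.comp_id, ρ, Category.assoc, ← Functor.map_comp]

variable [EnoughInjectives A] [G.Additive] [PreservesFiniteLimits G]

include he₀ in
/-- `R^q G F` is the sheafification of `V ↦ Ext^q(P V, F)`, positive degrees. -/
theorem rightDerived_iso_sheafify_succ (q : ℕ) : ∀ F : A,
    Nonempty ((G.rightDerived (q + 1)).obj F ≅ (shY K).obj (Epre P F (q + 1))) := by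
  induction q with
  | zero =>
    intro F
    have hS := injSES_shortExact F
    obtain ⟨π, w, hπ, hex⟩ :=
      Groth.Agent.Lib.Cohomology.RDShift.exists_rightDerived_one_cokernel hS G
    have := epi_ρ K P hS G e₀
    have hex' := exact_ρ K P hS G e₀ he₀
    exact ⟨IsColimit.coconePointUniqueUpToIso hex.gIsCokernel hex'.gIsCokernel⟩
  | succ q ih =>
    intro F
    have hS := injSES_shortExact F
    obtain ⟨e1⟩ := Groth.Agent.Lib.Cohomology.RDShift.rightDerived_shift hS G q
    obtain ⟨e2⟩ := ih (injSES F).X₃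
    exact ⟨e1 ≪≫ e2 ≪≫ sheafifyδIso K P hS q⟩

include he₀ in
/-- `R^q G F` is the sheafification of `V ↦ Ext^q(P V, F)`. -/
theorem rightDerived_iso_sheafify (q : ℕ) (F : A) :
    Nonempty ((G.rightDerived q).obj F ≅ (shY K).obj (Epre P F q)) := by
  cases q with
  | zero =>
    exact ⟨(Functor.rightDerivedZeroIsoSelf G).app F ≪≫
      (counitIso K (G.obj F)).symm ≪≫ (shY K).mapIso (e₀ F)⟩
  | succ q => exact rightDerived_iso_sheafify_succ K P G e₀ he₀ q F

end Main

end Groth.Agent.Lib.Cohomology.ExtPreSh
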