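import Groth.Agent.Lib.Cohomology.Helper3_CechH0

/-!
# Leray's theorem: Čech cohomology of an acyclic cover computes cohomology (helper3)

* `cechH0Iso V G` : `Ȟ^0(V, G) ≅ G(⋃ V)` for a sheaf `G`, natural (`cechH0Iso_naturality`).
* `sectExt0 W G` : `G(W) ≃+ Ext^0(ℤ_W, G)`, natural.
* `leray` : if `H^{q+1}(V_{i_0…i_p}, F) = 0` for all tuples and all `q`, then
  `Ȟ^p(V, F) ≃+ H^p(⋃ V, F)`.
-/

set_option autoImplicit false
universe u
open CategoryTheory CategoryTheory.Limits TopologicalSpace Opposite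

namespace Groth.Agent.Lib.Cohomology

open Cech

section General

/-- Two right exact sequences with isomorphic first two terms have isomorphic third terms. -/
theorem nonempty_iso_of_cokernels {C : Type*} [Category C] [Abelian C] {S₁ S₂ : ShortComplex C}
    (h₁ : S₁.Exact) (h₂ : S₂.Exact) [Epi S₁.g] [Epi S₂.g] (α : S₁.X₁ ≅ S₂.X₁) (β : S₁.X₂ ≅ S₂.X₂)
    (w : S₁.f ≫ β.hom = α.hom ≫ S₂.f) : Nonempty (S₁.X₃ ≅ S₂.X₃) := by
  let e₁ : cokernel S₁.f ≅ S₁.X₃ :=
    (cokernelIsCokernel S₁.f).coconePointUniqueUpToIso h₁.gIsCokernel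
  let e₂ : cokernel S₂.f ≅ S₂.X₃ :=
    (cokernelIsCokernel S₂.f).coconePointUniqueUpToIso h₂.gIsCokernel
  exact ⟨e₁.symm ≪≫ cokernel.mapIso _ _ α β w ≪≫ e₂⟩

end General

section H0

variable {X : TopCat.{u}} {ι : Type u} (V : ι → Opens X)

/-- `resCoch` as an additive map. -/
noncomputable def resCochHom (P : (Opens X)ᵒᵖ ⥤ AddCommGrpCat.{u}) {U : Opens X}
    (hU : ∀ i, V i ≤ U) : P.obj (op U) →+ (cx P V).X 0 where
  toFun := resCoch V P hU
  map_zero' := by
    apply cx_ext
    intro j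
    rw [proj_resCoch, map_zero, map_zero]
  map_add' s t := by
    apply cx_ext
    intro j
    rw [map_add, proj_resCoch, proj_resCoch, proj_resCoch, map_add]

/-- The augmentation `G(⋃ V) ⟶ C^0(V, G)`. -/
noncomputable def resHom (G : CohTop.Ab X) : G.obj.obj (op (iSup V)) ⟶ (cx G.obj V).X 0 :=
  AddCommGrpCat.ofHom (resCochHom V G.obj (le_iSup V))

lemma resHom_apply (G : CohTop.Ab X) (s : G.obj.obj (op (iSup V))) :
    resHom V G s = resCoch V G.obj (le_iSup V) s := rfl

lemma resHom_d (G : CohTop.Ab X) : resHom V G ≫ (cx G.obj V).d 0 1 = 0 := by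
  ext s
  exact d_resCoch V G.obj (le_iSup V) s

lemma resHom_injective (G : CohTop.Ab X) : Function.Injective (resHom V G) := by
  intro s t hst
  apply TopCat.Sheaf.eq_of_locally_eq G V
  intro i
  rw [map_eq_rs, map_eq_rs]
  have h1 := congrArg (proj G.obj V 0 (fun _ => i)) hst
  rw [resHom_apply, resHom_apply, proj_resCoch, proj_resCoch] at h1
  have h2 := congrArg (rs G.obj (le_inter V (fun _ : Fin 1 => i) (fun _ => le_rfl))) h1
  rw [rs_rs, rs_rs] at h2
  exact h2

instance (G : CohTop.Ab X) : Mono (resHom V G) :=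
  (AddCommGrpCat.mono_iff_injective _).2 (resHom_injective V G)

/-- The short complex `G(⋃ V) ⟶ C^0 ⟶ C^1`. -/
noncomputable abbrev augSC (G : CohTop.Ab X) : ShortComplex AddCommGrpCat.{u} :=
  ShortComplex.mk (resHom V G) ((cx G.obj V).d 0 1) (resHom_d V G)

lemma augSC_exact (G : CohTop.Ab X) : (augSC V G).Exact := by
  rw [ShortComplex.ab_exact_iff]
  intro b hb
  obtain ⟨s, hs⟩ := exists_resCoch_eq V G b hb
  exact ⟨s, hs⟩

/-- The cycles in degree `0` of the Čech complex of a sheaf are the sections over the union. -/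
noncomputable def cycles0Iso (G : CohTop.Ab X) :
    (cx G.obj V).cycles 0 ≅ G.obj.obj (op (iSup V)) :=
  IsLimit.conePointUniqueUpToIso ((cx G.obj V).cyclesIsKernel 0 1 (by simp))
    (augSC_exact V G).fIsKernel

lemma cycles0Iso_hom_resHom (G : CohTop.Ab X) :
    (cycles0Iso V G).hom ≫ resHom V G = (cx G.obj V).iCycles 0 :=
  IsLimit.conePointUniqueUpToIso_hom_comp _ _ WalkingParallelPair.zero

/-- `Ȟ^0(V, G) ≅ G(⋃ V)` for a sheaf `G`. -/
noncomputable def cechH0Iso (G : CohTop.Ab X) :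
    CohTop.cechH G.obj V 0 ≅ G.obj.obj (op (iSup V)) :=
  (cx G.obj V).isoHomologyπ₀.symm ≪≫ cycles0Iso V G

lemma resHom_naturality {G G' : CohTop.Ab X} (φ : G ⟶ G') :
    resHom V G ≫ ((cechComplexFunctor V).map φ.hom).f 0 = φ.hom.app (op (iSup V)) ≫ resHom V G' := by
  ext s
  exact map_resCoch V φ.hom (le_iSup V) s

lemma cechH0Iso_naturality {G G' : CohTop.Ab X} (φ : G ⟶ G') :
    HomologicalComplex.homologyMap ((cechComplexFunctor V).map φ.hom) 0 ≫ (cechH0Iso V G').hom =
      (cechH0Iso V G).hom ≫ φ.hom.app (op (iSup V)) := by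
  rw [← cancel_mono (resHom V G')]
  dsimp only [cechH0Iso, Iso.trans_hom, Iso.symm_hom]
  simp only [Category.assoc]
  rw [cycles0Iso_hom_resHom, ← resHom_naturality, ← Category.assoc (cycles0Iso V G).hom,
    cycles0Iso_hom_resHom, CochainComplex.isoHomologyπ₀_inv_naturality_assoc,
    HomologicalComplex.cyclesMap_i]

end H0

section Ext0

variable {X : TopCat.{u}} (W : Opens X)

/-- `G(W) ≃+ Ext^0(ℤ_W, G)`. -/
noncomputable def sectExt0 (G : CohTop.Ab X) :
    G.obj.obj (op W) ≃+ Abelian.Ext.{u} (CohCx.freeSheaf (Opens.grothendieckTopology X) W) G 0 :=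
  (CohFree.homEquivSect (Opens.grothendieckTopology X) W G).symm.trans Abelian.Ext.addEquiv₀.symm

lemma sectExt0_naturality {G G' : CohTop.Ab X} (φ : G ⟶ G') (s : G.obj.obj (op W)) :
    (sectExt0 W G s).comp (Abelian.Ext.mk₀ φ) (add_zero 0) = sectExt0 W G' (φ.hom.app (op W) s) := by
  change (Abelian.Ext.mk₀ _).comp (Abelian.Ext.mk₀ φ) _ = Abelian.Ext.mk₀ _
  rw [Abelian.Ext.mk₀_comp_mk₀]
  congr 1
  apply (CohFree.homEquivSect (Opens.grothendieckTopology X) W G').injective
  rw [CohFree.homEquivSect_apply, evalGen_comp]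
  change _ = CohFree.homEquivSect _ W G' ((CohFree.homEquivSect _ W G').symm _)
  rw [AddEquiv.apply_symm_apply]
  congr 1
  exact (CohFree.homEquivSect (Opens.grothendieckTopology X) W G).apply_symm_apply s

end Ext0


end Groth.Agent.Lib.Cohomology
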