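import Groth.Agent.Lib.Cohomology.Helper3_Leray

/-!
# Leray's theorem (helper3): main statement
-/

set_option autoImplicit false
universe u
open CategoryTheory CategoryTheory.Limits TopologicalSpace Opposite

namespace Groth.Agent.Lib.Cohomology

open Cech

section Leray

variable {X : TopCat.{u}} {ι : Type u} (V : ι → Opens X)

/-- Sections of `I(F) → I(F)/F` over `A` are surjective when `H^1(A, F) = 0`. -/
theorem surjective_sections_of_ext_one (F : CohTop.Ab X) (A : Opens X)
    (h : Subsingleton (Abelian.Ext.{u} (CohCx.freeSheaf (Opens.grothendieckTopology X) A) F 1)) :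
    Function.Surjective ((injSeq F).g.hom.app (op A)) := by
  intro q
  have hS := injSeq_shortExact F
  let φ := CohFree.ofSect (Opens.grothendieckTopology X) A (injSeq F).X₃ q
  obtain ⟨x₂, hx₂⟩ := Abelian.Ext.covariant_sequence_exact₃ _ hS (Abelian.Ext.mk₀ φ) rfl
    (Subsingleton.elim _ _)
  obtain ⟨ψ, rfl⟩ := (Abelian.Ext.mk₀_bijective _ (injSeq F).X₂).2 x₂
  rw [Abelian.Ext.mk₀_comp_mk₀] at hx₂
  have hψ : ψ ≫ (injSeq F).g = φ := (Abelian.Ext.mk₀_bijective _ _).1 hx₂
  refine ⟨CohFree.evalGen (Opens.grothendieckTopology X) A (injSeq F).X₂ ψ, ?_⟩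
  rw [← evalGen_comp, hψ, CohFree.evalGen_ofSect]

/-- The acyclicity hypothesis of Leray's theorem. -/
def IsAcyclicOn (F : CohTop.Ab X) : Prop :=
  ∀ (p : ℕ) (a : Fin (p + 1) → ι) (q : ℕ),
    Subsingleton (Abelian.Ext.{u} (CohCx.freeSheaf (Opens.grothendieckTopology X) (inter V a)) F (q + 1))

theorem ext_quot_subsingleton (F : CohTop.Ab X) (A : Opens X) (n : ℕ)
    (h : Subsingleton (Abelian.Ext.{u} (CohCx.freeSheaf (Opens.grothendieckTopology X) A) F (n + 2))) :
    Subsingleton (Abelian.Ext.{u} (CohCx.freeSheaf (Opens.grothendieckTopology X) A)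
      (injSeq F).X₃ (n + 1)) := by
  have hS := injSeq_shortExact F
  refine subsingleton_of_forall_eq 0 fun x₃ => ?_
  obtain ⟨x₂, hx₂⟩ := Abelian.Ext.covariant_sequence_exact₃ _ hS x₃ (rfl : n + 1 + 1 = n + 2)
    (Subsingleton.elim _ _)
  rw [← hx₂, Abelian.Ext.eq_zero_of_injective x₂, Abelian.Ext.zero_comp]

theorem IsAcyclicOn.quot {F : CohTop.Ab X} (hF : IsAcyclicOn V F) :
    IsAcyclicOn V (injSeq F).X₃ :=
  fun p a q => ext_quot_subsingleton F _ q (hF p a (q + 1))

/-- Dimension shifting as an equivalence. -/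
noncomputable def extShiftEquiv (F : CohTop.Ab X) (A : Opens X) (n : ℕ) :
    Abelian.Ext.{u} (CohCx.freeSheaf (Opens.grothendieckTopology X) A) (injSeq F).X₃ (n + 1) ≃+
      Abelian.Ext.{u} (CohCx.freeSheaf (Opens.grothendieckTopology X) A) F (n + 2) :=
  AddEquiv.ofBijective ((injSeq_shortExact F).extClass.postcomp _ (rfl : n + 1 + 1 = n + 2)) (by
    have hS := injSeq_shortExact F
    constructor
    · rw [injective_iff_map_eq_zero]
      intro x₃ hx₃
      obtain ⟨x₂, hx₂⟩ := Abelian.Ext.covariant_sequence_exact₃ _ hS x₃ (rfl : n + 1 + 1 = n + 2) hx₃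
      rw [← hx₂, Abelian.Ext.eq_zero_of_injective x₂, Abelian.Ext.zero_comp]
    · intro x₁
      exact Abelian.Ext.covariant_sequence_exact₁ _ hS x₁ (Abelian.Ext.eq_zero_of_injective _) rfl)

/-- `sectExt0` as an isomorphism of abelian groups. -/
noncomputable def sectExt0Iso (W : Opens X) (G : CohTop.Ab X) :
    G.obj.obj (op W) ≅
      AddCommGrpCat.of (Abelian.Ext.{u} (CohCx.freeSheaf (Opens.grothendieckTopology X) W) G 0) :=
  AddEquiv.toAddCommGrpIso (X := G.obj.obj (op W))
    (Y := AddCommGrpCat.of (Abelian.Ext.{u} (CohCx.freeSheaf (Opens.grothendieckTopology X) W) G 0))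
    (sectExt0 W G)

theorem h0_ext0_square {G G' : CohTop.Ab X} (φ : G ⟶ G') :
    HomologicalComplex.homologyMap ((cechComplexFunctor V).map φ.hom) 0 ≫
        ((cechH0Iso V G').hom ≫ (sectExt0Iso (iSup V) G').hom) =
      ((cechH0Iso V G).hom ≫ (sectExt0Iso (iSup V) G).hom) ≫
        AddCommGrpCat.ofHom ((Abelian.Ext.mk₀ φ).postcomp
          (CohCx.freeSheaf (Opens.grothendieckTopology X) (iSup V)) (add_zero 0)) := by
  have h := cechH0Iso_naturality V φ
  have h'' : φ.hom.app (op (iSup V)) ≫ (sectExt0Iso (iSup V) G').hom =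
      (sectExt0Iso (iSup V) G).hom ≫ AddCommGrpCat.ofHom ((Abelian.Ext.mk₀ φ).postcomp
          (CohCx.freeSheaf (Opens.grothendieckTopology X) (iSup V)) (add_zero 0)) := by
    ext s
    exact (sectExt0_naturality (iSup V) φ s).symm
  refine (Category.assoc _ _ _).symm.trans ?_
  refine (congrArg (fun m => m ≫ (sectExt0Iso (iSup V) G').hom) h).trans ?_
  refine (Category.assoc _ _ _).trans ?_
  refine (congrArg (fun m => (cechH0Iso V G).hom ≫ m) h'').trans ?_
  exact (Category.assoc _ _ _).symm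

/-- Leray's theorem. -/
theorem leray (p : ℕ) : ∀ (F : CohTop.Ab X), IsAcyclicOn V F →
    Nonempty (CohTop.cechH F.obj V p ≃+
      Abelian.Ext.{u} (CohCx.freeSheaf (Opens.grothendieckTopology X) (iSup V)) F p) := by
  induction p using Nat.strong_induction_on with
  | _ p ih =>
  intro F hF
  match p, ih with
  | 0, _ =>
    exact ⟨(cechH0Iso V F).addCommGroupIsoToAddEquiv.trans (sectExt0 (iSup V) F)⟩
  | 1, _ =>
    have hS := injSeq_shortExact F
    have hSC := cechSC_shortExact V hS (fun n i => surjective_sections_of_ext_one F _ (hF n i 0))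
    let A := CohCx.freeSheaf (Opens.grothendieckTopology X) (iSup V)
    let S₁ : ShortComplex AddCommGrpCat.{u} := ShortComplex.mk _ _ (hSC.comp_δ 0 1 rfl)
    have h₁ : S₁.Exact := hSC.homology_exact₃ 0 1 rfl
    have : Epi S₁.g := hSC.epi_δ 0 1 rfl
      (isZero_cechH_of_injective_sheaf V (Injective.under F) 0)
    have h₂ := Abelian.Ext.covariant_sequence_exact₃' A hS 0 1 rfl
    have : Epi (AddCommGrpCat.ofHom (hS.extClass.postcomp A (rfl : 0 + 1 = 1))) := by
      rw [AddCommGrpCat.epi_iff_surjective]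
      intro x₁
      exact Abelian.Ext.covariant_sequence_exact₁ _ hS x₁ (Abelian.Ext.eq_zero_of_injective _) rfl
    let α : S₁.X₁ ≅ AddCommGrpCat.of (Abelian.Ext.{u} A (injSeq F).X₂ 0) :=
      cechH0Iso V (injSeq F).X₂ ≪≫ sectExt0Iso (iSup V) (injSeq F).X₂
    let β : S₁.X₂ ≅ AddCommGrpCat.of (Abelian.Ext.{u} A (injSeq F).X₃ 0) :=
      cechH0Iso V (injSeq F).X₃ ≪≫ sectExt0Iso (iSup V) (injSeq F).X₃
    obtain ⟨e⟩ := nonempty_iso_of_cokernels h₁ h₂ α β (h0_ext0_square V (injSeq F).g)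
    exact ⟨e.addCommGroupIsoToAddEquiv⟩
  | (p + 2), ih =>
    have hS := injSeq_shortExact F
    have hSC := cechSC_shortExact V hS (fun n i => surjective_sections_of_ext_one F _ (hF n i 0))
    obtain ⟨e⟩ := ih (p + 1) (by omega) (injSeq F).X₃ hF.quot
    let d := hSC.δIso (p + 1) (p + 2) rfl
      (isZero_cechH_of_injective_sheaf V (Injective.under F) p)
      (isZero_cechH_of_injective_sheaf V (Injective.under F) (p + 1))
    exact ⟨(d.symm.addCommGroupIsoToAddEquiv.trans e).trans (extShiftEquiv F (iSup V) p)⟩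

end Leray

end Groth.Agent.Lib.Cohomology
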