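import Groth.Agent.Lib.Cohomology.Helper3_LerayDegGen
import Groth.Agent.Lib.Cohomology.helper5_PushAcyclic

/-!
# Degenerate Leray: `H^p(Y, R^q f_* F) = 0` for `p > 0` implies `H^q(X, F) ≃ Γ(Y, R^q f_* F)` (helper3)
-/

set_option autoImplicit false
universe u
open CategoryTheory CategoryTheory.Limits TopologicalSpace Opposite

namespace Groth.Agent.Lib.Cohomology.LerayDeg

open Abelian Groth.Agent.Lib.Cohomology.Restr Groth.Agent.Lib.Cohomology.ExtShift
  Groth.Agent.Lib.Cohomology.PushAcyclic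

variable {X Y : TopCat.{u}} (f : X ⟶ Y)

/-- The hypothesis of the degenerate Leray statement. -/
def P (F : CohTop.Ab X) : Prop :=
  ∀ p q : ℕ, Subsingleton (Ext.{u} (constZ Y) ((CohTop.Rpush f q).obj F) (p + 1))

/-- `R^0 f_* ≅ f_*`. -/
noncomputable def r0Iso (F : CohTop.Ab X) : (CohTop.Rpush f 0).obj F ≅ (CohTop.push f).obj F :=
  ((CohTop.push f).rightDerivedZeroIsoSelf).app F

/-- Sections over the whole space of isomorphic sheaves. -/
noncomputable def sectionsCongr {M M' : CohTop.Ab Y} (e : M ≅ M') :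
    M.obj.obj (op ⊤) ≃+ M'.obj.obj (op ⊤) :=
  (((sheafToPresheaf _ _).mapIso e).app (op ⊤)).addCommGroupIsoToAddEquiv

/-- Vanishing statements extracted from the hypothesis. -/
theorem vanishing (F : CohTop.Ab X) (hF : P f F) :
    ∃ (K : CohTop.Ab Y) (ι : K ⟶ (CohTop.push f).obj (injSES F).X₃)
      (π : (CohTop.push f).obj (injSES F).X₃ ⟶ (CohTop.Rpush f 1).obj F)
      (l : (CohTop.push f).obj (injSES F).X₂ ⟶ K)
      (w₁ : ι ≫ π = 0) (w₂ : (CohTop.push f).map (injSES F).f ≫ l = 0),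
      (ShortComplex.mk ι π w₁).ShortExact ∧
      (ShortComplex.mk ((CohTop.push f).map (injSES F).f) l w₂).ShortExact ∧
      l ≫ ι = (CohTop.push f).map (injSES F).g ∧
      (∀ p, Subsingleton (Ext.{u} (constZ Y) ((CohTop.push f).obj F) (p + 1))) ∧
      (∀ p, Subsingleton (Ext.{u} (constZ Y) K (p + 1))) ∧
      (∀ p, Subsingleton (Ext.{u} (constZ Y) ((CohTop.push f).obj (injSES F).X₃) (p + 1))) := by
  obtain ⟨K, ι, π, l, w₁, w₂, hT₁, hT₂, hl⟩ :=
    exists_two_ses (CohTop.push f) (injSES_shortExact F)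
  have hGF : ∀ p, Subsingleton (Ext.{u} (constZ Y) ((CohTop.push f).obj F) (p + 1)) :=
    fun p => subsingleton_ext_of_iso _ (r0Iso f F) (p + 1) (hF p 0)
  have hinj : Injective ((CohTop.push f).obj (injSES F).X₂) := Groth.Agent.S0904.result f _
  have hGI : ∀ p, Subsingleton (Ext.{u} (constZ Y) ((CohTop.push f).obj (injSES F).X₂) (p + 1)) :=
    fun p => Ext.subsingleton_of_injective _ _ p
  have hK : ∀ p, Subsingleton (Ext.{u} (constZ Y) K (p + 1)) :=
    fun p => ext_right_eq_zero hT₂ _ (p + 1) (hGI p) (hGF (p + 1))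
  have hGQ : ∀ p, Subsingleton (Ext.{u} (constZ Y) ((CohTop.push f).obj (injSES F).X₃) (p + 1)) :=
    fun p => ext_mid_eq_zero hT₁ _ (p + 1) (hK p) (hF p 1)
  exact ⟨K, ι, π, l, w₁, w₂, hT₁, hT₂, hl, hGF, hK, hGQ⟩

theorem P_quot (F : CohTop.Ab X) (hF : P f F) : P f (injSES F).X₃ := by
  obtain ⟨K, ι, π, l, w₁, w₂, hT₁, hT₂, hl, hGF, hK, hGQ⟩ := vanishing f F hF
  intro p q
  cases q with
  | zero => exact subsingleton_ext_of_iso _ (r0Iso f (injSES F).X₃).symm (p + 1) (hGQ p)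
  | succ q =>
    obtain ⟨e⟩ := Groth.Agent.Lib.Cohomology.RDShift.rightDerived_shift (injSES_shortExact F)
      (CohTop.push f) q
    exact subsingleton_ext_of_iso _ e (p + 1) (hF p (q + 2))

theorem step_one (F : CohTop.Ab X) (hF : P f F) :
    Nonempty (Ext.{u} (constZ X) F 1 ≃+ ((CohTop.Rpush f 1).obj F).obj.obj (op ⊤)) := by
  obtain ⟨K, ι, π, l, w₁, w₂, hT₁, hT₂, hl, hGF, hK, hGQ⟩ := vanishing f F hF
  have hS := injSES_shortExact F
  let a := homδ hS (constZ X)
  have ha : Function.Surjective a :=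
    homδ_surjective hS (constZ X) (fun x => Ext.eq_zero_of_injective x)
  let b : (constZ X ⟶ (injSES F).X₃) →+ (constZ Y ⟶ (CohTop.Rpush f 1).obj F) :=
    (Preadditive.rightComp (constZ Y) π).comp (eHom f (injSES F).X₃).toAddMonoidHom
  have hb : Function.Surjective b := by
    intro ρ
    obtain ⟨φ, hφ⟩ := hom_lift_of_ext_one hT₁ (constZ Y) (hK 0) ρ
    obtain ⟨φ₀, rfl⟩ := (eHom f (injSES F).X₃).surjective φ
    exact ⟨φ₀, hφ⟩
  have hk : a.ker = b.ker := by
    ext φ
    rw [AddMonoidHom.mem_ker, AddMonoidHom.mem_ker]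
    change homδ hS (constZ X) φ = 0 ↔ eHom f (injSES F).X₃ φ ≫ π = 0
    rw [homδ_eq_zero_iff]
    constructor
    · rintro ⟨ψ, rfl⟩
      rw [PushAcyclic.eHom_naturality, ← hl, Category.assoc, Category.assoc, w₁, comp_zero, comp_zero]
    · intro h0
      have : Mono ι := hT₁.mono_f
      let φ' : constZ Y ⟶ K := hT₁.exact.lift (eHom f (injSES F).X₃ φ) h0
      have hφ' : φ' ≫ ι = eHom f (injSES F).X₃ φ := hT₁.exact.lift_f _ h0
      obtain ⟨ψ', hψ'⟩ := hom_lift_of_ext_one hT₂ (constZ Y) (hGF 0) φ'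
      obtain ⟨ψ, rfl⟩ := (eHom f (injSES F).X₂).surjective ψ'
      refine ⟨ψ, (eHom f (injSES F).X₃).injective ?_⟩
      rw [PushAcyclic.eHom_naturality, ← hl, ← Category.assoc]
      change (eHom f (injSES F).X₂ ψ ≫ l) ≫ ι = _
      rw [hψ', hφ']
  exact ⟨((QuotientAddGroup.quotientKerEquivOfSurjective a ha).symm.trans
    ((QuotientAddGroup.quotientAddEquivOfEq hk).trans
      (QuotientAddGroup.quotientKerEquivOfSurjective b hb))).trans
        (eB ((CohTop.Rpush f 1).obj F))⟩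

/-- Degenerate Leray. -/
theorem main (q : ℕ) : ∀ F : CohTop.Ab X, P f F →
    Nonempty (Ext.{u} (constZ X) F q ≃+ ((CohTop.Rpush f q).obj F).obj.obj (op ⊤)) := by
  induction q using Nat.strong_induction_on with
  | _ q ih =>
  intro F hF
  match q, ih with
  | 0, _ =>
    exact ⟨(Ext.addEquiv₀ (X := constZ X) (Y := F)).trans ((eB F).trans
      ((bridgeTop f F).trans (sectionsCongr (r0Iso f F).symm)))⟩
  | 1, _ => exact step_one f F hF
  | (q + 2), ih =>
    have hS := injSES_shortExact F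
    obtain ⟨e0⟩ := ih (q + 1) (by omega) (injSES F).X₃ (P_quot f F hF)
    obtain ⟨e⟩ := Groth.Agent.Lib.Cohomology.RDShift.rightDerived_shift hS (CohTop.push f) q
    let e1 : Ext.{u} (constZ X) (injSES F).X₃ (q + 1) ≃+ Ext.{u} (constZ X) F (q + 2) :=
      AddEquiv.ofBijective (extδ hS (constZ X) (q + 1))
        ⟨extδ_injective hS (constZ X) q (fun x => Ext.eq_zero_of_injective x),
          extδ_surjective hS (constZ X) (q + 1) (fun x => Ext.eq_zero_of_injective x)⟩
    exact ⟨e1.symm.trans (e0.trans (sectionsCongr e.symm))⟩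

end Groth.Agent.Lib.Cohomology.LerayDeg
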