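import Groth.Agent.Lib.Cohomology.helper5_RightDerivedShift
import Groth.Agent.Lib.Cohomology.helper5_ExtShift

/-!
# Abstract part of the degenerate Leray argument (helper3)
-/

set_option autoImplicit false
universe w w' v v' u u'
open CategoryTheory CategoryTheory.Limits

namespace Groth.Agent.Lib.Cohomology.LerayDeg

open Abelian Groth.Agent.Lib.Cohomology.ExtShift

section General

variable {C : Type u} [Category.{v} C] [Abelian C] [HasExt.{w} C]

/-- `Ext` is invariant under isomorphisms in the second variable. -/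
noncomputable def extCongr (B : C) {M M' : C} (e : M ≅ M') (n : ℕ) :
    Ext.{w} B M n ≃+ Ext.{w} B M' n where
  toFun x := x.comp (Ext.mk₀ e.hom) (add_zero n)
  invFun y := y.comp (Ext.mk₀ e.inv) (add_zero n)
  left_inv x := by
    dsimp only
    rw [Ext.comp_assoc_of_third_deg_zero, Ext.mk₀_comp_mk₀, e.hom_inv_id, Ext.comp_mk₀_id]
  right_inv y := by
    dsimp only
    rw [Ext.comp_assoc_of_third_deg_zero, Ext.mk₀_comp_mk₀, e.inv_hom_id, Ext.comp_mk₀_id]
  map_add' x y := Ext.add_comp _ _ _ _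

theorem subsingleton_ext_of_iso (B : C) {M M' : C} (e : M ≅ M') (n : ℕ)
    (h : Subsingleton (Ext.{w} B M n)) : Subsingleton (Ext.{w} B M' n) :=
  (extCongr B e n).symm.subsingleton

/-- Middle vanishing from outer vanishing in the covariant long exact sequence. -/
theorem ext_mid_eq_zero {S : ShortComplex C} (hS : S.ShortExact) (B : C) (n : ℕ)
    (h1 : Subsingleton (Ext.{w} B S.X₁ n)) (h3 : Subsingleton (Ext.{w} B S.X₃ n)) :
    Subsingleton (Ext.{w} B S.X₂ n) := by
  refine subsingleton_of_forall_eq 0 fun x => ?_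
  obtain ⟨x₁, hx₁⟩ := Ext.covariant_sequence_exact₂ B hS x (Subsingleton.elim _ _)
  rw [← hx₁, Subsingleton.elim x₁ 0, Ext.zero_comp]

/-- Right vanishing from vanishing of the middle and of the next left term. -/
theorem ext_right_eq_zero {S : ShortComplex C} (hS : S.ShortExact) (B : C) (n : ℕ)
    (h2 : Subsingleton (Ext.{w} B S.X₂ n)) (h1 : Subsingleton (Ext.{w} B S.X₁ (n + 1))) :
    Subsingleton (Ext.{w} B S.X₃ n) := by
  refine subsingleton_of_forall_eq 0 fun x => ?_
  obtain ⟨x₂, hx₂⟩ := Ext.covariant_sequence_exact₃ B hS x rfl (Subsingleton.elim _ _)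
  rw [← hx₂, Subsingleton.elim x₂ 0, Ext.zero_comp]

/-- Morphisms lift along an epimorphism whose kernel has vanishing `Ext^1`. -/
theorem hom_lift_of_ext_one {S : ShortComplex C} (hS : S.ShortExact) (B : C)
    (h1 : Subsingleton (Ext.{w} B S.X₁ 1)) (ρ : B ⟶ S.X₃) : ∃ φ : B ⟶ S.X₂, φ ≫ S.g = ρ :=
  (homδ_eq_zero_iff hS B ρ).1 (Subsingleton.elim _ _)

end General

section TwoSES

variable {C : Type u} [Category.{v} C] [Abelian C] [EnoughInjectives C]
  {D : Type u'} [Category.{v'} D] [Abelian D]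
  (G : C ⥤ D) [G.Additive] [PreservesFiniteLimits G]

/-- The four term exact sequence `0 → G F → G I → G Q → R^1 G F → 0` cut into two short exact
sequences. -/
theorem exists_two_ses {S : ShortComplex C} (hS : S.ShortExact) [Injective S.X₂] :
    ∃ (K : D) (ι : K ⟶ G.obj S.X₃) (π : G.obj S.X₃ ⟶ (G.rightDerived 1).obj S.X₁)
      (l : G.obj S.X₂ ⟶ K) (w₁ : ι ≫ π = 0) (w₂ : G.map S.f ≫ l = 0),
      (ShortComplex.mk ι π w₁).ShortExact ∧ (ShortComplex.mk (G.map S.f) l w₂).ShortExact ∧
      l ≫ ι = G.map S.g := by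
  obtain ⟨π, w, hπ, hex⟩ := Groth.Agent.Lib.Cohomology.RDShift.exists_rightDerived_one_cokernel hS G
  have hl : Epi (kernel.lift π (G.map S.g) w) := hex.epi_kernelLift
  have w₂ : G.map S.f ≫ kernel.lift π (G.map S.g) w = 0 := by
    rw [← cancel_mono (kernel.ι π), Category.assoc, kernel.lift_ι, zero_comp,
      ← Functor.map_comp, S.zero, Functor.map_zero]
  refine ⟨kernel π, kernel.ι π, π, kernel.lift π _ w, kernel.condition π, w₂, ?_, ?_,
    kernel.lift_ι _ _ _⟩
  · exact { exact := ShortComplex.exact_of_f_is_kernel _ (kernelIsKernel π) }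
  · have hmono : Mono (G.map S.f) := by
      have := hS.mono_f
      infer_instance
    have hGex : (S.map G).Exact :=
      hS.exact.map_of_mono_of_preservesKernel G hS.mono_f inferInstance
    refine { exact := ?_, mono_f := hmono, epi_g := hl }
    let φ : ShortComplex.mk (G.map S.f) (kernel.lift π (G.map S.g) w) w₂ ⟶ S.map G :=
      { τ₁ := 𝟙 _
        τ₂ := 𝟙 _
        τ₃ := kernel.ι π
        comm₁₂ := (Category.id_comp _).trans (Category.comp_id _).symm
        comm₂₃ := (Category.id_comp _).trans (kernel.lift_ι _ _ _).symm }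
    have : Epi φ.τ₁ := (inferInstance : Epi (𝟙 (G.obj S.X₁)))
    have : IsIso φ.τ₂ := (inferInstance : IsIso (𝟙 (G.obj S.X₂)))
    have : Mono φ.τ₃ := (inferInstance : Mono (kernel.ι π))
    exact (ShortComplex.exact_iff_of_epi_of_isIso_of_mono φ).2 hGex

end TwoSES

end Groth.Agent.Lib.Cohomology.LerayDeg
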