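import Groth.Agent.Lib.Cohomology.Helper3_Leray2
import Mathlib.Algebra.Homology.HomologySequenceLemmas

/-!
# Leray's theorem, canonical and natural version (helper3)

* `ExtA W F p` : the group `Ext^p(ℤ_W, F)` as an object of `AddCommGrpCat`, with `extMapHom`,
  `extDeltaHom` (wrappers which keep the kernel away from the `Ext` machinery).
* `lerayIso V p F hF : Ȟ^p(V, F) ≅ ExtA (⋃ V) F p` for a `V`-acyclic sheaf `F`.
* `lerayIso_naturality` : naturality with respect to all morphisms between `V`-acyclic sheaves.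
-/

set_option autoImplicit false
universe u
open CategoryTheory CategoryTheory.Limits TopologicalSpace Opposite

namespace Groth.Agent.Lib.Cohomology

open Cech

section General

variable {C : Type*} [Category C] [Abelian C]

/-- Two right exact sequences with isomorphic first two terms have isomorphic third terms
(canonical version). -/
noncomputable def isoOfCokernels {S₁ S₂ : ShortComplex C}
    (h₁ : S₁.Exact) (h₂ : S₂.Exact) [Epi S₁.g] [Epi S₂.g] (α : S₁.X₁ ≅ S₂.X₁) (β : S₁.X₂ ≅ S₂.X₂)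
    (w : S₁.f ≫ β.hom = α.hom ≫ S₂.f) : S₁.X₃ ≅ S₂.X₃ where
  hom := h₁.desc (β.hom ≫ S₂.g) (by rw [← Category.assoc, w, Category.assoc, S₂.zero, comp_zero])
  inv := h₂.desc (β.inv ≫ S₁.g) (by
    have : S₂.f ≫ β.inv = α.inv ≫ S₁.f := by
      rw [Iso.eq_inv_comp, ← Category.assoc, ← w, Category.assoc, Iso.hom_inv_id, Category.comp_id]
    rw [← Category.assoc, this, Category.assoc, S₁.zero, comp_zero])
  hom_inv_id := by
    rw [← cancel_epi S₁.g, ShortComplex.Exact.g_desc_assoc, Category.assoc,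
      ShortComplex.Exact.g_desc, Iso.hom_inv_id_assoc, Category.comp_id]
  inv_hom_id := by
    rw [← cancel_epi S₂.g, ShortComplex.Exact.g_desc_assoc, Category.assoc,
      ShortComplex.Exact.g_desc, Iso.inv_hom_id_assoc, Category.comp_id]

lemma g_isoOfCokernels_hom {S₁ S₂ : ShortComplex C}
    (h₁ : S₁.Exact) (h₂ : S₂.Exact) [Epi S₁.g] [Epi S₂.g] (α : S₁.X₁ ≅ S₂.X₁) (β : S₁.X₂ ≅ S₂.X₂)
    (w : S₁.f ≫ β.hom = α.hom ≫ S₂.f) :
    S₁.g ≫ (isoOfCokernels h₁ h₂ α β w).hom = β.hom ≫ S₂.g :=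
  ShortComplex.Exact.g_desc h₁ _ _

lemma zero_of_exact {S : ShortComplex C} (_ : S.Exact) : S.f ≫ S.g = 0 := S.zero

end General

/-! ### Wrappers for `Ext^p(A, -)` in a general abelian category -/

section ExtA

universe w v u'

variable {C : Type u'} [Category.{v} C] [Abelian C] [HasExt.{w} C] (A : C)

/-- `Ext^p(A, F)` as an abelian group object. -/
noncomputable def ExtA (F : C) (p : ℕ) : AddCommGrpCat.{w} :=
  AddCommGrpCat.of (Abelian.Ext.{w} A F p)

/-- functoriality of `ExtA` -/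
noncomputable def extMapHom {F G : C} (φ : F ⟶ G) (p : ℕ) : ExtA A F p ⟶ ExtA A G p :=
  AddCommGrpCat.ofHom ((Abelian.Ext.mk₀ φ).postcomp _ (add_zero p))

lemma extMapHom_apply {F G : C} (φ : F ⟶ G) (p : ℕ) (x : Abelian.Ext.{w} A F p) :
    (extMapHom A φ p).hom x = x.comp (Abelian.Ext.mk₀ φ) (add_zero p) := rfl

/-- the connecting homomorphism of `ExtA` -/
noncomputable def extDeltaHom {S : ShortComplex C} (hS : S.ShortExact) (n : ℕ) :
    ExtA A S.X₃ n ⟶ ExtA A S.X₁ (n + 1) :=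
  AddCommGrpCat.ofHom (hS.extClass.postcomp _ rfl)

lemma extDeltaHom_apply {S : ShortComplex C} (hS : S.ShortExact) (n : ℕ)
    (x : Abelian.Ext.{w} A S.X₃ n) :
    (extDeltaHom A hS n).hom x = x.comp hS.extClass rfl := rfl

lemma extMapHom_g_comp_extDeltaHom {S : ShortComplex C} (hS : S.ShortExact) (n : ℕ) :
    extMapHom A S.g n ≫ extDeltaHom A hS n = 0 :=
  zero_of_exact (Abelian.Ext.covariant_sequence_exact₃' A hS n (n + 1) rfl)

lemma ext_exact₃ {S : ShortComplex C} (hS : S.ShortExact) (n : ℕ) :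
    (ShortComplex.mk _ _ (extMapHom_g_comp_extDeltaHom A hS n)).Exact :=
  Abelian.Ext.covariant_sequence_exact₃' A hS n (n + 1) rfl

lemma epi_extDeltaHom {S : ShortComplex C} (hS : S.ShortExact) [Injective S.X₂]
    (n : ℕ) : Epi (extDeltaHom A hS n) := by
  rw [AddCommGrpCat.epi_iff_surjective]
  intro x₁
  exact Abelian.Ext.covariant_sequence_exact₁ _ hS x₁ (Abelian.Ext.eq_zero_of_injective _) rfl

lemma mono_extDeltaHom_succ {S : ShortComplex C} (hS : S.ShortExact) [Injective S.X₂]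
    (n : ℕ) : Mono (extDeltaHom A hS (n + 1)) := by
  rw [AddCommGrpCat.mono_iff_injective, injective_iff_map_eq_zero]
  intro x₃ hx₃
  obtain ⟨x₂, hx₂⟩ := Abelian.Ext.covariant_sequence_exact₃ _ hS x₃ (rfl : n + 1 + 1 = n + 2) hx₃
  rw [← hx₂, Abelian.Ext.eq_zero_of_injective x₂, Abelian.Ext.zero_comp]
  rfl

instance isIso_extDeltaHom_succ {S : ShortComplex C} (hS : S.ShortExact)
    [Injective S.X₂] (n : ℕ) : IsIso (extDeltaHom A hS (n + 1)) := by
  have := epi_extDeltaHom A hS (n + 1)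
  have := mono_extDeltaHom_succ A hS n
  exact isIso_of_mono_of_epi _

lemma extDeltaHom_naturality {S S' : ShortComplex C} (hS : S.ShortExact)
    (hS' : S'.ShortExact) (Φ : S ⟶ S') (n : ℕ) :
    extMapHom A Φ.τ₃ n ≫ extDeltaHom A hS' n = extDeltaHom A hS n ≫ extMapHom A Φ.τ₁ (n + 1) := by
  ext y
  obtain ⟨y, rfl⟩ : ∃ y' : Abelian.Ext.{w} A S.X₃ n, y' = y := ⟨y, rfl⟩
  change (y.comp (Abelian.Ext.mk₀ Φ.τ₃) (add_zero n)).comp hS'.extClass rfl =
    (y.comp hS.extClass rfl).comp (Abelian.Ext.mk₀ Φ.τ₁) (add_zero (n + 1))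
  rw [Abelian.Ext.comp_assoc _ _ _ (add_zero n) (zero_add 1) (by omega),
    Abelian.Ext.comp_assoc _ _ _ rfl (add_zero 1) (by omega),
    ShortComplex.ShortExact.extClass_naturality hS hS' Φ]

lemma extMapHom_id (F : C) (p : ℕ) : extMapHom A (𝟙 F) p = 𝟙 _ := by
  ext y
  exact Abelian.Ext.comp_mk₀_id y

lemma extMapHom_comp {F G H : C} (φ : F ⟶ G) (ψ : G ⟶ H) (p : ℕ) :
    extMapHom A (φ ≫ ψ) p = extMapHom A φ p ≫ extMapHom A ψ p := by
  ext y
  obtain ⟨y, rfl⟩ : ∃ y' : Abelian.Ext.{w} A F p, y' = y := ⟨y, rfl⟩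
  change y.comp (Abelian.Ext.mk₀ (φ ≫ ψ)) (add_zero p) =
    (y.comp (Abelian.Ext.mk₀ φ) (add_zero p)).comp (Abelian.Ext.mk₀ ψ) (add_zero p)
  rw [Abelian.Ext.comp_assoc _ _ _ (add_zero p) (zero_add 0) (by omega),
    Abelian.Ext.mk₀_comp_mk₀]

variable {A}

/-- contravariant functoriality of `ExtA` in the first variable -/
noncomputable def extPreHom {A' : C} (f : A ⟶ A') (F : C) (p : ℕ) : ExtA A' F p ⟶ ExtA A F p :=
  AddCommGrpCat.ofHom ((Abelian.Ext.mk₀ f).precomp F (zero_add p))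

lemma extPreHom_id (F : C) (p : ℕ) : extPreHom (𝟙 A) F p = 𝟙 _ := by
  ext y
  exact Abelian.Ext.mk₀_id_comp y

lemma extPreHom_comp {A' A'' : C} (f : A ⟶ A') (g : A' ⟶ A'') (F : C) (p : ℕ) :
    extPreHom (f ≫ g) F p = extPreHom g F p ≫ extPreHom f F p := by
  ext y
  obtain ⟨y, rfl⟩ : ∃ y' : Abelian.Ext.{w} A'' F p, y' = y := ⟨y, rfl⟩
  change (Abelian.Ext.mk₀ (f ≫ g)).comp y (zero_add p) =
    (Abelian.Ext.mk₀ f).comp ((Abelian.Ext.mk₀ g).comp y (zero_add p)) (zero_add p)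
  rw [Abelian.Ext.mk₀_comp_mk₀_assoc]

/-- an isomorphism in the first variable induces an isomorphism of `ExtA` -/
noncomputable def extPreIso {A' : C} (e : A ≅ A') (F : C) (p : ℕ) : ExtA A' F p ≅ ExtA A F p where
  hom := extPreHom e.hom F p
  inv := extPreHom e.inv F p
  hom_inv_id := by rw [← extPreHom_comp, Iso.inv_hom_id, extPreHom_id]
  inv_hom_id := by rw [← extPreHom_comp, Iso.hom_inv_id, extPreHom_id]

lemma extPreHom_naturality {A' : C} (f : A ⟶ A') {F G : C} (φ : F ⟶ G) (p : ℕ) :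
    extPreHom f F p ≫ extMapHom A φ p = extMapHom A' φ p ≫ extPreHom f G p := by
  ext y
  obtain ⟨y, rfl⟩ : ∃ y' : Abelian.Ext.{w} A' F p, y' = y := ⟨y, rfl⟩
  change ((Abelian.Ext.mk₀ f).comp y (zero_add p)).comp (Abelian.Ext.mk₀ φ) (add_zero p) =
    (Abelian.Ext.mk₀ f).comp (y.comp (Abelian.Ext.mk₀ φ) (add_zero p)) (zero_add p)
  rw [Abelian.Ext.comp_assoc _ _ _ (zero_add p) (add_zero p) (by omega)]

end ExtA

section Sect0

variable {X : TopCat.{u}} (W : Opens X)

/-- the free sheaf `ℤ_W` -/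
noncomputable abbrev ZW : CohTop.Ab X := CohCx.freeSheaf (Opens.grothendieckTopology X) W

/-- sections over `W` as `ExtA ℤ_W - 0` -/
noncomputable def sect0Iso (G : CohTop.Ab X) : G.obj.obj (op W) ≅ ExtA (ZW W) G 0 :=
  sectExt0Iso W G

lemma sect0Iso_naturality {G G' : CohTop.Ab X} (φ : G ⟶ G') :
    φ.hom.app (op W) ≫ (sect0Iso W G').hom = (sect0Iso W G).hom ≫ extMapHom (ZW W) φ 0 := by
  ext s
  exact (sectExt0_naturality W φ s).symm

end Sect0

section LerayNat

variable {X : TopCat.{u}} {ι : Type u} (V : ι → Opens X)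

/-- the map induced on Čech cohomology by a morphism of sheaves -/
noncomputable def cechMap {F G : CohTop.Ab X} (φ : F ⟶ G) (p : ℕ) :
    CohTop.cechH F.obj V p ⟶ CohTop.cechH G.obj V p :=
  HomologicalComplex.homologyMap ((cechComplexFunctor V).map φ.hom) p

/-! ### degree zero -/

/-- Leray in degree `0`. -/
noncomputable def leray0Iso (F : CohTop.Ab X) :
    CohTop.cechH F.obj V 0 ≅ ExtA (ZW (iSup V)) F 0 :=
  cechH0Iso V F ≪≫ sect0Iso (iSup V) F

lemma leray0Iso_naturality {F G : CohTop.Ab X} (φ : F ⟶ G) :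
    cechMap V φ 0 ≫ (leray0Iso V G).hom = (leray0Iso V F).hom ≫ extMapHom (ZW (iSup V)) φ 0 := by
  dsimp only [leray0Iso, Iso.trans_hom, cechMap]
  rw [← Category.assoc, cechH0Iso_naturality, Category.assoc, sect0Iso_naturality, Category.assoc]

/-! ### morphisms of the auxiliary short exact sequences -/

/-- the short exact sequence of Čech complexes attached to `F ⟶ I(F) ⟶ I(F)/F` -/
lemma cechSC_injSeq_shortExact (F : CohTop.Ab X) (hF : IsAcyclicOn V F) :
    (cechSC V (injSeq F)).ShortExact :=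
  cechSC_shortExact V (injSeq_shortExact F)
    (fun n i => surjective_sections_of_ext_one F _ (hF n i 0))

/-- A morphism of sheaves extends to a morphism of the sequences `F ⟶ I(F) ⟶ I(F)/F`. -/
noncomputable def injSeqMap {F G : CohTop.Ab X} (φ : F ⟶ G) : injSeq F ⟶ injSeq G where
  τ₁ := φ
  τ₂ := Injective.factorThru (φ ≫ Injective.ι G) (Injective.ι F)
  τ₃ := cokernel.map _ _ φ (Injective.factorThru (φ ≫ Injective.ι G) (Injective.ι F))
    (Injective.comp_factorThru _ _)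
  comm₁₂ := (Injective.comp_factorThru _ _).symm
  comm₂₃ := (cokernel.π_desc _ _ _).symm

/-- the induced morphism of short complexes of Čech complexes -/
noncomputable def cechSCMap {S S' : ShortComplex (CohTop.Ab X)} (Φ : S ⟶ S') :
    cechSC V S ⟶ cechSC V S' where
  τ₁ := (cechComplexFunctor V).map Φ.τ₁.hom
  τ₂ := (cechComplexFunctor V).map Φ.τ₂.hom
  τ₃ := (cechComplexFunctor V).map Φ.τ₃.hom
  comm₁₂ := by
    change (cechComplexFunctor V).map _ ≫ (cechComplexFunctor V).map _ =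
      (cechComplexFunctor V).map _ ≫ (cechComplexFunctor V).map _
    rw [← Functor.map_comp, ← Functor.map_comp]
    congr 1
    exact congrArg (fun m => m.hom) Φ.comm₁₂
  comm₂₃ := by
    change (cechComplexFunctor V).map _ ≫ (cechComplexFunctor V).map _ =
      (cechComplexFunctor V).map _ ≫ (cechComplexFunctor V).map _
    rw [← Functor.map_comp, ← Functor.map_comp]
    congr 1
    exact congrArg (fun m => m.hom) Φ.comm₂₃

section Delta

variable (F : CohTop.Ab X) (hF : IsAcyclicOn V F)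

/-- the Čech connecting homomorphism `Ȟ^p(I(F)/F) ⟶ Ȟ^{p+1}(F)` -/
noncomputable def cechDelta (p : ℕ) :
    CohTop.cechH (injSeq F).X₃.obj V p ⟶ CohTop.cechH F.obj V (p + 1) :=
  (cechSC_injSeq_shortExact V F hF).δ p (p + 1) rfl

lemma cechMap_g_comp_cechDelta (p : ℕ) :
    cechMap V (injSeq F).g p ≫ cechDelta V F hF p = 0 :=
  (cechSC_injSeq_shortExact V F hF).comp_δ p (p + 1) rfl

lemma cech_exact₃ (p : ℕ) : (ShortComplex.mk _ _ (cechMap_g_comp_cechDelta V F hF p)).Exact :=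
  (cechSC_injSeq_shortExact V F hF).homology_exact₃ p (p + 1) rfl

instance epi_cechDelta (p : ℕ) : Epi (cechDelta V F hF p) :=
  (cechSC_injSeq_shortExact V F hF).epi_δ p (p + 1) rfl
    (isZero_cechH_of_injective_sheaf V (Injective.under F) p)

instance isIso_cechDelta_succ (p : ℕ) : IsIso (cechDelta V F hF (p + 1)) :=
  (cechSC_injSeq_shortExact V F hF).isIso_δ (p + 1) (p + 2) rfl
    (isZero_cechH_of_injective_sheaf V (Injective.under F) p)
    (isZero_cechH_of_injective_sheaf V (Injective.under F) (p + 1))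

end Delta

lemma cechDelta_naturality {F G : CohTop.Ab X} (φ : F ⟶ G) (hF : IsAcyclicOn V F)
    (hG : IsAcyclicOn V G) (p : ℕ) :
    cechDelta V F hF p ≫ cechMap V φ (p + 1) =
      cechMap V (injSeqMap φ).τ₃ p ≫ cechDelta V G hG p :=
  HomologicalComplex.HomologySequence.δ_naturality (cechSCMap V (injSeqMap φ))
    (cechSC_injSeq_shortExact V F hF) (cechSC_injSeq_shortExact V G hG) p (p + 1) rfl

/-! ### degree one -/

/-- Leray in degree `1`. -/
noncomputable def leray1Iso (F : CohTop.Ab X) (hF : IsAcyclicOn V F) :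
    CohTop.cechH F.obj V 1 ≅ ExtA (ZW (iSup V)) F 1 :=
  haveI := epi_extDeltaHom (ZW (iSup V)) (injSeq_shortExact F) 0
  isoOfCokernels (cech_exact₃ V F hF 0) (ext_exact₃ (ZW (iSup V)) (injSeq_shortExact F) 0)
    (leray0Iso V (injSeq F).X₂) (leray0Iso V (injSeq F).X₃) (leray0Iso_naturality V (injSeq F).g)

lemma cechDelta_leray1Iso (F : CohTop.Ab X) (hF : IsAcyclicOn V F) :
    cechDelta V F hF 0 ≫ (leray1Iso V F hF).hom =
      (leray0Iso V (injSeq F).X₃).hom ≫ extDeltaHom (ZW (iSup V)) (injSeq_shortExact F) 0 :=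
  haveI := epi_extDeltaHom (ZW (iSup V)) (injSeq_shortExact F) 0
  g_isoOfCokernels_hom (cech_exact₃ V F hF 0) (ext_exact₃ (ZW (iSup V)) (injSeq_shortExact F) 0)
    (leray0Iso V (injSeq F).X₂) (leray0Iso V (injSeq F).X₃) (leray0Iso_naturality V (injSeq F).g)

lemma leray1Iso_naturality {F G : CohTop.Ab X} (φ : F ⟶ G) (hF : IsAcyclicOn V F)
    (hG : IsAcyclicOn V G) :
    cechMap V φ 1 ≫ (leray1Iso V G hG).hom =
      (leray1Iso V F hF).hom ≫ extMapHom (ZW (iSup V)) φ 1 := by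
  rw [← cancel_epi (cechDelta V F hF 0), ← Category.assoc, cechDelta_naturality V φ hF hG 0,
    Category.assoc, cechDelta_leray1Iso, ← Category.assoc, leray0Iso_naturality, Category.assoc,
    extDeltaHom_naturality (ZW (iSup V)) (injSeq_shortExact F) (injSeq_shortExact G) (injSeqMap φ) 0,
    ← Category.assoc, ← cechDelta_leray1Iso V F hF, Category.assoc]
  rfl

/-! ### higher degrees -/

/-- Leray in degree `p + 1`. -/
noncomputable def leraySuccIso : ∀ (p : ℕ) (F : CohTop.Ab X), IsAcyclicOn V F →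
    (CohTop.cechH F.obj V (p + 1) ≅ ExtA (ZW (iSup V)) F (p + 1))
  | 0, F, hF => leray1Iso V F hF
  | (p + 1), F, hF =>
    (asIso (cechDelta V F hF (p + 1))).symm ≪≫ leraySuccIso p (injSeq F).X₃ hF.quot ≪≫
      asIso (extDeltaHom (ZW (iSup V)) (injSeq_shortExact F) (p + 1))

lemma leraySuccIso_naturality (p : ℕ) : ∀ {F G : CohTop.Ab X} (φ : F ⟶ G) (hF : IsAcyclicOn V F)
    (hG : IsAcyclicOn V G),
    cechMap V φ (p + 1) ≫ (leraySuccIso V p G hG).hom =
      (leraySuccIso V p F hF).hom ≫ extMapHom (ZW (iSup V)) φ (p + 1) := by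
  induction p with
  | zero =>
    intro F G φ hF hG
    exact leray1Iso_naturality V φ hF hG
  | succ p ih =>
    intro F G φ hF hG
    have h1 := cechDelta_naturality V φ hF hG (p + 1)
    have h2 := ih (injSeqMap φ).τ₃ hF.quot hG.quot
    have h3 := extDeltaHom_naturality (ZW (iSup V)) (injSeq_shortExact F) (injSeq_shortExact G)
      (injSeqMap φ) (p + 1)
    rw [← cancel_epi (cechDelta V F hF (p + 1))]
    simp only [leraySuccIso, Iso.trans_hom, Iso.symm_hom, asIso_hom, asIso_inv]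
    rw [← Category.assoc, h1, Category.assoc, IsIso.hom_inv_id_assoc, ← Category.assoc, h2,
      Category.assoc, h3]
    simp only [Category.assoc, IsIso.hom_inv_id_assoc]
    rfl

/-! ### all degrees -/

/-- **Leray's theorem**, canonical form: `Ȟ^p(V, F) ≅ Ext^p(ℤ_{⋃ V}, F)` for `V`-acyclic `F`. -/
noncomputable def lerayIso : ∀ (p : ℕ) (F : CohTop.Ab X), IsAcyclicOn V F →
    (CohTop.cechH F.obj V p ≅ ExtA (ZW (iSup V)) F p)
  | 0, F, _ => leray0Iso V F
  | (p + 1), F, hF => leraySuccIso V p F hF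

/-- Naturality of Leray's isomorphism. -/
theorem lerayIso_naturality (p : ℕ) {F G : CohTop.Ab X} (φ : F ⟶ G) (hF : IsAcyclicOn V F)
    (hG : IsAcyclicOn V G) :
    cechMap V φ p ≫ (lerayIso V p G hG).hom =
      (lerayIso V p F hF).hom ≫ extMapHom (ZW (iSup V)) φ p := by
  cases p with
  | zero => exact leray0Iso_naturality V φ
  | succ p => exact leraySuccIso_naturality V p φ hF hG

end LerayNat

end Groth.Agent.Lib.Cohomology
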