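import Mathlib.CategoryTheory.Sites.Over
import Mathlib.CategoryTheory.Sites.ConstantSheaf
import Mathlib.CategoryTheory.Sites.CoverLifting
import Mathlib.CategoryTheory.Sites.LocallyBijective
import Mathlib.Algebra.Category.Grp.Abelian
import Mathlib.Algebra.Category.Grp.FilteredColimits
import Mathlib.CategoryTheory.Sites.Abelian
import Mathlib.Data.Fintype.Lattice

/-!
# Constant sheaves on localized sites and their restrictions (helper3)

For a site `(C, J)` (with `C` of "étale-site size": objects in `Type (u+1)`, morphisms in `Type u`)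
and abelian sheaves with values in `AddCommGrpCat.{u+1}`:

* `constRestr J g M`: the restriction along `g : V ⟶ U` (`J.overMapPullback`) of the constant sheaf
  on `Over U` is the constant sheaf on `Over V`;
* `restrTriv J F α g`: restriction of a trivialisation `F|U ≅ const M` to `F|V ≅ const M`;
* `exists_cover_const`: a morphism `const M ⟶ const N` on `Over U` with `M` finite is, on the
  members `V` of a covering sieve of `U` with `⊥ ∉ J V`, induced by a group homomorphism `M ⟶ N`.
-/

set_option autoImplicit false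
universe u
open CategoryTheory CategoryTheory.Limits Opposite

namespace Groth.Agent.Lib.Cohomology.LocConst

variable {C : Type (u + 1)} [Category.{u} C] (J : GrothendieckTopology C)

/-- the constant presheaf on `Over U` -/
abbrev cP (U : C) (M : AddCommGrpCat.{u + 1}) : (Over U)ᵒᵖ ⥤ AddCommGrpCat.{u + 1} :=
  (Functor.const (Over U)ᵒᵖ).obj M

/-- the constant sheaf functor on `Over U` -/
noncomputable abbrev cS (U : C) : AddCommGrpCat.{u + 1} ⥤ Sheaf (J.over U) AddCommGrpCat.{u + 1} :=
  constantSheaf (J.over U) AddCommGrpCat.{u + 1}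

/-- the unit `M ⟶ (const M)(W)` -/
noncomputable def eta (U : C) (M : AddCommGrpCat.{u + 1}) (W : Over U) :
    M ⟶ ((cS J U).obj M).obj.obj (op W) :=
  (toSheafify (J.over U) (cP U M)).app (op W)

lemma eta_map (U : C) (M : AddCommGrpCat.{u + 1}) {W W' : Over U} (k : W' ⟶ W) :
    eta J U M W ≫ ((cS J U).obj M).obj.map k.op = eta J U M W' := by
  have := (toSheafify (J.over U) (cP U M)).naturality k.op
  simp only [Functor.const_obj_obj, Functor.const_obj_map, Category.id_comp] at this
  exact this.symm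

lemma eta_nat (U : C) {M N : AddCommGrpCat.{u + 1}} (h : M ⟶ N) (W : Over U) :
    eta J U M W ≫ ((cS J U).map h).hom.app (op W) = h ≫ eta J U N W := by
  have := congrArg (fun a => a.app (op W))
    (toSheafify_naturality (J.over U) ((Functor.const (Over U)ᵒᵖ).map h))
  exact this.symm

/-- restriction of the constant sheaf is the constant sheaf -/
noncomputable def constRestr {U V : C} (g : V ⟶ U) (M : AddCommGrpCat.{u + 1}) :
    (J.overMapPullback AddCommGrpCat.{u + 1} g).obj ((cS J U).obj M) ≅ (cS J V).obj M :=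
  (((Over.map g).pushforwardContinuousSheafificationCompatibility AddCommGrpCat.{u + 1}
    (J.over V) (J.over U)).app (cP U M)).symm

lemma eta_constRestr_inv {U V : C} (g : V ⟶ U) (M : AddCommGrpCat.{u + 1}) (W' : Over V) :
    eta J V M W' ≫ (constRestr J g M).inv.hom.app (op W') = eta J U M ((Over.map g).obj W') := by
  have := congrArg (fun a => a.app (op W'))
    ((Over.map g).toSheafify_pullbackSheafificationCompatibility AddCommGrpCat.{u + 1}
      (J.over V) (J.over U) (cP U M))
  exact this

lemma eta_constRestr_hom {U V : C} (g : V ⟶ U) (M : AddCommGrpCat.{u + 1}) (W' : Over V) :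
    eta J U M ((Over.map g).obj W') ≫ (constRestr J g M).hom.hom.app (op W') = eta J V M W' := by
  have h1 := eta_constRestr_inv J g M W'
  have h : (constRestr J g M).inv.hom.app (op W') ≫ (constRestr J g M).hom.hom.app (op W') = 𝟙 _ := by
    rw [← NatTrans.comp_app, ← ObjectProperty.FullSubcategory.comp_hom, Iso.inv_hom_id]
    rfl
  calc eta J U M ((Over.map g).obj W') ≫ (constRestr J g M).hom.hom.app (op W')
      = (eta J V M W' ≫ (constRestr J g M).inv.hom.app (op W')) ≫
          (constRestr J g M).hom.hom.app (op W') :=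
        congrArg (· ≫ (constRestr J g M).hom.hom.app (op W')) h1.symm
    _ = eta J V M W' := by rw [Category.assoc, h, Category.comp_id]


/-- a morphism out of a constant presheaf on `Over V` is determined at the terminal object -/
lemma constPresheaf_hom_ext {V : C} {M : AddCommGrpCat.{u + 1}}
    {Q : (Over V)ᵒᵖ ⥤ AddCommGrpCat.{u + 1}} (a b : cP V M ⟶ Q)
    (h : a.app (op (Over.mk (𝟙 V))) = b.app (op (Over.mk (𝟙 V)))) : a = b := by
  ext W'
  obtain ⟨W'⟩ := W'
  let t : W' ⟶ Over.mk (𝟙 V) := Over.mkIdTerminal.from W'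
  have ha := a.naturality t.op
  have hb := b.naturality t.op
  simp only [Functor.const_obj_obj, Functor.const_obj_map, Category.id_comp] at ha hb
  rw [ha, hb, h]

/-- restriction along `g` of a morphism between constant sheaves -/
noncomputable def restrHom {U V : C} (g : V ⟶ U) {M N : AddCommGrpCat.{u + 1}}
    (ψ : (cS J U).obj M ⟶ (cS J U).obj N) : (cS J V).obj M ⟶ (cS J V).obj N :=
  (constRestr J g M).inv ≫ (J.overMapPullback AddCommGrpCat.{u + 1} g).map ψ ≫
    (constRestr J g N).hom

/-- criterion for the restriction of `ψ` to be induced by a group homomorphism -/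
lemma restrHom_eq_const {U V : C} (g : V ⟶ U) {M N : AddCommGrpCat.{u + 1}}
    (ψ : (cS J U).obj M ⟶ (cS J U).obj N) (h : M ⟶ N)
    (hh : eta J U M ((Over.map g).obj (Over.mk (𝟙 V))) ≫
        ψ.hom.app (op ((Over.map g).obj (Over.mk (𝟙 V)))) =
      h ≫ eta J U N ((Over.map g).obj (Over.mk (𝟙 V)))) :
    restrHom J g ψ = (cS J V).map h := by
  apply Sheaf.hom_ext
  apply sheafify_hom_ext _ _ _ ((cS J V).obj N).property
  apply constPresheaf_hom_ext
  have e1 : (toSheafify (J.over V) (cP V M)).app (op (Over.mk (𝟙 V))) =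
      eta J V M (Over.mk (𝟙 V)) := rfl
  rw [NatTrans.comp_app, NatTrans.comp_app, e1]
  have e2 := eta_nat J V h (Over.mk (𝟙 V))
  refine Eq.trans ?_ e2.symm
  have e3 := eta_constRestr_inv J g M (Over.mk (𝟙 V))
  have e4 := eta_constRestr_hom J g N (Over.mk (𝟙 V))
  have e5 : (restrHom J g ψ).hom.app (op (Over.mk (𝟙 V))) =
      (constRestr J g M).inv.hom.app (op (Over.mk (𝟙 V))) ≫
        ψ.hom.app (op ((Over.map g).obj (Over.mk (𝟙 V)))) ≫
        (constRestr J g N).hom.hom.app (op (Over.mk (𝟙 V))) := rfl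
  rw [e5]
  calc eta J V M (Over.mk (𝟙 V)) ≫ (constRestr J g M).inv.hom.app (op (Over.mk (𝟙 V))) ≫
        ψ.hom.app (op ((Over.map g).obj (Over.mk (𝟙 V)))) ≫
        (constRestr J g N).hom.hom.app (op (Over.mk (𝟙 V)))
      = (eta J U M ((Over.map g).obj (Over.mk (𝟙 V))) ≫
          ψ.hom.app (op ((Over.map g).obj (Over.mk (𝟙 V))))) ≫
          (constRestr J g N).hom.hom.app (op (Over.mk (𝟙 V))) := by
        rw [Category.assoc]
        exact (Category.assoc _ _ _).symm.trans (congrArg (· ≫ _) e3)
    _ = h ≫ eta J V N (Over.mk (𝟙 V)) := by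
        rw [hh, Category.assoc]
        exact congrArg (h ≫ ·) e4


/-- on a "nonempty" object the unit `N ⟶ (const N)(W)` is injective -/
lemma eta_injective (U : C) (N : AddCommGrpCat.{u + 1}) (W : Over U)
    (hW : (⊥ : Sieve W.left) ∉ J W.left) : Function.Injective (eta J U N W).hom := by
  intro n n' hnn
  by_contra hne
  apply hW
  have h1 : Presheaf.equalizerSieve (F := cP U N) (X := op W) n n' ∈ (J.over U) W :=
    Presheaf.equalizerSieve_mem (J.over U) (toSheafify (J.over U) (cP U N)) n n' hnn
  have h2 : Presheaf.equalizerSieve (F := cP U N) (X := op W) n n' = ⊥ := by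
    ext Z f
    simp only [Presheaf.equalizerSieve_apply, Sieve.bot_apply, iff_false]
    intro h
    exact hne h
  rw [h2, J.mem_over_iff] at h1
  have h3 : Sieve.overEquiv W ⊥ = ⊥ := (Sieve.overEquiv W).map_bot
  rwa [h3] at h1

lemma iInf_mem_of_finite {D : Type*} [Category D] (K : GrothendieckTopology D) {X : D}
    {ι : Type*} [Finite ι] (S : ι → Sieve X) (h : ∀ i, S i ∈ K X) : (⨅ i, S i) ∈ K X := by
  classical
  haveI := Fintype.ofFinite ι
  have key : ∀ s : Finset ι, s.inf S ∈ K X := by
    intro s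
    induction s using Finset.induction_on with
    | empty => simp
    | insert a s _ ih =>
      rw [Finset.inf_insert]
      exact K.intersection_covering (h a) ih
  have := key Finset.univ
  rwa [Finset.inf_univ_eq_iInf] at this

/-- a morphism `const M ⟶ const N` on `Over U` with `M` finite is, on the nonempty members of a
covering sieve of `U`, induced by a group homomorphism -/
theorem exists_cover_const (U : C) {M N : AddCommGrpCat.{u + 1}} [Finite M]
    (ψ : (cS J U).obj M ⟶ (cS J U).obj N) :
    ∃ S : Sieve U, S ∈ J U ∧ ∀ ⦃V : C⦄ (g : V ⟶ U), S g → (⊥ : Sieve V) ∉ J V →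
      ∃ h : M ⟶ N, restrHom J g ψ = (cS J V).map h := by
  let T₀ : Over U := Over.mk (𝟙 U)
  let s : M → ((cS J U).obj N).obj.obj (op T₀) := fun m =>
    (eta J U M T₀ ≫ ψ.hom.app (op T₀)).hom m
  let S' : Sieve T₀ := ⨅ m : M, Presheaf.imageSieve (toSheafify (J.over U) (cP U N)) (s m)
  have hS' : S' ∈ (J.over U) T₀ :=
    iInf_mem_of_finite (J.over U) _ (fun m =>
      Presheaf.imageSieve_mem (J.over U) (toSheafify (J.over U) (cP U N)) (U := op T₀) (s m))
  refine ⟨Sieve.overEquiv T₀ S', (J.mem_over_iff _).1 hS', ?_⟩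
  intro V g hg hV
  let Wg : Over U := (Over.map g).obj (Over.mk (𝟙 V))
  let t : Wg ⟶ T₀ := Over.mkIdTerminal.from Wg
  have hgt : S' t := by
    have h1 := (Sieve.overEquiv_iff S' g).1 hg
    let e : Wg ⟶ Over.mk (g ≫ T₀.hom) := Over.homMk (𝟙 V) (by simp [Wg, T₀])
    have h2 : e ≫ (Over.homMk g : Over.mk (g ≫ T₀.hom) ⟶ T₀) = t := Over.mkIdTerminal.hom_ext _ _
    rw [← h2]
    exact S'.downward_closed h1 e
  let r : M ⟶ ((cS J U).obj N).obj.obj (op Wg) := eta J U M Wg ≫ ψ.hom.app (op Wg)
  have hr : ∀ m : M, r.hom m = (((cS J U).obj N).obj.map t.op).hom (s m) := by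
    intro m
    have h1 := eta_map J U M t
    have h2 := ψ.hom.naturality t.op
    have h3 : r = (eta J U M T₀ ≫ ψ.hom.app (op T₀)) ≫ ((cS J U).obj N).obj.map t.op := by
      rw [Category.assoc, ← h2, ← Category.assoc, h1]
    rw [h3]
    rfl
  have hex : ∀ m : M, ∃ n : N, (eta J U N Wg).hom n = r.hom m := by
    intro m
    have h1 : Presheaf.imageSieve (toSheafify (J.over U) (cP U N)) (s m) t := by
      have : S' ≤ Presheaf.imageSieve (toSheafify (J.over U) (cP U N)) (s m) := iInf_le _ m
      exact this _ hgt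
    obtain ⟨n, hn⟩ := h1
    exact ⟨n, hn.trans (hr m).symm⟩
  choose hfun hspec using hex
  have hinj := eta_injective J U N Wg hV
  let h : M ⟶ N := AddCommGrpCat.ofHom (AddMonoidHom.mk' hfun (fun a b => hinj (by
    rw [hspec, map_add, map_add, hspec, hspec])))
  refine ⟨h, restrHom_eq_const J g ψ h ?_⟩
  ext m
  exact (hspec m).symm


/-- restriction of a trivialisation `F|U ≅ const M` along `g : V ⟶ U` -/
noncomputable def restrTriv (F : Sheaf J AddCommGrpCat.{u + 1}) {U V : C} (g : V ⟶ U)
    {M : AddCommGrpCat.{u + 1}} (α : F.over U ≅ (cS J U).obj M) : F.over V ≅ (cS J V).obj M :=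
  (F.pushforwardOverMapIso g).symm ≪≫ (J.overMapPullback AddCommGrpCat.{u + 1} g).mapIso α ≪≫
    constRestr J g M

@[reassoc]
lemma pushforwardOverMapIso_nat {F G : Sheaf J AddCommGrpCat.{u + 1}} (φ : F ⟶ G) {U V : C}
    (g : V ⟶ U) :
    (F.pushforwardOverMapIso g).inv ≫ (J.overMapPullback AddCommGrpCat.{u + 1} g).map
        ((J.overPullback AddCommGrpCat.{u + 1} U).map φ) =
      (J.overPullback AddCommGrpCat.{u + 1} V).map φ ≫ (G.pushforwardOverMapIso g).inv := by
  apply Sheaf.hom_ext
  ext W
  simp [Sheaf.pushforwardOverMapIso]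
  rfl

/-- restricting a commutative square of trivialisations -/
lemma restrTriv_comm {F G : Sheaf J AddCommGrpCat.{u + 1}} (φ : F ⟶ G) {U V : C} (g : V ⟶ U)
    {M N : AddCommGrpCat.{u + 1}} (α : F.over U ≅ (cS J U).obj M) (β : G.over U ≅ (cS J U).obj N)
    (ψ : (cS J U).obj M ⟶ (cS J U).obj N)
    (hc : (J.overPullback AddCommGrpCat.{u + 1} U).map φ ≫ β.hom = α.hom ≫ ψ) :
    (J.overPullback AddCommGrpCat.{u + 1} V).map φ ≫ (restrTriv J G g β).hom =
      (restrTriv J F g α).hom ≫ restrHom J g ψ := by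
  simp only [restrTriv, restrHom, Iso.trans_hom, Iso.symm_hom, Functor.mapIso_hom, Category.assoc,
    Iso.hom_inv_id_assoc]
  rw [← pushforwardOverMapIso_nat_assoc, ← Functor.map_comp_assoc, ← Functor.map_comp_assoc, hc]

end Groth.Agent.Lib.Cohomology.LocConst
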