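import Groth.Agent.Lib.Cohomology.Helper3_LocConstMod
import Groth.Agent.Lib.Cohomology.Helper3_LocConst2
import Groth.Prelude.Def_EtMod2

/-!
# Locally constant sheaves of modules on the small étale site (helper3)
-/

set_option autoImplicit false
universe u
open CategoryTheory CategoryTheory.Limits Opposite AlgebraicGeometry

namespace Groth.Agent.Lib.Cohomology.LocConstMod

open Groth.Agent.Lib.Cohomology.LocConst (exists_mem_sieve_point bot_not_mem exists_common)

variable {Λ : Type (u + 1)} [CommRing Λ] {X : Scheme.{u}}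

/-- a morphism between two sheaves of modules trivialised on `W` (source of finite type) is, on an
étale neighbourhood of any point of `W`, induced by a linear map -/
theorem exists_cover_linearMap {F G : EtModW.Mod Λ X} (φ : F ⟶ G) (W : X.Etale)
    {M N : ModuleCat.{u + 1} Λ} [Module.Finite Λ M]
    (α : F.over W ≅ (cS X.smallEtaleTopology W).obj M)
    (β : G.over W ≅ (cS X.smallEtaleTopology W).obj N) (w : W.left) :
    ∃ (T : X.Etale) (g : T ⟶ W) (t : T.left) (h : M ⟶ N), g.left.base t = w ∧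
      (X.smallEtaleTopology.overPullback (ModuleCat.{u + 1} Λ) T).map φ ≫
          (restrTriv X.smallEtaleTopology G g β).hom =
        (restrTriv X.smallEtaleTopology F g α).hom ≫ (cS X.smallEtaleTopology T).map h := by
  let ψ : (cS X.smallEtaleTopology W).obj M ⟶ (cS X.smallEtaleTopology W).obj N :=
    α.inv ≫ (X.smallEtaleTopology.overPullback (ModuleCat.{u + 1} Λ) W).map φ ≫ β.hom
  have hc : (X.smallEtaleTopology.overPullback (ModuleCat.{u + 1} Λ) W).map φ ≫ β.hom =
      α.hom ≫ ψ := by simp [ψ]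
  obtain ⟨S, hS, hS'⟩ := exists_cover_const X.smallEtaleTopology W ψ
  obtain ⟨T, g, t, hg, ht⟩ := exists_mem_sieve_point W S hS w
  obtain ⟨h, hh⟩ := hS' g hg (bot_not_mem T t)
  refine ⟨T, g, t, h, ht, ?_⟩
  rw [restrTriv_comm X.smallEtaleTopology φ g α β ψ hc, hh]

/-- a finite type locally constant sheaf of modules is trivialised near every point -/
lemma exists_triv_of_isFTLocConst {F : EtModW.Mod Λ X} (hF : EtModW.IsFTLocConst Λ F) (x : X) :
    ∃ (U : X.Etale) (y : U.left) (M : ModuleCat.{u + 1} Λ) (_ : Module.Finite Λ M),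
      U.hom.base y = x ∧ Nonempty (F.over U ≅ (cS X.smallEtaleTopology U).obj M) := by
  obtain ⟨ι, U, hc, hα⟩ := hF
  obtain ⟨i, y, hy⟩ := hc x
  obtain ⟨M, iM, mM, fM, ⟨α⟩⟩ := hα i
  exact ⟨U i, y, ModuleCat.of Λ M, fM, hy, ⟨α⟩⟩

/-- two finite type locally constant sheaves are trivialised on a common neighbourhood -/
lemma exists_common_triv {F G : EtModW.Mod Λ X} (hF : EtModW.IsFTLocConst Λ F)
    (hG : EtModW.IsFTLocConst Λ G) (x : X) :
    ∃ (W : X.Etale) (w : W.left) (M N : ModuleCat.{u + 1} Λ) (_ : Module.Finite Λ M)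
      (_ : Module.Finite Λ N),
      W.hom.base w = x ∧ Nonempty (F.over W ≅ (cS X.smallEtaleTopology W).obj M) ∧
        Nonempty (G.over W ≅ (cS X.smallEtaleTopology W).obj N) := by
  obtain ⟨U, y, M, fM, hy, ⟨α⟩⟩ := exists_triv_of_isFTLocConst hF x
  obtain ⟨U', y', N, fN, hy', ⟨β⟩⟩ := exists_triv_of_isFTLocConst hG x
  obtain ⟨W, p, q, w, hw⟩ := exists_common U U' y y' (hy.trans hy'.symm)
  exact ⟨W, w, M, N, fM, fN, hw.trans hy, ⟨restrTriv X.smallEtaleTopology F p α⟩,
    ⟨restrTriv X.smallEtaleTopology G q β⟩⟩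

/-- pointwise criterion for being finite type locally constant -/
lemma isFTLocConst_of_forall_point (H : EtModW.Mod Λ X)
    (h : ∀ x : X, ∃ (T : X.Etale) (t : T.left) (E : ModuleCat.{u + 1} Λ) (_ : Module.Finite Λ E),
      T.hom.base t = x ∧ Nonempty (H.over T ≅ (cS X.smallEtaleTopology T).obj E)) :
    EtModW.IsFTLocConst Λ H := by
  choose T t E hE ht hiso using h
  refine ⟨X, T, fun x => ⟨x, t x, ht x⟩, fun x => ?_⟩
  exact ⟨E x, inferInstance, inferInstance, hE x, ⟨(hiso x).some⟩⟩

end Groth.Agent.Lib.Cohomology.LocConstMod
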