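import Groth.Agent.Lib.Cohomology.Helper3_LocConstMod
import Groth.Agent.Lib.Cohomology.Helper3_LocConst3
import Mathlib.Algebra.Category.ModuleCat.Kernels
import Mathlib.Algebra.Homology.ShortComplex.ModuleCat
import Mathlib.RingTheory.Noetherian.Basic
import Mathlib.CategoryTheory.Sites.Pullback
import Mathlib.CategoryTheory.Limits.Preserves.Shapes.Kernels
import Mathlib.CategoryTheory.Sites.EpiMono
import Mathlib.Algebra.Homology.ShortComplex.ShortExact
import Mathlib.Algebra.Homology.ShortComplex.ExactFunctor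
import Mathlib.CategoryTheory.Sites.LeftExact
import Mathlib.Algebra.Group.Shrink
import Mathlib.Logic.Small.Defs
import Mathlib.Data.Countable.Small

/-!
# Kernels, cokernels and extensions of locally constant sheaves of modules (helper3)
-/

set_option autoImplicit false
universe u
open CategoryTheory CategoryTheory.Limits Opposite

namespace Groth.Agent.Lib.Cohomology.LocConstMod

open Groth.Agent.Lib.Cohomology.LocConst (iInf_mem_of_finite)

variable {Λ : Type (u + 1)} [CommRing Λ]
variable {C : Type (u + 1)} [Category.{u} C] (J : GrothendieckTopology C) (T : C)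

noncomputable instance overPullback_isLeftAdjoint :
    (J.overPullback (ModuleCat.{u + 1} Λ) T).IsLeftAdjoint :=
  ((Over.forget T).sheafAdjunctionCocontinuous (ModuleCat.{u + 1} Λ) (J.over T) J).isLeftAdjoint

noncomputable instance overPullback_preservesFiniteLimits :
    PreservesFiniteLimits (J.overPullback (ModuleCat.{u + 1} Λ) T) := by
  have : PreservesLimitsOfSize.{0, 0} (J.overPullback (ModuleCat.{u + 1} Λ) T) :=
    (Adjunction.ofIsRightAdjoint (J.overPullback (ModuleCat.{u + 1} Λ) T)).rightAdjoint_preservesLimits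
  exact PreservesLimitsOfSize.preservesFiniteLimits _

noncomputable instance overPullback_preservesFiniteColimits :
    PreservesFiniteColimits (J.overPullback (ModuleCat.{u + 1} Λ) T) := by
  have : PreservesColimitsOfSize.{0, 0} (J.overPullback (ModuleCat.{u + 1} Λ) T) :=
    (Adjunction.ofIsLeftAdjoint (J.overPullback (ModuleCat.{u + 1} Λ) T)).leftAdjoint_preservesColimits
  exact PreservesColimitsOfSize.preservesFiniteColimits _

noncomputable instance overPullback_additive : (J.overPullback (ModuleCat.{u + 1} Λ) T).Additive :=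
  Functor.additive_of_preserves_binary_products _

noncomputable instance cS_preservesFiniteLimits : PreservesFiniteLimits (cS (Λ := Λ) J T) := by
  change PreservesFiniteLimits (Functor.const (Over T)ᵒᵖ ⋙
    presheafToSheaf (J.over T) (ModuleCat.{u + 1} Λ))
  haveI h1 : PreservesFiniteLimits (Functor.const (Over T)ᵒᵖ :
      (ModuleCat.{u + 1} Λ) ⥤ _) := inferInstance
  haveI h2 : PreservesFiniteLimits (presheafToSheaf (J.over T) (ModuleCat.{u + 1} Λ)) :=
    inferInstance
  exact comp_preservesFiniteLimits _ _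

noncomputable instance cS_preservesFiniteColimits : PreservesFiniteColimits (cS (Λ := Λ) J T) := by
  have : PreservesColimitsOfSize.{0, 0} (cS (Λ := Λ) J T) :=
    (constantSheafAdj (J.over T) (ModuleCat.{u + 1} Λ) Over.mkIdTerminal).leftAdjoint_preservesColimits
  exact PreservesColimitsOfSize.preservesFiniteColimits _

noncomputable instance cS_additive : (cS (Λ := Λ) J T).Additive := by
  haveI : (cS (Λ := Λ) J T).IsLeftAdjoint :=
    (constantSheafAdj (J.over T) (ModuleCat.{u + 1} Λ) Over.mkIdTerminal).isLeftAdjoint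
  exact Functor.additive_of_preserves_binary_products _

variable {J T}

/-- the kernel of a map which on `T` is `const(h)` is `const(ker h)` on `T` -/
noncomputable def kernelTriv {F G : Sheaf J (ModuleCat.{u + 1} Λ)} (φ : F ⟶ G)
    {M N : (ModuleCat.{u + 1} Λ)} (α : F.over T ≅ (cS J T).obj M) (β : G.over T ≅ (cS J T).obj N)
    (h : M ⟶ N)
    (hc : (J.overPullback (ModuleCat.{u + 1} Λ) T).map φ ≫ β.hom = α.hom ≫ (cS J T).map h) :
    (kernel φ).over T ≅ (cS J T).obj (kernel h) :=
  PreservesKernel.iso (J.overPullback (ModuleCat.{u + 1} Λ) T) φ ≪≫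
    kernel.mapIso _ _ α β hc ≪≫ (PreservesKernel.iso (cS J T) h).symm

/-- the cokernel of a map which on `T` is `const(h)` is `const(coker h)` on `T` -/
noncomputable def cokernelTriv {F G : Sheaf J (ModuleCat.{u + 1} Λ)} (φ : F ⟶ G)
    {M N : (ModuleCat.{u + 1} Λ)} (α : F.over T ≅ (cS J T).obj M) (β : G.over T ≅ (cS J T).obj N)
    (h : M ⟶ N)
    (hc : (J.overPullback (ModuleCat.{u + 1} Λ) T).map φ ≫ β.hom = α.hom ≫ (cS J T).map h) :
    (cokernel φ).over T ≅ (cS J T).obj (cokernel h) :=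
  PreservesCokernel.iso (J.overPullback (ModuleCat.{u + 1} Λ) T) φ ≪≫
    cokernel.mapIso _ _ α β hc ≪≫ (PreservesCokernel.iso (cS J T) h).symm

instance finite_kernel [IsNoetherianRing Λ] {M N : (ModuleCat.{u + 1} Λ)} [Module.Finite Λ M]
    (h : M ⟶ N) : Module.Finite Λ (kernel h : (ModuleCat.{u + 1} Λ)) := by
  have e := ModuleCat.kernelIsoKer h
  haveI : IsNoetherian Λ M := isNoetherian_of_isNoetherianRing_of_finite Λ M
  haveI : Module.Finite Λ (ModuleCat.of Λ (LinearMap.ker h.hom)) :=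
    inferInstanceAs (Module.Finite Λ (LinearMap.ker h.hom))
  exact Module.Finite.equiv e.toLinearEquiv.symm

instance finite_cokernel {M N : (ModuleCat.{u + 1} Λ)} [Module.Finite Λ N] (h : M ⟶ N) :
    Module.Finite Λ (cokernel h : (ModuleCat.{u + 1} Λ)) := by
  have e := ModuleCat.cokernelIsoRangeQuotient h
  haveI : Module.Finite Λ (ModuleCat.of Λ (N ⧸ LinearMap.range h.hom)) :=
    inferInstanceAs (Module.Finite Λ (N ⧸ LinearMap.range h.hom))
  exact Module.Finite.equiv e.toLinearEquiv.symm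

section Ext

variable (J)

lemma cS_hom_ext {V : C} {M : (ModuleCat.{u + 1} Λ)} {H : Sheaf (J.over V) (ModuleCat.{u + 1} Λ)}
    (f₁ f₂ : (cS J V).obj M ⟶ H)
    (h : eta J V M (Over.mk (𝟙 V)) ≫ f₁.hom.app (op (Over.mk (𝟙 V))) =
      eta J V M (Over.mk (𝟙 V)) ≫ f₂.hom.app (op (Over.mk (𝟙 V)))) : f₁ = f₂ := by
  apply Sheaf.hom_ext
  apply sheafify_hom_ext _ _ _ H.property
  apply constPresheaf_hom_ext
  exact h

/-- the section map `M ⟶ F(V)` of a trivialisation of `F` over `V` -/
noncomputable def secTriv (F : Sheaf J (ModuleCat.{u + 1} Λ)) {V : C} {M : (ModuleCat.{u + 1} Λ)}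
    (α : F.over V ≅ (cS J V).obj M) : M ⟶ F.obj.obj (op V) :=
  eta J V M (Over.mk (𝟙 V)) ≫ α.inv.hom.app (op (Over.mk (𝟙 V)))

/-- the canonical map `V' → V` in `Over V` -/
def tOver {V V' : C} (g : V' ⟶ V) : (Over.map g).obj (Over.mk (𝟙 V')) ⟶ Over.mk (𝟙 V) :=
  Over.homMk g (by simp)

lemma secTriv_restrTriv' (F : Sheaf J (ModuleCat.{u + 1} Λ)) {V V' : C} (g : V' ⟶ V)
    {M : (ModuleCat.{u + 1} Λ)} (α : F.over V ≅ (cS J V).obj M) :
    secTriv J F (restrTriv J F g α) =
      eta J V M ((Over.map g).obj (Over.mk (𝟙 V'))) ≫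
        α.inv.hom.app (op ((Over.map g).obj (Over.mk (𝟙 V')))) := by
  have e3 := eta_constRestr_inv J g M (Over.mk (𝟙 V'))
  have e5 : (restrTriv J F g α).inv.hom.app (op (Over.mk (𝟙 V'))) =
      (constRestr J g M).inv.hom.app (op (Over.mk (𝟙 V'))) ≫
        α.inv.hom.app (op ((Over.map g).obj (Over.mk (𝟙 V')))) := by
    simp only [restrTriv, Iso.trans_inv, Iso.symm_inv, Functor.mapIso_inv]
    change ((constRestr J g M).inv.hom.app (op (Over.mk (𝟙 V'))) ≫
        α.inv.hom.app (op ((Over.map g).obj (Over.mk (𝟙 V'))))) ≫ 𝟙 _ = _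
    rw [Category.comp_id]
  unfold secTriv
  rw [e5]
  exact (Category.assoc _ _ _).symm.trans (congrArg (· ≫ _) e3)

lemma secTriv_restrTriv (F : Sheaf J (ModuleCat.{u + 1} Λ)) {V V' : C} (g : V' ⟶ V)
    {M : (ModuleCat.{u + 1} Λ)} (α : F.over V ≅ (cS J V).obj M) :
    secTriv J F (restrTriv J F g α) = secTriv J F α ≫ F.obj.map g.op := by
  rw [secTriv_restrTriv']
  have h1 := eta_map J V M (tOver g)
  have h2 := α.inv.hom.naturality (tOver g).op
  have h3 : (F.over V).obj.map (tOver g).op = F.obj.map g.op := rfl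
  unfold secTriv
  rw [Category.assoc]
  refine Eq.trans ?_ (congrArg (eta J V M (Over.mk (𝟙 V)) ≫ ·) (h2.trans (congrArg _ h3)))
  exact (congrArg (· ≫ α.inv.hom.app (op ((Over.map g).obj (Over.mk (𝟙 V'))))) h1.symm).trans
    (Category.assoc _ _ _)

lemma secTriv_injective (F : Sheaf J (ModuleCat.{u + 1} Λ)) {V : C} (hV : (⊥ : Sieve V) ∉ J V)
    {M : (ModuleCat.{u + 1} Λ)} (α : F.over V ≅ (cS J V).obj M) :
    Function.Injective (secTriv J F α).hom := by
  have h1 := eta_injective J V M (Over.mk (𝟙 V)) hV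
  have h2 : Function.Injective (α.inv.hom.app (op (Over.mk (𝟙 V)))).hom := by
    intro a b hab
    have := congrArg (α.hom.hom.app (op (Over.mk (𝟙 V)))).hom hab
    have hid : ∀ c, (α.hom.hom.app (op (Over.mk (𝟙 V)))).hom
        ((α.inv.hom.app (op (Over.mk (𝟙 V)))).hom c) = c := fun c => by
      have := congrArg (fun k => (k.hom.app (op (Over.mk (𝟙 V)))).hom c) α.inv_hom_id
      exact this
    rwa [hid, hid] at this
  exact h2.comp h1

/-- local lifting of finitely many sections along an epimorphism -/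
lemma exists_sieve_lift {F G : Sheaf J (ModuleCat.{u + 1} Λ)} (π : F ⟶ G) [Epi π] {W : C}
    {I : Type*} [Finite I] (z : I → G.obj.obj (op W)) :
    ∃ R : Sieve W, R ∈ J W ∧ ∀ ⦃V : C⦄ (g : V ⟶ W), R g → ∀ i,
      ∃ x : F.obj.obj (op V), (π.hom.app (op V)).hom x = (G.obj.map g.op).hom (z i) := by
  haveI : Sheaf.IsLocallySurjective π := (Sheaf.isLocallySurjective_iff_epi' _ π).2 inferInstance
  refine ⟨⨅ i, Presheaf.imageSieve π.hom (z i),
    iInf_mem_of_finite J _ (fun i => Presheaf.imageSieve_mem J π.hom (U := op W) (z i)), ?_⟩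
  intro V g hg i
  have : Presheaf.imageSieve π.hom (z i) g := (iInf_le (fun i => Presheaf.imageSieve π.hom (z i)) i) _ hg
  exact this

/-- finitely many sections of a trivialised sheaf are locally constant sections -/
lemma exists_sieve_const (F : Sheaf J (ModuleCat.{u + 1} Λ)) {V : C} {M : (ModuleCat.{u + 1} Λ)}
    (α : F.over V ≅ (cS J V).obj M) {I : Type*} [Finite I] (y : I → F.obj.obj (op V)) :
    ∃ R : Sieve V, R ∈ J V ∧ ∀ ⦃V' : C⦄ (g : V' ⟶ V), R g → ∀ i,
      ∃ m : M, (secTriv J F (restrTriv J F g α)).hom m = (F.obj.map g.op).hom (y i) := by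
  let T₀ : Over V := Over.mk (𝟙 V)
  let zz : I → ((cS J V).obj M).obj.obj (op T₀) := fun i => (α.hom.hom.app (op T₀)).hom (y i)
  let S' : Sieve T₀ := ⨅ i, Presheaf.imageSieve (toSheafify (J.over V) (cP V M)) (zz i)
  have hS' : S' ∈ (J.over V) T₀ :=
    iInf_mem_of_finite (J.over V) _ (fun i =>
      Presheaf.imageSieve_mem (J.over V) (toSheafify (J.over V) (cP V M)) (U := op T₀) (zz i))
  refine ⟨Sieve.overEquiv T₀ S', (J.mem_over_iff _).1 hS', ?_⟩
  intro V' g hg i
  have hgt : S' (tOver g) := by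
    have h1 := (Sieve.overEquiv_iff S' g).1 hg
    let e : (Over.map g).obj (Over.mk (𝟙 V')) ⟶ Over.mk (g ≫ T₀.hom) :=
      Over.homMk (𝟙 V') (by simp [T₀])
    have h2 : e ≫ (Over.homMk g : Over.mk (g ≫ T₀.hom) ⟶ T₀) = tOver g :=
      Over.mkIdTerminal.hom_ext _ _
    rw [← h2]
    exact S'.downward_closed h1 e
  have h1 : Presheaf.imageSieve (toSheafify (J.over V) (cP V M)) (zz i) (tOver g) :=
    (iInf_le (fun i => Presheaf.imageSieve (toSheafify (J.over V) (cP V M)) (zz i)) i) _ hgt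
  obtain ⟨m, hm⟩ := h1
  refine ⟨m, ?_⟩
  rw [secTriv_restrTriv']
  have hm' : (eta J V M ((Over.map g).obj (Over.mk (𝟙 V')))).hom m =
      (((cS J V).obj M).obj.map (tOver g).op).hom (zz i) := hm
  have h2 := α.inv.hom.naturality (tOver g).op
  have h3 : ∀ c, (α.inv.hom.app (op T₀)).hom ((α.hom.hom.app (op T₀)).hom c) = c := fun c => by
    have := congrArg (fun k => (k.hom.app (op T₀)).hom c) α.hom_inv_id
    exact this
  change (α.inv.hom.app (op ((Over.map g).obj (Over.mk (𝟙 V'))))).hom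
    ((eta J V M ((Over.map g).obj (Over.mk (𝟙 V')))).hom m) = _
  rw [hm']
  have h4 := congrArg (fun k => k.hom (zz i)) h2
  refine h4.trans ?_
  change ((F.over V).obj.map (tOver g).op).hom ((α.inv.hom.app (op T₀)).hom (zz i)) = _
  rw [h3]
  rfl

end Ext



section Core

variable (J)

lemma sections_injective_of_mono {F G : Sheaf J (ModuleCat.{u + 1} Λ)} (φ : F ⟶ G) [Mono φ]
    (V : C) : Function.Injective (φ.hom.app (op V)).hom := by
  have : Mono ((sheafToPresheaf J (ModuleCat.{u + 1} Λ) ⋙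
      (evaluation Cᵒᵖ (ModuleCat.{u + 1} Λ)).obj (op V)).map φ) := inferInstance
  exact (ModuleCat.mono_iff_injective _).1 this

lemma exists_of_g_zero {S : ShortComplex (Sheaf J (ModuleCat.{u + 1} Λ))} (hS : S.ShortExact)
    (V : C) (x : S.X₂.obj.obj (op V)) (hx : (S.g.hom.app (op V)).hom x = 0) :
    ∃ y : S.X₁.obj.obj (op V), (S.f.hom.app (op V)).hom y = x := by
  let Γ := sheafToPresheaf J (ModuleCat.{u + 1} Λ) ⋙
      (evaluation Cᵒᵖ (ModuleCat.{u + 1} Λ)).obj (op V)
  haveI : Γ.Additive := Functor.additive_of_preserves_binary_products _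
  have h30 := Γ.preservesFiniteLimits_tfae.out 3 0
  have hsec := h30.1 (by infer_instance : PreservesFiniteLimits Γ) S hS
  exact (ShortComplex.moduleCat_exact_iff _).1 hsec.1 x hx

/-- an extension of trivialised sheaves of modules, with lifts of generators of the quotient whose
relations go to constant sections, is trivialised by a finite type module -/
theorem nonempty_triv_of_extension {S : ShortComplex (Sheaf J (ModuleCat.{u + 1} Λ))}
    (hS : S.ShortExact) {V : C} (hV : (⊥ : Sieve V) ∉ J V) {M' M'' : (ModuleCat.{u + 1} Λ)}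
    [Module.Finite Λ M']
    (α₁ : S.X₁.over V ≅ (cS J V).obj M') (α₃ : S.X₃.over V ≅ (cS J V).obj M'')
    {ι : Type} [Fintype ι] (m : ι → M'') (hm : Submodule.span Λ (Set.range m) = ⊤)
    (s : ι → S.X₂.obj.obj (op V))
    (hs : ∀ i, (S.g.hom.app (op V)).hom (s i) = (secTriv J S.X₃ α₃).hom (m i))
    (hd : ∀ k : ι → Λ, Fintype.linearCombination Λ m k = 0 →
      ∃ m' : M', (S.f.hom.app (op V)).hom ((secTriv J S.X₁ α₁).hom m') =
        Fintype.linearCombination Λ s k) :
    ∃ (E : (ModuleCat.{u + 1} Λ)) (_ : Module.Finite Λ E),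
      Nonempty (S.X₂.over V ≅ (cS J V).obj E) := by
  classical
  let e' := secTriv J S.X₁ α₁
  let e'' := secTriv J S.X₃ α₃
  let fV : S.X₁.obj.obj (op V) →ₗ[Λ] S.X₂.obj.obj (op V) := (S.f.hom.app (op V)).hom
  let gV : S.X₂.obj.obj (op V) →ₗ[Λ] S.X₃.obj.obj (op V) := (S.g.hom.app (op V)).hom
  let lam : (ι → Λ) →ₗ[Λ] S.X₂.obj.obj (op V) := Fintype.linearCombination Λ s
  let pi : (ι → Λ) →ₗ[Λ] M'' := Fintype.linearCombination Λ m
  have hgf : ∀ y, gV (fV y) = 0 := fun y =>
    congrArg (fun k => (k.hom.app (op V)).hom y) S.zero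
  have he''inj : Function.Injective e''.hom := secTriv_injective J S.X₃ hV α₃
  have he'inj : Function.Injective e'.hom := secTriv_injective J S.X₁ hV α₁
  haveI := hS.mono_f
  have hfinj : Function.Injective fV := sections_injective_of_mono J S.f V
  have hglam : ∀ k, gV (lam k) = e''.hom (pi k) := by
    intro k
    simp only [lam, pi, Fintype.linearCombination_apply, map_sum, map_smul]
    exact Finset.sum_congr rfl (fun i _ => congrArg (k i • ·) (hs i))
  have hpi : Function.Surjective pi := by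
    rw [← LinearMap.range_eq_top, Fintype.range_linearCombination, hm]
  let I : Submodule Λ (S.X₂.obj.obj (op V)) := LinearMap.range (fV.comp e'.hom)
  have hI : ∀ m', fV (e'.hom m') ∈ I := fun m' => ⟨m', rfl⟩
  let Esub : Submodule Λ (S.X₂.obj.obj (op V)) := I ⊔ LinearMap.range lam
  have hmem : ∀ x ∈ Esub, ∃ (m' : M') (k : ι → Λ), x = fV (e'.hom m') + lam k := by
    intro x hx
    obtain ⟨y, ⟨m', rfl⟩, z, ⟨k, rfl⟩, rfl⟩ := Submodule.mem_sup.1 hx
    exact ⟨m', k, rfl⟩
  have hfin : Module.Finite Λ Esub := by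
    rw [Module.Finite.iff_fg]
    refine Submodule.FG.sup ?_ ?_
    · change (LinearMap.range (fV.comp e'.hom)).FG
      rw [LinearMap.range_eq_map]
      exact (Module.Finite.fg_top).map _
    · change (LinearMap.range lam).FG
      rw [LinearMap.range_eq_map]
      exact (Module.Finite.fg_top).map _
  have hgE : ∀ x : Esub, gV x ∈ LinearMap.range e''.hom := by
    rintro ⟨x, hx⟩
    obtain ⟨m', k, rfl⟩ := hmem x hx
    refine ⟨pi k, ?_⟩
    change e''.hom (pi k) = gV (fV (e'.hom m') + lam k)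
    rw [map_add, hgf, zero_add, hglam]
  let a : M' →ₗ[Λ] Esub := (fV.comp e'.hom).codRestrict Esub (fun m' =>
    Submodule.mem_sup_left (hI m'))
  let gE : Esub →ₗ[Λ] LinearMap.range e''.hom := (gV.domRestrict Esub).codRestrict _ hgE
  let eq := LinearEquiv.ofInjective e''.hom he''inj
  let b : Esub →ₗ[Λ] M'' := eq.symm.toLinearMap.comp gE
  have hb : ∀ x : Esub, e''.hom (b x) = gV x := fun x =>
    congrArg Subtype.val (eq.apply_symm_apply (gE x))
  have hba : ∀ m', b (a m') = 0 := by
    intro m'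
    apply he''inj
    rw [hb, map_zero]
    exact hgf _
  let SE : ShortComplex (ModuleCat.{u + 1} Λ) :=
    ShortComplex.mk (ModuleCat.ofHom a) (ModuleCat.ofHom b) (by
      ext m'
      exact hba m')
  have hSE : SE.ShortExact := by
    refine ShortComplex.ShortExact.mk' ?_ ?_ ?_
    · rw [ShortComplex.moduleCat_exact_iff]
      rintro ⟨x, hx⟩ hbx
      obtain ⟨m', k, rfl⟩ := hmem x hx
      have h1 : gV (fV (e'.hom m') + lam k) = 0 := by
        have := hb ⟨_, hx⟩
        rw [show b ⟨_, hx⟩ = 0 from hbx, map_zero] at this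
        exact this.symm
      rw [map_add, hgf, zero_add, hglam] at h1
      have h3 : pi k = 0 := he''inj (h1.trans (map_zero _).symm)
      obtain ⟨m₂, hm₂⟩ := hd k h3
      refine ⟨m' + m₂, Subtype.ext ?_⟩
      change fV (e'.hom (m' + m₂)) = fV (e'.hom m') + lam k
      rw [map_add, map_add, hm₂]
    · rw [ModuleCat.mono_iff_injective]
      intro m₁ m₂ h12
      have := congrArg Subtype.val h12
      exact he'inj (hfinj this)
    · rw [ModuleCat.epi_iff_surjective]
      intro m''
      obtain ⟨k, rfl⟩ := hpi m''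
      refine ⟨⟨lam k, Submodule.mem_sup_right ⟨k, rfl⟩⟩, ?_⟩
      apply he''inj
      change e''.hom (b _) = _
      rw [hb]
      exact hglam k
  -- sheaf level
  have h₁ := hSE.map_of_exact (cS J V)
  have h₂ := hS.map_of_exact (J.overPullback (ModuleCat.{u + 1} Λ) V)
  let adj := constantSheafAdj (J.over V) (ModuleCat.{u + 1} Λ) (Over.mkIdTerminal (X := V))
  let τ₂ : (cS J V).obj (ModuleCat.of Λ Esub) ⟶ S.X₂.over V :=
    (adj.homEquiv (ModuleCat.of Λ Esub) (S.X₂.over V)).symm (ModuleCat.ofHom Esub.subtype)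
  have hτ₂ : eta J V (ModuleCat.of Λ Esub) (Over.mk (𝟙 V)) ≫ τ₂.hom.app (op (Over.mk (𝟙 V))) =
      ModuleCat.ofHom Esub.subtype := by
    have h1 := (adj.homEquiv (ModuleCat.of Λ Esub) (S.X₂.over V)).apply_symm_apply
      (ModuleCat.ofHom Esub.subtype)
    rw [Adjunction.homEquiv_unit] at h1
    have h2 : adj.unit.app (ModuleCat.of Λ Esub) =
        eta J V (ModuleCat.of Λ Esub) (Over.mk (𝟙 V)) := by
      simp [adj, constantSheafAdj, eta]
    rw [h2] at h1
    exact h1
  let φ : SE.map (cS J V) ⟶ S.map (J.overPullback (ModuleCat.{u + 1} Λ) V) :=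
    { τ₁ := α₁.inv
      τ₂ := τ₂
      τ₃ := α₃.inv
      comm₁₂ := by
        apply cS_hom_ext
        change eta J V M' (Over.mk (𝟙 V)) ≫ α₁.inv.hom.app (op (Over.mk (𝟙 V))) ≫
            S.f.hom.app (op V) =
          eta J V M' (Over.mk (𝟙 V)) ≫
          ((cS J V).map (ModuleCat.ofHom a)).hom.app (op (Over.mk (𝟙 V))) ≫
            τ₂.hom.app (op (Over.mk (𝟙 V)))
        rw [← Category.assoc _ _ (τ₂.hom.app (op (Over.mk (𝟙 V)))), eta_nat, Category.assoc, hτ₂]
        rfl
      comm₂₃ := by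
        apply cS_hom_ext
        change eta J V (ModuleCat.of Λ Esub) (Over.mk (𝟙 V)) ≫ τ₂.hom.app (op (Over.mk (𝟙 V))) ≫
            S.g.hom.app (op V) =
          eta J V (ModuleCat.of Λ Esub) (Over.mk (𝟙 V)) ≫
          ((cS J V).map (ModuleCat.ofHom b)).hom.app (op (Over.mk (𝟙 V))) ≫
            α₃.inv.hom.app (op (Over.mk (𝟙 V)))
        rw [← Category.assoc _ _ (α₃.inv.hom.app (op (Over.mk (𝟙 V)))), eta_nat, Category.assoc]
        refine ((Category.assoc _ _ _).symm.trans
          (congrArg (· ≫ S.g.hom.app (op V)) hτ₂)).trans ?_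
        ext x
        exact (hb x).symm }
  haveI : IsIso φ.τ₁ := inferInstanceAs (IsIso α₁.inv)
  haveI : IsIso φ.τ₃ := inferInstanceAs (IsIso α₃.inv)
  have hiso : IsIso φ.τ₂ := ShortComplex.isIso₂_of_shortExact_of_isIso₁₃ φ h₁ h₂
  exact ⟨ModuleCat.of Λ Esub, hfin, ⟨(asIso φ.τ₂).symm⟩⟩

end Core

end Groth.Agent.Lib.Cohomology.LocConstMod
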