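import Groth.Agent.Lib.Cohomology.Helper3_LocConstMod2
import Groth.Agent.Lib.Cohomology.Helper3_LocConstMod3
import Groth.Agent.Lib.Cohomology.Helper3_LocConst4

/-!
# Finite type locally constant sheaves of modules: kernels, cokernels, extensions (helper3)
-/

set_option autoImplicit false
universe u
open CategoryTheory CategoryTheory.Limits Opposite AlgebraicGeometry

namespace Groth.Agent.Lib.Cohomology.LocConstMod

open Groth.Agent.Lib.Cohomology.LocConst (exists_mem_sieve_point bot_not_mem exists_common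
  hom_base_of_hom)

variable {Λ : Type (u + 1)} [CommRing Λ] [IsNoetherianRing Λ] {X : Scheme.{u}}

theorem isFTLocConst_kernel_cokernel {F G : EtModW.Mod Λ X} (φ : F ⟶ G)
    (hF : EtModW.IsFTLocConst Λ F) (hG : EtModW.IsFTLocConst Λ G) :
    EtModW.IsFTLocConst Λ (kernel φ) ∧ EtModW.IsFTLocConst Λ (cokernel φ) := by
  have key : ∀ x : X, ∃ (T : X.Etale) (t : T.left) (M N : ModuleCat.{u + 1} Λ)
      (_ : Module.Finite Λ M)
      (_ : Module.Finite Λ N) (h : M ⟶ N) (α : F.over T ≅ (cS X.smallEtaleTopology T).obj M)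
      (β : G.over T ≅ (cS X.smallEtaleTopology T).obj N), T.hom.base t = x ∧
      (X.smallEtaleTopology.overPullback (ModuleCat.{u + 1} Λ) T).map φ ≫ β.hom =
        α.hom ≫ (cS X.smallEtaleTopology T).map h := by
    intro x
    obtain ⟨W, w, M, N, fM, fN, hw, ⟨α⟩, ⟨β⟩⟩ := exists_common_triv hF hG x
    obtain ⟨T, g, t, h, ht, hc⟩ := exists_cover_linearMap φ W α β w
    exact ⟨T, t, M, N, fM, fN, h, _, _, (hom_base_of_hom g t).trans ((congrArg _ ht).trans hw), hc⟩
  constructor
  · apply isFTLocConst_of_forall_point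
    intro x
    obtain ⟨T, t, M, N, fM, fN, h, α, β, ht, hc⟩ := key x
    exact ⟨T, t, kernel h, inferInstance, ht, ⟨kernelTriv φ α β h hc⟩⟩
  · apply isFTLocConst_of_forall_point
    intro x
    obtain ⟨T, t, M, N, fM, fN, h, α, β, ht, hc⟩ := key x
    exact ⟨T, t, cokernel h, inferInstance, ht, ⟨cokernelTriv φ α β h hc⟩⟩

theorem isFTLocConst_extension {S : ShortComplex (EtModW.Mod Λ X)} (hS : S.ShortExact)
    (h₁ : EtModW.IsFTLocConst Λ S.X₁) (h₃ : EtModW.IsFTLocConst Λ S.X₃) :
    EtModW.IsFTLocConst Λ S.X₂ := by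
  classical
  apply isFTLocConst_of_forall_point
  intro x
  obtain ⟨W, w, M', M'', fM', fM'', hw, ⟨α₁⟩, ⟨α₃⟩⟩ := exists_common_triv h₁ h₃ x
  haveI := hS.epi_g
  obtain ⟨n, m, hm⟩ := Module.Finite.exists_fin (R := Λ) (M := M'')
  -- step 1: local lifts of the generators
  obtain ⟨R₁, hR₁, hR₁'⟩ := exists_sieve_lift X.smallEtaleTopology S.g
    (fun i : Fin n => (secTriv X.smallEtaleTopology S.X₃ α₃).hom (m i))
  obtain ⟨V, g, v, hg, hv⟩ := exists_mem_sieve_point W R₁ hR₁ w
  choose s hs using hR₁' g hg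
  let α₁V := restrTriv X.smallEtaleTopology S.X₁ g α₁
  let α₃V := restrTriv X.smallEtaleTopology S.X₃ g α₃
  have hsV : ∀ i, (S.g.hom.app (op V)).hom (s i) =
      (secTriv X.smallEtaleTopology S.X₃ α₃V).hom (m i) := by
    intro i
    rw [hs i]
    have := secTriv_restrTriv X.smallEtaleTopology S.X₃ g α₃
    exact (congrArg (fun k => k.hom (m i)) this).symm
  -- step 2: relations
  let K : Submodule Λ (Fin n → Λ) := LinearMap.ker (Fintype.linearCombination Λ m)
  obtain ⟨GK, hGK⟩ := (IsNoetherian.noetherian K : K.FG)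
  have hglam : ∀ k : Fin n → Λ, (S.g.hom.app (op V)).hom (Fintype.linearCombination Λ s k) =
      (secTriv X.smallEtaleTopology S.X₃ α₃V).hom (Fintype.linearCombination Λ m k) := by
    intro k
    simp only [Fintype.linearCombination_apply, map_sum, map_smul]
    exact Finset.sum_congr rfl (fun i _ => congrArg (k i • ·) (hsV i))
  have hdef : ∀ k : GK, ∃ y : S.X₁.obj.obj (op V),
      (S.f.hom.app (op V)).hom y = Fintype.linearCombination Λ s k.1 := by
    intro k
    apply exists_of_g_zero X.smallEtaleTopology hS V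
    rw [hglam]
    have hk : k.1 ∈ K := hGK ▸ Submodule.subset_span k.2
    rw [show Fintype.linearCombination Λ m k.1 = 0 from hk, map_zero]
  choose y hy using hdef
  obtain ⟨R₂, hR₂, hR₂'⟩ := exists_sieve_const X.smallEtaleTopology S.X₁ α₁V y
  obtain ⟨V', g', v', hg', hv'⟩ := exists_mem_sieve_point V R₂ hR₂ v
  have hconst := hR₂' g' hg'
  let α₁V' := restrTriv X.smallEtaleTopology S.X₁ g' α₁V
  let α₃V' := restrTriv X.smallEtaleTopology S.X₃ g' α₃V
  let s' : Fin n → S.X₂.obj.obj (op V') := fun i => (S.X₂.obj.map g'.op).hom (s i)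
  have natg : ∀ z : S.X₂.obj.obj (op V), (S.g.hom.app (op V')).hom ((S.X₂.obj.map g'.op).hom z) =
      (S.X₃.obj.map g'.op).hom ((S.g.hom.app (op V)).hom z) := fun z =>
    congrArg (fun κ => κ.hom z) (S.g.hom.naturality g'.op)
  have natf : ∀ z : S.X₁.obj.obj (op V), (S.f.hom.app (op V')).hom ((S.X₁.obj.map g'.op).hom z) =
      (S.X₂.obj.map g'.op).hom ((S.f.hom.app (op V)).hom z) := fun z =>
    congrArg (fun κ => κ.hom z) (S.f.hom.naturality g'.op)
  have hs' : ∀ i, (S.g.hom.app (op V')).hom (s' i) =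
      (secTriv X.smallEtaleTopology S.X₃ α₃V').hom (m i) := by
    intro i
    change (S.g.hom.app (op V')).hom ((S.X₂.obj.map g'.op).hom (s i)) = _
    rw [natg, hsV]
    have := secTriv_restrTriv X.smallEtaleTopology S.X₃ g' α₃V
    exact (congrArg (fun k => k.hom (m i)) this).symm
  have hlam' : ∀ k : Fin n → Λ, (S.X₂.obj.map g'.op).hom (Fintype.linearCombination Λ s k) =
      Fintype.linearCombination Λ s' k := by
    intro k
    simp only [Fintype.linearCombination_apply, map_sum, map_smul]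
    rfl
  let Q : Submodule Λ (Fin n → Λ) := Submodule.comap (Fintype.linearCombination Λ s')
    (LinearMap.range ((S.f.hom.app (op V')).hom.comp
      (secTriv X.smallEtaleTopology S.X₁ α₁V').hom))
  have hKQ : K ≤ Q := by
    rw [← hGK, Submodule.span_le]
    intro k hk
    obtain ⟨m', hm'⟩ := hconst ⟨k, hk⟩
    refine ⟨m', ?_⟩
    change (S.f.hom.app (op V')).hom ((secTriv X.smallEtaleTopology S.X₁ α₁V').hom m') = _
    rw [hm', natf, hy ⟨k, hk⟩, hlam']
  have hd' : ∀ k : Fin n → Λ, Fintype.linearCombination Λ m k = 0 →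
      ∃ m' : M', (S.f.hom.app (op V')).hom
        ((secTriv X.smallEtaleTopology S.X₁ α₁V').hom m') = Fintype.linearCombination Λ s' k := by
    intro k hk
    obtain ⟨m', hm'⟩ := hKQ (show k ∈ K from hk)
    exact ⟨m', hm'⟩
  obtain ⟨E, fE, hE⟩ := nonempty_triv_of_extension X.smallEtaleTopology hS (bot_not_mem V' v')
    α₁V' α₃V' m hm s' hs' hd'
  refine ⟨V', v', E, fE, ?_, hE⟩
  rw [hom_base_of_hom g' v', hv', hom_base_of_hom g v, hv, hw]

end Groth.Agent.Lib.Cohomology.LocConstMod
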