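import Groth.Agent.Lib.Cohomology.Helper3_Flasque
import Groth.Agent.Lib.Cohomology.Helper3_Cartan

set_option autoImplicit false
universe u
open CategoryTheory Limits Opposite TopologicalSpace

namespace Groth.Agent.Lib.Cohomology

theorem epi_of_sections_surjective {Y : TopCat.{u}} {F G : CohTop.Ab Y} (g : F ⟶ G)
    (h : ∀ W : Opens Y, Function.Surjective (g.hom.app (op W))) : Epi g := by
  refine (TopCat.Sheaf.isLocallySurjective_iff_epi (X := Y) (C := AddCommGrpCat.{u}) g).1 ?_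
  rw [TopCat.Presheaf.isLocallySurjective_iff]
  intro V t x hx
  obtain ⟨s, hs⟩ := h V t
  refine ⟨V, le_rfl, ⟨s, ?_⟩, hx⟩
  refine hs.trans ?_
  simp [TopCat.Presheaf.restrictOpen, TopCat.Presheaf.restrict]

theorem mono_of_sections_injective {Y : TopCat.{u}} {F G : CohTop.Ab Y} (f : F ⟶ G)
    (h : ∀ W : Opens Y, Function.Injective (f.hom.app (op W))) : Mono f := by
  refine (Sheaf.Hom.mono_iff_presheaf_mono _ _ f).2 ?_
  refine (NatTrans.mono_iff_mono_app f.hom).2 (fun W => ?_)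
  exact (AddCommGrpCat.mono_iff_injective _).2 (h W.unop)

theorem shortExact_of_sections {Y : TopCat.{u}} (S : ShortComplex (CohTop.Ab Y))
    (h1 : ∀ W : Opens Y, Function.Injective (S.f.hom.app (op W)))
    (h2 : ∀ (W : Opens Y) (x : S.X₂.obj.obj (op W)), S.g.hom.app (op W) x = 0 →
      ∃ y, S.f.hom.app (op W) y = x)
    (h3 : ∀ W : Opens Y, Function.Surjective (S.g.hom.app (op W))) : S.ShortExact := by
  have := mono_of_sections_injective S.f h1
  have := epi_of_sections_surjective S.g h3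
  refine { exact := ?_ }
  rw [ShortComplex.exact_iff_epi_kernel_lift]
  refine epi_of_sections_surjective _ (fun W t => ?_)
  have hι : Function.Injective ((kernel.ι S.g).hom.app (op W)) :=
    sections_injective_of_mono (kernel.ι S.g) W
  have hz : S.g.hom.app (op W) ((kernel.ι S.g).hom.app (op W) t) = 0 := by
    have : kernel.ι S.g ≫ S.g = 0 := kernel.condition _
    have h' := congrArg (fun φ => φ.hom.app (op W) t) this
    exact h'
  obtain ⟨y, hy⟩ := h2 W _ hz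
  refine ⟨y, hι ?_⟩
  rw [← hy]
  have : kernel.lift S.g S.f S.zero ≫ kernel.ι S.g = S.f := kernel.lift_ι _ _ _
  exact congrArg (fun φ => φ.hom.app (op W) y) this

end Groth.Agent.Lib.Cohomology

namespace Groth.Agent.Lib.Cohomology

section Elementwise

variable {Y : TopCat.{u}} {F G H : CohTop.Ab Y}

theorem hom_comp_app (φ : F ⟶ G) (ψ : G ⟶ H) (W : Opens Y) (x : F.obj.obj (op W)) :
    (φ ≫ ψ).hom.app (op W) x = ψ.hom.app (op W) (φ.hom.app (op W) x) := rfl

theorem hom_add_app (φ ψ : F ⟶ G) (W : Opens Y) (x : F.obj.obj (op W)) :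
    (φ + ψ).hom.app (op W) x = φ.hom.app (op W) x + ψ.hom.app (op W) x := rfl

theorem hom_neg_app (φ : F ⟶ G) (W : Opens Y) (x : F.obj.obj (op W)) :
    (-φ).hom.app (op W) x = -(φ.hom.app (op W) x) := rfl

theorem hom_zero_app (W : Opens Y) (x : F.obj.obj (op W)) :
    (0 : F ⟶ G).hom.app (op W) x = 0 := rfl

theorem hom_id_app (W : Opens Y) (x : F.obj.obj (op W)) :
    (𝟙 F : F ⟶ F).hom.app (op W) x = x := rfl

theorem biprod_sections_eq {A B : CohTop.Ab Y} (W : Opens Y) (x : (A ⊞ B).obj.obj (op W)) :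
    x = (biprod.inl : A ⟶ A ⊞ B).hom.app (op W) ((biprod.fst : A ⊞ B ⟶ A).hom.app (op W) x) +
      (biprod.inr : B ⟶ A ⊞ B).hom.app (op W) ((biprod.snd : A ⊞ B ⟶ B).hom.app (op W) x) := by
  have h : (biprod.fst : A ⊞ B ⟶ A) ≫ biprod.inl + biprod.snd ≫ biprod.inr = 𝟙 (A ⊞ B) :=
    biprod.total
  have := congrArg (fun φ : A ⊞ B ⟶ A ⊞ B => φ.hom.app (op W) x) h
  simp only [hom_add_app, hom_comp_app, hom_id_app] at this
  exact this.symm

theorem biprod_sections_ext {A B : CohTop.Ab Y} (W : Opens Y) (x y : (A ⊞ B).obj.obj (op W))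
    (h1 : (biprod.fst : A ⊞ B ⟶ A).hom.app (op W) x = (biprod.fst : A ⊞ B ⟶ A).hom.app (op W) y)
    (h2 : (biprod.snd : A ⊞ B ⟶ B).hom.app (op W) x = (biprod.snd : A ⊞ B ⟶ B).hom.app (op W) y) :
    x = y := by
  rw [biprod_sections_eq W x, biprod_sections_eq W y, h1, h2]

end Elementwise

end Groth.Agent.Lib.Cohomology

namespace Groth.Agent.Lib.Cohomology

/-- Binary gluing for abelian sheaves. -/
theorem glue₂ {X : TopCat.{u}} (F : CohTop.Ab X) {U₁ U₂ V W : Opens X} (i₁ : U₁ ⟶ V) (i₂ : U₂ ⟶ V)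
    (j₁ : W ⟶ U₁) (j₂ : W ⟶ U₂) (hW : U₁ ⊓ U₂ ≤ W)
    (hcover : V ≤ U₁ ⊔ U₂) (s₁ : F.obj.obj (op U₁)) (s₂ : F.obj.obj (op U₂))
    (h : F.obj.map j₁.op s₁ = F.obj.map j₂.op s₂) :
    ∃ s : F.obj.obj (op V), F.obj.map i₁.op s = s₁ ∧ F.obj.map i₂.op s = s₂ := by
  let Uf : Bool → Opens X := fun b => if b then U₁ else U₂
  let sf : ∀ b : Bool, F.obj.obj (op (Uf b)) := fun b =>
    match b with
    | true => s₁
    | false => s₂
  let iUV : ∀ b : Bool, Uf b ⟶ V := fun b =>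
    match b with
    | true => i₁
    | false => i₂
  have hc : V ≤ iSup Uf := by
    refine le_trans hcover ?_
    rw [sup_le_iff]
    exact ⟨le_iSup Uf true, le_iSup Uf false⟩
  have hcomp : TopCat.Presheaf.IsCompatible F.1 Uf sf := by
    have key : F.obj.map (homOfLE (inf_le_left : U₁ ⊓ U₂ ≤ U₁)).op s₁ =
        F.obj.map (homOfLE (inf_le_right : U₁ ⊓ U₂ ≤ U₂)).op s₂ := by
      have e1 : (homOfLE (inf_le_left : U₁ ⊓ U₂ ≤ U₁)) = homOfLE hW ≫ j₁ := Subsingleton.elim _ _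
      have e2 : (homOfLE (inf_le_right : U₁ ⊓ U₂ ≤ U₂)) = homOfLE hW ≫ j₂ := Subsingleton.elim _ _
      rw [e1, e2, op_comp, op_comp, F.obj.map_comp, F.obj.map_comp]
      change F.obj.map (homOfLE hW).op (F.obj.map j₁.op s₁) = F.obj.map (homOfLE hW).op (F.obj.map j₂.op s₂)
      rw [h]
    rintro (_ | _) (_ | _)
    · rfl
    · change F.obj.map (homOfLE (inf_le_left : U₂ ⊓ U₁ ≤ U₂)).op s₂ =
        F.obj.map (homOfLE (inf_le_right : U₂ ⊓ U₁ ≤ U₁)).op s₁
      have e1 : (homOfLE (inf_le_left : U₂ ⊓ U₁ ≤ U₂)) =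
          homOfLE (le_inf inf_le_right inf_le_left : U₂ ⊓ U₁ ≤ U₁ ⊓ U₂) ≫ homOfLE inf_le_right :=
        Subsingleton.elim _ _
      have e2 : (homOfLE (inf_le_right : U₂ ⊓ U₁ ≤ U₁)) =
          homOfLE (le_inf inf_le_right inf_le_left : U₂ ⊓ U₁ ≤ U₁ ⊓ U₂) ≫ homOfLE inf_le_left :=
        Subsingleton.elim _ _
      rw [e1, e2, op_comp, op_comp, F.obj.map_comp, F.obj.map_comp]
      change F.obj.map _ (F.obj.map _ s₂) = F.obj.map _ (F.obj.map _ s₁)
      rw [key]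
    · exact key
    · rfl
  obtain ⟨s, hs, -⟩ := TopCat.Sheaf.existsUnique_gluing' (C := AddCommGrpCat.{u}) F Uf V iUV hc sf hcomp
  exact ⟨s, hs true, hs false⟩

end Groth.Agent.Lib.Cohomology
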