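import Groth.Prelude.Def_LocCohZ
import Groth.Agent.Lib.Cohomology.Helper3_MVAbstract
import Groth.Agent.Lib.Cohomology.Helper3_SheafExact

/-!
# Mayer-Vietoris for cohomology with supports on a topological space (helper3)

The short exact sequence `0 → ℤ_X/ℤ_{U ⊓ U'} → ℤ_X/ℤ_U ⊞ ℤ_X/ℤ_{U'} → ℤ_X/ℤ_{U ⊔ U'} → 0`
(`ses_shortExact`), proved by testing against injective sheaves (which are flasque), and the resulting
long exact sequence (`mv`) through `MVAbstract.exists_delta`.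
-/

set_option autoImplicit false
universe u
open CategoryTheory CategoryTheory.Limits TopologicalSpace Opposite

namespace Groth.Agent.Lib.Cohomology.LocMV

open LocCohZ

variable {X : TopCat.{u}}

/-- restriction maps of a sheaf compose -/
lemma res_res (F : CohTop.Ab X) {A B C : Opens X} (f : A ⟶ B) (g : B ⟶ C) (k : A ⟶ C)
    (s : F.obj.obj (op C)) :
    (F.obj.map f.op).hom ((F.obj.map g.op).hom s) = (F.obj.map k.op).hom s := by
  have e : k = f ≫ g := Subsingleton.elim _ _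
  rw [e, op_comp, F.obj.map_comp]
  rfl

/-- a morphism `ℤ_X/ℤ_W ⟶ G` as a global section of `G` -/
noncomputable def sec (W : Opens X) (G : CohTop.Ab X) (ψ : zq (le_top : W ≤ ⊤) ⟶ G) :
    G.obj.obj (op (⊤ : Opens X)) :=
  CohFree.evalGen (Opens.grothendieckTopology X) ⊤ G
    (cokernel.π (CohCx.freeSheafMap (Opens.grothendieckTopology X) (homOfLE (le_top : W ≤ ⊤))) ≫ ψ)

lemma sec_injective (W : Opens X) (G : CohTop.Ab X) : Function.Injective (sec W G) := by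
  intro ψ₁ ψ₂ h
  have h' : cokernel.π (CohCx.freeSheafMap (Opens.grothendieckTopology X)
      (homOfLE (le_top : W ≤ ⊤))) ≫ ψ₁ = cokernel.π _ ≫ ψ₂ :=
    (CohFree.homEquivSect (Opens.grothendieckTopology X) ⊤ G).injective h
  exact (cancel_epi _).1 h'

lemma sec_sub (W : Opens X) (G : CohTop.Ab X) (ψ₁ ψ₂ : zq (le_top : W ≤ ⊤) ⟶ G) :
    sec W G (ψ₁ - ψ₂) = sec W G ψ₁ - sec W G ψ₂ := by
  unfold sec
  rw [Preadditive.comp_sub, map_sub]

lemma sec_res (W : Opens X) (G : CohTop.Ab X) (ψ : zq (le_top : W ≤ ⊤) ⟶ G) :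
    (G.obj.map (homOfLE (le_top : W ≤ ⊤)).op).hom (sec W G ψ) = 0 := by
  unfold sec
  rw [← CohFree.evalGen_freeSheafMap_comp, cokernel.condition_assoc, zero_comp, map_zero]

lemma exists_sec (W : Opens X) (G : CohTop.Ab X) (s : G.obj.obj (op (⊤ : Opens X)))
    (hs : (G.obj.map (homOfLE (le_top : W ≤ ⊤)).op).hom s = 0) : ∃ ψ, sec W G ψ = s := by
  refine ⟨cokernel.desc _ (CohFree.ofSect (Opens.grothendieckTopology X) ⊤ G s) ?_, ?_⟩
  · have h0 : CohFree.evalGen (Opens.grothendieckTopology X) W G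
        (CohCx.freeSheafMap (Opens.grothendieckTopology X) (homOfLE (le_top : W ≤ ⊤)) ≫
          CohFree.ofSect (Opens.grothendieckTopology X) ⊤ G s) = 0 := by
      rw [CohFree.evalGen_freeSheafMap_comp, CohFree.evalGen_ofSect]
      exact hs
    rw [← CohFree.ofSect_evalGen (Opens.grothendieckTopology X) W G (_ ≫ _), h0,
      ← (CohFree.evalGen (Opens.grothendieckTopology X) W G).map_zero, CohFree.ofSect_evalGen]
  · unfold sec
    rw [cokernel.π_desc]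
    exact CohFree.evalGen_ofSect _ _ _ _

lemma π_zqMap_top {W W' : Opens X} (hW : W' ≤ W) :
    cokernel.π (CohCx.freeSheafMap (Opens.grothendieckTopology X) (homOfLE (le_top : W' ≤ ⊤))) ≫
      zqMap (le_top : W ≤ ⊤) (le_top : W' ≤ ⊤) hW le_rfl = cokernel.π _ := by
  unfold zqMap
  rw [cokernel.π_desc]
  have e : (homOfLE (le_rfl : (⊤ : Opens X) ≤ ⊤)) = 𝟙 _ := Subsingleton.elim _ _
  rw [e, CohFree.freeSheafMap_id, Category.id_comp]

lemma sec_zqMap {W W' : Opens X} (hW : W' ≤ W) (G : CohTop.Ab X) (ψ : zq (le_top : W ≤ ⊤) ⟶ G) :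
    sec W' G (zqMap (le_top : W ≤ ⊤) (le_top : W' ≤ ⊤) hW le_rfl ≫ ψ) = sec W G ψ := by
  unfold sec
  rw [← Category.assoc, π_zqMap_top]

section MV

variable (U U' : Opens X)

/-- the four maps -/
noncomputable abbrev c₁ : zq (le_top : U ≤ ⊤) ⟶ zq (le_top : U ⊔ U' ≤ ⊤) :=
  zqMap (le_top : U ⊔ U' ≤ ⊤) (le_top : U ≤ ⊤) le_sup_left le_rfl

noncomputable abbrev c₂ : zq (le_top : U' ≤ ⊤) ⟶ zq (le_top : U ⊔ U' ≤ ⊤) :=
  zqMap (le_top : U ⊔ U' ≤ ⊤) (le_top : U' ≤ ⊤) le_sup_right le_rfl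

noncomputable abbrev m₁ : zq (le_top : U ⊓ U' ≤ ⊤) ⟶ zq (le_top : U ≤ ⊤) :=
  zqMap (le_top : U ≤ ⊤) (le_top : U ⊓ U' ≤ ⊤) inf_le_left le_rfl

noncomputable abbrev m₂ : zq (le_top : U ⊓ U' ≤ ⊤) ⟶ zq (le_top : U' ≤ ⊤) :=
  zqMap (le_top : U' ≤ ⊤) (le_top : U ⊓ U' ≤ ⊤) inf_le_right le_rfl

lemma hz : biprod.lift (m₁ U U') (-(m₂ U U')) ≫ biprod.desc (c₁ U U') (c₂ U U') = 0 := by
  rw [biprod.lift_desc, Preadditive.neg_comp, ← sub_eq_add_neg, sub_eq_zero]
  apply (cancel_epi (cokernel.π _)).1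
  rw [← Category.assoc, ← Category.assoc, π_zqMap_top, π_zqMap_top, π_zqMap_top, π_zqMap_top]

lemma sec_zero (W : Opens X) (G : CohTop.Ab X) : sec W G 0 = 0 := by
  unfold sec
  rw [comp_zero, map_zero]

lemma sec_c₁ (G : CohTop.Ab X) (φ : zq (le_top : U ⊔ U' ≤ ⊤) ⟶ G) :
    sec U G (c₁ U U' ≫ φ) = sec (U ⊔ U') G φ := sec_zqMap le_sup_left G φ

lemma sec_c₂ (G : CohTop.Ab X) (φ : zq (le_top : U ⊔ U' ≤ ⊤) ⟶ G) :
    sec U' G (c₂ U U' ≫ φ) = sec (U ⊔ U') G φ := sec_zqMap le_sup_right G φ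

lemma sec_m₁ (G : CohTop.Ab X) (φ : zq (le_top : U ≤ ⊤) ⟶ G) :
    sec (U ⊓ U') G (m₁ U U' ≫ φ) = sec U G φ := sec_zqMap inf_le_left G φ

lemma sec_m₂ (G : CohTop.Ab X) (φ : zq (le_top : U' ≤ ⊤) ⟶ G) :
    sec (U ⊓ U') G (m₂ U U' ≫ φ) = sec U' G φ := sec_zqMap inf_le_right G φ

theorem ses_shortExact : (ShortComplex.mk _ _ (hz U U')).ShortExact := by
  refine MVAbstract.shortExact_of_injective_test _ ?_ ?_ ?_
  · intro I _ φ hφ
    have h1 : c₁ U U' ≫ φ = 0 := by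
      have := congrArg (fun t => biprod.inl ≫ t) hφ
      simpa using this
    apply sec_injective
    rw [← sec_c₁ U U' I φ, h1, sec_zero, sec_zero]
  · intro I _ ψ hψ
    have hψd : ψ = biprod.desc (biprod.inl ≫ ψ) (biprod.inr ≫ ψ) := by
      apply biprod.hom_ext' <;> simp
    have hm : m₁ U U' ≫ biprod.inl ≫ ψ = m₂ U U' ≫ biprod.inr ≫ ψ := by
      have h0 : biprod.lift (m₁ U U') (-(m₂ U U')) ≫ ψ = 0 := hψ
      rw [hψd, biprod.lift_desc, Preadditive.neg_comp, ← sub_eq_add_neg, sub_eq_zero] at h0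
      exact h0
    have hs : sec U I (biprod.inl ≫ ψ) = sec U' I (biprod.inr ≫ ψ) := by
      rw [← sec_m₁ U U' I, ← sec_m₂ U U' I, hm]
    have hres : (I.obj.map (homOfLE (le_top : U ⊔ U' ≤ ⊤)).op).hom (sec U I (biprod.inl ≫ ψ)) = 0 := by
      refine TopCat.Sheaf.eq_of_locally_eq₂ (C := AddCommGrpCat.{u}) I
        (homOfLE (le_sup_left : U ≤ U ⊔ U')) (homOfLE (le_sup_right : U' ≤ U ⊔ U')) le_rfl _ _ ?_ ?_
      · rw [map_zero]
        refine (res_res I _ _ (homOfLE (le_top : U ≤ ⊤)) _).trans ?_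
        exact sec_res U I _
      · rw [map_zero]
        refine (res_res I _ _ (homOfLE (le_top : U' ≤ ⊤)) _).trans ?_
        rw [hs]
        exact sec_res U' I _
    obtain ⟨φ, hφ⟩ := exists_sec (U ⊔ U') I _ hres
    refine ⟨φ, ?_⟩
    change biprod.desc (c₁ U U') (c₂ U U') ≫ φ = ψ
    rw [hψd]
    apply biprod.hom_ext'
    · rw [biprod.inl_desc_assoc, biprod.inl_desc]
      apply sec_injective
      rw [sec_c₁, hφ]
    · rw [biprod.inr_desc_assoc, biprod.inr_desc]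
      apply sec_injective
      rw [sec_c₂, hφ, hs]
  · intro I _ χ
    have hI : TopCat.Sheaf.IsFlasque I := isFlasque_of_injective I
    obtain ⟨a', ha1, ha2⟩ := glue₂ I (homOfLE (le_sup_left : U ≤ U ⊔ U'))
      (homOfLE (le_sup_right : U' ≤ U ⊔ U')) (homOfLE (inf_le_left : U ⊓ U' ≤ U))
      (homOfLE (inf_le_right : U ⊓ U' ≤ U')) le_rfl le_rfl (0 : I.obj.obj (op U))
      ((I.obj.map (homOfLE (le_top : U' ≤ ⊤)).op).hom (sec (U ⊓ U') I χ)) (by
        rw [map_zero]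
        refine Eq.symm ((res_res I _ _ (homOfLE (le_top : U ⊓ U' ≤ ⊤)) _).trans ?_)
        exact sec_res (U ⊓ U') I χ)
    have hepi : Epi (I.obj.map (homOfLE (le_top : U ⊔ U' ≤ ⊤)).op) := hI.epi _
    obtain ⟨a, ha⟩ := (AddCommGrpCat.epi_iff_surjective _).1 hepi a'
    have haU : (I.obj.map (homOfLE (le_top : U ≤ ⊤)).op).hom a = 0 := by
      refine (res_res I (homOfLE (le_sup_left : U ≤ U ⊔ U')) (homOfLE le_top) _ a).symm.trans ?_
      rw [ha]
      exact ha1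
    have hbU' : (I.obj.map (homOfLE (le_top : U' ≤ ⊤)).op).hom (a - sec (U ⊓ U') I χ) = 0 := by
      rw [map_sub, sub_eq_zero]
      refine (res_res I (homOfLE (le_sup_right : U' ≤ U ⊔ U')) (homOfLE le_top) _ a).symm.trans ?_
      rw [ha]
      exact ha2
    obtain ⟨ψa, hψa⟩ := exists_sec U I a haU
    obtain ⟨ψb, hψb⟩ := exists_sec U' I _ hbU'
    refine ⟨biprod.desc ψa ψb, ?_⟩
    change biprod.lift (m₁ U U') (-(m₂ U U')) ≫ biprod.desc ψa ψb = χ
    rw [biprod.lift_desc, Preadditive.neg_comp, ← sub_eq_add_neg]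
    apply sec_injective
    rw [sec_sub, sec_m₁, sec_m₂, hψa, hψb, sub_sub_cancel]

end MV

end Groth.Agent.Lib.Cohomology.LocMV
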