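import Groth.Agent.Lib.Cohomology.Helper3_SpecPt5
import Groth.Agent.Lib.Helper70.StalkPullGerm
import Groth.Agent.Lib.Cohomology.Helper3_ConstMono
import Groth.Agent.S0127

/-!
# Local constancy of a constructible sheaf near a point via specialization maps (helper3)
-/

set_option autoImplicit false
universe u
open CategoryTheory CategoryTheory.Limits Opposite AlgebraicGeometry Topology TopologicalSpace

namespace Groth.Agent.Lib.Cohomology.NearFLC

open Groth.Agent.Lib.Cohomology.LocConst Groth.Agent.Lib.Cohomology.EtExc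
open Groth.Agent.Lib.Cohomology.SubConst Groth.Agent.Lib.Cohomology.CardConstr
open Groth.Agent.Lib.Cohomology.Constr Groth.Agent.Lib.Cohomology.SuppConstr
open Groth.Agent.Lib.Cohomology.StalkProp Groth.Agent.Lib.Cohomology.ChainStab
open Groth.Agent.Lib.Cohomology.OverPull Groth.Agent.Lib.Cohomology.SpecPt
open Groth.Agent.Lib.Helper70.StalkCons

section Top

variable {Y : Type*} [TopologicalSpace Y] [CompactSpace Y] [QuasiSober Y]
  [PrespectralSpace Y] [QuasiSeparatedSpace Y]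

/-- a constructible set avoiding all generizations of a point avoids a neighbourhood of it. -/
lemma exists_open_disjoint {E : Set Y} (hE : IsConstructible E) (p : Y)
    (h : ∀ q, q ⤳ p → q ∉ E) : ∃ O : Set Y, IsOpen O ∧ p ∈ O ∧ Disjoint O E := by
  classical
  haveI := ConstrTop.compactSpace_ct (X := Y)
  have hcl : @IsClosed Y (constructibleTopology Y) E :=
    @IsClosed.mk Y (constructibleTopology Y) E (ConstrTop.isOpen_ct_and_compl hE).2
  have hEc : @IsCompact Y (constructibleTopology Y) E :=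
    @IsClosed.isCompact Y (constructibleTopology Y) E _ hcl
  have key : ∀ y : E, ∃ O : Set Y, IsOpen O ∧ IsCompact O ∧ p ∈ O ∧ (y : Y) ∉ O := by
    intro y
    have hn : ¬ ((y : Y) ⤳ p) := fun hsp => h y hsp y.2
    rw [specializes_iff_forall_open] at hn
    push_neg at hn
    obtain ⟨s, hs, hps, hys⟩ := hn
    obtain ⟨O, hO, hpO, hOs⟩ :=
      PrespectralSpace.isTopologicalBasis.exists_subset_of_mem_open hps hs
    exact ⟨O, hO.1, hO.2, hpO, fun hy => hys (hOs hy)⟩
  choose O hOo hOc hpO hyO using key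
  obtain ⟨t, ht⟩ := @IsCompact.elim_finite_subcover Y (constructibleTopology Y) E E hEc
    (fun y => (O y)ᶜ)
    (fun y => IsCompact.isOpen_constructibleTopology_of_isClosed
      (by rw [compl_compl]; exact hOc y) (hOo y).isClosed_compl)
    (fun y hy => Set.mem_iUnion.2 ⟨⟨y, hy⟩, hyO ⟨y, hy⟩⟩)
  refine ⟨⋂ y ∈ t, O y, isOpen_biInter_finset (fun y _ => hOo y),
    Set.mem_iInter₂.2 (fun y _ => hpO y), ?_⟩
  rw [Set.disjoint_left]
  intro z hz hzE
  obtain ⟨y, hy, hzy⟩ := Set.mem_iUnion₂.1 (ht hzE)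
  exact hzy (Set.mem_iInter₂.1 hz y hy)

end Top

variable {X : Scheme.{u}}

set_option backward.isDefEq.respectTransparency.types false in
/-- the geometric stalks of a constructible sheaf are finite. -/
theorem finite_stalk_of_isConstructible (F : EtCoh.Ab X) (hF : EtPBC.IsConstructible F)
    {Ω : Type u} [Field Ω] [IsSepClosed Ω] (ξ : Spec (CommRingCat.of Ω) ⟶ X) :
    Finite ((EtCoh.stalk ξ).obj F) := by
  obtain ⟨_, ⟨U₀, hU₀aff, rfl⟩, hxU₀, -⟩ := X.isBasis_affineOpens.exists_subset_of_mem_open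
    (Set.mem_univ (ξ.base default)) isOpen_univ
  obtain ⟨n, Ts, g, himm, hcons, hdisj, hun, hflc⟩ := hF U₀ hU₀aff
  haveI := himm
  have hx : ξ.base default ∈ ⋃ i, Set.range (g i) := by rw [hun]; exact hxU₀
  obtain ⟨i, hi⟩ := Set.mem_iUnion.1 hx
  obtain ⟨ζ, hζ⟩ := exists_lift_immersion (g i) ξ hi
  subst hζ
  obtain ⟨W, y, M, hM, hy, ⟨α⟩⟩ := exists_triv_of_isFLC (hflc i) (ζ.base default)
  obtain ⟨l, hl1, -⟩ := Scheme.exists_fac_of_etale_of_isSepClosed W.hom ζ y hy
  obtain ⟨e1⟩ := nonempty_stalk_iso_of_triv ((EtCoh.pull (g i)).obj F) α ζ (mkFiber ζ l hl1)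
  obtain ⟨e2⟩ := Groth.Agent.Lib.Helper70.StalkPull.nonempty_stalk_pull_iso (g i) ζ F
  exact Finite.of_equiv M (e1 ≪≫ e2).addCommGroupIsoToAddEquiv.toEquiv

section TSide

open Groth.Agent.Lib.Cohomology.ConstMono

variable {T : Scheme.{u}}

/-- the canonical element of the fibre at the terminal object. -/
noncomputable def topPt {Ω : Type u} [Field Ω] [IsSepClosed Ω] (ζ : Spec (CommRingCat.of Ω) ⟶ T) :
    (Scheme.pointSmallEtale ζ).fiber.obj (EtCoh.top T) := mkFiber ζ ζ (Category.comp_id ζ)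

set_option backward.isDefEq.respectTransparency.types false in
lemma fiber_top_eq {Ω : Type u} [Field Ω] [IsSepClosed Ω] (ζ : Spec (CommRingCat.of Ω) ⟶ T)
    (x : (Scheme.pointSmallEtale ζ).fiber.obj (EtCoh.top T)) : x = topPt ζ := by
  apply fiber_ext
  have h1 : fiberHom ζ x ≫ (EtCoh.top T).hom = ζ := fiberHom_w ζ x
  have h2 : fiberHom ζ (topPt ζ) ≫ (EtCoh.top T).hom = ζ := fiberHom_w ζ (topPt ζ)
  have h1' : fiberHom ζ x = ζ := (Category.comp_id _).symm.trans h1
  have h2' : fiberHom ζ (topPt ζ) = ζ := (Category.comp_id _).symm.trans h2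
  exact h1'.trans h2'.symm

set_option backward.isDefEq.respectTransparency.types false in
/-- the stalk of a constant sheaf is its value (via germs of the unit at the terminal object). -/
theorem bijective_germ_unitK (M : AddCommGrpCat.{u + 1}) {Ω : Type u} [Field Ω] [IsSepClosed Ω]
    (ζ : Spec (CommRingCat.of Ω) ⟶ T) :
    Function.Bijective (fun m : M =>
      germ ζ (kS (X := T) M) (EtCoh.top T) (topPt ζ) ((unitK M (EtCoh.top T)).hom m)) := by
  let Φ := Scheme.pointSmallEtale ζ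
  constructor
  · intro m m' hmm
    change germ ζ (kS (X := T) M) (EtCoh.top T) (topPt ζ) ((unitK M (EtCoh.top T)).hom m) =
      germ ζ (kS (X := T) M) (EtCoh.top T) (topPt ζ) ((unitK M (EtCoh.top T)).hom m') at hmm
    rw [GrothendieckTopology.Point.toPresheafFiber_eq_iff'] at hmm
    obtain ⟨Y, f, y, hy, hz⟩ := hmm
    rw [unitK_map, unitK_map] at hz
    exact unitK_injective M Y
      (Groth.Agent.Lib.Cohomology.LocConst.bot_not_mem Y ((fiberHom ζ y).base default)) hz
  · intro p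
    obtain ⟨W₁, x₁, t₁, rfl⟩ := Φ.toPresheafFiber_jointly_surjective (P := (kS (X := T) M).obj) p
    obtain ⟨W₂, g₂, hg₂, x₂, hx₂⟩ := Φ.jointly_surjective _ (unitK_locSurj M W₁ t₁) x₁
    obtain ⟨c', hc''⟩ := hg₂
    have hc₂ : (unitK M W₂).hom c' = ((kS (X := T) M).obj.map g₂.op).hom t₁ := hc''
    refine ⟨c', ?_⟩
    have e1 : germ ζ (kS (X := T) M) W₂ x₂ ((unitK M W₂).hom c') =
        germ ζ (kS (X := T) M) W₁ x₁ t₁ := by
      rw [hc₂, germ_map, hx₂]
    have e2 : germ ζ (kS (X := T) M) W₂ x₂ ((unitK M W₂).hom c') =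
        germ ζ (kS (X := T) M) (EtCoh.top T) (topPt ζ) ((unitK M (EtCoh.top T)).hom c') := by
      rw [← unitK_map M ((EtCore.topIsTerminal T).from W₂) c', germ_map,
        fiber_top_eq ζ (Φ.fiber.map ((EtCore.topIsTerminal T).from W₂) x₂)]
    exact e2.symm.trans e1

set_option backward.isDefEq.respectTransparency.types false in
/-- a constant sheaf with finite value is finite locally constant. -/
theorem isFLC_kS (M : AddCommGrpCat.{u + 1}) [Finite M] :
    EtCoh.IsFiniteLocallyConstant (kS (X := T) M) := by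
  apply isFLC_of_forall_point
  intro x
  refine ⟨EtCoh.top T, x, M, inferInstance, rfl, ?_⟩
  apply nonempty_triv_of_germ_bijective (kS (X := T) M) (EtCoh.top T) M (unitK M (EtCoh.top T))
  intro u
  refine ⟨_, inferInstance, inferInstance, geomPt (EtCoh.top T) u ≫ (EtCoh.top T).hom,
    geomPtFiber (EtCoh.top T) u, geomPt_apply (EtCoh.top T) u default, ?_⟩
  rw [fiber_top_eq _ (geomPtFiber (EtCoh.top T) u)]
  exact bijective_germ_unitK M _

/-- finite locally constant sheaves are constructible. -/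
theorem isConstructible_of_isFLC (H : EtCoh.Ab T) (hH : EtCoh.IsFiniteLocallyConstant H) :
    EtPBC.IsConstructible H := by
  intro U hU
  refine ⟨1, fun _ => U.toScheme, fun _ => U.ι, fun _ => inferInstance, fun _ => ?_, ?_, ?_,
    fun _ _ => isFLC_pull U.ι H hH⟩
  · have : (Subtype.val : ↥(U : Set ↥T) → ↥T) ⁻¹' Set.range U.ι = Set.univ := by
      ext z
      simp only [Scheme.Opens.range_ι, Set.mem_preimage, Set.mem_univ, iff_true]
      exact z.2
    rw [this]
    exact IsConstructible.univ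
  · exact Subsingleton.pairwise
  · ext z
    simp only [Scheme.Opens.range_ι, Set.mem_iUnion, exists_const]

variable (G : EtCoh.Ab T) (M : AddCommGrpCat.{u + 1}) (τ : M ⟶ G.obj.obj (op (EtCoh.top T)))

/-- the presheaf map `const M ⟶ G` attached to global sections. -/
noncomputable def aP : kP (X := T) M ⟶ G.obj where
  app W := τ ≫ G.obj.map ((EtCore.topIsTerminal T).from W.unop).op
  naturality := by
    intro W W' k
    have e : k.unop ≫ (EtCore.topIsTerminal T).from W.unop =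
        (EtCore.topIsTerminal T).from W'.unop := (EtCore.topIsTerminal T).hom_ext _ _
    change 𝟙 _ ≫ τ ≫ G.obj.map _ = (τ ≫ G.obj.map _) ≫ G.obj.map k
    rw [Category.id_comp, Category.assoc, ← G.obj.map_comp, ← e]
    rfl

/-- the sheaf map `const M ⟶ G` attached to global sections. -/
noncomputable def αS : kS (X := T) M ⟶ G :=
  ⟨sheafifyLift T.smallEtaleTopology (aP G M τ) G.property⟩

lemma αS_unitK (W : T.Etale) (m : M) :
    ((αS G M τ).hom.app (op W)).hom ((unitK M W).hom m) =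
      (G.obj.map ((EtCore.topIsTerminal T).from W).op).hom (τ.hom m) := by
  have fac : toSheafify T.smallEtaleTopology (kP (X := T) M) ≫ (αS G M τ).hom = aP G M τ :=
    toSheafify_sheafifyLift _ _ _
  exact ConcreteCategory.congr_hom (congrArg (fun a => a.app (op W)) fac) m

set_option backward.isDefEq.respectTransparency.types false in
lemma stalk_αS_germ {Ω : Type u} [Field Ω] [IsSepClosed Ω] (ζ : Spec (CommRingCat.of Ω) ⟶ T)
    (m : M) :
    ((EtCoh.stalk ζ).map (αS G M τ)).hom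
      (germ ζ (kS (X := T) M) (EtCoh.top T) (topPt ζ) ((unitK M (EtCoh.top T)).hom m)) =
      germ ζ G (EtCoh.top T) (topPt ζ) (τ.hom m) := by
  let Φ := Scheme.pointSmallEtale ζ
  have n1 := ConcreteCategory.congr_hom
    (Φ.toPresheafFiber_naturality (αS G M τ).hom (EtCoh.top T) (topPt ζ))
    ((unitK M (EtCoh.top T)).hom m)
  rw [ConcreteCategory.comp_apply, ConcreteCategory.comp_apply] at n1
  have e : (EtCore.topIsTerminal T).from (EtCoh.top T) = 𝟙 _ :=
    (EtCore.topIsTerminal T).hom_ext _ _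
  have h2 : ((αS G M τ).hom.app (op (EtCoh.top T))).hom ((unitK M (EtCoh.top T)).hom m) =
      τ.hom m := by
    rw [αS_unitK, e, op_id, G.obj.map_id]
    rfl
  rw [h2] at n1
  exact n1

set_option backward.isDefEq.respectTransparency.types false in
theorem bijective_germ_iff {Ω : Type u} [Field Ω] [IsSepClosed Ω]
    (ζ : Spec (CommRingCat.of Ω) ⟶ T) :
    Function.Bijective (fun m : M => germ ζ G (EtCoh.top T) (topPt ζ) (τ.hom m)) ↔
      Function.Bijective ((EtCoh.stalk ζ).map (αS G M τ)) := by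
  have hc := bijective_germ_unitK M ζ
  have hcomp : (fun m : M => germ ζ G (EtCoh.top T) (topPt ζ) (τ.hom m)) =
      (fun p => ((EtCoh.stalk ζ).map (αS G M τ)).hom p) ∘ (fun m : M =>
        germ ζ (kS (X := T) M) (EtCoh.top T) (topPt ζ) ((unitK M (EtCoh.top T)).hom m)) := by
    funext m
    exact (stalk_αS_germ G M τ ζ m).symm
  rw [hcomp]
  exact Function.Bijective.of_comp_iff _ hc

omit G M τ in
lemma bijective_stalk_iff {A B : EtCoh.Ab T} (φ : A ⟶ B) {Ω : Type u} [Field Ω] [IsSepClosed Ω]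
    (ζ : Spec (CommRingCat.of Ω) ⟶ T) :
    Function.Bijective ((EtCoh.stalk ζ).map φ) ↔
      IsZero ((EtCoh.stalk ζ).obj (kernel φ)) ∧ IsZero ((EtCoh.stalk ζ).obj (cokernel φ)) := by
  constructor
  · intro hb
    haveI : Mono ((EtCoh.stalk ζ).map φ) := (AddCommGrpCat.mono_iff_injective _).2 hb.1
    haveI : Epi ((EtCoh.stalk ζ).map φ) := (AddCommGrpCat.epi_iff_surjective _).2 hb.2
    exact ⟨IsZero.of_iso (isZero_kernel_of_mono _) (PreservesKernel.iso (EtCoh.stalk ζ) φ),
      IsZero.of_iso (isZero_cokernel_of_epi _) (PreservesCokernel.iso (EtCoh.stalk ζ) φ)⟩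
  · rintro ⟨hk, hc⟩
    have hk' : IsZero (kernel ((EtCoh.stalk ζ).map φ)) :=
      hk.of_iso (PreservesKernel.iso (EtCoh.stalk ζ) φ).symm
    have hc' : IsZero (cokernel ((EtCoh.stalk ζ).map φ)) :=
      hc.of_iso (PreservesCokernel.iso (EtCoh.stalk ζ) φ).symm
    haveI : Mono ((EtCoh.stalk ζ).map φ) := Preadditive.mono_of_isZero_kernel _ hk'
    haveI : Epi ((EtCoh.stalk ζ).map φ) := Preadditive.epi_of_isZero_cokernel _ hc'
    exact ⟨(AddCommGrpCat.mono_iff_injective _).1 inferInstance,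
      (AddCommGrpCat.epi_iff_surjective _).1 inferInstance⟩

set_option backward.isDefEq.respectTransparency.types false in
/-- if the global sections `τ` induce bijections on germs at all generizations of `t₀`, they do so
on a neighbourhood of `t₀`. -/
theorem exists_open_bijective [IsAffine T] (hG : EtPBC.IsConstructible G) [Finite M] (t₀ : T)
    (hgen : ∀ (Ω' : Type u) [Field Ω'] [IsSepClosed Ω'] (ζ' : Spec (CommRingCat.of Ω') ⟶ T),
      ζ'.base default ⤳ t₀ →
        Function.Bijective (fun m : M => germ ζ' G (EtCoh.top T) (topPt ζ') (τ.hom m))) :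
    ∃ N : T.Opens, t₀ ∈ N ∧
      ∀ (Ω' : Type u) [Field Ω'] [IsSepClosed Ω'] (ζ' : Spec (CommRingCat.of Ω') ⟶ T),
        ζ'.base default ∈ N →
          Function.Bijective (fun m : M => germ ζ' G (EtCoh.top T) (topPt ζ') (τ.hom m)) := by
  have hkS := isConstructible_of_isFLC _ (isFLC_kS (T := T) M)
  obtain ⟨hK, hC⟩ := isConstructible_kernel_cokernel (αS G M τ) hkS hG
  have hEK := (isLocallyConstructible_supp (kernel (αS G M τ)) hK).isConstructible
  have hEC := (isLocallyConstructible_supp (cokernel (αS G M τ)) hC).isConstructible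
  have hE := hEK.union hEC
  obtain ⟨O, hO, ht₀O, hdisj⟩ := exists_open_disjoint hE t₀ (by
    intro q hq hqE
    rcases hqE with ⟨Ω', _, _, ζ', hζ', hnz⟩ | ⟨Ω', _, _, ζ', hζ', hnz⟩
    · have hpt := pt_eq_of_range ζ' q hζ'
      have hb := hgen Ω' ζ' (hpt ▸ hq)
      rw [bijective_germ_iff, bijective_stalk_iff] at hb
      exact hnz hb.1
    · have hpt := pt_eq_of_range ζ' q hζ'
      have hb := hgen Ω' ζ' (hpt ▸ hq)
      rw [bijective_germ_iff, bijective_stalk_iff] at hb
      exact hnz hb.2)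
  refine ⟨⟨O, hO⟩, ht₀O, fun Ω' _ _ ζ' hζ' => ?_⟩
  rw [bijective_germ_iff, bijective_stalk_iff]
  have hnE := Set.disjoint_left.1 hdisj hζ'
  constructor
  · by_contra hnz
    exact hnE (Or.inl ⟨Ω', inferInstance, inferInstance, ζ', range_eq_singleton ζ' _ rfl, hnz⟩)
  · by_contra hnz
    exact hnE (Or.inr ⟨Ω', inferInstance, inferInstance, ζ', range_eq_singleton ζ' _ rfl, hnz⟩)

end TSide

section XSide

open Groth.Agent.Lib.Helper70.ClosedImmStalk2 Groth.Agent.Lib.Helper70.StalkPull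
open Groth.Agent.Lib.Helper70.StalkPullGerm

variable {T : Scheme.{u}} (h : T ⟶ X)
  {Ω Ω' : Type u} [Field Ω] [IsSepClosed Ω] [Field Ω'] [IsSepClosed Ω']

/-- transfer of morphisms of points along base change. -/
noncomputable def pushHom (ζ : Spec (CommRingCat.of Ω) ⟶ T) (ζ' : Spec (CommRingCat.of Ω') ⟶ T)
    (ψ : Scheme.pointSmallEtale ζ' ⟶ Scheme.pointSmallEtale ζ) :
    Scheme.pointSmallEtale (ζ' ≫ h) ⟶ Scheme.pointSmallEtale (ζ ≫ h) :=
  ⟨(fiberIso h ζ).hom ≫ Functor.whiskerLeft (EtCoh.bc h) ψ.hom ≫ (fiberIso h ζ').inv⟩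

lemma tilde_pushHom (ζ : Spec (CommRingCat.of Ω) ⟶ T) (ζ' : Spec (CommRingCat.of Ω') ⟶ T)
    (ψ : Scheme.pointSmallEtale ζ' ⟶ Scheme.pointSmallEtale ζ) (V : X.Etale)
    (v : (Scheme.pointSmallEtale (ζ ≫ h)).fiber.obj V) :
    tilde h ζ' V ((pushHom h ζ ζ' ψ).hom.app V v) =
      ψ.hom.app ((EtCoh.bc h).obj V) (tilde h ζ V v) := by
  change tilde h ζ' V ((tilde h ζ' V).symm (ψ.hom.app _ (tilde h ζ V v))) = _
  exact Equiv.apply_symm_apply _ _

variable (U : X.Etale)

set_option backward.isDefEq.respectTransparency.types false in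
/-- the diagonal `U ⟶ U ×_X U` as a morphism of étale `U`-schemes. -/
noncomputable def diag : EtCoh.top U.left ⟶ (EtCoh.bc U.hom).obj U :=
  MorphismProperty.Over.homMk (pullback.lift (𝟙 U.left) (𝟙 U.left) rfl)
    (pullback.lift_snd _ _ _) trivial

set_option backward.isDefEq.respectTransparency.types false in
lemma map_diag_topPt (ζ' : Spec (CommRingCat.of Ω') ⟶ U.left) :
    (Scheme.pointSmallEtale ζ').fiber.map (diag U) (topPt ζ') =
      tilde U.hom ζ' U (mkFiber (ζ' ≫ U.hom) ζ' rfl) := by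
  apply fiber_ext
  rw [fiberHom_map]
  apply pullback.hom_ext
  · refine (Category.assoc _ _ _).trans ?_
    refine (congrArg (fun q => fiberHom ζ' (topPt ζ') ≫ q)
      (pullback.lift_fst (𝟙 U.left) (𝟙 U.left) rfl)).trans ?_
    refine (Category.comp_id _).trans ?_
    exact (pullback.lift_fst _ _ _).symm
  · refine (Category.assoc _ _ _).trans ?_
    refine (congrArg (fun q => fiberHom ζ' (topPt ζ') ≫ q)
      (pullback.lift_snd (𝟙 U.left) (𝟙 U.left) rfl)).trans ?_
    refine (Category.comp_id _).trans ?_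
    exact (pullback.lift_snd _ _ _).symm

variable (F : EtCoh.Ab X) (M : AddCommGrpCat.{u + 1}) (σ : M ⟶ F.obj.obj (op U))

set_option backward.isDefEq.respectTransparency.types false in
/-- sections of `F` over `U` as global sections of the restriction of `F` to `U`. -/
noncomputable def tauOf :
    M ⟶ ((EtCoh.pull U.hom).obj F).obj.obj (op (EtCoh.top U.left)) :=
  σ ≫ ((EtCoh.pullPushAdj U.hom).unit.app F).hom.app (op U) ≫
    ((EtCoh.pull U.hom).obj F).obj.map (diag U).op

set_option backward.isDefEq.respectTransparency.types false in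
theorem bijective_tau_iff (ζ' : Spec (CommRingCat.of Ω') ⟶ U.left) :
    Function.Bijective (fun m : M => germ ζ' ((EtCoh.pull U.hom).obj F) (EtCoh.top U.left)
      (topPt ζ') ((tauOf U F M σ).hom m)) ↔
    Function.Bijective (fun m : M => germ (ζ' ≫ U.hom) F U (mkFiber (ζ' ≫ U.hom) ζ' rfl)
      (σ.hom m)) := by
  haveI := (EtCoh.pullPushAdj U.hom).isRightAdjoint
  let e := (stalkPullIso U.hom ζ' AddCommGrpCat.{u + 1}).inv.app F
  have g1 := germ_stalkPullIso_inv U.hom ζ' AddCommGrpCat.{u + 1} F U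
    (mkFiber (ζ' ≫ U.hom) ζ' rfl)
  have hcomp : (fun m : M => germ ζ' ((EtCoh.pull U.hom).obj F) (EtCoh.top U.left)
      (topPt ζ') ((tauOf U F M σ).hom m)) =
      (fun p => e.hom p) ∘ (fun m : M => germ (ζ' ≫ U.hom) F U (mkFiber (ζ' ≫ U.hom) ζ' rfl)
        (σ.hom m)) := by
    funext m
    have g2 : e.hom (germ (ζ' ≫ U.hom) F U (mkFiber (ζ' ≫ U.hom) ζ' rfl) (σ.hom m)) =
        germ ζ' ((EtCoh.pull U.hom).obj F) ((EtCoh.bc U.hom).obj U)
          (tilde U.hom ζ' U (mkFiber (ζ' ≫ U.hom) ζ' rfl))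
          ((((EtCoh.pullPushAdj U.hom).unit.app F).hom.app (op U)).hom (σ.hom m)) :=
      ConcreteCategory.congr_hom g1 (σ.hom m)
    rw [Function.comp_apply, g2]
    change germ ζ' ((EtCoh.pull U.hom).obj F) (EtCoh.top U.left) (topPt ζ')
      ((((EtCoh.pull U.hom).obj F).obj.map (diag U).op).hom
        ((((EtCoh.pullPushAdj U.hom).unit.app F).hom.app (op U)).hom (σ.hom m))) = _
    rw [germ_map, map_diag_topPt]
  rw [hcomp]
  haveI : IsIso e := by
    change IsIso ((stalkPullIso U.hom ζ' AddCommGrpCat.{u + 1}).inv.app F)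
    infer_instance
  exact Function.Bijective.of_comp_iff' (ConcreteCategory.bijective_of_isIso e) _

set_option backward.isDefEq.respectTransparency.types false in
/-- the core step: sections inducing a bijection on germs at `ζ₀` do so on a neighbourhood, if all
specialization maps into the image of `ζ₀` are isomorphisms. -/
theorem exists_open_germ_bijective (hF : EtPBC.IsConstructible F) [IsAffine U.left] [Finite M]
    (ζ₀ : Spec (CommRingCat.of Ω) ⟶ U.left)
    (hσ : Function.Bijective (fun m : M => germ (ζ₀ ≫ U.hom) F U (mkFiber (ζ₀ ≫ U.hom) ζ₀ rfl)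
      (σ.hom m)))
    (hiso : ∀ (Ω' : Type u) [Field Ω'] [IsSepClosed Ω'] (ξ' : Spec (CommRingCat.of Ω') ⟶ X)
      (φ : Scheme.pointSmallEtale ξ' ⟶ Scheme.pointSmallEtale (ζ₀ ≫ U.hom)),
      IsIso ((GrothendieckTopology.Point.Hom.sheafFiber (A := AddCommGrpCat.{u + 1}) φ).app F)) :
    ∃ N : U.left.Opens, ζ₀.base default ∈ N ∧
      ∀ (Ω' : Type u) [Field Ω'] [IsSepClosed Ω'] (ζ' : Spec (CommRingCat.of Ω') ⟶ U.left),
        ζ'.base default ∈ N →
          Function.Bijective (fun m : M => germ (ζ' ≫ U.hom) F U (mkFiber (ζ' ≫ U.hom) ζ' rfl)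
            (σ.hom m)) := by
  have hG := Groth.Agent.S0127.result U.hom F hF
  obtain ⟨N, hN0, hN⟩ := exists_open_bijective (T := U.left) ((EtCoh.pull U.hom).obj F) M
    (tauOf U F M σ) hG (ζ₀.base default) (by
      intro Ω' _ _ ζ' hsp
      refine (bijective_tau_iff U F M σ ζ').2 ?_
      obtain ⟨ψ, hψ⟩ := exists_point_hom_of_specializes (T := U.left) ζ' ζ₀ (EtCoh.top U.left)
        (topPt ζ') (topPt ζ₀) hsp
      let φ := pushHom U.hom ζ₀ ζ' ψ
      haveI := hiso Ω' (ζ' ≫ U.hom) φ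
      have hφy : φ.hom.app U (mkFiber (ζ₀ ≫ U.hom) ζ₀ rfl) = mkFiber (ζ' ≫ U.hom) ζ' rfl := by
        apply (tilde U.hom ζ' U).injective
        rw [tilde_pushHom, ← map_diag_topPt, ← map_diag_topPt, ← hψ]
        exact FunctorToTypes.naturality ψ.hom (diag U) (topPt ζ₀)
      have hcomp : (fun m : M => germ (ζ' ≫ U.hom) F U (mkFiber (ζ' ≫ U.hom) ζ' rfl) (σ.hom m)) =
          (fun p => ((GrothendieckTopology.Point.Hom.sheafFiber
            (A := AddCommGrpCat.{u + 1}) φ).app F).hom p) ∘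
          (fun m : M => germ (ζ₀ ≫ U.hom) F U (mkFiber (ζ₀ ≫ U.hom) ζ₀ rfl) (σ.hom m)) := by
        funext m
        rw [Function.comp_apply, sheafFiber_germ, hφy]
      rw [hcomp]
      exact (ConcreteCategory.bijective_of_isIso _).comp hσ)
  exact ⟨N, hN0, fun Ω' _ _ ζ' hζ' => (bijective_tau_iff U F M σ ζ').1 (hN Ω' ζ' hζ')⟩

end XSide

section Main

variable {Ω : Type u} [Field Ω] [IsSepClosed Ω]

omit [IsSepClosed Ω] in
lemma germ_bij_congr [IsSepClosed Ω] (F : EtCoh.Ab X) (U : X.Etale) {M : Type*}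
    (s : M → F.obj.obj (op U))
    {ξ₁ ξ₂ : Spec (CommRingCat.of Ω) ⟶ X} (e : ξ₁ = ξ₂)
    (x₁ : (Scheme.pointSmallEtale ξ₁).fiber.obj U) (x₂ : (Scheme.pointSmallEtale ξ₂).fiber.obj U)
    (hx : fiberHom ξ₁ x₁ = fiberHom ξ₂ x₂) :
    Function.Bijective (fun m => germ ξ₁ F U x₁ (s m)) ↔
      Function.Bijective (fun m => germ ξ₂ F U x₂ (s m)) := by
  subst e
  have := fiber_ext ξ₁ x₁ x₂ hx
  subst this
  rfl

set_option backward.isDefEq.respectTransparency.types false in
/-- an affine étale neighbourhood of `ξ` inside a given open, with sections splitting the germ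
map. -/
theorem exists_nbhd_data (F : EtCoh.Ab X) (ξ : Spec (CommRingCat.of Ω) ⟶ X)
    [Finite ((EtCoh.stalk ξ).obj F)] (V₀ : X.Opens) (hξV : ξ.base default ∈ V₀) :
    ∃ (U : X.Etale) (_ : IsAffine U.left) (ζ₀ : Spec (CommRingCat.of Ω) ⟶ U.left)
      (σ : (EtCoh.stalk ξ).obj F ⟶ F.obj.obj (op U)), ζ₀ ≫ U.hom = ξ ∧
      Set.range U.hom.base ⊆ (V₀ : Set X) ∧
      Function.Bijective (fun m : (EtCoh.stalk ξ).obj F => germ (ζ₀ ≫ U.hom) F U
        (mkFiber (ζ₀ ≫ U.hom) ζ₀ rfl) (σ.hom m)) := by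
  obtain ⟨U₁, xU₁, f₁, σ₁, -, hσ₁⟩ := exists_section_hom ξ F (EtCoh.top X)
    (mkFiber ξ ξ (Category.comp_id ξ))
  have hmem : (fiberHom ξ xU₁).base default ∈ ((U₁.hom ⁻¹ᵁ V₀ : U₁.left.Opens) : Set U₁.left) := by
    change U₁.hom.base ((fiberHom ξ xU₁).base default) ∈ V₀
    have h1 := congrArg (fun q : Spec (CommRingCat.of Ω) ⟶ X => q.base default)
      (fiberHom_w ξ xU₁)
    exact (show U₁.hom.base ((fiberHom ξ xU₁).base default) = ξ.base default from h1) ▸ hξV
  obtain ⟨_, ⟨A₀', hA₀', rfl⟩, hu₀A', hsub⟩ :=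
    U₁.left.isBasis_affineOpens.exists_subset_of_mem_open hmem (U₁.hom ⁻¹ᵁ V₀).2
  obtain ⟨A, hA, hu, hAV⟩ : ∃ A : U₁.left.Opens, IsAffineOpen A ∧
    (fiberHom ξ xU₁).base default ∈ A ∧ (A : Set U₁.left) ⊆ (U₁.hom ⁻¹ᵁ V₀ : U₁.left.Opens) :=
    ⟨A₀', hA₀', hu₀A', hsub⟩
  obtain ⟨xU, σ, hσ, hxU⟩ := exists_shrink F ξ U₁ xU₁ σ₁ hσ₁ A hu
  let U : X.Etale := Scheme.Etale.mk (A.ι ≫ U₁.hom)
  let ζ₀ : Spec (CommRingCat.of Ω) ⟶ U.left := fiberHom ξ xU
  have hζ₀ : ζ₀ ≫ U.hom = ξ := fiberHom_w ξ xU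
  refine ⟨U, hA, ζ₀, σ, hζ₀, ?_, ?_⟩
  · rintro _ ⟨a, rfl⟩
    exact hAV a.2
  · rw [germ_bij_congr F U (fun m : (EtCoh.stalk ξ).obj F => σ.hom m) hζ₀
      (mkFiber (ζ₀ ≫ U.hom) ζ₀ rfl) xU rfl]
    have : (fun m : (EtCoh.stalk ξ).obj F => germ ξ F U xU (σ.hom m)) = id := funext hσ
    rw [this]
    exact Function.bijective_id

set_option backward.isDefEq.respectTransparency.types false in
/-- sections inducing bijections on germs over an open `N` of `U` trivialise `F` over `N`. -/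
theorem nonempty_triv_of_open_bijective (F : EtCoh.Ab X) (U : X.Etale)
    (M : AddCommGrpCat.{u + 1}) (σ : M ⟶ F.obj.obj (op U)) (N : U.left.Opens)
    (hN : ∀ (Ω' : Type u) [Field Ω'] [IsSepClosed Ω'] (ζ' : Spec (CommRingCat.of Ω') ⟶ U.left),
      ζ'.base default ∈ N →
        Function.Bijective (fun m : M => germ (ζ' ≫ U.hom) F U (mkFiber (ζ' ≫ U.hom) ζ' rfl)
          (σ.hom m))) :
    Nonempty (F.over (Scheme.Etale.mk (N.ι ≫ U.hom)) ≅
      (cS X.smallEtaleTopology (Scheme.Etale.mk (N.ι ≫ U.hom))).obj M) := by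
  let U' : X.Etale := Scheme.Etale.mk (N.ι ≫ U.hom)
  let j : U' ⟶ U := MorphismProperty.Over.homMk N.ι rfl trivial
  apply nonempty_triv_of_germ_bijective F U' M (σ ≫ F.obj.map j.op)
  intro u
  let ζ' : Spec (CommRingCat.of (SeparableClosure (U'.left.residueField u))) ⟶ U.left :=
    geomPt U' u ≫ N.ι
  refine ⟨_, inferInstance, inferInstance, geomPt U' u ≫ U'.hom, geomPtFiber U' u,
    geomPt_apply U' u default, ?_⟩
  have hb := hN _ ζ' (by
    change (geomPt U' u ≫ N.ι).base default ∈ N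
    rw [Scheme.Hom.comp_base, TopCat.comp_app, geomPt_apply]
    exact u.2)
  have e : ζ' ≫ U.hom = geomPt U' u ≫ U'.hom := Category.assoc _ _ _
  rw [germ_bij_congr F U (fun m : M => σ.hom m) e (mkFiber (ζ' ≫ U.hom) ζ' rfl)
    ((Scheme.pointSmallEtale (geomPt U' u ≫ U'.hom)).fiber.map j (geomPtFiber U' u)) rfl] at hb
  have e2 : (fun m : M => germ (geomPt U' u ≫ U'.hom) F U' (geomPtFiber U' u)
      ((σ ≫ F.obj.map j.op).hom m)) =
      (fun m : M => germ (geomPt U' u ≫ U'.hom) F U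
        ((Scheme.pointSmallEtale (geomPt U' u ≫ U'.hom)).fiber.map j (geomPtFiber U' u))
        (σ.hom m)) := by
    funext m
    exact germ_map (geomPt U' u ≫ U'.hom) F j (geomPtFiber U' u) (σ.hom m)
  rw [e2]
  exact hb

set_option backward.isDefEq.respectTransparency.types false in
/-- a constructible sheaf all of whose specialization maps into `ξ` are isomorphisms is finite
locally constant on an open neighbourhood of the image of `ξ`. -/
theorem exists_open_isFLC_of_sheafFiber_iso (F : EtCoh.Ab X) (hF : EtPBC.IsConstructible F)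
    (ξ : Spec (CommRingCat.of Ω) ⟶ X)
    (hiso : ∀ (Ω' : Type u) [Field Ω'] [IsSepClosed Ω'] (ξ' : Spec (CommRingCat.of Ω') ⟶ X)
      (φ : Scheme.pointSmallEtale ξ' ⟶ Scheme.pointSmallEtale ξ),
      IsIso ((GrothendieckTopology.Point.Hom.sheafFiber (A := AddCommGrpCat.{u + 1}) φ).app F)) :
    ∃ V : X.Opens, ξ.base default ∈ V ∧
      EtCoh.IsFiniteLocallyConstant ((EtCoh.pull V.ι).obj F) := by
  haveI hMfin := finite_stalk_of_isConstructible F hF ξ
  obtain ⟨U, hUaff, ζ₀, σ, hζ₀, -, hσ'⟩ := exists_nbhd_data F ξ ⊤ trivial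
  haveI := hUaff
  let M : AddCommGrpCat.{u + 1} := (EtCoh.stalk ξ).obj F
  have hiso' : ∀ (Ω' : Type u) [Field Ω'] [IsSepClosed Ω'] (ξ' : Spec (CommRingCat.of Ω') ⟶ X)
      (φ : Scheme.pointSmallEtale ξ' ⟶ Scheme.pointSmallEtale (ζ₀ ≫ U.hom)),
      IsIso ((GrothendieckTopology.Point.Hom.sheafFiber (A := AddCommGrpCat.{u + 1}) φ).app F) := by
    rw [hζ₀]
    exact hiso
  obtain ⟨N, hN0, hN⟩ := exists_open_germ_bijective U F M σ hF ζ₀ hσ' hiso'
  obtain ⟨α₀⟩ := nonempty_triv_of_open_bijective F U M σ N hN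
  let U' : X.Etale := Scheme.Etale.mk (N.ι ≫ U.hom)
  let V : X.Opens := ⟨Set.range U'.hom.base, (isOpenMap_of_etale U'.hom).isOpen_range⟩
  refine ⟨V, ?_, ?_⟩
  · refine ⟨⟨ζ₀.base default, hN0⟩, ?_⟩
    have h1 := congrArg (fun q : Spec (CommRingCat.of Ω) ⟶ X => q.base default) hζ₀
    exact h1
  · apply isFLC_of_forall_point
    intro x
    obtain ⟨u, hu⟩ : (V.ι x) ∈ Set.range U'.hom.base := x.2
    obtain ⟨z, -, hz2⟩ :=
      Scheme.Pullback.exists_preimage_pullback (f := U'.hom) (g := V.ι) u x hu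
    exact ⟨(EtCoh.bc V.ι).obj U', z, M, hMfin, hz2, nonempty_pull_const V.ι F U' M α₀⟩

set_option backward.isDefEq.respectTransparency.types false in
/-- variant of the core step when the restriction of `F` to `U` is finite locally constant. -/
theorem exists_open_germ_bijective_of_isFLC (F : EtCoh.Ab X) (U : X.Etale)
    (M : AddCommGrpCat.{u + 1}) (σ : M ⟶ F.obj.obj (op U)) [IsAffine U.left] [Finite M]
    (hflc : EtCoh.IsFiniteLocallyConstant ((EtCoh.pull U.hom).obj F))
    (ζ₀ : Spec (CommRingCat.of Ω) ⟶ U.left)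
    (hσ : Function.Bijective (fun m : M => germ (ζ₀ ≫ U.hom) F U (mkFiber (ζ₀ ≫ U.hom) ζ₀ rfl)
      (σ.hom m))) :
    ∃ N : U.left.Opens, ζ₀.base default ∈ N ∧
      ∀ (Ω' : Type u) [Field Ω'] [IsSepClosed Ω'] (ζ' : Spec (CommRingCat.of Ω') ⟶ U.left),
        ζ'.base default ∈ N →
          Function.Bijective (fun m : M => germ (ζ' ≫ U.hom) F U (mkFiber (ζ' ≫ U.hom) ζ' rfl)
            (σ.hom m)) := by
  have hG := isConstructible_of_isFLC _ hflc
  have hσT := (bijective_tau_iff U F M σ ζ₀).2 hσ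
  obtain ⟨N, hN0, hN⟩ := exists_open_bijective (T := U.left) ((EtCoh.pull U.hom).obj F) M
    (tauOf U F M σ) hG (ζ₀.base default) (by
      intro Ω' _ _ ζ' hsp
      obtain ⟨ψ, hψ⟩ := exists_point_hom_of_specializes (T := U.left) ζ' ζ₀ (EtCoh.top U.left)
        (topPt ζ') (topPt ζ₀) hsp
      have hψiso := isIso_sheafFiber_of_isFLC ((EtCoh.pull U.hom).obj F) hflc ζ₀ ζ' ψ
      have hcomp : (fun m : M => germ ζ' ((EtCoh.pull U.hom).obj F) (EtCoh.top U.left)
          (topPt ζ') ((tauOf U F M σ).hom m)) =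
          (fun p => ((GrothendieckTopology.Point.Hom.sheafFiber
            (A := AddCommGrpCat.{u + 1}) ψ).app ((EtCoh.pull U.hom).obj F)).hom p) ∘
          (fun m : M => germ ζ₀ ((EtCoh.pull U.hom).obj F) (EtCoh.top U.left)
            (topPt ζ₀) ((tauOf U F M σ).hom m)) := by
        funext m
        rw [Function.comp_apply, sheafFiber_germ, hψ]
      rw [hcomp]
      exact ((ConcreteCategory.isIso_iff_bijective _).1 hψiso).comp hσT)
  exact ⟨N, hN0, fun Ω' _ _ ζ' hζ' => (bijective_tau_iff U F M σ ζ').1 (hN Ω' ζ' hζ')⟩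

set_option backward.isDefEq.respectTransparency.types false in
/-- specialization maps of a sheaf trivialised near the target point are isomorphisms. -/
theorem isIso_sheafFiber_of_triv (F : EtCoh.Ab X) (U : X.Etale) (y₀ : U.left)
    (M : AddCommGrpCat.{u + 1}) (α : F.over U ≅ (cS X.smallEtaleTopology U).obj M)
    {Ω' : Type u} [Field Ω'] [IsSepClosed Ω']
    (ξ : Spec (CommRingCat.of Ω) ⟶ X) (hy₀ : U.hom.base y₀ = ξ.base default)
    (ξ' : Spec (CommRingCat.of Ω') ⟶ X)
    (φ : Scheme.pointSmallEtale ξ' ⟶ Scheme.pointSmallEtale ξ) :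
    IsIso ((GrothendieckTopology.Point.Hom.sheafFiber (A := AddCommGrpCat.{u + 1}) φ).app F) := by
  obtain ⟨l, hl1, -⟩ := Scheme.exists_fac_of_etale_of_isSepClosed U.hom ξ y₀ hy₀
  let x₀ : (Scheme.pointSmallEtale ξ).fiber.obj U := mkFiber ξ l hl1
  have b1 := bijective_germ_secTriv F α ξ x₀
  have b2 := bijective_germ_secTriv F α ξ' (φ.hom.app U x₀)
  have hcomp : ∀ m : M,
      ((GrothendieckTopology.Point.Hom.sheafFiber (A := AddCommGrpCat.{u + 1}) φ).app F).hom
        (germ ξ F U x₀ ((secTriv X.smallEtaleTopology F α).hom m)) =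
      germ ξ' F U (φ.hom.app U x₀) ((secTriv X.smallEtaleTopology F α).hom m) :=
    fun m => sheafFiber_germ φ F U x₀ _
  have hbij : Function.Bijective
      ((GrothendieckTopology.Point.Hom.sheafFiber (A := AddCommGrpCat.{u + 1}) φ).app F).hom := by
    constructor
    · intro p p' hpp
      obtain ⟨m, rfl⟩ := b1.2 p
      obtain ⟨m', rfl⟩ := b1.2 p'
      simp only at hpp
      rw [hcomp, hcomp] at hpp
      rw [b2.1 hpp]
    · intro q
      obtain ⟨m, rfl⟩ := b2.2 q
      exact ⟨_, hcomp m⟩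
  exact (ConcreteCategory.isIso_iff_bijective _).2 hbij

set_option backward.isDefEq.respectTransparency.types false in
/-- if a constructible sheaf is finite locally constant on an open neighbourhood of the image of
`ξ`, all specialization maps into `ξ` are isomorphisms. -/
theorem isIso_sheafFiber_of_isFLC_near (F : EtCoh.Ab X) (hF : EtPBC.IsConstructible F)
    (ξ : Spec (CommRingCat.of Ω) ⟶ X) (V₀ : X.Opens) (hξV : ξ.base default ∈ V₀)
    (hflc : EtCoh.IsFiniteLocallyConstant ((EtCoh.pull V₀.ι).obj F))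
    {Ω' : Type u} [Field Ω'] [IsSepClosed Ω'] (ξ' : Spec (CommRingCat.of Ω') ⟶ X)
    (φ : Scheme.pointSmallEtale ξ' ⟶ Scheme.pointSmallEtale ξ) :
    IsIso ((GrothendieckTopology.Point.Hom.sheafFiber (A := AddCommGrpCat.{u + 1}) φ).app F) := by
  haveI hMfin := finite_stalk_of_isConstructible F hF ξ
  obtain ⟨U, hUaff, ζ₀, σ, hζ₀, hUV, hσ'⟩ := exists_nbhd_data F ξ V₀ hξV
  haveI := hUaff
  let M : AddCommGrpCat.{u + 1} := (EtCoh.stalk ξ).obj F
  have hr : Set.range U.hom.base ⊆ Set.range V₀.ι.base := by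
    rw [Scheme.Opens.range_ι]
    exact hUV
  let hV : U.left ⟶ V₀.toScheme := IsOpenImmersion.lift V₀.ι U.hom hr
  have e : hV ≫ V₀.ι = U.hom := IsOpenImmersion.lift_fac _ _ _
  have hflcU : EtCoh.IsFiniteLocallyConstant ((EtCoh.pull U.hom).obj F) :=
    isFLC_of_iso ((EtCore.pullCongr e).app F) (isFLC_pull_comp hV V₀.ι F hflc)
  obtain ⟨N, hN0, hN⟩ := exists_open_germ_bijective_of_isFLC F U M σ hflcU ζ₀ hσ'
  obtain ⟨α₀⟩ := nonempty_triv_of_open_bijective F U M σ N hN
  refine isIso_sheafFiber_of_triv F (Scheme.Etale.mk (N.ι ≫ U.hom)) ⟨ζ₀.base default, hN0⟩ M α₀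
    ξ ?_ ξ' φ
  have h1 := congrArg (fun q : Spec (CommRingCat.of Ω) ⟶ X => q.base default) hζ₀
  exact h1

end Main

end Groth.Agent.Lib.Cohomology.NearFLC
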