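import Groth.Agent.Lib.Cohomology.helper5_Restr
import Groth.Agent.Lib.Cohomology.Helper3_SheafExact

set_option autoImplicit false
set_option backward.isDefEq.respectTransparency false
set_option backward.defeqAttrib.useBackward true
universe u
open CategoryTheory CategoryTheory.Limits TopologicalSpace Opposite

namespace Groth.Agent.Lib.Cohomology.OpenAdj

variable {X : TopCat.{u}} (U : Opens X)

/-- restriction to an open is left adjoint to pushforward along the inclusion (explicit adjunction) -/
noncomputable def adj' : CohTop.restrFunctor U ⊣ CohTop.push (CohCx.incl U) :=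
  haveI H : Topology.IsOpenEmbedding (CohCx.incl U) := U.isOpenEmbedding
  haveI := H.functor_isContinuous
  haveI : (Opens.map (CohCx.incl U)).IsContinuous (Opens.grothendieckTopology X)
      (Opens.grothendieckTopology (TopCat.of U)) :=
    instIsContinuousOpensCarrierMapGrothendieckTopology _
  Adjunction.sheafPushforwardContinuous (E := AddCommGrpCat.{u}) H.isOpenMap.adjunction
    (Opens.grothendieckTopology (TopCat.of U)) (Opens.grothendieckTopology X)

/-- the Mathlib pullback along the open inclusion is the restriction functor -/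
noncomputable def pullIso : CohTop.pull (CohCx.incl U) ≅ CohTop.restrFunctor U :=
  (TopCat.Sheaf.pullbackPushforwardAdjunction AddCommGrpCat.{u} (CohCx.incl U)).leftAdjointUniq (adj' U)

lemma unit_pullIso (F : CohTop.Ab X) :
    (TopCat.Sheaf.pullbackPushforwardAdjunction AddCommGrpCat.{u} (CohCx.incl U)).unit.app F ≫
      (CohTop.push (CohCx.incl U)).map ((pullIso U).hom.app F) = (adj' U).unit.app F :=
  Adjunction.unit_leftAdjointUniq_hom_app _ _ _

end Groth.Agent.Lib.Cohomology.OpenAdj

namespace Groth.Agent.Lib.Cohomology.OpenAdj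
variable {X : TopCat.{u}} (U : Opens X)

/-- the open `U ∩ W` as the image of the preimage -/
noncomputable abbrev jj (W : Opens X) : Opens X :=
  (U.isOpenEmbedding.isOpenMap.functor).obj ((Opens.map (CohCx.incl U)).obj W)

lemma jj_le (W : Opens X) : jj U W ≤ W := by
  rintro _ ⟨x, hx, rfl⟩
  exact hx

lemma adj'_unit_app (F : CohTop.Ab X) (W : Opens X) :
    ((adj' U).unit.app F).hom.app (op W) = F.obj.map (homOfLE (jj_le U W)).op := rfl

theorem epi_adj'_unit_of_flasque (F : CohTop.Ab X) [TopCat.Sheaf.IsFlasque F] :
    Epi ((adj' U).unit.app F) := by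
  apply epi_of_sections_surjective
  intro W
  rw [adj'_unit_app]
  have : Epi (F.obj.map (homOfLE (jj_le U W)).op) := TopCat.Presheaf.IsFlasque.epi (F := F.obj) _
  exact (AddCommGrpCat.epi_iff_surjective _).1 this

theorem epi_unit_of_flasque (F : CohTop.Ab X) [TopCat.Sheaf.IsFlasque F] :
    Epi ((TopCat.Sheaf.pullbackPushforwardAdjunction AddCommGrpCat.{u} (CohCx.incl U)).unit.app F) := by
  have h := unit_pullIso U F
  have : Epi ((adj' U).unit.app F) := epi_adj'_unit_of_flasque U F
  have h3 : (CohTop.push (CohCx.incl U)).map ((pullIso U).hom.app F) ≫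
      (CohTop.push (CohCx.incl U)).map ((pullIso U).inv.app F) = 𝟙 _ := by
    rw [← CategoryTheory.Functor.map_comp, Iso.hom_inv_id_app, CategoryTheory.Functor.map_id]
  have h2 : (TopCat.Sheaf.pullbackPushforwardAdjunction AddCommGrpCat.{u} (CohCx.incl U)).unit.app F =
      (adj' U).unit.app F ≫ (CohTop.push (CohCx.incl U)).map ((pullIso U).inv.app F) := by
    rw [← h, Category.assoc, h3]
    exact (Category.comp_id _).symm
  rw [h2]
  infer_instance

end Groth.Agent.Lib.Cohomology.OpenAdj
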