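import Mathlib.CategoryTheory.Sites.Over
import Mathlib.CategoryTheory.Sites.ConstantSheaf
import Mathlib.CategoryTheory.Sites.Pullback
import Mathlib.CategoryTheory.Sites.Adjunction
import Mathlib.CategoryTheory.Limits.Preserves.Shapes.Over
import Mathlib.CategoryTheory.Limits.Preserves.Shapes.BinaryProducts
import Mathlib.CategoryTheory.Comma.Over.Pullback

/-!
# Pullback of sheaves commutes with localisation (helper3)

For a continuous, finite-limit preserving functor `b : C ⥤ D` of sites (a morphism of sites
`D → C`) and `U : C`, the inverse image `b⁻¹` commutes with restriction to `Over U`, resp.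
`Over (b U)`:  `(b⁻¹ G)|_{b U} ≅ b_U⁻¹ (G|_U)`; and `b_U⁻¹` of a constant sheaf is constant.
Hence: if `G|_U` is constant with value `M`, so is `(b⁻¹ G)|_{b U}`.
-/

set_option autoImplicit false
universe u
open CategoryTheory CategoryTheory.Limits Opposite

namespace Groth.Agent.Lib.Cohomology.OverPull

variable {C D : Type (u + 1)} [Category.{u} C] [Category.{u} D]
  [HasBinaryProducts C] [HasBinaryProducts D]
  (J : GrothendieckTopology C) (K : GrothendieckTopology D) (b : C ⥤ D)
  [PreservesLimitsOfShape (Discrete WalkingPair) b]

/-- `b(-) × b U ≅ b (- × U)` as functors to `Over (b U)` -/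
noncomputable def θ (U : C) : b ⋙ Over.star (b.obj U) ≅ Over.star U ⋙ Over.post b :=
  NatIso.ofComponents (fun V => Over.isoMk (asIso (prodComparison b U V)).symm (by
    have h := inv_prodComparison_map_fst b (A := U) (B := V)
    have e1 : ((Over.star U).obj V).hom = prod.fst := by
      simp only [Over.star_obj_hom]
      exact prod.lift_fst _ _
    have e2 : ((Over.star (b.obj U)).obj (b.obj V)).hom = prod.fst := by
      simp only [Over.star_obj_hom]
      exact prod.lift_fst _ _
    change inv (prodComparison b U V) ≫ b.map ((Over.star U).obj V).hom =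
      ((Over.star (b.obj U)).obj (b.obj V)).hom
    rw [e1, e2]
    exact h)) (by
    intro V V' g
    ext
    have h := prodComparison_inv_natural b (𝟙 U) g
    rw [b.map_id] at h
    simp only [Functor.comp_obj, Functor.comp_map, Over.comp_left, Over.star_map_left,
      Over.isoMk_hom_left, Iso.symm_hom, asIso_inv, Over.post_map, Over.homMk_left]
    exact h.symm)


section Sheaves

variable {A : Type (u + 2)} [Category.{u + 1} A]

/-- restriction to `Over U` is left adjoint to the pushforward along `Over.star U` -/
noncomputable def restrAdj (U : C) :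
    J.overPullback A U ⊣ (Over.star U).sheafPushforwardContinuous A J (J.over U) :=
  (Over.forgetAdjStar U).sheafPushforwardContinuous (E := A) (J.over U) J

variable [b.IsContinuous J K] (U : C)
  [(Over.post (X := U) b).IsContinuous (J.over U) (K.over (b.obj U))]

/-- `b_* R_{bU} ≅ R_U (b_U)_*` -/
noncomputable def rIso :
    (Over.star (b.obj U)).sheafPushforwardContinuous A K (K.over (b.obj U)) ⋙
        b.sheafPushforwardContinuous A J K ≅
      (Over.post (X := U) b).sheafPushforwardContinuous A (J.over U) (K.over (b.obj U)) ⋙
        (Over.star U).sheafPushforwardContinuous A J (J.over U) :=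
  haveI : (Over.star U ⋙ Over.post (X := U) b).IsContinuous J (K.over (b.obj U)) :=
    Functor.isContinuous_comp _ _ J (J.over U) (K.over (b.obj U))
  Functor.sheafPushforwardContinuousComp' (F := b) (G := Over.star (b.obj U))
      (FG := Over.star U ⋙ Over.post (X := U) b) (θ b U) A J K (K.over (b.obj U)) ≪≫
    (Functor.sheafPushforwardContinuousComp (Over.star U) (Over.post (X := U) b) A J (J.over U)
      (K.over (b.obj U))).symm

variable [(b.sheafPushforwardContinuous A J K).IsRightAdjoint]
  [((Over.post (X := U) b).sheafPushforwardContinuous A (J.over U)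
    (K.over (b.obj U))).IsRightAdjoint]

/-- inverse image commutes with localisation -/
noncomputable def pullOverIso :
    b.sheafPullback A J K ⋙ K.overPullback A (b.obj U) ≅
      J.overPullback A U ⋙ (Over.post (X := U) b).sheafPullback A (J.over U) (K.over (b.obj U)) :=
  let adjA := (b.sheafAdjunctionContinuous A J K).comp (restrAdj (A := A) K (b.obj U))
  let adjB := ((restrAdj (A := A) J U).comp
    ((Over.post (X := U) b).sheafAdjunctionContinuous A (J.over U) (K.over (b.obj U)))).ofNatIsoRight
      (rIso (A := A) J K b U).symm
  adjA.leftAdjointUniq adjB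

variable [HasWeakSheafify (J.over U) A] [HasWeakSheafify (K.over (b.obj U)) A]

/-- the localised inverse image of a constant sheaf is constant -/
noncomputable def pullConstIso :
    constantSheaf (J.over U) A ⋙
        (Over.post (X := U) b).sheafPullback A (J.over U) (K.over (b.obj U)) ≅
      constantSheaf (K.over (b.obj U)) A :=
  let hT : IsTerminal ((Over.post (X := U) b).obj (Over.mk (𝟙 U))) :=
    Over.mkIdTerminal.ofIso (Over.isoMk (Iso.refl _) (by
      change 𝟙 (b.obj U) ≫ b.map (𝟙 U) = 𝟙 (b.obj U)
      rw [b.map_id, Category.comp_id]))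
  let adj1 := (constantSheafAdj (J.over U) A (Over.mkIdTerminal (X := U))).comp
    ((Over.post (X := U) b).sheafAdjunctionContinuous A (J.over U) (K.over (b.obj U)))
  let adj2 := constantSheafAdj (K.over (b.obj U)) A hT
  let e : (sheafSections (K.over (b.obj U)) A).obj (op ((Over.post (X := U) b).obj (Over.mk (𝟙 U)))) ≅
      (Over.post (X := U) b).sheafPushforwardContinuous A (J.over U) (K.over (b.obj U)) ⋙
        (sheafSections (J.over U) A).obj (op (Over.mk (𝟙 U))) :=
    NatIso.ofComponents (fun _ => Iso.refl _) (by
      intros
      simp only [Iso.refl_hom]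
      exact (Category.comp_id _).trans (Category.id_comp _).symm)
  adj1.leftAdjointUniq (adj2.ofNatIsoRight e)

/-- if `G|_U` is constant with value `M` then so is `(b⁻¹ G)|_{b U}` -/
theorem nonempty_const_of_const (G : Sheaf J A) (M : A)
    (α : G.over U ≅ (constantSheaf (J.over U) A).obj M) :
    Nonempty (((b.sheafPullback A J K).obj G).over (b.obj U) ≅
      (constantSheaf (K.over (b.obj U)) A).obj M) :=
  ⟨(pullOverIso (A := A) J K b U).app G ≪≫
    ((Over.post (X := U) b).sheafPullback A (J.over U) (K.over (b.obj U))).mapIso α ≪≫
    (pullConstIso (A := A) J K b U).app M⟩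

end Sheaves

end Groth.Agent.Lib.Cohomology.OverPull
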