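import Groth.Agent.Lib.Cohomology.Helper3_OverPull
import Groth.Prelude.Def_EtBase
import Groth.Prelude.Def_EtMod2

/-!
# Inverse image along a morphism of schemes preserves local constancy (helper3)
-/

set_option autoImplicit false
universe u
open CategoryTheory CategoryTheory.Limits Opposite AlgebraicGeometry

namespace Groth.Agent.Lib.Cohomology.OverPull

variable {X Y : Scheme.{u}} (f : X ⟶ Y)

instance post_bc_isContinuous (U : Y.Etale) :
    (Over.post (X := U) (EtCoh.bc f)).IsContinuous (Y.smallEtaleTopology.over U)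
      (X.smallEtaleTopology.over ((EtCoh.bc f).obj U)) := by
  haveI : RepresentablyFlat (Over.post (X := U) (EtCoh.bc f)) := flat_of_preservesFiniteLimits _
  exact Functor.isContinuous_of_coverPreserving (compatiblePreservingOfFlat _ _)
    (CoverPreserving.overPost U (EtCoh.coverPreserving_bc f))

/-- base change of a covering family covers -/
lemma covers_bc {ι : Type u} (U : ι → Y.Etale) (hU : EtCoh.Covers U) :
    EtCoh.Covers (fun i => (EtCoh.bc f).obj (U i)) := by
  intro x
  obtain ⟨i, y, hy⟩ := hU (f.base x)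
  obtain ⟨z, -, hz2⟩ := Scheme.Pullback.exists_preimage_pullback (f := (U i).hom) (g := f) y x hy
  exact ⟨i, z, hz2⟩

/-- abelian sheaves: constancy over `U` is inherited by the pullback over `U ×_Y X` -/
theorem nonempty_pull_const (G : EtCoh.Ab Y) (U : Y.Etale) (M : AddCommGrpCat.{u + 1})
    (α : G.over U ≅ (constantSheaf (Y.smallEtaleTopology.over U) AddCommGrpCat.{u + 1}).obj M) :
    Nonempty (((EtCoh.pull f).obj G).over ((EtCoh.bc f).obj U) ≅
      (constantSheaf (X.smallEtaleTopology.over ((EtCoh.bc f).obj U)) AddCommGrpCat.{u + 1}).obj M) :=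
  nonempty_const_of_const Y.smallEtaleTopology X.smallEtaleTopology (EtCoh.bc f) U G M α

/-- sheaves of modules: constancy over `U` is inherited by the pullback over `U ×_Y X` -/
theorem nonempty_pullMod_const (Λ : Type (u + 1)) [CommRing Λ] (G : EtModW.Mod Λ Y) (U : Y.Etale)
    (M : ModuleCat.{u + 1} Λ)
    (α : G.over U ≅ (constantSheaf (Y.smallEtaleTopology.over U) (ModuleCat.{u + 1} Λ)).obj M) :
    Nonempty (((EtModW.pull Λ f).obj G).over ((EtCoh.bc f).obj U) ≅
      (constantSheaf (X.smallEtaleTopology.over ((EtCoh.bc f).obj U)) (ModuleCat.{u + 1} Λ)).obj M) :=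
  nonempty_const_of_const Y.smallEtaleTopology X.smallEtaleTopology (EtCoh.bc f) U G M α

end Groth.Agent.Lib.Cohomology.OverPull
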