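import Groth.Prelude.Def_CohPull
import Groth.Agent.Lib.Cohomology.Helper3_ExtFunct
import Groth.Agent.Lib.Cohomology.Helper3_AdjCoh

/-!
# Strictly functorial pullback maps on cohomology of pulled back sheaves (helper3)

For a space `S`, abelian sheaves `A B` on `S` and `a : Y ⟶ S` put `Ψ A B q a = Ext^q(a⁻¹A, a⁻¹B)`.
For `h : Y' ⟶ Y` we construct `map' q h a : Ψ q a →+ Ψ q (h ≫ a)` and prove
`map'_comp`, `map'_id` (strict functoriality), using that `push` is strictly functorial on `TopCat`.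
-/

set_option autoImplicit false
universe u
open CategoryTheory CategoryTheory.Limits TopologicalSpace Opposite CategoryTheory.Abelian

namespace Groth.Agent.Lib.Cohomology.PullFunct

open CohPull ExtFunct

variable {S : TopCat.{u}}

/-- comparison isomorphism `h⁻¹ a⁻¹ ≅ (h ≫ a)⁻¹` -/
noncomputable def e {Y' Y : TopCat.{u}} (h : Y' ⟶ Y) (a : Y ⟶ S) : CohPull.inv a ⋙ CohPull.inv h ≅ CohPull.inv (h ≫ a) :=
  ((invPushAdj a).comp (invPushAdj h)).leftAdjointUniq (invPushAdj (h ≫ a))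

/-- comparison isomorphism `(𝟙)⁻¹ ≅ 𝟭` -/
noncomputable def eId (Y : TopCat.{u}) : CohPull.inv (𝟙 Y) ≅ 𝟭 (CohTop.Ab Y) :=
  (invPushAdj (𝟙 Y)).leftAdjointUniq Adjunction.id

theorem e_cocycle {Y'' Y' Y : TopCat.{u}} (h' : Y'' ⟶ Y') (h : Y' ⟶ Y) (a : Y ⟶ S)
    (G : CohTop.Ab S) :
    (e h' h).hom.app ((CohPull.inv a).obj G) ≫ (e (h' ≫ h) a).hom.app G =
      (CohPull.inv h').map ((e h a).hom.app G) ≫ (e h' (h ≫ a)).hom.app G :=
  AdjCoh.cocycle (invPushAdj a) (invPushAdj h) (invPushAdj h') (invPushAdj (h ≫ a))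
    (invPushAdj (h' ≫ h)) (invPushAdj (h' ≫ h ≫ a)) G

theorem e_id {Y : TopCat.{u}} (a : Y ⟶ S) (G : CohTop.Ab S) :
    (e (𝟙 Y) a).hom.app G = (eId Y).hom.app ((CohPull.inv a).obj G) :=
  AdjCoh.unit_coh (invPushAdj a) (invPushAdj (𝟙 Y)) (invPushAdj a) rfl G

variable (A B : CohTop.Ab S)

/-- `Ext^q(a⁻¹A, a⁻¹B)` -/
abbrev Ψ (q : ℕ) {Y : TopCat.{u}} (a : Y ⟶ S) : Type u :=
  Ext.{u} ((CohPull.inv a).obj A) ((CohPull.inv a).obj B) q

instance {Y' Y : TopCat.{u}} (h : Y' ⟶ Y) {Y'' : TopCat.{u}} (h' : Y'' ⟶ Y') :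
    PreservesFiniteLimits (CohPull.inv h ⋙ CohPull.inv h') := comp_preservesFiniteLimits _ _

instance {Y' Y : TopCat.{u}} (h : Y' ⟶ Y) {Y'' : TopCat.{u}} (h' : Y'' ⟶ Y') :
    PreservesFiniteColimits (CohPull.inv h ⋙ CohPull.inv h') := comp_preservesFiniteColimits _ _

/-- the pullback map along `h` -/
noncomputable def map' (q : ℕ) {Y' Y : TopCat.{u}} (h : Y' ⟶ Y) (a : Y ⟶ S) :
    Ψ A B q a →+ Ψ A B q (h ≫ a) :=
  conjMap (CohPull.inv h) ((e h a).inv.app A) ((e h a).hom.app B) q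

theorem map'_comp (q : ℕ) {Y'' Y' Y : TopCat.{u}} (h' : Y'' ⟶ Y') (h : Y' ⟶ Y) (a : Y ⟶ S)
    (x : Ψ A B q a) :
    map' A B q h' (h ≫ a) (map' A B q h a x) = map' A B q (h' ≫ h) a x := by
  unfold map'
  rw [conjMap_comp, conjMap_natIso _ _ (e h' h)]
  refine conjMap_congr _ ?_ ?_ q x
  · rw [← cancel_mono ((e (h' ≫ h) a).hom.app A)]
    simp only [Category.assoc, Functor.comp_obj]
    rw [e_cocycle h' h a A]
    simp only [← Functor.map_comp_assoc, Iso.inv_hom_id_app,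
      Functor.comp_obj]
    rw [CategoryTheory.Functor.map_id, Category.id_comp]
    exact Iso.inv_hom_id_app _ _
  · rw [← e_cocycle h' h a B]
    simp

theorem map'_id (q : ℕ) {Y : TopCat.{u}} (a : Y ⟶ S) (x : Ψ A B q a) :
    map' A B q (𝟙 Y) a x = x := by
  unfold map'
  rw [conjMap_natIso _ _ (eId Y), conjMap_id]
  have h1 : (e (𝟙 Y) a).inv.app A ≫ (eId Y).hom.app ((CohPull.inv a).obj A) = 𝟙 _ := by
    rw [← e_id a A]
    exact Iso.inv_hom_id_app _ _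
  have h2 : (eId Y).inv.app ((CohPull.inv a).obj B) ≫ (e (𝟙 Y) a).hom.app B = 𝟙 _ := by
    rw [e_id a B]
    exact Iso.inv_hom_id_app _ _
  have h3 : (Ext.mk₀ (𝟙 ((CohPull.inv a).obj A))).comp
      (x.comp (Ext.mk₀ (𝟙 ((CohPull.inv a).obj B))) (add_zero q)) (zero_add q) = x := by
    rw [Ext.comp_mk₀_id, Ext.mk₀_id_comp]
  rw [h1, h2]
  exact h3

end Groth.Agent.Lib.Cohomology.PullFunct
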