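import Groth.Agent.Lib.Cohomology.Helper3_PullFunct

/-!
# Pullback maps on `Ψ` over a base, comparison with cohomology (helper3)
-/

set_option autoImplicit false
universe u
open CategoryTheory CategoryTheory.Limits TopologicalSpace Opposite CategoryTheory.Abelian

namespace Groth.Agent.Lib.Cohomology.PullFunct

open CohPull ExtFunct

variable {S : TopCat.{u}} (A B : CohTop.Ab S)

/-- the pullback map along `h : Y' ⟶ Y` over `S` (with `h ≫ a = a'`) -/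
noncomputable def map (q : ℕ) {Y' Y : TopCat.{u}} (h : Y' ⟶ Y) (a : Y ⟶ S) (a' : Y' ⟶ S)
    (w : h ≫ a = a') : Ψ A B q a →+ Ψ A B q a' := by
  subst w
  exact map' A B q h a

theorem map_id (q : ℕ) {Y : TopCat.{u}} (a : Y ⟶ S) (w : 𝟙 Y ≫ a = a) (x : Ψ A B q a) :
    map A B q (𝟙 Y) a a w x = x :=
  map'_id A B q a x

theorem map_comp (q : ℕ) {Y'' Y' Y : TopCat.{u}} (h' : Y'' ⟶ Y') (h : Y' ⟶ Y) (a : Y ⟶ S)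
    (a' : Y' ⟶ S) (a'' : Y'' ⟶ S) (w : h ≫ a = a') (w' : h' ≫ a' = a'')
    (w'' : (h' ≫ h) ≫ a = a'') (x : Ψ A B q a) :
    map A B q h' a' a'' w' (map A B q h a a' w x) = map A B q (h' ≫ h) a a'' w'' x := by
  subst w
  subst w'
  exact map'_comp A B q h' h a x

/-- maps with equal underlying continuous maps agree -/
theorem map_congr (q : ℕ) {Y' Y : TopCat.{u}} {h₁ h₂ : Y' ⟶ Y} (hh : h₁ = h₂) (a : Y ⟶ S)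
    (a' : Y' ⟶ S) (w₁ : h₁ ≫ a = a') (w₂ : h₂ ≫ a = a') (x : Ψ A B q a) :
    map A B q h₁ a a' w₁ x = map A B q h₂ a a' w₂ x := by
  subst hh; rfl

theorem map_map_eq_map (q : ℕ) {Y₃ Y₂ Y₁ : TopCat.{u}} (h₂ : Y₃ ⟶ Y₂) (h₁ : Y₂ ⟶ Y₁)
    (k : Y₃ ⟶ Y₁) (hk : h₂ ≫ h₁ = k) (a₁ : Y₁ ⟶ S) (a₂ : Y₂ ⟶ S) (a₃ : Y₃ ⟶ S)
    (w₁ : h₁ ≫ a₁ = a₂) (w₂ : h₂ ≫ a₂ = a₃) (w : k ≫ a₁ = a₃) (x : Ψ A B q a₁) :
    map A B q h₂ a₂ a₃ w₂ (map A B q h₁ a₁ a₂ w₁ x) = map A B q k a₁ a₃ w x := by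
  subst hk
  exact map_comp A B q h₂ h₁ a₁ a₂ a₃ w₁ w₂ w x

theorem map_map_eq_self (q : ℕ) {Y₂ Y₁ : TopCat.{u}} (h₂ : Y₁ ⟶ Y₂) (h₁ : Y₂ ⟶ Y₁)
    (hk : h₂ ≫ h₁ = 𝟙 Y₁) (a₁ : Y₁ ⟶ S) (a₂ : Y₂ ⟶ S)
    (w₁ : h₁ ≫ a₁ = a₂) (w₂ : h₂ ≫ a₂ = a₁) (x : Ψ A B q a₁) :
    map A B q h₂ a₂ a₁ w₂ (map A B q h₁ a₁ a₂ w₁ x) = x :=
  (map_map_eq_map A B q h₂ h₁ (𝟙 Y₁) hk a₁ a₂ a₁ w₁ w₂ (Category.id_comp _) x).trans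
    (map_id A B q a₁ _ x)

theorem map_map_eq_map_map (q : ℕ) {Y₃ Y₂ Y₂' Y₁ : TopCat.{u}} (h₂ : Y₃ ⟶ Y₂) (h₁ : Y₂ ⟶ Y₁)
    (k₂ : Y₃ ⟶ Y₂') (k₁ : Y₂' ⟶ Y₁) (hk : h₂ ≫ h₁ = k₂ ≫ k₁) (a₁ : Y₁ ⟶ S) (a₂ : Y₂ ⟶ S)
    (a₂' : Y₂' ⟶ S) (a₃ : Y₃ ⟶ S)
    (w₁ : h₁ ≫ a₁ = a₂) (w₂ : h₂ ≫ a₂ = a₃) (v₁ : k₁ ≫ a₁ = a₂') (v₂ : k₂ ≫ a₂' = a₃)
    (x : Ψ A B q a₁) :
    map A B q h₂ a₂ a₃ w₂ (map A B q h₁ a₁ a₂ w₁ x) =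
      map A B q k₂ a₂' a₃ v₂ (map A B q k₁ a₁ a₂' v₁ x) := by
  have w : (k₂ ≫ k₁) ≫ a₁ = a₃ := by rw [Category.assoc, v₁, v₂]
  rw [map_map_eq_map A B q h₂ h₁ (k₂ ≫ k₁) hk a₁ a₂ a₃ w₁ w₂ w x,
    map_map_eq_map A B q k₂ k₁ (k₂ ≫ k₁) rfl a₁ a₂' a₃ v₁ v₂ w x]

section Compare

variable (F : CohTop.Ab S)

/-- the pullback of the constant sheaf is the constant sheaf -/
noncomputable def constIso {Y : TopCat.{u}} (a : Y ⟶ S) :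
    (CohPull.inv a).obj (CohTop.const S (ULift.{u} ℤ)) ≅ CohTop.const Y (ULift.{u} ℤ) :=
  (((adjZ S).comp (invPushAdj a)).leftAdjointUniq (adjZ Y)).app (AddCommGrpCat.of (ULift.{u} ℤ))

/-- `Ψ` for the constant sheaf computes the cohomology of the pulled back sheaf -/
noncomputable def ΨEquivH (q : ℕ) {Y : TopCat.{u}} (a : Y ⟶ S) :
    Ψ (CohTop.const S (ULift.{u} ℤ)) F q a ≃+ CohTop.H ((CohTop.pull a).obj F) q :=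
  conjEquiv (constIso a).symm (Iso.refl _) q

/-- `Ψ` at the identity computes the cohomology of the sheaf -/
noncomputable def ΨEquivH₀ (q : ℕ) :
    Ψ (CohTop.const S (ULift.{u} ℤ)) F q (𝟙 S) ≃+ CohTop.H F q :=
  conjEquiv ((eId S).app (CohTop.const S (ULift.{u} ℤ))).symm ((eId S).app F) q

end Compare

end Groth.Agent.Lib.Cohomology.PullFunct
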