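import Groth.Agent.Lib.Cohomology.Helper3_RDerFunSES
import Mathlib.Algebra.Homology.ExactSequence

/-!
# Mayer–Vietoris type long exact sequences for right derived functors

(helper3)  Given additive functors `F₁ G₁ G₂ F₃ : C ⥤ D` and natural transformations
`a : F₁ ⟶ G₁`, `b : F₁ ⟶ G₂`, `c : G₁ ⟶ F₃`, `d : G₂ ⟶ F₃` such that
`0 ⟶ F₁ I ⟶ G₁ I ⊞ G₂ I ⟶ F₃ I ⟶ 0` (maps `(a, b)` and `c - d`) is short exact for every injective `I`,
there is a long exact sequence
`0 ⟶ R⁰F₁ X ⟶ R⁰G₁ X ⊞ R⁰G₂ X ⟶ R⁰F₃ X ⟶ R¹F₁ X ⟶ ⋯`.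
-/

set_option autoImplicit false
set_option backward.isDefEq.respectTransparency false
set_option backward.defeqAttrib.useBackward true

namespace Groth.Agent.Lib.Cohomology.RDerMV

open CategoryTheory Limits Category
open Groth.Agent.Lib.Cohomology.RDerFunSES

universe v u v' u'

variable {C : Type u} [Category.{v} C] {D : Type u'} [Category.{v'} D]
  [Abelian C] [HasInjectiveResolutions C] [Abelian D]

section Additivity

variable {F G : C ⥤ D} [F.Additive] [G.Additive]

lemma mapHC_add (α β : F ⟶ G) (K : CochainComplex C ℕ) :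
    (NatTrans.mapHomologicalComplex (α + β) (ComplexShape.up ℕ)).app K =
      (NatTrans.mapHomologicalComplex α _).app K + (NatTrans.mapHomologicalComplex β _).app K := by
  ext i; simp

lemma mapHC_neg (α : F ⟶ G) (K : CochainComplex C ℕ) :
    (NatTrans.mapHomologicalComplex (-α) (ComplexShape.up ℕ)).app K =
      -(NatTrans.mapHomologicalComplex α _).app K := by
  ext i; simp

lemma mapHC_zero (K : CochainComplex C ℕ) :
    (NatTrans.mapHomologicalComplex (0 : F ⟶ G) (ComplexShape.up ℕ)).app K = 0 := by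
  ext i; simp

lemma rightDerived_add_app (α β : F ⟶ G) (n : ℕ) (X : C) :
    (NatTrans.rightDerived (α + β) n).app X =
      (NatTrans.rightDerived α n).app X + (NatTrans.rightDerived β n).app X := by
  let I := injectiveResolution X
  rw [I.rightDerived_app_eq (α + β) n, I.rightDerived_app_eq α n, I.rightDerived_app_eq β n,
    mapHC_add]
  simp

lemma rightDerived_neg_app (α : F ⟶ G) (n : ℕ) (X : C) :
    (NatTrans.rightDerived (-α) n).app X = -(NatTrans.rightDerived α n).app X := by
  let I := injectiveResolution X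
  rw [I.rightDerived_app_eq (-α) n, I.rightDerived_app_eq α n, mapHC_neg]
  simp

lemma rightDerived_zero_app (n : ℕ) (X : C) :
    (NatTrans.rightDerived (0 : F ⟶ G) n).app X = 0 := by
  let I := injectiveResolution X
  rw [I.rightDerived_app_eq (0 : F ⟶ G) n, mapHC_zero]
  simp

end Additivity

section BiprodFunctor

variable (G₁ G₂ : C ⥤ D)

/-- The objectwise biproduct of two functors. -/
@[simps]
noncomputable def bp : C ⥤ D where
  obj X := G₁.obj X ⊞ G₂.obj X
  map f := biprod.map (G₁.map f) (G₂.map f)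

instance [G₁.Additive] [G₂.Additive] : (bp G₁ G₂).Additive where
  map_add {X Y f g} := by
    dsimp
    ext <;> simp

/-- first projection -/
@[simps] noncomputable def bfst : bp G₁ G₂ ⟶ G₁ where app X := biprod.fst
/-- second projection -/
@[simps] noncomputable def bsnd : bp G₁ G₂ ⟶ G₂ where app X := biprod.snd
/-- first inclusion -/
@[simps] noncomputable def binl : G₁ ⟶ bp G₁ G₂ where app X := biprod.inl
/-- second inclusion -/
@[simps] noncomputable def binr : G₂ ⟶ bp G₁ G₂ where app X := biprod.inr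

variable {G₁ G₂}

/-- lift -/
@[simps] noncomputable def blift {F : C ⥤ D} (a : F ⟶ G₁) (b : F ⟶ G₂) : F ⟶ bp G₁ G₂ where
  app X := biprod.lift (a.app X) (b.app X)
  naturality X Y f := by dsimp; ext <;> simp

/-- desc -/
@[simps] noncomputable def bdesc {F : C ⥤ D} (c : G₁ ⟶ F) (d : G₂ ⟶ F) : bp G₁ G₂ ⟶ F where
  app X := biprod.desc (c.app X) (d.app X)
  naturality X Y f := by dsimp; ext <;> simp

@[simp] lemma blift_bfst {F : C ⥤ D} (a : F ⟶ G₁) (b : F ⟶ G₂) : blift a b ≫ bfst G₁ G₂ = a := by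
  ext X; simp
@[simp] lemma blift_bsnd {F : C ⥤ D} (a : F ⟶ G₁) (b : F ⟶ G₂) : blift a b ≫ bsnd G₁ G₂ = b := by
  ext X; simp
@[simp] lemma binl_bdesc {F : C ⥤ D} (c : G₁ ⟶ F) (d : G₂ ⟶ F) : binl G₁ G₂ ≫ bdesc c d = c := by
  ext X; simp
@[simp] lemma binr_bdesc {F : C ⥤ D} (c : G₁ ⟶ F) (d : G₂ ⟶ F) : binr G₁ G₂ ≫ bdesc c d = d := by
  ext X; simp

variable (G₁ G₂)

lemma binl_bfst : binl G₁ G₂ ≫ bfst G₁ G₂ = 𝟙 _ := by ext X; simp
lemma binl_bsnd : binl G₁ G₂ ≫ bsnd G₁ G₂ = 0 := by ext X; simp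
lemma binr_bfst : binr G₁ G₂ ≫ bfst G₁ G₂ = 0 := by ext X; simp
lemma binr_bsnd : binr G₁ G₂ ≫ bsnd G₁ G₂ = 𝟙 _ := by ext X; simp
lemma btotal : bfst G₁ G₂ ≫ binl G₁ G₂ + bsnd G₁ G₂ ≫ binr G₁ G₂ = 𝟙 _ := by
  ext X; simp

variable [G₁.Additive] [G₂.Additive]

/-- Right derived functors commute with objectwise biproducts of functors. -/
noncomputable def rdIso (n : ℕ) (X : C) :
    ((bp G₁ G₂).rightDerived n).obj X ≅ (G₁.rightDerived n).obj X ⊞ (G₂.rightDerived n).obj X where
  hom := biprod.lift ((NatTrans.rightDerived (bfst G₁ G₂) n).app X)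
    ((NatTrans.rightDerived (bsnd G₁ G₂) n).app X)
  inv := biprod.desc ((NatTrans.rightDerived (binl G₁ G₂) n).app X)
    ((NatTrans.rightDerived (binr G₁ G₂) n).app X)
  hom_inv_id := by
    rw [biprod.lift_desc, ← NatTrans.comp_app, ← NatTrans.comp_app, ← NatTrans.rightDerived_comp,
      ← NatTrans.rightDerived_comp, ← rightDerived_add_app, btotal, NatTrans.rightDerived_id]
    rfl
  inv_hom_id := by
    ext
    · simp only [biprod.inl_desc_assoc, assoc, biprod.lift_fst, comp_id, biprod.inl_fst,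
        id_comp]
      rw [← NatTrans.comp_app, ← NatTrans.rightDerived_comp, binl_bfst, NatTrans.rightDerived_id]
      rfl
    · simp only [biprod.inl_desc_assoc, assoc, biprod.lift_snd, comp_id, biprod.inl_snd,
        id_comp]
      rw [← NatTrans.comp_app, ← NatTrans.rightDerived_comp, binl_bsnd, rightDerived_zero_app]
    · simp only [biprod.inr_desc_assoc, assoc, biprod.lift_fst, comp_id, biprod.inr_fst,
        id_comp]
      rw [← NatTrans.comp_app, ← NatTrans.rightDerived_comp, binr_bfst, rightDerived_zero_app]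
    · simp only [biprod.inr_desc_assoc, assoc, biprod.lift_snd, comp_id, biprod.inr_snd,
        id_comp]
      rw [← NatTrans.comp_app, ← NatTrans.rightDerived_comp, binr_bsnd, NatTrans.rightDerived_id]
      rfl

variable {G₁ G₂}

lemma rd_blift_hom {F : C ⥤ D} [F.Additive] (a : F ⟶ G₁) (b : F ⟶ G₂) (n : ℕ) (X : C) :
    (NatTrans.rightDerived (blift a b) n).app X ≫ (rdIso G₁ G₂ n X).hom =
      biprod.lift ((NatTrans.rightDerived a n).app X) ((NatTrans.rightDerived b n).app X) := by
  dsimp only [rdIso]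
  ext
  · rw [assoc, biprod.lift_fst, biprod.lift_fst, ← NatTrans.comp_app,
      ← NatTrans.rightDerived_comp, blift_bfst]
  · rw [assoc, biprod.lift_snd, biprod.lift_snd, ← NatTrans.comp_app,
      ← NatTrans.rightDerived_comp, blift_bsnd]

lemma rd_inv_bdesc {F : C ⥤ D} [F.Additive] (c : G₁ ⟶ F) (d : G₂ ⟶ F) (n : ℕ) (X : C) :
    (rdIso G₁ G₂ n X).inv ≫ (NatTrans.rightDerived (bdesc c d) n).app X =
      biprod.desc ((NatTrans.rightDerived c n).app X) ((NatTrans.rightDerived d n).app X) := by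
  dsimp only [rdIso]
  ext
  · rw [biprod.inl_desc_assoc, biprod.inl_desc, ← NatTrans.comp_app,
      ← NatTrans.rightDerived_comp, binl_bdesc]
  · rw [biprod.inr_desc_assoc, biprod.inr_desc, ← NatTrans.comp_app,
      ← NatTrans.rightDerived_comp, binr_bdesc]

end BiprodFunctor

section MV

variable {F₁ G₁ G₂ F₃ : C ⥤ D} [F₁.Additive] [G₁.Additive] [G₂.Additive] [F₃.Additive]
  (a : F₁ ⟶ G₁) (b : F₁ ⟶ G₂) (c : G₁ ⟶ F₃) (d : G₂ ⟶ F₃)
  (w : ∀ X : C, biprod.lift (a.app X) (b.app X) ≫ biprod.desc (c.app X) (-d.app X) = 0)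
  (hex : ∀ I : C, Injective I →
    (ShortComplex.mk (biprod.lift (a.app I) (b.app I)) (biprod.desc (c.app I) (-d.app I))
      (w I)).ShortExact)

/-- The `FunSES` attached to Mayer–Vietoris data. -/
noncomputable def funSES : FunSES C D where
  F₁ := F₁
  F₂ := bp G₁ G₂
  F₃ := F₃
  α := blift a b
  β := bdesc c (-d)
  zero X := w X
  exact I hI := hex I hI

include hex in
/-- The abstract Mayer–Vietoris long exact sequence of right derived functors. -/
theorem mv_les (X : C) :
    ∃ δ : ∀ n : ℕ, (F₃.rightDerived n).obj X ⟶ (F₁.rightDerived (n + 1)).obj X,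
      Mono (biprod.lift ((NatTrans.rightDerived a 0).app X) ((NatTrans.rightDerived b 0).app X)) ∧
      ∀ n : ℕ,
        (ComposableArrows.mk₂
          (biprod.lift ((NatTrans.rightDerived a n).app X) ((NatTrans.rightDerived b n).app X))
          (biprod.desc ((NatTrans.rightDerived c n).app X)
            (-((NatTrans.rightDerived d n).app X)))).Exact ∧
        (ComposableArrows.mk₂
          (biprod.desc ((NatTrans.rightDerived c n).app X)
            (-((NatTrans.rightDerived d n).app X))) (δ n)).Exact ∧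
        (ComposableArrows.mk₂ (δ n)
          (biprod.lift ((NatTrans.rightDerived a (n + 1)).app X)
            ((NatTrans.rightDerived b (n + 1)).app X))).Exact := by
  let T := funSES a b c d w hex
  have hl : ∀ n, biprod.lift ((NatTrans.rightDerived a n).app X)
      ((NatTrans.rightDerived b n).app X) =
      (NatTrans.rightDerived T.α n).app X ≫ (rdIso G₁ G₂ n X).hom :=
    fun n => (rd_blift_hom a b n X).symm
  have hd : ∀ n, biprod.desc ((NatTrans.rightDerived c n).app X)
      (-((NatTrans.rightDerived d n).app X)) =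
      (rdIso G₁ G₂ n X).inv ≫ (NatTrans.rightDerived T.β n).app X := by
    intro n
    rw [← rightDerived_neg_app]
    exact (rd_inv_bdesc c (-d) n X).symm
  refine ⟨fun n => (T.δ n).app X, ?_, fun n => ⟨?_, ?_, ?_⟩⟩
  · rw [hl 0]
    have := T.mono_α_zero X
    infer_instance
  · rw [hl n, hd n]
    have w' : ((NatTrans.rightDerived T.α n).app X ≫ (rdIso G₁ G₂ n X).hom) ≫
        ((rdIso G₁ G₂ n X).inv ≫ (NatTrans.rightDerived T.β n).app X) = 0 := by
      rw [assoc, Iso.hom_inv_id_assoc, T.α_β_app X n]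
    refine ShortComplex.Exact.exact_toComposableArrows (S := ShortComplex.mk _ _ w') ?_
    refine ShortComplex.exact_of_iso ?_ (T.exact₂ X n)
    exact ShortComplex.isoMk (Iso.refl _) (rdIso G₁ G₂ n X) (Iso.refl _) (by simp) (by simp)
  · rw [hd n]
    have w' : ((rdIso G₁ G₂ n X).inv ≫ (NatTrans.rightDerived T.β n).app X) ≫ (T.δ n).app X = 0 := by
      rw [assoc, T.β_δ_app X n, comp_zero]
    refine ShortComplex.Exact.exact_toComposableArrows (S := ShortComplex.mk _ _ w') ?_
    refine ShortComplex.exact_of_iso ?_ (T.exact₃ X n)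
    exact ShortComplex.isoMk (rdIso G₁ G₂ n X) (Iso.refl _) (Iso.refl _) (by simp) (by simp)
  · rw [hl (n + 1)]
    have w' : (T.δ n).app X ≫
        ((NatTrans.rightDerived T.α (n + 1)).app X ≫ (rdIso G₁ G₂ (n + 1) X).hom) = 0 := by
      rw [T.δ_α_app_assoc X n, zero_comp]
    refine ShortComplex.Exact.exact_toComposableArrows (S := ShortComplex.mk _ _ w') ?_
    refine ShortComplex.exact_of_iso ?_ (T.exact₁ X n)
    exact ShortComplex.isoMk (Iso.refl _) (Iso.refl _) (rdIso G₁ G₂ (n + 1) X) (by simp) (by simp)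

end MV

end Groth.Agent.Lib.Cohomology.RDerMV
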