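import Groth.Agent.Lib.Cohomology.Helper3_LocCohSh

set_option autoImplicit false
set_option backward.isDefEq.respectTransparency false
universe u
open CategoryTheory CategoryTheory.Limits TopologicalSpace Opposite

namespace Groth.Agent.Lib.Cohomology.SectSupp
open Groth.Agent.Lib.Cohomology Groth.Agent.Lib.Cohomology.OpenAdj
  Groth.Agent.Lib.Cohomology.LocCohSh

/-- the sections functor over an open -/
noncomputable abbrev secF {X : TopCat.{u}} (W : Opens X) : CohTop.Ab X ⥤ AddCommGrpCat.{u} :=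
  sheafToPresheaf (Opens.grothendieckTopology X) AddCommGrpCat.{u} ⋙ (evaluation _ _).obj (op W)

instance {X : TopCat.{u}} (W : Opens X) : (secF W).Additive := ⟨rfl⟩

/-- A section killed by `φ` comes from a section of the kernel. -/
lemma exists_kernel_section {X : TopCat.{u}} {A B : CohTop.Ab X} (φ : A ⟶ B) (W : Opens X)
    (m : A.obj.obj (op W)) (hm : φ.hom.app (op W) m = 0) :
    ∃ s : (kernel φ).obj.obj (op W), (kernel.ι φ).hom.app (op W) s = m := by
  have hS : (ShortComplex.mk (kernel.ι φ) φ (kernel.condition φ)).Exact :=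
    ShortComplex.exact_kernel φ
  have hG := hS.map_of_mono_of_preservesKernel (secF W) inferInstance inferInstance
  rw [ShortComplex.ab_exact_iff] at hG
  exact hG m hm

lemma kernel_ι_injective {X : TopCat.{u}} {A B : CohTop.Ab X} (φ : A ⟶ B) (W : Opens X) :
    Function.Injective ((kernel.ι φ).hom.app (op W)) := by
  have : Mono ((secF W).map (kernel.ι φ)) := inferInstance
  exact (AddCommGrpCat.mono_iff_injective _).1 this

variable {X : TopCat.{u}} (U : Opens X)

lemma unit_app_eq_zero_iff (A : CohTop.Ab X) (W : Opens X) (s : A.obj.obj (op W)) :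
    ((adj U).unit.app A).hom.app (op W) s = 0 ↔ A.obj.map (homOfLE (jj_le U W)).op s = 0 := by
  have h := unit_pullIso U A
  have h1 : ∀ x, ((adj' U).unit.app A).hom.app (op W) x =
      ((CohTop.push (CohCx.incl U)).map ((pullIso U).hom.app A)).hom.app (op W)
        (((adj U).unit.app A).hom.app (op W) x) := by
    intro x
    rw [← h]
    rfl
  have h3 : (CohTop.push (CohCx.incl U)).map ((pullIso U).hom.app A) ≫
      (CohTop.push (CohCx.incl U)).map ((pullIso U).inv.app A) = 𝟙 _ := by
    rw [← CategoryTheory.Functor.map_comp, Iso.hom_inv_id_app, CategoryTheory.Functor.map_id]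
  constructor
  · intro hs
    have : ((adj' U).unit.app A).hom.app (op W) s = 0 := by rw [h1, hs, map_zero]
    exact this
  · intro hs
    have hs' : ((adj' U).unit.app A).hom.app (op W) s = 0 := hs
    rw [h1] at hs'
    have := congrArg (fun y =>
      ((CohTop.push (CohCx.incl U)).map ((pullIso U).inv.app A)).hom.app (op W) y) hs'
    simp only [map_zero] at this
    rw [← hom_comp_app, h3] at this
    exact this

lemma mem_jj (W : Opens X) (x : X) : x ∈ jj U W ↔ x ∈ W ∧ x ∈ U := by
  constructor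
  · rintro ⟨y, hy, rfl⟩
    exact ⟨hy, y.2⟩
  · rintro ⟨hW, hU⟩
    exact ⟨⟨x, hU⟩, hW, rfl⟩

theorem isFlasque_sectSuppF {X : TopCat.{u}} (A : CohTop.Ab X) [TopCat.Sheaf.IsFlasque A]
    (U : Opens X) : TopCat.Sheaf.IsFlasque ((LocCohZ.sectSuppF U).obj A) := by
  constructor
  rintro ⟨W⟩ ⟨W'⟩ i
  have hle : W' ≤ W := leOfHom i.unop
  rw [AddCommGrpCat.epi_iff_surjective]
  intro s'
  let φ := (adj U).unit.app A
  change (kernel φ).obj.obj (op W') at s'
  let s : A.obj.obj (op W') := (kernel.ι φ).hom.app (op W') s'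
  have hs : A.obj.map (homOfLE (jj_le U W')).op s = 0 := by
    rw [← unit_app_eq_zero_iff]
    change (kernel.ι φ ≫ φ).hom.app (op W') s' = 0
    rw [kernel.condition]
    rfl
  have h1 : W' ⊓ jj U W ≤ jj U W' := by
    intro x hx
    exact (mem_jj U W' x).2 ⟨hx.1, ((mem_jj U W x).1 hx.2).2⟩
  have h2 : jj U W' ≤ jj U W := by
    intro x hx
    have := (mem_jj U W' x).1 hx
    exact (mem_jj U W x).2 ⟨hle this.1, this.2⟩
  obtain ⟨g, hg1, hg2⟩ := glue₂ A (homOfLE (le_sup_left : W' ≤ W' ⊔ jj U W))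
    (homOfLE (le_sup_right : jj U W ≤ W' ⊔ jj U W)) (homOfLE (jj_le U W')) (homOfLE h2) h1
    le_rfl s 0 (by rw [hs, map_zero])
  have h3 : W' ⊔ jj U W ≤ W := sup_le hle (jj_le U W)
  have hepi : Epi (A.obj.map (homOfLE h3).op) := TopCat.Presheaf.IsFlasque.epi (F := A.obj) _
  rw [AddCommGrpCat.epi_iff_surjective] at hepi
  obtain ⟨t, ht⟩ := hepi g
  have ht0 : A.obj.map (homOfLE (jj_le U W)).op t = 0 := by
    have e : homOfLE (jj_le U W) = homOfLE (le_sup_right : jj U W ≤ W' ⊔ jj U W) ≫ homOfLE h3 :=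
      Subsingleton.elim _ _
    rw [e, op_comp, A.obj.map_comp]
    change A.obj.map (homOfLE _).op (A.obj.map (homOfLE h3).op t) = 0
    rw [ht, hg2]
  obtain ⟨t', ht'⟩ := exists_kernel_section φ W t ((unit_app_eq_zero_iff U A W t).2 ht0)
  refine ⟨t', ?_⟩
  apply kernel_ι_injective φ W'
  have hnat := congrArg (fun κ => κ t') ((kernel.ι φ).hom.naturality i)
  change (kernel.ι φ).hom.app (op W') ((kernel φ).obj.map i t') = A.obj.map i ((kernel.ι φ).hom.app (op W) t') at hnat
  change (kernel.ι φ).hom.app (op W') ((kernel φ).obj.map i t') = s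
  rw [hnat, ht']
  have e : i = (homOfLE (le_sup_left : W' ≤ W' ⊔ jj U W) ≫ homOfLE h3).op := Subsingleton.elim _ _
  rw [e, op_comp, A.obj.map_comp]
  change A.obj.map (homOfLE _).op (A.obj.map (homOfLE h3).op t) = s
  rw [ht, hg1]

end Groth.Agent.Lib.Cohomology.SectSupp
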