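import Groth.Agent.Lib.Cohomology.Helper3_ExtDelta
import Groth.Agent.Lib.Cohomology.Helper3_SectSupp

/-!
# `R^q Γ_Z(X, -) ≅ Ext^q(ℤ_X/ℤ_U, -)` (helper3)
-/

set_option autoImplicit false
set_option backward.isDefEq.respectTransparency false
set_option backward.defeqAttrib.useBackward true
universe u
open CategoryTheory CategoryTheory.Limits TopologicalSpace Opposite

namespace Groth.Agent.Lib.Cohomology.RHZ

open Groth.Agent.Lib.Cohomology.OpenAdj Groth.Agent.Lib.Cohomology.LocCohSh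
  Groth.Agent.Lib.Cohomology.SectSupp Abelian

variable {X : TopCat.{u}} (U : Opens X)

/-- sections of `Γ_Z F` over `⊤`, as sections of `F` -/
noncomputable def aMap (F : CohTop.Ab X) : (LocCohZ.gammaZF U).obj F →+ F.obj.obj (op ⊤) :=
  ((kernel.ι ((adj U).unit.app F)).hom.app (op ⊤)).hom

lemma aMap_injective (F : CohTop.Ab X) : Function.Injective (aMap U F) :=
  kernel_ι_injective ((adj U).unit.app F) ⊤

lemma le_jj_top : U ≤ jj U ⊤ := fun x hx => (mem_jj U ⊤ x).2 ⟨trivial, hx⟩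

lemma map_jj_eq_zero_iff (F : CohTop.Ab X) (s : F.obj.obj (op ⊤)) :
    F.obj.map (homOfLE (jj_le U ⊤)).op s = 0 ↔ F.obj.map (homOfLE (le_top : U ≤ ⊤)).op s = 0 := by
  constructor
  · intro h
    have e : homOfLE (le_top : U ≤ ⊤) = homOfLE (le_jj_top U) ≫ homOfLE (jj_le U ⊤) :=
      Subsingleton.elim _ _
    rw [e, op_comp, F.obj.map_comp]
    change F.obj.map (homOfLE (le_jj_top U)).op (F.obj.map (homOfLE (jj_le U ⊤)).op s) = 0
    rw [h, map_zero]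
  · intro h
    have hle : jj U ⊤ ≤ U := fun x hx => ((mem_jj U ⊤ x).1 hx).2
    have e : homOfLE (jj_le U ⊤) = homOfLE hle ≫ homOfLE (le_top : U ≤ ⊤) :=
      Subsingleton.elim _ _
    rw [e, op_comp, F.obj.map_comp]
    change F.obj.map (homOfLE hle).op (F.obj.map (homOfLE (le_top : U ≤ ⊤)).op s) = 0
    rw [h, map_zero]

lemma aMap_mem (F : CohTop.Ab X) (x : (LocCohZ.gammaZF U).obj F) :
    aMap U F x ∈ LocCohZ.sectZ F (le_top : U ≤ ⊤) := by
  rw [AddMonoidHom.mem_ker]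
  change F.obj.map (homOfLE (le_top : U ≤ ⊤)).op (aMap U F x) = 0
  rw [← map_jj_eq_zero_iff, ← unit_app_eq_zero_iff]
  change (kernel.ι ((adj U).unit.app F) ≫ (adj U).unit.app F).hom.app (op ⊤) x = 0
  rw [kernel.condition]
  rfl

lemma exists_aMap_eq (F : CohTop.Ab X) (s : F.obj.obj (op ⊤))
    (hs : s ∈ LocCohZ.sectZ F (le_top : U ≤ ⊤)) : ∃ x, aMap U F x = s := by
  rw [AddMonoidHom.mem_ker] at hs
  have hs' : F.obj.map (homOfLE (le_top : U ≤ ⊤)).op s = 0 := hs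
  rw [← map_jj_eq_zero_iff, ← unit_app_eq_zero_iff] at hs'
  exact exists_kernel_section ((adj U).unit.app F) ⊤ s hs'

/-- `Γ_Z(X, F) ≃+ {s ∈ F(X) | s|_U = 0}` -/
noncomputable def e1 (F : CohTop.Ab X) :
    (LocCohZ.gammaZF U).obj F ≃+ LocCohZ.sectZ F (le_top : U ≤ ⊤) :=
  AddEquiv.ofBijective ((aMap U F).codRestrict _ (aMap_mem U F))
    ⟨fun x y h => aMap_injective U F (congrArg Subtype.val h),
     fun s => by
      obtain ⟨x, hx⟩ := exists_aMap_eq U F s.1 s.2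
      exact ⟨x, Subtype.ext hx⟩⟩

/-- `Γ_Z(X, F) ≃+ Ext⁰(ℤ_X/ℤ_U, F)` -/
noncomputable def e0 (F : CohTop.Ab X) :
    (LocCohZ.gammaZF U).obj F ≃+ (ToposFin.HZFunctor (LocCohZ.openSh U) 0).obj F :=
  (e1 U F).trans ((LocCohZ.sect0Equiv F (le_top : U ≤ ⊤)).symm.trans
    (LocCohZ.HZcEquivHZFunctor F 0 U))

/-- the section of `F` over `⊤` attached to a class in `Ext⁰(ℤ_X/ℤ_U, F)` -/
noncomputable def bMap (F : CohTop.Ab X) (y : (ToposFin.HZFunctor (LocCohZ.openSh U) 0).obj F) :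
    F.obj.obj (op ⊤) :=
  ((LocCohZ.sect0Equiv F (le_top : U ≤ ⊤)) ((LocCohZ.HZcEquivHZFunctor F 0 U).symm y)).1

lemma bMap_e0 (F : CohTop.Ab X) (x : (LocCohZ.gammaZF U).obj F) :
    bMap U F (e0 U F x) = aMap U F x := by
  simp [bMap, e0, e1]

lemma bMap_injective (F : CohTop.Ab X) : Function.Injective (bMap U F) := by
  intro y y' h
  have h' := Subtype.ext h
  exact (LocCohZ.HZcEquivHZFunctor F 0 U).symm.injective
    ((LocCohZ.sect0Equiv F (le_top : U ≤ ⊤)).injective h')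

lemma aMap_naturality {F G : CohTop.Ab X} (φ : F ⟶ G) (x : (LocCohZ.gammaZF U).obj F) :
    aMap U G ((LocCohZ.gammaZF U).map φ x) = φ.hom.app (op ⊤) (aMap U F x) := by
  have h : (LocCohZ.sectSuppF U).map φ ≫ kernel.ι ((adj U).unit.app G) =
      kernel.ι ((adj U).unit.app F) ≫ φ := by
    dsimp [LocCohZ.sectSuppF]
    simp
  have := congrArg (fun κ : (LocCohZ.sectSuppF U).obj F ⟶ G => κ.hom.app (op ⊤) x) h
  exact this

lemma bMap_mk₀ (F : CohTop.Ab X) (f : ToposFin.quotZ (LocCohZ.openSh U) ⟶ F) :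
    bMap U F (Ext.mk₀ f) = CohFree.evalGen (Opens.grothendieckTopology X) ⊤ F
      (cokernel.π (CohCx.freeSheafMap (Opens.grothendieckTopology X) (homOfLE (le_top : U ≤ ⊤))) ≫
        (LocCohZ.zqIsoQuotZ U).hom ≫ f) := by
  change CohFree.evalGen (Opens.grothendieckTopology X) ⊤ F
      (cokernel.π (CohCx.freeSheafMap (Opens.grothendieckTopology X) (homOfLE (le_top : U ≤ ⊤))) ≫
        Ext.addEquiv₀ ((Ext.mk₀ (LocCohZ.zqIsoQuotZ U).hom).comp (Ext.mk₀ f) (zero_add 0))) = _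
  rw [Ext.mk₀_comp_mk₀, ← Ext.addEquiv₀_symm_apply, AddEquiv.apply_symm_apply]

lemma bMap_naturality {F G : CohTop.Ab X} (φ : F ⟶ G)
    (y : (ToposFin.HZFunctor (LocCohZ.openSh U) 0).obj F) :
    bMap U G ((ToposFin.HZFunctor (LocCohZ.openSh U) 0).map φ y) = φ.hom.app (op ⊤) (bMap U F y) := by
  obtain ⟨f, rfl⟩ : ∃ f : ToposFin.quotZ (LocCohZ.openSh U) ⟶ F, Ext.mk₀ f = y :=
    ⟨Ext.addEquiv₀ y, by simp⟩
  have h1 : (ToposFin.HZFunctor (LocCohZ.openSh U) 0).map φ (Ext.mk₀ f) = Ext.mk₀ (f ≫ φ) := by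
    change (Ext.mk₀ f).comp (Ext.mk₀ φ) (add_zero 0) = _
    rw [Ext.mk₀_comp_mk₀]
  rw [h1, bMap_mk₀, bMap_mk₀, ← evalGen_comp]
  simp only [Category.assoc]

/-- `Γ_Z(X, -) ≅ Ext⁰(ℤ_X/ℤ_U, -)` as functors -/
noncomputable def gammaZFIso :
    LocCohZ.gammaZF U ≅ ToposFin.HZFunctor (LocCohZ.openSh U) 0 :=
  NatIso.ofComponents (fun F => (e0 U F).toAddCommGrpIso) (fun {F G} φ => by
    ext x
    apply bMap_injective U G
    change bMap U G (e0 U G ((LocCohZ.gammaZF U).map φ x)) =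
      bMap U G ((ToposFin.HZFunctor (LocCohZ.openSh U) 0).map φ (e0 U F x))
    rw [bMap_naturality, bMap_e0, bMap_e0, aMap_naturality])

theorem nonempty_RHZ_iso (q : ℕ) :
    Nonempty (LocCohZ.RHZ U q ≅ ToposFin.HZFunctor (LocCohZ.openSh U) q) :=
  ExtDelta.nonempty_rightDerived_iso_extFunctorObj (ToposFin.quotZ (LocCohZ.openSh U))
    (LocCohZ.gammaZF U) (gammaZFIso U) q

end Groth.Agent.Lib.Cohomology.RHZ
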