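import Groth.Agent.Lib.Cohomology.Helper3_SheafExact
import Groth.Agent.Lib.Cohomology.Helper3_RDerMV
import Groth.Prelude.Def_CohCx

/-!
# Relative Mayer–Vietoris for higher direct images of abelian sheaves (helper3)
-/

set_option autoImplicit false
universe u
open CategoryTheory Limits Opposite TopologicalSpace

namespace Groth.Agent.Lib.Cohomology.RelMV

variable {X Y : TopCat.{u}} (f : X ⟶ Y) (U V : Opens X)

/-- `F ↦ (f|_U)_* (F|_U)` -/
noncomputable abbrev rp (U : Opens X) : CohTop.Ab X ⥤ CohTop.Ab Y :=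
  CohTop.restrFunctor U ⋙ CohTop.push (CohCx.incl U ≫ f)

/-- the open `U ∩ f⁻¹ W` in the form used by the prelude -/
abbrev OU (U : Opens X) (W : Opens Y) : Opens X :=
  U.isOpenEmbedding.isOpenMap.functor.obj ((Opens.map (CohCx.incl U ≫ f)).obj W)

lemma mem_OU (U : Opens X) (W : Opens Y) (x : X) : x ∈ OU f U W ↔ x ∈ U ∧ f x ∈ W := by
  constructor
  · rintro ⟨y, hy, rfl⟩
    exact ⟨y.2, hy⟩
  · rintro ⟨hx, hf⟩
    exact ⟨⟨x, hx⟩, hf, rfl⟩

lemma OU_le (U : Opens X) (W : Opens Y) : OU f U W ≤ (Opens.map f).obj W :=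
  fun x hx => ((mem_OU f U W x).1 hx).2

lemma OU_mono {U U' : Opens X} (h : U' ≤ U) (W : Opens Y) : OU f U' W ≤ OU f U W :=
  fun x hx => (mem_OU f U W x).2 ⟨h ((mem_OU f U' W x).1 hx).1, ((mem_OU f U' W x).1 hx).2⟩

lemma pushToRestrPush_app (F : CohTop.Ab X) (W : Opens Y)
    (s : F.obj.obj (op ((Opens.map f).obj W))) :
    ((CohCx.pushToRestrPush f U).app F).hom.app (op W) s =
      F.obj.map (homOfLE (OU_le f U W)).op s := rfl

lemma restrPushToRestrPush_app {U U' : Opens X} (h : U' ≤ U) (F : CohTop.Ab X) (W : Opens Y)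
    (s : F.obj.obj (op (OU f U W))) :
    ((CohCx.restrPushToRestrPush f h).app F).hom.app (op W) s =
      F.obj.map (homOfLE (OU_mono f h W)).op s := rfl

lemma res_res (F : CohTop.Ab X) {A B C : Opens X} (h₁ : B ≤ A) (h₂ : C ≤ B)
    (s : F.obj.obj (op A)) :
    F.obj.map (homOfLE h₂).op (F.obj.map (homOfLE h₁).op s) =
      F.obj.map (homOfLE (h₂.trans h₁)).op s := by
  change (F.obj.map (homOfLE h₁).op ≫ F.obj.map (homOfLE h₂).op) s = _
  rw [← F.obj.map_comp]
  rfl

theorem w (F : CohTop.Ab X) :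
    biprod.lift ((CohCx.pushToRestrPush f U).app F) ((CohCx.pushToRestrPush f V).app F) ≫
      biprod.desc ((CohCx.restrPushToRestrPush f (inf_le_left : U ⊓ V ≤ U)).app F)
        (-(CohCx.restrPushToRestrPush f (inf_le_right : U ⊓ V ≤ V)).app F) = 0 := by
  rw [biprod.lift_desc, Preadditive.comp_neg, ← sub_eq_add_neg, sub_eq_zero]
  apply Sheaf.hom_ext
  ext W s
  change ((CohCx.restrPushToRestrPush f _).app F).hom.app W
      (((CohCx.pushToRestrPush f U).app F).hom.app W s) =
    ((CohCx.restrPushToRestrPush f _).app F).hom.app W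
      (((CohCx.pushToRestrPush f V).app F).hom.app W s)
  obtain ⟨W⟩ := W
  rw [pushToRestrPush_app, pushToRestrPush_app, restrPushToRestrPush_app,
    restrPushToRestrPush_app, res_res, res_res]

theorem shortExact_of_flasque (hUV : U ⊔ V = ⊤) (I : CohTop.Ab X) [TopCat.Sheaf.IsFlasque I] :
    (ShortComplex.mk _ _ (w f U V I)).ShortExact := by
  refine shortExact_of_sections _ (fun W => ?_) (fun W x hx => ?_) (fun W t => ?_)
  · -- injectivity
    rw [injective_iff_map_eq_zero]
    intro s hs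
    have h1 := congrArg ((biprod.fst : (rp f U).obj I ⊞ (rp f V).obj I ⟶ _).hom.app (op W)) hs
    have h2 := congrArg ((biprod.snd : (rp f U).obj I ⊞ (rp f V).obj I ⟶ _).hom.app (op W)) hs
    rw [← hom_comp_app, map_zero] at h1 h2
    dsimp only at h1 h2
    rw [biprod.lift_fst, pushToRestrPush_app] at h1
    rw [biprod.lift_snd, pushToRestrPush_app] at h2
    refine TopCat.Sheaf.eq_of_locally_eq₂ (C := AddCommGrpCat.{u}) I (homOfLE (OU_le f U W))
      (homOfLE (OU_le f V W)) ?_ s 0 ?_ ?_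
    · intro x hx
      have : x ∈ U ⊔ V := hUV ▸ Opens.mem_top x
      rcases this with hxU | hxV
      · exact Or.inl ((mem_OU f U W x).2 ⟨hxU, hx⟩)
      · exact Or.inr ((mem_OU f V W x).2 ⟨hxV, hx⟩)
    · rw [map_zero]; exact h1
    · rw [map_zero]; exact h2
  · -- exactness in the middle
    set p := (biprod.fst : (rp f U).obj I ⊞ (rp f V).obj I ⟶ _).hom.app (op W) x with hp
    set q := (biprod.snd : (rp f U).obj I ⊞ (rp f V).obj I ⟶ _).hom.app (op W) x with hq
    have hpq : I.obj.map (homOfLE (OU_mono f (inf_le_left : U ⊓ V ≤ U) W)).op p =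
        I.obj.map (homOfLE (OU_mono f (inf_le_right : U ⊓ V ≤ V) W)).op q := by
      have hg : biprod.desc ((CohCx.restrPushToRestrPush f (inf_le_left : U ⊓ V ≤ U)).app I)
          (-(CohCx.restrPushToRestrPush f (inf_le_right : U ⊓ V ≤ V)).app I) =
          biprod.fst ≫ (CohCx.restrPushToRestrPush f (inf_le_left : U ⊓ V ≤ U)).app I +
            biprod.snd ≫ (-(CohCx.restrPushToRestrPush f (inf_le_right : U ⊓ V ≤ V)).app I) :=
        biprod.desc_eq
      have hx0 : (biprod.desc ((CohCx.restrPushToRestrPush f (inf_le_left : U ⊓ V ≤ U)).app I)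
          (-(CohCx.restrPushToRestrPush f (inf_le_right : U ⊓ V ≤ V)).app I)).hom.app (op W) x = 0 := hx
      rw [hg] at hx0
      have hx' : ((CohCx.restrPushToRestrPush f (inf_le_left : U ⊓ V ≤ U)).app I).hom.app (op W) p +
          -(((CohCx.restrPushToRestrPush f (inf_le_right : U ⊓ V ≤ V)).app I).hom.app (op W) q) = 0 := hx0
      rw [restrPushToRestrPush_app, restrPushToRestrPush_app, ← sub_eq_add_neg, sub_eq_zero] at hx'
      exact hx'
    obtain ⟨s, hs1, hs2⟩ := glue₂ I (homOfLE (OU_le f U W)) (homOfLE (OU_le f V W))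
      (homOfLE (OU_mono f (inf_le_left : U ⊓ V ≤ U) W))
      (homOfLE (OU_mono f (inf_le_right : U ⊓ V ≤ V) W))
      (fun y hy => (mem_OU f (U ⊓ V) W y).2
        ⟨⟨((mem_OU f U W y).1 hy.1).1, ((mem_OU f V W y).1 hy.2).1⟩, ((mem_OU f U W y).1 hy.1).2⟩)
      (by
        intro y hy
        have : y ∈ U ⊔ V := hUV ▸ Opens.mem_top y
        rcases this with hxU | hxV
        · exact Or.inl ((mem_OU f U W y).2 ⟨hxU, hy⟩)
        · exact Or.inr ((mem_OU f V W y).2 ⟨hxV, hy⟩)) p q hpq
    refine ⟨s, biprod_sections_ext W _ _ ?_ ?_⟩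
    · rw [← hom_comp_app]
      dsimp only
      rw [biprod.lift_fst, pushToRestrPush_app]
      exact hs1
    · rw [← hom_comp_app]
      dsimp only
      rw [biprod.lift_snd, pushToRestrPush_app]
      exact hs2
  · -- surjectivity
    have hepi := TopCat.Presheaf.IsFlasque.epi (F := I.obj)
      (homOfLE (OU_mono f (inf_le_left : U ⊓ V ≤ U) W)).op
    rw [AddCommGrpCat.epi_iff_surjective] at hepi
    obtain ⟨p, hp⟩ := hepi t
    refine ⟨(biprod.inl : (rp f U).obj I ⟶ (rp f U).obj I ⊞ (rp f V).obj I).hom.app (op W) p, ?_⟩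
    have h1 : (biprod.inl : (rp f U).obj I ⟶ (rp f U).obj I ⊞ (rp f V).obj I) ≫
        biprod.desc ((CohCx.restrPushToRestrPush f (inf_le_left : U ⊓ V ≤ U)).app I)
          (-(CohCx.restrPushToRestrPush f (inf_le_right : U ⊓ V ≤ V)).app I) =
        (CohCx.restrPushToRestrPush f (inf_le_left : U ⊓ V ≤ U)).app I := biprod.inl_desc _ _
    have h2 := congrArg (fun φ => φ.hom.app (op W) p) h1
    exact h2.trans hp

end Groth.Agent.Lib.Cohomology.RelMV
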