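import Groth.Agent.Lib.Cohomology.Helper3_CardConstr
import Mathlib.CategoryTheory.CofilteredSystem
import Mathlib.AlgebraicGeometry.Morphisms.FlatMono

/-!
# Specialization morphisms between geometric points of the small étale site (helper3)

Given geometric points `ζ` ("generic") and `ū` ("special") of a quasi-separated scheme `T`, an étale
`T`-scheme `U` with lifts `xU` of `ζ` and `y` of `ū` such that the point of `xU` specializes to the
point of `y`, we construct a morphism of points `pointSmallEtale ζ ⟶ pointSmallEtale ū` sending `y`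
to `xU` (compactness argument: a cofiltered limit of nonempty finite sets is nonempty).
-/

set_option autoImplicit false
universe u
open CategoryTheory CategoryTheory.Limits Opposite AlgebraicGeometry Topology TopologicalSpace

namespace Groth.Agent.Lib.Cohomology.SpecPt

open Groth.Agent.Lib.Cohomology.LocConst Groth.Agent.Lib.Cohomology.EtExc
open Groth.Agent.Lib.Cohomology.SubConst Groth.Agent.Lib.Cohomology.CardConstr

variable {T : Scheme.{u}}

section Basic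

variable {Ω : Type u} [Field Ω] [IsSepClosed Ω] (ζ : Spec (CommRingCat.of Ω) ⟶ T)

lemma fiberHom_w {W : T.Etale} (x : (Scheme.pointSmallEtale ζ).fiber.obj W) :
    fiberHom ζ x ≫ W.hom = ζ := Over.w x

/-- constructor for elements of the fibre functor -/
noncomputable def mkFiber {W : T.Etale} (l : Spec (CommRingCat.of Ω) ⟶ W.left)
    (hl : l ≫ W.hom = ζ) : (Scheme.pointSmallEtale ζ).fiber.obj W := Over.homMk l hl

lemma fiberHom_mkFiber {W : T.Etale} (l : Spec (CommRingCat.of Ω) ⟶ W.left)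
    (hl : l ≫ W.hom = ζ) : fiberHom ζ (mkFiber ζ l hl) = l := rfl

lemma fiberHom_map {W W' : T.Etale} (f : W ⟶ W') (x : (Scheme.pointSmallEtale ζ).fiber.obj W) :
    fiberHom ζ ((Scheme.pointSmallEtale ζ).fiber.map f x) = fiberHom ζ x ≫ f.left := rfl

lemma fiber_ext {W : T.Etale} (x x' : (Scheme.pointSmallEtale ζ).fiber.obj W)
    (h : fiberHom ζ x = fiberHom ζ x') : x = x' := Over.OverMorphism.ext h

set_option backward.isDefEq.respectTransparency.types false in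
/-- the fibre functor of a geometric point takes finite values on quasi-compact étale schemes. -/
theorem finite_fiber (W : T.Etale) [QuasiCompact W.hom] :
    Finite ((Scheme.pointSmallEtale ζ).fiber.obj W) := by
  let π : pullback W.hom ζ ⟶ Spec (CommRingCat.of Ω) := pullback.snd W.hom ζ
  haveI : Etale π := inferInstance
  haveI : QuasiCompact π := inferInstance
  haveI := locallyQuasiFinite_of_etale π
  haveI hfinP : Finite ↥(pullback W.hom ζ) := by
    have h := π.finite_preimage_singleton default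
    have hu : (π ⁻¹' {default} : Set ↥(pullback W.hom ζ)) = Set.univ := by
      ext p
      simp only [Set.mem_preimage, Set.mem_singleton_iff, Set.mem_univ, iff_true]
      exact Subsingleton.elim _ _
    rw [hu] at h
    exact Set.finite_univ_iff.1 h
  let sec : (Scheme.pointSmallEtale ζ).fiber.obj W → (Spec (CommRingCat.of Ω) ⟶ pullback W.hom ζ) :=
    fun x => pullback.lift (fiberHom ζ x) (𝟙 _) (by rw [Category.id_comp]; exact fiberHom_w ζ x)
  have hsec : ∀ x, sec x ≫ π = 𝟙 _ := fun x => pullback.lift_snd _ _ _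
  have hsec1 : ∀ x, sec x ≫ pullback.fst W.hom ζ = fiberHom ζ x := fun x => pullback.lift_fst _ _ _
  have hopen : ∀ x, IsOpenImmersion (sec x) := by
    intro x
    haveI : Mono (sec x) := mono_of_mono_fac (hsec x)
    haveI : Etale (sec x ≫ π) := by rw [hsec x]; infer_instance
    haveI : Etale (sec x) := Etale.of_comp (sec x) π
    exact IsOpenImmersion.of_flat_of_mono (sec x)
  apply Finite.of_injective (fun x => (sec x).base default)
  intro x x' hxx
  haveI := hopen x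
  haveI := hopen x'
  have hrange : Set.range (sec x) ⊆ Set.range (sec x') := by
    rintro _ ⟨a, rfl⟩
    exact ⟨default, by rw [Subsingleton.elim a default]; exact hxx.symm⟩
  have he : IsOpenImmersion.lift (sec x') (sec x) hrange ≫ sec x' = sec x :=
    IsOpenImmersion.lift_fac _ _ _
  have he1 : IsOpenImmersion.lift (sec x') (sec x) hrange = 𝟙 _ := by
    have h1 := congrArg (fun q => q ≫ π) he
    simp only [Category.assoc] at h1
    rw [hsec x', hsec x, Category.comp_id] at h1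
    exact h1
  rw [he1, Category.id_comp] at he
  apply fiber_ext
  rw [← hsec1 x, ← hsec1 x', he]

set_option backward.isDefEq.respectTransparency.types false in
/-- quasi-compact refinements of étale neighbourhoods of a geometric point. -/
theorem exists_qc_refine [QuasiSeparatedSpace T] (W : T.Etale)
    (w : (Scheme.pointSmallEtale ζ).fiber.obj W) :
    ∃ (W' : T.Etale) (j : W' ⟶ W) (w' : (Scheme.pointSmallEtale ζ).fiber.obj W'),
      (Scheme.pointSmallEtale ζ).fiber.map j w' = w ∧ QuasiCompact W'.hom := by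
  let l₁ : Spec (CommRingCat.of Ω) ⟶ W.left := fiberHom ζ w
  have hl₁ : l₁ ≫ W.hom = ζ := fiberHom_w ζ w
  obtain ⟨_, ⟨A₀', hA₀', rfl⟩, hu₀A', -⟩ := W.left.isBasis_affineOpens.exists_subset_of_mem_open
    (Set.mem_univ (l₁.base default)) isOpen_univ
  obtain ⟨A, hA, hlA⟩ : ∃ A : W.left.Opens, IsAffineOpen A ∧ l₁.base default ∈ A :=
    ⟨A₀', hA₀', hu₀A'⟩
  haveI : IsAffine A.toScheme := hA
  let W' : T.Etale := Scheme.Etale.mk (A.ι ≫ W.hom)
  let j : W' ⟶ W := MorphismProperty.Over.homMk A.ι rfl trivial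
  have hrange : Set.range l₁ ⊆ Set.range A.ι := by
    rintro _ ⟨a, rfl⟩
    rw [Subsingleton.elim a default, Scheme.Opens.range_ι]
    exact hlA
  let l : Spec (CommRingCat.of Ω) ⟶ A.toScheme := IsOpenImmersion.lift A.ι l₁ hrange
  have hl : l ≫ A.ι = l₁ := IsOpenImmersion.lift_fac _ _ _
  refine ⟨W', j, mkFiber ζ l (by
    change l ≫ A.ι ≫ W.hom = ζ
    rw [← Category.assoc, hl, hl₁]), fiber_ext ζ _ _ hl, ?_⟩
  change QuasiCompact (A.ι ≫ W.hom)
  exact quasiCompact_of_compactSpace (X := A.toScheme) (Y := T) (A.ι ≫ W.hom)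

end Basic

section Construction

variable {Ω Ω' : Type u} [Field Ω] [IsSepClosed Ω] [Field Ω'] [IsSepClosed Ω']
  (ζ : Spec (CommRingCat.of Ω) ⟶ T) (ū : Spec (CommRingCat.of Ω') ⟶ T)
  (U : T.Etale) (xU : (Scheme.pointSmallEtale ζ).fiber.obj U)
  (y : (Scheme.pointSmallEtale ū).fiber.obj U)

/-- quasi-compact étale neighbourhoods of `ū` over `(U, y)`. -/
structure Nbhd where
  W : T.Etale
  w : (Scheme.pointSmallEtale ū).fiber.obj W
  k : W ⟶ U
  hk : (Scheme.pointSmallEtale ū).fiber.map k w = y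
  qc : QuasiCompact W.hom

variable {ū U y}

/-- morphisms of neighbourhoods. -/
@[ext]
structure Nbhd.Hom (o₁ o₂ : Nbhd ū U y) where
  f : o₁.W ⟶ o₂.W
  hw : (Scheme.pointSmallEtale ū).fiber.map f o₁.w = o₂.w
  hk : f ≫ o₂.k = o₁.k

instance : Category (Nbhd ū U y) where
  Hom := Nbhd.Hom
  id o := ⟨𝟙 _, by rw [FunctorToTypes.map_id_apply], Category.id_comp _⟩
  comp a b := ⟨a.f ≫ b.f, by rw [FunctorToTypes.map_comp_apply, a.hw, b.hw],
    by rw [Category.assoc, b.hk, a.hk]⟩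
  id_comp a := Nbhd.Hom.ext (Category.id_comp _)
  comp_id a := Nbhd.Hom.ext (Category.comp_id _)
  assoc a b c := Nbhd.Hom.ext (Category.assoc _ _ _)

lemma Nbhd.comp_f {o₁ o₂ o₃ : Nbhd ū U y} (a : o₁ ⟶ o₂) (b : o₂ ⟶ o₃) :
    (a ≫ b).f = a.f ≫ b.f := rfl

/-- a neighbourhood from an element refining `(U, y)`, after quasi-compact refinement. -/
lemma exists_nbhd [QuasiSeparatedSpace T] (W : T.Etale)
    (w : (Scheme.pointSmallEtale ū).fiber.obj W) (k : W ⟶ U)
    (hk : (Scheme.pointSmallEtale ū).fiber.map k w = y) :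
    ∃ (o : Nbhd ū U y) (j : o.W ⟶ W), (Scheme.pointSmallEtale ū).fiber.map j o.w = w ∧
      j ≫ k = o.k := by
  obtain ⟨W', j, w', hw', hqc⟩ := exists_qc_refine ū W w
  exact ⟨⟨W', w', j ≫ k, by rw [FunctorToTypes.map_comp_apply, hw', hk], hqc⟩, j, hw', rfl⟩

instance [QuasiSeparatedSpace T] : IsCofilteredOrEmpty (Nbhd ū U y) where
  cone_objs o₁ o₂ := by
    let Ψ := (Scheme.pointSmallEtale ū).fiber
    let e₀ : Ψ.Elements := ⟨U, y⟩
    let e₁ : Ψ.Elements := ⟨o₁.W, o₁.w⟩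
    let e₂ : Ψ.Elements := ⟨o₂.W, o₂.w⟩
    let m := IsCofiltered.min e₁ e₂
    let p₁ : m ⟶ e₁ := IsCofiltered.minToLeft e₁ e₂
    let p₂ : m ⟶ e₂ := IsCofiltered.minToRight e₁ e₂
    let k₁ : e₁ ⟶ e₀ := ⟨o₁.k, o₁.hk⟩
    let k₂ : e₂ ⟶ e₀ := ⟨o₂.k, o₂.hk⟩
    let q : IsCofiltered.eq (p₁ ≫ k₁) (p₂ ≫ k₂) ⟶ m := IsCofiltered.eqHom (p₁ ≫ k₁) (p₂ ≫ k₂)
    have hq : q ≫ p₁ ≫ k₁ = q ≫ p₂ ≫ k₂ := IsCofiltered.eq_condition (p₁ ≫ k₁) (p₂ ≫ k₂)
    have hq' : q.1 ≫ p₁.1 ≫ o₁.k = q.1 ≫ p₂.1 ≫ o₂.k := congrArg Subtype.val hq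
    obtain ⟨o, j, hj, hjk⟩ := exists_nbhd (IsCofiltered.eq (p₁ ≫ k₁) (p₂ ≫ k₂)).1
      (IsCofiltered.eq (p₁ ≫ k₁) (p₂ ≫ k₂)).2 (q.1 ≫ p₁.1 ≫ o₁.k) (q ≫ p₁ ≫ k₁).2
    refine ⟨o, ⟨j ≫ q.1 ≫ p₁.1, ?_, ?_⟩, ⟨j ≫ q.1 ≫ p₂.1, ?_, ?_⟩, trivial⟩
    · rw [FunctorToTypes.map_comp_apply, hj]
      exact (q ≫ p₁).2
    · rw [← hjk, Category.assoc, Category.assoc]
    · rw [FunctorToTypes.map_comp_apply, hj]
      exact (q ≫ p₂).2
    · rw [← hjk, Category.assoc, Category.assoc, hq']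
  cone_maps {o₁ o₂} a b := by
    let Ψ := (Scheme.pointSmallEtale ū).fiber
    let e₁ : Ψ.Elements := ⟨o₁.W, o₁.w⟩
    let e₂ : Ψ.Elements := ⟨o₂.W, o₂.w⟩
    let a' : e₁ ⟶ e₂ := ⟨a.f, a.hw⟩
    let b' : e₁ ⟶ e₂ := ⟨b.f, b.hw⟩
    let q : IsCofiltered.eq a' b' ⟶ e₁ := IsCofiltered.eqHom a' b'
    have hq : q ≫ a' = q ≫ b' := IsCofiltered.eq_condition a' b'
    have hq' : q.1 ≫ a.f = q.1 ≫ b.f := congrArg Subtype.val hq
    have hqk : (Scheme.pointSmallEtale ū).fiber.map (q.1 ≫ o₁.k) (IsCofiltered.eq a' b').2 = y := by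
      rw [FunctorToTypes.map_comp_apply, q.2]; exact o₁.hk
    obtain ⟨o, j, hj, hjk⟩ := exists_nbhd (y := y) (IsCofiltered.eq a' b').1
      (IsCofiltered.eq a' b').2 (q.1 ≫ o₁.k) hqk
    refine ⟨o, ⟨j ≫ q.1, ?_, ?_⟩, ?_⟩
    · rw [FunctorToTypes.map_comp_apply, hj]
      exact q.2
    · rw [← hjk, Category.assoc]
    · apply Nbhd.Hom.ext
      change (j ≫ q.1) ≫ a.f = (j ≫ q.1) ≫ b.f
      rw [Category.assoc, Category.assoc, hq']

/-- the system of lifts of `ζ` compatible with `xU`. -/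
noncomputable def liftSystem : Nbhd ū U y ⥤ Type u where
  obj o := {z : (Scheme.pointSmallEtale ζ).fiber.obj o.W //
    (Scheme.pointSmallEtale ζ).fiber.map o.k z = xU}
  map {o₁ o₂} a := TypeCat.ofHom (fun z => ⟨(Scheme.pointSmallEtale ζ).fiber.map a.f z.1, by
    rw [← FunctorToTypes.map_comp_apply, a.hk]; exact z.2⟩)
  map_id o := by
    ext z
    exact FunctorToTypes.map_id_apply _ _
  map_comp a b := by
    ext z
    exact FunctorToTypes.map_comp_apply _ _ _ _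

variable (H : ∀ (W : T.Etale) (h : W ⟶ U) (w : (Scheme.pointSmallEtale ū).fiber.obj W),
    (Scheme.pointSmallEtale ū).fiber.map h w = y →
    ∃ z : (Scheme.pointSmallEtale ζ).fiber.obj W, (Scheme.pointSmallEtale ζ).fiber.map h z = xU)

include H in
set_option backward.isDefEq.respectTransparency.types false in
/-- existence of a morphism of points with prescribed value at `(U, y)`. -/
theorem exists_point_hom [QuasiSeparatedSpace T] :
    ∃ φ : Scheme.pointSmallEtale ζ ⟶ Scheme.pointSmallEtale ū, φ.hom.app U y = xU := by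
  classical
  let Ψ := (Scheme.pointSmallEtale ū).fiber
  let Θ := (Scheme.pointSmallEtale ζ).fiber
  haveI : ∀ o : Nbhd ū U y, Finite ((liftSystem ζ xU).obj o) := fun o => by
    haveI := o.qc
    haveI := finite_fiber ζ o.W
    exact Subtype.finite
  haveI : ∀ o : Nbhd ū U y, Nonempty ((liftSystem ζ xU).obj o) := fun o => by
    obtain ⟨z, hz⟩ := H o.W o.k o.w o.hk
    exact ⟨⟨z, hz⟩⟩
  obtain ⟨sct, hsct⟩ := nonempty_sections_of_finite_cofiltered_system (liftSystem ζ xU (ū := ū) (U := U) (y := y))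
  have hs : ∀ {o₁ o₂ : Nbhd ū U y} (a : o₁ ⟶ o₂), Θ.map a.f (sct o₁).1 = (sct o₂).1 :=
    fun a => congrArg Subtype.val (hsct a)
  -- the relation defining the natural transformation
  let R : ∀ (W : T.Etale), Ψ.obj W → Θ.obj W → Prop := fun W w z =>
    ∃ (o : Nbhd ū U y) (p : o.W ⟶ W), Ψ.map p o.w = w ∧ z = Θ.map p (sct o).1
  have hRex : ∀ (W : T.Etale) (w : Ψ.obj W), ∃ z, R W w z := by
    intro W w
    let e₀ : Ψ.Elements := ⟨U, y⟩
    let e : Ψ.Elements := ⟨W, w⟩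
    let m := IsCofiltered.min e e₀
    let p₁ : m ⟶ e := IsCofiltered.minToLeft e e₀
    let p₂ : m ⟶ e₀ := IsCofiltered.minToRight e e₀
    obtain ⟨o, j, hj, -⟩ := exists_nbhd m.1 m.2 p₂.1 p₂.2
    exact ⟨_, o, j ≫ p₁.1, by rw [FunctorToTypes.map_comp_apply, hj]; exact p₁.2, rfl⟩
  have hRuniq : ∀ (W : T.Etale) (w : Ψ.obj W) (z z' : Θ.obj W), R W w z → R W w z' → z = z' := by
    rintro W w z z' ⟨o₁, p₁, hp₁, rfl⟩ ⟨o₂, p₂, hp₂, rfl⟩
    obtain ⟨o₃, r₁, r₂, -⟩ := IsCofilteredOrEmpty.cone_objs o₁ o₂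
    let e : Ψ.Elements := ⟨W, w⟩
    let e₃ : Ψ.Elements := ⟨o₃.W, o₃.w⟩
    let a' : e₃ ⟶ e := ⟨r₁.f ≫ p₁, by rw [FunctorToTypes.map_comp_apply, r₁.hw, hp₁]⟩
    let b' : e₃ ⟶ e := ⟨r₂.f ≫ p₂, by rw [FunctorToTypes.map_comp_apply, r₂.hw, hp₂]⟩
    let q : IsCofiltered.eq a' b' ⟶ e₃ := IsCofiltered.eqHom a' b'
    have hq : q ≫ a' = q ≫ b' := IsCofiltered.eq_condition a' b'
    have hq' : q.1 ≫ r₁.f ≫ p₁ = q.1 ≫ r₂.f ≫ p₂ := congrArg Subtype.val hq
    have hqk : Ψ.map (q.1 ≫ o₃.k) (IsCofiltered.eq a' b').2 = y := by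
      rw [FunctorToTypes.map_comp_apply, q.2]; exact o₃.hk
    obtain ⟨o₄, j, hj, hjk⟩ := exists_nbhd (y := y) (IsCofiltered.eq a' b').1
      (IsCofiltered.eq a' b').2 (q.1 ≫ o₃.k) hqk
    let r₄ : o₄ ⟶ o₃ := ⟨j ≫ q.1, by rw [FunctorToTypes.map_comp_apply, hj]; exact q.2,
      by rw [← hjk, Category.assoc]⟩
    have h1 : Θ.map p₁ (sct o₁).1 = Θ.map (r₄.f ≫ r₁.f ≫ p₁) (sct o₄).1 := by
      rw [FunctorToTypes.map_comp_apply, FunctorToTypes.map_comp_apply, hs r₄, hs r₁]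
    have h2 : Θ.map p₂ (sct o₂).1 = Θ.map (r₄.f ≫ r₂.f ≫ p₂) (sct o₄).1 := by
      rw [FunctorToTypes.map_comp_apply, FunctorToTypes.map_comp_apply, hs r₄, hs r₂]
    have h3 : r₄.f ≫ r₁.f ≫ p₁ = r₄.f ≫ r₂.f ≫ p₂ := by
      change (j ≫ q.1) ≫ _ = (j ≫ q.1) ≫ _
      rw [Category.assoc, Category.assoc, hq']
    rw [h1, h2, h3]
  have hRmap : ∀ {W W' : T.Etale} (f : W ⟶ W') (w : Ψ.obj W) (z : Θ.obj W), R W w z →
      R W' (Ψ.map f w) (Θ.map f z) := by
    rintro W W' f w z ⟨o, p, hp, rfl⟩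
    exact ⟨o, p ≫ f, by rw [FunctorToTypes.map_comp_apply, hp],
      by rw [FunctorToTypes.map_comp_apply]⟩
  choose τ hτ using hRex
  let φ : Scheme.pointSmallEtale ζ ⟶ Scheme.pointSmallEtale ū :=
    ⟨{ app := fun W => TypeCat.ofHom (τ W)
       naturality := by
        intro W W' f
        ext w
        exact hRuniq W' (Ψ.map f w) _ _ (hτ W' (Ψ.map f w)) (hRmap f w _ (hτ W w)) }⟩
  refine ⟨φ, ?_⟩
  change τ U y = xU
  apply hRuniq U y _ _ (hτ U y)
  obtain ⟨o, j, hj, hjk⟩ := exists_nbhd U y (𝟙 U) (by rw [FunctorToTypes.map_id_apply])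
  exact ⟨o, o.k, o.hk, (sct o).2.symm⟩

end Construction

end Groth.Agent.Lib.Cohomology.SpecPt
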