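import Groth.Agent.Lib.Cohomology.Helper3_SpecPt

/-!
# Specialization morphisms of points: applications (helper3)
-/

set_option autoImplicit false
universe u
open CategoryTheory CategoryTheory.Limits Opposite AlgebraicGeometry Topology TopologicalSpace

namespace Groth.Agent.Lib.Cohomology.SpecPt

open Groth.Agent.Lib.Cohomology.LocConst Groth.Agent.Lib.Cohomology.EtExc
open Groth.Agent.Lib.Cohomology.SubConst Groth.Agent.Lib.Cohomology.CardConstr
open Groth.Agent.Lib.Helper70.StalkCons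

variable {T : Scheme.{u}}

section Specializes

variable {Ω Ω' : Type u} [Field Ω] [IsSepClosed Ω] [Field Ω'] [IsSepClosed Ω']
  (ζ : Spec (CommRingCat.of Ω) ⟶ T) (ū : Spec (CommRingCat.of Ω') ⟶ T)
  (U : T.Etale) (xU : (Scheme.pointSmallEtale ζ).fiber.obj U)
  (y : (Scheme.pointSmallEtale ū).fiber.obj U)

set_option backward.isDefEq.respectTransparency.types false in
/-- a specialization of the underlying points of lifts to `U` yields a morphism of points. -/
theorem exists_point_hom_of_specializes [QuasiSeparatedSpace T]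
    (hsp : (fiberHom ζ xU).base default ⤳ (fiberHom ū y).base default) :
    ∃ φ : Scheme.pointSmallEtale ζ ⟶ Scheme.pointSmallEtale ū, φ.hom.app U y = xU := by
  apply exists_point_hom
  intro W h w hw
  have hopen : IsOpen (Set.range h.left.base) := (isOpenMap_of_etale h.left).isOpen_range
  have hy : (fiberHom ū y).base default ∈ Set.range h.left.base := by
    refine ⟨(fiberHom ū w).base default, ?_⟩
    rw [← hw]
    rfl
  obtain ⟨w₀, hw₀⟩ := hsp.mem_open hopen hy
  obtain ⟨l, hl1, -⟩ := Scheme.exists_fac_of_etale_of_isSepClosed h.left (fiberHom ζ xU) w₀ hw₀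
  have h1 : h.left ≫ U.hom = W.hom := Over.w h.hom
  refine ⟨mkFiber ζ l ?_, fiber_ext ζ _ _ hl1⟩
  rw [← h1, ← Category.assoc, hl1]
  exact fiberHom_w ζ xU

end Specializes

section Germ

variable {Ω Ω' : Type u} [Field Ω] [IsSepClosed Ω] [Field Ω'] [IsSepClosed Ω']
  {ξ : Spec (CommRingCat.of Ω) ⟶ T} {ξ' : Spec (CommRingCat.of Ω') ⟶ T}

set_option backward.isDefEq.respectTransparency.types false in
/-- the specialization map on germs. -/
theorem sheafFiber_germ (φ : Scheme.pointSmallEtale ξ' ⟶ Scheme.pointSmallEtale ξ)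
    (F : EtCoh.Ab T) (W : T.Etale) (w : (Scheme.pointSmallEtale ξ).fiber.obj W)
    (s : F.obj.obj (op W)) :
    ((GrothendieckTopology.Point.Hom.sheafFiber (A := AddCommGrpCat.{u + 1}) φ).app F).hom
      (germ ξ F W w s) = germ ξ' F W (φ.hom.app W w) s := by
  have h : (Scheme.pointSmallEtale ξ).toPresheafFiber W w F.obj ≫
      (GrothendieckTopology.Point.Hom.presheafFiber (A := AddCommGrpCat.{u + 1}) φ).app F.obj =
      (Scheme.pointSmallEtale ξ').toPresheafFiber W (φ.hom.app W w) F.obj := by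
    rw [GrothendieckTopology.Point.Hom.presheafFiber_app]
    exact GrothendieckTopology.Point.toPresheafFiber_presheafFiberDesc (A := AddCommGrpCat.{u + 1})
      (Scheme.pointSmallEtale ξ) (P := F.obj) _ _ W w
  exact ConcreteCategory.congr_hom h s

end Germ

section Top

/-- in a Noetherian quasi-sober space every point has an open neighbourhood all of whose points
have a common generization with it inside the neighbourhood. -/
lemma exists_open_common_generization {Y : Type*} [TopologicalSpace Y] [NoetherianSpace Y]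
    [QuasiSober Y] (a₀ : Y) :
    ∃ V : Set Y, IsOpen V ∧ a₀ ∈ V ∧ ∀ v ∈ V, ∃ c ∈ V, c ⤳ a₀ ∧ c ⤳ v := by
  classical
  obtain ⟨S, hSirr, hS⟩ := NoetherianSpace.exists_finset_irreducible (⊤ : Closeds Y)
  have hVdef : ∀ y : Y, y ∈ (⋃ Z' ∈ S.filter (fun Z : Closeds Y => a₀ ∉ (Z : Set Y)),
      (Z' : Set Y))ᶜ ↔ ∀ Z ∈ S, y ∈ (Z : Set Y) → a₀ ∈ (Z : Set Y) := by
    intro y
    constructor
    · intro h Z hZ hy
      by_contra ha
      exact h (Set.mem_iUnion₂.2 ⟨Z, Finset.mem_filter.2 ⟨hZ, ha⟩, hy⟩)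
    · intro h hmem
      obtain ⟨Z, hZ, hy⟩ := Set.mem_iUnion₂.1 hmem
      exact (Finset.mem_filter.1 hZ).2 (h Z (Finset.mem_filter.1 hZ).1 hy)
  refine ⟨(⋃ Z' ∈ S.filter (fun Z : Closeds Y => a₀ ∉ (Z : Set Y)), (Z' : Set Y))ᶜ, ?_, ?_, ?_⟩
  · refine IsClosed.isOpen_compl (self := ?_)
    exact Set.Finite.isClosed_biUnion (Finset.finite_toSet _) (fun Z' _ => Z'.isClosed)
  · rw [hVdef]
    intro Z _ h
    exact h
  · intro v hv
    rw [hVdef] at hv
    have hvC : v ∈ ((S.sup id : Closeds Y) : Set Y) := by rw [← hS]; trivial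
    rw [Closeds.coe_finset_sup, Finset.sup_set_eq_biUnion] at hvC
    obtain ⟨Z, hZS, hvZ⟩ := Set.mem_iUnion₂.1 hvC
    have ha : a₀ ∈ (Z : Set Y) := hv Z hZS hvZ
    have hZirr : IsIrreducible (Z : Set Y) := hSirr ⟨Z, hZS⟩
    have hgen := hZirr.isGenericPoint_genericPoint Z.isClosed
    have hcl : closure {hZirr.genericPoint} = (Z : Set Y) := hgen.def
    refine ⟨hZirr.genericPoint, ?_, ?_, ?_⟩
    · rw [hVdef]
      intro Z' _ hc
      have hsub : (Z : Set Y) ⊆ (Z' : Set Y) := by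
        rw [← hcl]
        exact closure_minimal (Set.singleton_subset_iff.2 hc) Z'.isClosed
      exact hsub ha
    · rw [specializes_iff_mem_closure, hcl]; exact ha
    · rw [specializes_iff_mem_closure, hcl]; exact hvZ

/-- scheme version. -/
theorem exists_opens_common_generization (A : Scheme.{u}) [IsLocallyNoetherian A] (u₀ : A) :
    ∃ U' : A.Opens, u₀ ∈ U' ∧ ∀ v ∈ U', ∃ c ∈ U', c ⤳ u₀ ∧ c ⤳ v := by
  obtain ⟨_, ⟨A₀', hA₀', rfl⟩, hu₀A', -⟩ := A.isBasis_affineOpens.exists_subset_of_mem_open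
    (Set.mem_univ u₀) isOpen_univ
  obtain ⟨A₀, hA₀, hu₀A⟩ : ∃ A₀ : A.Opens, IsAffineOpen A₀ ∧ u₀ ∈ A₀ := ⟨A₀', hA₀', hu₀A'⟩
  haveI : IsAffine A₀.toScheme := hA₀
  haveI : IsNoetherian A₀.toScheme := { }
  let a₀ : A₀.toScheme := ⟨u₀, hu₀A⟩
  obtain ⟨V, hV, ha₀V, hVc⟩ := exists_open_common_generization a₀
  refine ⟨A₀.ι ''ᵁ ⟨V, hV⟩, ⟨a₀, ha₀V, rfl⟩, ?_⟩
  rintro _ ⟨v, hv, rfl⟩
  obtain ⟨c, hcV, hc1, hc2⟩ := hVc v hv
  exact ⟨A₀.ι c, ⟨c, hcV, rfl⟩, hc1.map A₀.ι.continuous, hc2.map A₀.ι.continuous⟩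

end Top

end Groth.Agent.Lib.Cohomology.SpecPt
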