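import Groth.Agent.Lib.Cohomology.Helper3_SpecPt2

/-!
# Trivializing a sheaf from bijectivity of germ maps (helper3)
-/

set_option autoImplicit false
universe u
open CategoryTheory CategoryTheory.Limits Opposite AlgebraicGeometry Topology TopologicalSpace

namespace Groth.Agent.Lib.Cohomology.SpecPt

open Groth.Agent.Lib.Cohomology.LocConst Groth.Agent.Lib.Cohomology.EtExc
open Groth.Agent.Lib.Cohomology.SubConst Groth.Agent.Lib.Cohomology.CardConstr
open Groth.Agent.Lib.Helper70.StalkCons

variable {T : Scheme.{u}}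

set_option backward.isDefEq.respectTransparency.types false in
/-- if `σ : M ⟶ G(U)` induces bijections on germs at (some geometric point over) every point of
`U`, then `G` is constant with value `M` over `U`. -/
theorem nonempty_triv_of_germ_bijective (G : EtCoh.Ab T) (U : T.Etale)
    (M : AddCommGrpCat.{u + 1}) (σ : M ⟶ G.obj.obj (op U))
    (hbij : ∀ u : U.left, ∃ (Ω' : Type u) (_ : Field Ω') (_ : IsSepClosed Ω')
      (ū : Spec (CommRingCat.of Ω') ⟶ T) (y : (Scheme.pointSmallEtale ū).fiber.obj U),
      (fiberHom ū y).base default = u ∧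
        Function.Bijective (fun m : M => germ ū G U y (σ.hom m))) :
    Nonempty (G.over U ≅ (cS T.smallEtaleTopology U).obj M) := by
  classical
  -- lifting the chosen geometric points to étale `U`-schemes
  have hlift : ∀ (V : T.Etale) (k : V ⟶ U) (v : V.left),
      ∃ (Ω' : Type u) (_ : Field Ω') (_ : IsSepClosed Ω') (ū : Spec (CommRingCat.of Ω') ⟶ T)
        (xV : (Scheme.pointSmallEtale ū).fiber.obj V), (fiberHom ū xV).base default = v ∧
        Function.Bijective (fun m : M => germ ū G V xV ((G.obj.map k.op).hom (σ.hom m))) := by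
    intro V k v
    obtain ⟨Ω', _, _, ū, y, hy, hb⟩ := hbij (k.left.base v)
    obtain ⟨l, hl1, hl2⟩ :=
      Scheme.exists_fac_of_etale_of_isSepClosed k.left (fiberHom ū y) v hy.symm
    have h1 : k.left ≫ U.hom = V.hom := Over.w k.hom
    let xV : (Scheme.pointSmallEtale ū).fiber.obj V := mkFiber ū l (by
      rw [← h1, ← Category.assoc, hl1]
      exact fiberHom_w ū y)
    have hxV : (Scheme.pointSmallEtale ū).fiber.map k xV = y := fiber_ext ū _ _ hl1
    refine ⟨Ω', inferInstance, inferInstance, ū, xV, hl2, ?_⟩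
    have e : (fun m : M => germ ū G V xV ((G.obj.map k.op).hom (σ.hom m))) =
        (fun m : M => germ ū G U y (σ.hom m)) := by
      funext m
      rw [germ_map, hxV]
    rw [e]
    exact hb
  have hinjV : ∀ (V : T.Etale) (k : V ⟶ U), Nonempty V.left → ∀ m m' : M,
      (G.obj.map k.op).hom (σ.hom m) = (G.obj.map k.op).hom (σ.hom m') → m = m' := by
    rintro V k ⟨v⟩ m m' hmm
    obtain ⟨Ω', _, _, ū, xV, -, hb⟩ := hlift V k v
    apply hb.1
    change germ ū G V xV ((G.obj.map k.op).hom (σ.hom m)) =
      germ ū G V xV ((G.obj.map k.op).hom (σ.hom m'))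
    rw [hmm]
  let a : cP U M ⟶ (G.over U).obj :=
    { app := fun V => σ ≫ G.obj.map V.unop.hom.op
      naturality := by
        intro V V' k
        have hk : k.unop.left ≫ V.unop.hom = V'.unop.hom := Over.w k.unop
        change 𝟙 _ ≫ σ ≫ G.obj.map V'.unop.hom.op =
          (σ ≫ G.obj.map V.unop.hom.op) ≫ G.obj.map k.unop.left.op
        rw [Category.id_comp, Category.assoc, ← G.obj.map_comp, ← op_comp, hk] }
  let β : (cS T.smallEtaleTopology U).obj M ⟶ G.over U :=
    ⟨sheafifyLift (T.smallEtaleTopology.over U) a (G.over U).property⟩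
  have fac : toSheafify (T.smallEtaleTopology.over U) (cP U M) ≫ β.hom = a :=
    toSheafify_sheafifyLift (T.smallEtaleTopology.over U) a (G.over U).property
  haveI hinj_a : Presheaf.IsLocallyInjective (T.smallEtaleTopology.over U) a := by
    constructor
    intro V m m' hmm
    by_cases hne : Nonempty V.unop.left.left
    · have hmm' : m = m' := hinjV V.unop.left V.unop.hom hne m m' hmm
      subst hmm'
      rw [Presheaf.equalizerSieve_self_eq_top]
      exact (T.smallEtaleTopology.over U).top_mem _
    · haveI : IsEmpty V.unop.left.left := not_nonempty_iff.1 hne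
      rw [GrothendieckTopology.mem_over_iff]
      exact T.smallEtaleTopology.superset_covering bot_le (bot_mem_of_isEmpty V.unop.left)
  haveI hsurj_a : Presheaf.IsLocallySurjective (T.smallEtaleTopology.over U) a := by
    constructor
    intro V s
    rw [GrothendieckTopology.mem_over_iff, Groth.Agent.S6632.mem_smallEtaleTopology_iff]
    intro v
    obtain ⟨Ω', _, _, ū, xV, hxV, hb⟩ := hlift V.left V.hom v
    obtain ⟨m, hm⟩ := hb.2 (germ ū G V.left xV s)
    change germ ū G V.left xV ((G.obj.map V.hom.op).hom (σ.hom m)) =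
      germ ū G V.left xV s at hm
    rw [GrothendieckTopology.Point.toPresheafFiber_eq_iff'] at hm
    obtain ⟨Y, g, yy, hyy, hz⟩ := hm
    refine ⟨Y, g, (fiberHom ū yy).base default, ?_, ?_⟩
    · rw [Sieve.overEquiv_iff]
      refine ⟨m, ?_⟩
      change (G.obj.map (g ≫ V.hom).op).hom (σ.hom m) = (G.obj.map g.op).hom s
      rw [map_comp_apply]
      exact hz
    · have h2 := congrArg (fun q : (Scheme.pointSmallEtale ū).fiber.obj V.left =>
        (fiberHom ū q).base default) hyy
      exact h2.trans hxV
  have hts : Presheaf.IsLocallySurjective (T.smallEtaleTopology.over U)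
      (toSheafify (T.smallEtaleTopology.over U) (cP U M)) :=
    Presheaf.isLocallySurjective_toSheafify' _ _
  haveI h1 : Presheaf.IsLocallyInjective (T.smallEtaleTopology.over U) β.hom :=
    @Presheaf.isLocallyInjective_of_isLocallyInjective_of_isLocallySurjective_fac _ _
      (T.smallEtaleTopology.over U) _ _ _ _ _ _ _ _ _ _ _ a fac hinj_a hts
  haveI h2 : Presheaf.IsLocallySurjective (T.smallEtaleTopology.over U) β.hom :=
    Presheaf.isLocallySurjective_of_isLocallySurjective_fac (T.smallEtaleTopology.over U) fac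
  haveI : IsIso β := (Sheaf.isLocallyBijective_iff_isIso β).1 ⟨h1, h2⟩
  exact ⟨(asIso β).symm⟩

set_option backward.isDefEq.respectTransparency.types false in
/-- if `G` is constant over `V`, the germ map at a geometric point through `V` is bijective. -/
theorem bijective_germ_secTriv (G : EtCoh.Ab T) {V : T.Etale} {M : AddCommGrpCat.{u + 1}}
    (α : G.over V ≅ (cS T.smallEtaleTopology V).obj M) {Ω : Type u} [Field Ω] [IsSepClosed Ω]
    (ζ : Spec (CommRingCat.of Ω) ⟶ T) (x₀ : (Scheme.pointSmallEtale ζ).fiber.obj V) :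
    Function.Bijective (fun m : M => germ ζ G V x₀ ((secTriv T.smallEtaleTopology G α).hom m)) := by
  let Φ := Scheme.pointSmallEtale ζ
  constructor
  · intro m m' hmm
    change germ ζ G V x₀ ((secTriv T.smallEtaleTopology G α).hom m) =
      germ ζ G V x₀ ((secTriv T.smallEtaleTopology G α).hom m') at hmm
    rw [GrothendieckTopology.Point.toPresheafFiber_eq_iff'] at hmm
    obtain ⟨Y, f, y, hy, hz'⟩ := hmm
    have hinj := secTriv_injective T.smallEtaleTopology G
      (Groth.Agent.Lib.Cohomology.LocConst.bot_not_mem Y ((fiberHom ζ y).base default))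
      (restrTriv T.smallEtaleTopology G f α)
    apply hinj
    rw [secTriv_restrTriv]
    exact hz'
  · intro p
    obtain ⟨U', x', z, rfl⟩ := Φ.toPresheafFiber_jointly_surjective (P := G.obj) p
    let e1 : Φ.fiber.Elements := ⟨U', x'⟩
    let e2 : Φ.fiber.Elements := ⟨V, x₀⟩
    let e := IsCofiltered.min e1 e2
    let f1 : e ⟶ e1 := IsCofiltered.minToLeft e1 e2
    let f2 : e ⟶ e2 := IsCofiltered.minToRight e1 e2
    let α'' := restrTriv T.smallEtaleTopology G f2.1 α
    obtain ⟨R, hR, hRs⟩ := exists_sieve_const T.smallEtaleTopology G α''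
      (fun _ : Unit => (G.obj.map f1.1.op).hom z)
    obtain ⟨V', g, hg, y, hy⟩ := Φ.jointly_surjective R hR e.2
    obtain ⟨m, hm⟩ := hRs g hg ()
    refine ⟨m, ?_⟩
    change germ ζ G V x₀ ((secTriv T.smallEtaleTopology G α).hom m) = germ ζ G U' x' z
    have q1 : Φ.fiber.map f1.1 e.2 = x' := f1.2
    have q2 : Φ.fiber.map f2.1 e.2 = x₀ := f2.2
    have k1 : germ ζ G U' x' z = germ ζ G V' y ((G.obj.map g.op).hom ((G.obj.map f1.1.op).hom z)) := by
      rw [germ_map, germ_map, hy, q1]
    have k3 : germ ζ G V x₀ ((secTriv T.smallEtaleTopology G α).hom m) =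
        germ ζ G V' y ((G.obj.map g.op).hom ((G.obj.map f2.1.op).hom
          ((secTriv T.smallEtaleTopology G α).hom m))) := by
      rw [germ_map, germ_map, hy, q2]
    rw [k1, k3]
    congr 1
    rw [← hm, secTriv_restrTriv, secTriv_restrTriv]
    rfl

end Groth.Agent.Lib.Cohomology.SpecPt
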