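import Groth.Agent.Lib.Cohomology.Helper3_SpecPt3

/-!
# Local constancy and constructibility via specialization maps (helper3)
-/

set_option autoImplicit false
universe u
open CategoryTheory CategoryTheory.Limits Opposite AlgebraicGeometry Topology TopologicalSpace

namespace Groth.Agent.Lib.Cohomology.SpecPt

open Groth.Agent.Lib.Cohomology.LocConst Groth.Agent.Lib.Cohomology.EtExc
open Groth.Agent.Lib.Cohomology.SubConst Groth.Agent.Lib.Cohomology.CardConstr
open Groth.Agent.Lib.Cohomology.Constr Groth.Agent.Lib.Cohomology.SuppConstr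
open Groth.Agent.Lib.Cohomology.StalkProp
open Groth.Agent.Lib.Helper70.StalkCons

variable {X : Scheme.{u}}

set_option backward.isDefEq.respectTransparency.types false in
/-- specialization maps of a finite locally constant sheaf are isomorphisms. -/
theorem isIso_sheafFiber_of_isFLC (F : EtCoh.Ab X) (hF : EtCoh.IsFiniteLocallyConstant F)
    {Ω Ω' : Type u} [Field Ω] [IsSepClosed Ω] [Field Ω'] [IsSepClosed Ω']
    (ξ : Spec (CommRingCat.of Ω) ⟶ X) (ξ' : Spec (CommRingCat.of Ω') ⟶ X)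
    (φ : Scheme.pointSmallEtale ξ' ⟶ Scheme.pointSmallEtale ξ) :
    IsIso ((GrothendieckTopology.Point.Hom.sheafFiber (A := AddCommGrpCat.{u + 1}) φ).app F) := by
  obtain ⟨U, y₀, M, hM, hy₀, ⟨α⟩⟩ := exists_triv_of_isFLC hF (ξ.base default)
  obtain ⟨l, hl1, -⟩ := Scheme.exists_fac_of_etale_of_isSepClosed U.hom ξ y₀ hy₀
  let x₀ : (Scheme.pointSmallEtale ξ).fiber.obj U := mkFiber ξ l hl1
  have b1 := bijective_germ_secTriv F α ξ x₀
  have b2 := bijective_germ_secTriv F α ξ' (φ.hom.app U x₀)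
  have hcomp : ∀ m : M,
      ((GrothendieckTopology.Point.Hom.sheafFiber (A := AddCommGrpCat.{u + 1}) φ).app F).hom
        (germ ξ F U x₀ ((secTriv X.smallEtaleTopology F α).hom m)) =
      germ ξ' F U (φ.hom.app U x₀) ((secTriv X.smallEtaleTopology F α).hom m) :=
    fun m => sheafFiber_germ φ F U x₀ _
  have hbij : Function.Bijective
      ((GrothendieckTopology.Point.Hom.sheafFiber (A := AddCommGrpCat.{u + 1}) φ).app F).hom := by
    constructor
    · intro p p' hpp
      obtain ⟨m, rfl⟩ := b1.2 p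
      obtain ⟨m', rfl⟩ := b1.2 p'
      simp only at hpp
      rw [hcomp, hcomp] at hpp
      rw [b2.1 hpp]
    · intro q
      obtain ⟨m, rfl⟩ := b2.2 q
      exact ⟨_, hcomp m⟩
  exact (ConcreteCategory.isIso_iff_bijective _).2 hbij

set_option backward.isDefEq.respectTransparency.types false in
/-- shrinking data `(U₁, xU₁, σ₁)` to an open subscheme through which the geometric point
passes. -/
theorem exists_shrink (F : EtCoh.Ab X) {Ω : Type u} [Field Ω] [IsSepClosed Ω]
    (ξ : Spec (CommRingCat.of Ω) ⟶ X) (U₁ : X.Etale)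
    (xU₁ : (Scheme.pointSmallEtale ξ).fiber.obj U₁)
    (σ₁ : (EtCoh.stalk ξ).obj F ⟶ F.obj.obj (op U₁))
    (hσ₁ : ∀ m, germ ξ F U₁ xU₁ (σ₁.hom m) = m)
    (U' : U₁.left.Opens) (hU' : (fiberHom ξ xU₁).base default ∈ U') :
    ∃ (xU : (Scheme.pointSmallEtale ξ).fiber.obj (Scheme.Etale.mk (U'.ι ≫ U₁.hom)))
      (σ : (EtCoh.stalk ξ).obj F ⟶ F.obj.obj (op (Scheme.Etale.mk (U'.ι ≫ U₁.hom)))),
      (∀ m, germ ξ F _ xU (σ.hom m) = m) ∧
      fiberHom ξ xU ≫ U'.ι = fiberHom ξ xU₁ := by
  let Φ := Scheme.pointSmallEtale ξ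
  let l₁ : Spec (CommRingCat.of Ω) ⟶ U₁.left := fiberHom ξ xU₁
  have hl₁ : l₁ ≫ U₁.hom = ξ := fiberHom_w ξ xU₁
  let U : X.Etale := Scheme.Etale.mk (U'.ι ≫ U₁.hom)
  let j : U ⟶ U₁ := MorphismProperty.Over.homMk U'.ι rfl trivial
  have hrange : Set.range l₁ ⊆ Set.range U'.ι := by
    rintro _ ⟨a, rfl⟩
    rw [Subsingleton.elim a default, Scheme.Opens.range_ι]
    exact hU'
  let l : Spec (CommRingCat.of Ω) ⟶ U'.toScheme := IsOpenImmersion.lift U'.ι l₁ hrange
  have hl : l ≫ U'.ι = l₁ := IsOpenImmersion.lift_fac _ _ _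
  let xU : Φ.fiber.obj U := mkFiber ξ l (by
    change l ≫ U'.ι ≫ U₁.hom = ξ
    rw [← Category.assoc, hl, hl₁])
  have hxU : Φ.fiber.map j xU = xU₁ := fiber_ext ξ _ _ hl
  refine ⟨xU, σ₁ ≫ F.obj.map j.op, fun m => ?_, hl⟩
  change germ ξ F U xU ((F.obj.map j.op).hom (σ₁.hom m)) = m
  rw [germ_map, hxU, hσ₁]

set_option backward.isDefEq.respectTransparency.types false in
/-- on a locally Noetherian scheme a sheaf with finite stalks all of whose specialization maps
are isomorphisms is finite locally constant. -/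
theorem isFLC_of_sheafFiber_iso [IsLocallyNoetherian X] (F : EtCoh.Ab X)
    (hfin : ∀ (Ω : Type u) [Field Ω] [IsSepClosed Ω] (ξ : Spec (CommRingCat.of Ω) ⟶ X),
      Finite ((EtCoh.stalk ξ).obj F))
    (hiso : ∀ (Ω Ω' : Type u) [Field Ω] [IsSepClosed Ω] [Field Ω'] [IsSepClosed Ω']
        (ξ : Spec (CommRingCat.of Ω) ⟶ X) (ξ' : Spec (CommRingCat.of Ω') ⟶ X)
        (φ : Scheme.pointSmallEtale ξ' ⟶ Scheme.pointSmallEtale ξ),
        IsIso ((GrothendieckTopology.Point.Hom.sheafFiber (A := AddCommGrpCat.{u + 1}) φ).app F)) :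
    EtCoh.IsFiniteLocallyConstant F := by
  apply isFLC_of_forall_point
  intro x
  let ξ : Spec (CommRingCat.of (SeparableClosure ((EtCoh.top X).left.residueField x))) ⟶ X :=
    geomPt (EtCoh.top X) x ≫ (EtCoh.top X).hom
  have hξx : ξ.base default = x := by
    change (geomPt (EtCoh.top X) x ≫ (EtCoh.top X).hom).base default = x
    rw [Scheme.Hom.comp_base, TopCat.comp_app, geomPt_apply]
    rfl
  haveI hMfin := hfin _ ξ
  obtain ⟨U₁, xU₁, f₁, σ₁, -, hσ₁⟩ := exists_section_hom ξ F (EtCoh.top X)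
    (mkFiber ξ ξ (Category.comp_id ξ))
  haveI : IsLocallyNoetherian ((Functor.fromPUnit X).obj U₁.right) := ‹IsLocallyNoetherian X›
  haveI : IsLocallyNoetherian U₁.left := LocallyOfFiniteType.isLocallyNoetherian U₁.hom
  obtain ⟨U', hu₁U', hU'⟩ :=
    exists_opens_common_generization U₁.left ((fiberHom ξ xU₁).base default)
  obtain ⟨xU, σ, hσ, hxU⟩ := exists_shrink F ξ U₁ xU₁ σ₁ hσ₁ U' hu₁U'
  let U : X.Etale := Scheme.Etale.mk (U'.ι ≫ U₁.hom)
  have hptU : U'.ι.base ((fiberHom ξ xU).base default) = (fiberHom ξ xU₁).base default := by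
    rw [← hxU]; rfl
  refine ⟨U, (fiberHom ξ xU).base default, (EtCoh.stalk ξ).obj F, hMfin, ?_,
    nonempty_triv_of_germ_bijective F U _ σ ?_⟩
  · have h1 : fiberHom ξ xU ≫ U.hom = ξ := fiberHom_w ξ xU
    have h2 : U.hom.base ((fiberHom ξ xU).base default) = ξ.base default :=
      congrArg (fun q : Spec (CommRingCat.of (SeparableClosure
        ((EtCoh.top X).left.residueField x))) ⟶ X => q.base default) h1
    exact h2.trans hξx
  · intro u
    obtain ⟨c', hc'U, hc1, hc2⟩ := hU' (U'.ι.base u) u.2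
    let c : U'.toScheme := ⟨c', hc'U⟩
    have hc1' : c ⤳ (fiberHom ξ xU).base default := by
      rw [← hptU] at hc1
      exact (U'.ι.isEmbedding.isInducing.specializes_iff).1 hc1
    have hc2' : c ⤳ u := (U'.ι.isEmbedding.isInducing.specializes_iff).1 hc2
    -- geometric points at `c` and `u`
    obtain ⟨φ₁, hφ₁⟩ := exists_point_hom_of_specializes (T := X) (geomPt U c ≫ U.hom) ξ U
      (geomPtFiber U c) xU (by
        change (geomPt U c).base default ⤳ _
        rw [geomPt_apply]; exact hc1')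
    obtain ⟨φ₂, hφ₂⟩ := exists_point_hom_of_specializes (T := X) (geomPt U c ≫ U.hom)
      (geomPt U u ≫ U.hom) U (geomPtFiber U c) (geomPtFiber U u) (by
        change (geomPt U c).base default ⤳ (geomPt U u).base default
        rw [geomPt_apply, geomPt_apply]; exact hc2')
    refine ⟨_, inferInstance, inferInstance, geomPt U u ≫ U.hom, geomPtFiber U u,
      geomPt_apply U u default, ?_⟩
    haveI i1 := hiso _ _ ξ (geomPt U c ≫ U.hom) φ₁
    haveI i2 := hiso _ _ (geomPt U u ≫ U.hom) (geomPt U c ≫ U.hom) φ₂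
    have b1 := ConcreteCategory.bijective_of_isIso
      ((GrothendieckTopology.Point.Hom.sheafFiber (A := AddCommGrpCat.{u + 1}) φ₁).app F)
    have b2 := ConcreteCategory.bijective_of_isIso
      ((GrothendieckTopology.Point.Hom.sheafFiber (A := AddCommGrpCat.{u + 1}) φ₂).app F)
    -- the germ map at `c`
    have e1 : ∀ m, ((GrothendieckTopology.Point.Hom.sheafFiber
        (A := AddCommGrpCat.{u + 1}) φ₁).app F).hom m =
        germ (geomPt U c ≫ U.hom) F U (geomPtFiber U c) (σ.hom m) := by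
      intro m
      have h := sheafFiber_germ φ₁ F U xU (σ.hom m)
      rw [hσ m, hφ₁] at h
      exact h
    have e2 : ∀ m, ((GrothendieckTopology.Point.Hom.sheafFiber
        (A := AddCommGrpCat.{u + 1}) φ₂).app F).hom
          (germ (geomPt U u ≫ U.hom) F U (geomPtFiber U u) (σ.hom m)) =
        germ (geomPt U c ≫ U.hom) F U (geomPtFiber U c) (σ.hom m) := by
      intro m
      have h := sheafFiber_germ φ₂ F U (geomPtFiber U u) (σ.hom m)
      rw [hφ₂] at h
      exact h
    constructor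
    · intro m m' hmm
      simp only at hmm
      apply b1.1
      rw [e1, e1, ← e2, ← e2, hmm]
    · intro q
      obtain ⟨m, hm⟩ := b1.2 (((GrothendieckTopology.Point.Hom.sheafFiber
        (A := AddCommGrpCat.{u + 1}) φ₂).app F).hom q)
      refine ⟨m, ?_⟩
      apply b2.1
      simp only
      rw [e2, ← e1, hm]

end Groth.Agent.Lib.Cohomology.SpecPt
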