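import Groth.Agent.Lib.Cohomology.Helper3_SpecPt4

/-!
# Constructibility from injectivity of specialization maps (helper3)
-/

set_option autoImplicit false
universe u
open CategoryTheory CategoryTheory.Limits Opposite AlgebraicGeometry Topology TopologicalSpace

namespace Groth.Agent.Lib.Cohomology.SpecPt

open Groth.Agent.Lib.Cohomology.LocConst Groth.Agent.Lib.Cohomology.EtExc
open Groth.Agent.Lib.Cohomology.SubConst Groth.Agent.Lib.Cohomology.CardConstr
open Groth.Agent.Lib.Cohomology.Constr Groth.Agent.Lib.Cohomology.SuppConstr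
open Groth.Agent.Lib.Cohomology.StalkProp Groth.Agent.Lib.Cohomology.ChainStab
open Groth.Agent.Lib.Cohomology.OverPull
open Groth.Agent.Lib.Helper70.StalkCons

variable {X : Scheme.{u}}

set_option backward.isDefEq.respectTransparency.types false in
/-- constructibility from local constancy of the stalk cardinality along closures of points. -/
theorem isConstructible_of_card_nhds [IsLocallyNoetherian X] (F : EtCoh.Ab X)
    (hfin : ∀ (Ω : Type u) [Field Ω] [IsSepClosed Ω] (ξ : Spec (CommRingCat.of Ω) ⟶ X),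
      Finite ((EtCoh.stalk ξ).obj F))
    (H : ∀ x : X, ∃ (n : ℕ) (V : X.Opens), x ∈ V ∧ (V : Set X) ∩ closure {x} ⊆
      locus (fun A : AddCommGrpCat.{u + 1} => Nat.card A = n) F) :
    EtPBC.IsConstructible F := by
  have hP : ∀ n : ℕ, ∀ ⦃A B : AddCommGrpCat.{u + 1}⦄, (A ≅ B) → Nat.card A = n → Nat.card B = n :=
    fun n A B e h => by
      rw [← h]
      exact (Nat.card_congr e.addCommGroupIsoToAddEquiv.toEquiv).symm
  apply isConstructible_of_generic_flc
  intro x
  obtain ⟨n, V, hxV, hsub'⟩ := H x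
  let g := lcι V ⟨closure {x}, isClosed_closure⟩
  have hrange : Set.range g = (V : Set X) ∩ closure {x} := range_lcι _ _
  haveI : IsLocallyNoetherian (lcScheme V ⟨closure {x}, isClosed_closure⟩) :=
    LocallyOfFiniteType.isLocallyNoetherian g
  have hxr : x ∈ Set.range g := by rw [hrange]; exact ⟨hxV, subset_closure rfl⟩
  obtain ⟨t₀, ht₀⟩ := hxr
  have hdense : ∀ O : Set (lcScheme V ⟨closure {x}, isClosed_closure⟩), IsOpen O → O.Nonempty →
      t₀ ∈ O := by
    rintro O hO ⟨y, hy⟩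
    obtain ⟨Q, hQ, rfl⟩ := g.isEmbedding.isInducing.isOpen_iff.1 hO
    have hgy : g y ∈ closure {x} := by
      have : g y ∈ Set.range g := ⟨y, rfl⟩
      rw [hrange] at this
      exact this.2
    obtain ⟨z, hzQ, hz⟩ := mem_closure_iff.1 hgy Q hQ hy
    rw [Set.mem_singleton_iff] at hz
    subst hz
    change g t₀ ∈ Q
    rw [ht₀]
    exact hzQ
  have hcard : ∀ t : lcScheme V ⟨closure {x}, isClosed_closure⟩,
      ∃ (Ω : Type u) (_ : Field Ω) (_ : IsSepClosed Ω)
        (ξ : Spec (CommRingCat.of Ω) ⟶ lcScheme V ⟨closure {x}, isClosed_closure⟩),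
        Set.range ξ = {t} ∧ Nat.card ((EtCoh.stalk ξ).obj ((EtCoh.pull g).obj F)) = n := by
    intro t
    have h1 : t ∈ locus (fun A : AddCommGrpCat.{u + 1} => Nat.card A = n)
        ((EtCoh.pull g).obj F) := by
      rw [locus_pull_immersion _ (hP n) g F]
      apply hsub'
      have h2 : g t ∈ Set.range g := ⟨t, rfl⟩
      rw [hrange] at h2
      exact h2
    exact h1
  have hfin' : ∀ (Ω : Type u) [Field Ω] [IsSepClosed Ω]
      (ξ : Spec (CommRingCat.of Ω) ⟶ lcScheme V ⟨closure {x}, isClosed_closure⟩),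
      Finite ((EtCoh.stalk ξ).obj ((EtCoh.pull g).obj F)) := by
    intro Ω _ _ ξ
    obtain ⟨e⟩ := Groth.Agent.Lib.Helper70.StalkPull.nonempty_stalk_pull_iso g ξ F
    haveI := hfin Ω (ξ ≫ g)
    exact Finite.of_equiv _ e.symm.addCommGroupIsoToAddEquiv.toEquiv
  obtain ⟨T', ht₀T', hflc'⟩ := exists_open_flc_of_card ((EtCoh.pull g).obj F) n hcard hfin' t₀ hdense
  obtain ⟨Q, hQ, hQT'⟩ := g.isEmbedding.isInducing.isOpen_iff.1 T'.2
  refine ⟨V ⊓ ⟨Q, hQ⟩, T'.toScheme, T'.ι ≫ g, inferInstance, ⟨hxV, ?_⟩, ?_,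
    isFLC_of_iso ((EtCore.pullComp T'.ι g).app F).symm hflc'⟩
  · change x ∈ Q
    rw [← ht₀]
    have : t₀ ∈ g ⁻¹' Q := by rw [hQT']; exact ht₀T'
    exact this
  · have hQT'' : (T' : Set _) = g ⁻¹' Q := hQT'.symm
    rw [Scheme.Hom.comp_base, TopCat.coe_comp, Set.range_comp, Scheme.Opens.range_ι, hQT'',
      Set.image_preimage_eq_inter_range, hrange]
    ext y
    simp only [TopologicalSpace.Opens.coe_inf, TopologicalSpace.Opens.coe_mk, Set.mem_inter_iff]
    tauto

/-- an open neighbourhood of a point of an étale scheme meeting the fibre only in that point. -/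
theorem exists_opens_fiber_singleton {A B : Scheme.{u}} (f : A ⟶ B) [Etale f] (a₀ : A) :
    ∃ U' : A.Opens, a₀ ∈ U' ∧ ∀ a ∈ U', f.base a = f.base a₀ → a = a₀ := by
  haveI := locallyQuasiFinite_of_etale f
  have hdisc : _root_.IsDiscrete (f ⁻¹' {f.base a₀}) := f.isDiscrete_preimage_singleton (f.base a₀)
  haveI : DiscreteTopology ↥(f ⁻¹' {f.base a₀}) := hdisc.to_subtype
  have hopen : IsOpen ({⟨a₀, rfl⟩} : Set ↥(f ⁻¹' {f.base a₀})) := isOpen_discrete _
  obtain ⟨O, hO, hOeq⟩ := isOpen_induced_iff.1 hopen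
  refine ⟨⟨O, hO⟩, ?_, ?_⟩
  · have : (⟨a₀, rfl⟩ : ↥(f ⁻¹' {f.base a₀})) ∈ Subtype.val ⁻¹' O := by
      rw [hOeq]; rfl
    exact this
  · intro a haO ha
    have : (⟨a, ha⟩ : ↥(f ⁻¹' {f.base a₀})) ∈ Subtype.val ⁻¹' O := haO
    rw [hOeq] at this
    exact congrArg Subtype.val this

set_option backward.isDefEq.respectTransparency.types false in
/-- on a locally Noetherian scheme a sheaf with finite stalks all of whose specialization maps
are injective is constructible. -/
theorem isConstructible_of_sheafFiber_mono [IsLocallyNoetherian X] (F : EtCoh.Ab X)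
    (hfin : ∀ (Ω : Type u) [Field Ω] [IsSepClosed Ω] (ξ : Spec (CommRingCat.of Ω) ⟶ X),
      Finite ((EtCoh.stalk ξ).obj F))
    (hmono : ∀ (Ω Ω' : Type u) [Field Ω] [IsSepClosed Ω] [Field Ω'] [IsSepClosed Ω']
        (ξ : Spec (CommRingCat.of Ω) ⟶ X) (ξ' : Spec (CommRingCat.of Ω') ⟶ X)
        (φ : Scheme.pointSmallEtale ξ' ⟶ Scheme.pointSmallEtale ξ),
        Mono ((GrothendieckTopology.Point.Hom.sheafFiber (A := AddCommGrpCat.{u + 1}) φ).app F)) :
    EtPBC.IsConstructible F := by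
  apply isConstructible_of_card_nhds F hfin
  intro x
  let ξ : Spec (CommRingCat.of (SeparableClosure ((EtCoh.top X).left.residueField x))) ⟶ X :=
    geomPt (EtCoh.top X) x ≫ (EtCoh.top X).hom
  have hξx : ξ.base default = x := by
    change (geomPt (EtCoh.top X) x ≫ (EtCoh.top X).hom).base default = x
    rw [Scheme.Hom.comp_base, TopCat.comp_app, geomPt_apply]
    rfl
  haveI hMfin := hfin _ ξ
  obtain ⟨U₁, xU₁, f₁, σ₁, -, hσ₁⟩ := exists_section_hom ξ F (EtCoh.top X)
    (mkFiber ξ ξ (Category.comp_id ξ))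
  have hu₁x : U₁.hom.base ((fiberHom ξ xU₁).base default) = x := by
    have h1 : fiberHom ξ xU₁ ≫ U₁.hom = ξ := fiberHom_w ξ xU₁
    have h2 : U₁.hom.base ((fiberHom ξ xU₁).base default) = ξ.base default :=
      congrArg (fun q : Spec (CommRingCat.of (SeparableClosure
        ((EtCoh.top X).left.residueField x))) ⟶ X => q.base default) h1
    exact h2.trans hξx
  obtain ⟨U', hu₁U', hU'fib⟩ := exists_opens_fiber_singleton (A := U₁.left) (B := X) U₁.hom
    ((fiberHom ξ xU₁).base default)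
  obtain ⟨xU, σ, hσ, hxU⟩ := exists_shrink F ξ U₁ xU₁ σ₁ hσ₁ U' hu₁U'
  let U : X.Etale := Scheme.Etale.mk (U'.ι ≫ U₁.hom)
  have hptU : U'.ι.base ((fiberHom ξ xU).base default) = (fiberHom ξ xU₁).base default := by
    rw [← hxU]; rfl
  have hu₀x : U.hom.base ((fiberHom ξ xU).base default) = x := by
    change U₁.hom.base (U'.ι.base ((fiberHom ξ xU).base default)) = x
    rw [hptU, hu₁x]
  let V : X.Opens := ⟨Set.range U.hom.base, (isOpenMap_of_etale U.hom).isOpen_range⟩
  refine ⟨Nat.card ((EtCoh.stalk ξ).obj F), V, ⟨_, hu₀x⟩, ?_⟩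
  rintro x' ⟨⟨u', rfl⟩, hx'cl⟩
  have hsp : x ⤳ U.hom.base u' := specializes_iff_mem_closure.2 hx'cl
  haveI : Flat U.hom := inferInstance
  obtain ⟨u'', hu''sp, hu''x⟩ := (Flat.generalizingMap U.hom) hsp
  have hu''eq : u'' = (fiberHom ξ xU).base default := by
    apply U'.ι.isEmbedding.injective
    rw [hptU]
    apply hU'fib _ u''.2
    change U.hom.base u'' = _
    rw [hu''x, hu₁x]
  rw [hu''eq] at hu''sp
  obtain ⟨φ, hφ⟩ := exists_point_hom_of_specializes (T := X) ξ (geomPt U u' ≫ U.hom) U xU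
    (geomPtFiber U u') (by
      change _ ⤳ (geomPt U u').base default
      rw [geomPt_apply]; exact hu''sp)
  refine ⟨_, inferInstance, inferInstance, geomPt U u' ≫ U.hom, ?_, ?_⟩
  · apply range_eq_singleton
    rw [Scheme.Hom.comp_base, TopCat.comp_app, geomPt_apply]
  · haveI := hmono _ _ (geomPt U u' ≫ U.hom) ξ φ
    have hinj : Function.Injective
        ((GrothendieckTopology.Point.Hom.sheafFiber (A := AddCommGrpCat.{u + 1}) φ).app F).hom :=
      (AddCommGrpCat.mono_iff_injective _).1 inferInstance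
    have hsurj : Function.Surjective
        ((GrothendieckTopology.Point.Hom.sheafFiber (A := AddCommGrpCat.{u + 1}) φ).app F).hom := by
      intro m
      refine ⟨germ (geomPt U u' ≫ U.hom) F U (geomPtFiber U u') (σ.hom m), ?_⟩
      rw [sheafFiber_germ, hφ, hσ]
    exact Nat.card_congr (Equiv.ofBijective _ ⟨hinj, hsurj⟩)

end Groth.Agent.Lib.Cohomology.SpecPt
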