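import Mathlib.Algebra.Category.Grp.Basic
import Mathlib.Algebra.Group.Hom.Basic

/-!
# An exact complex from a tower of split injections (helper3)

Given abelian groups `H, Z 0, Z 1, …` and split injections `i₀ : H → Z 0`, `i p : Z p → Z (p+1)`
(with retractions `r₀`, `r p`), the maps `d p = i p ∘ T p`, where `T 0 = 1 - i₀ r₀` and
`T (p+1) = 1 - i p ∘ T p ∘ r p` are idempotents, form an exact complex
`0 → H → Z 0 → Z 1 → ⋯`.
-/

universe w

namespace Groth.Agent.Lib.Cohomology.SplitSeq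

variable {Z : ℕ → Type w} [∀ p, AddCommGroup (Z p)] {H : Type w} [AddCommGroup H]
  (i₀ : H →+ Z 0) (r₀ : Z 0 →+ H) (h₀ : ∀ x, r₀ (i₀ x) = x)
  (i : ∀ p, Z p →+ Z (p + 1)) (r : ∀ p, Z (p + 1) →+ Z p) (hir : ∀ p x, r p (i p x) = x)

/-- the idempotents -/
def T : ∀ p, Z p →+ Z p
  | 0 => AddMonoidHom.id _ - i₀.comp r₀
  | p + 1 => AddMonoidHom.id _ - (i p).comp ((T p).comp (r p))

lemma T_zero_apply (x : Z 0) : T i₀ r₀ i r 0 x = x - i₀ (r₀ x) := rfl

lemma T_succ_apply (p : ℕ) (x : Z (p + 1)) :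
    T i₀ r₀ i r (p + 1) x = x - i p (T i₀ r₀ i r p (r p x)) := rfl

include h₀ hir in
lemma T_idem : ∀ p (x : Z p), T i₀ r₀ i r p (T i₀ r₀ i r p x) = T i₀ r₀ i r p x
  | 0, x => by
    simp only [T_zero_apply, map_sub, h₀, sub_self, sub_zero]
  | p + 1, x => by
    have ih := T_idem p
    simp only [T_succ_apply, map_sub, hir, ih, sub_self, sub_zero]

/-- the differential -/
def d (p : ℕ) : Z p →+ Z (p + 1) := (i p).comp (T i₀ r₀ i r p)

lemma d_apply (p : ℕ) (x : Z p) : d i₀ r₀ i r p x = i p (T i₀ r₀ i r p x) := rfl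

include h₀ hir in
lemma d_comp_d (p : ℕ) (x : Z p) : d i₀ r₀ i r (p + 1) (d i₀ r₀ i r p x) = 0 := by
  simp only [d_apply, T_succ_apply, hir, T_idem i₀ r₀ h₀ i r hir p, sub_self, map_zero]

include h₀ in
lemma eps_comp_d (x : H) : d i₀ r₀ i r 0 (i₀ x) = 0 := by
  simp only [d_apply, T_zero_apply, h₀, sub_self, map_zero]

include h₀ in
lemma eps_injective : Function.Injective i₀ :=
  Function.LeftInverse.injective h₀

include hir in
lemma i_injective (p : ℕ) : Function.Injective (i p) :=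
  Function.LeftInverse.injective (hir p)

include hir in
lemma exact_zero (x : Z 0) (hx : d i₀ r₀ i r 0 x = 0) : ∃ y, i₀ y = x := by
  have h1 : T i₀ r₀ i r 0 x = 0 := by
    apply i_injective i r hir 0
    rw [map_zero]
    exact hx
  rw [T_zero_apply, sub_eq_zero] at h1
  exact ⟨r₀ x, h1.symm⟩

include hir in
lemma exact_succ (p : ℕ) (x : Z (p + 1)) (hx : d i₀ r₀ i r (p + 1) x = 0) :
    ∃ y, d i₀ r₀ i r p y = x := by
  have h1 : T i₀ r₀ i r (p + 1) x = 0 := by
    apply i_injective i r hir (p + 1)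
    rw [map_zero]
    exact hx
  rw [T_succ_apply, sub_eq_zero] at h1
  exact ⟨r p x, h1.symm⟩

end Groth.Agent.Lib.Cohomology.SplitSeq
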