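import Groth.Agent.Lib.Cohomology.Helper3_SuppConstr

/-!
# Loci defined by a property of geometric stalks of a constructible sheaf (helper3)

* `nonempty_stalk_iso_of_triv`: if `G` is constant with value `M` on an étale `V`, the stalk at a
  geometric point through `V` is `M`;
* `isLocallyConstructible_locus`: for an isomorphism-invariant property `P` of abelian groups and a
  constructible sheaf `F`, the set of points having a geometric point whose stalk satisfies `P`
  is locally constructible.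
-/

set_option autoImplicit false
universe u
open CategoryTheory CategoryTheory.Limits Opposite AlgebraicGeometry Topology TopologicalSpace

namespace Groth.Agent.Lib.Cohomology.StalkProp

open Groth.Agent.Lib.Cohomology.LocConst Groth.Agent.Lib.Cohomology.EtExc
open Groth.Agent.Lib.Cohomology.Constr Groth.Agent.Lib.Cohomology.SubConst
open Groth.Agent.Lib.Cohomology.ChainStab Groth.Agent.Lib.Cohomology.SuppConstr

variable {T : Scheme.{u}}

set_option backward.isDefEq.respectTransparency.types false in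
theorem nonempty_stalk_iso_of_triv (G : EtCoh.Ab T) {V : T.Etale} {M : AddCommGrpCat.{u + 1}}
    (α : G.over V ≅ (cS T.smallEtaleTopology V).obj M) {Ω : Type u} [Field Ω] [IsSepClosed Ω]
    (ζ : Spec (CommRingCat.of Ω) ⟶ T) (x₀ : (Scheme.pointSmallEtale ζ).fiber.obj V) :
    Nonempty (M ≅ (EtCoh.stalk ζ).obj G) := by
  let Φ := Scheme.pointSmallEtale ζ
  let φ : M ⟶ Φ.presheafFiber.obj G.obj :=
    secTriv T.smallEtaleTopology G α ≫ Φ.toPresheafFiber V x₀ G.obj
  have hφ : ∀ m : M, φ m = Φ.toPresheafFiber V x₀ G.obj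
      ((secTriv T.smallEtaleTopology G α).hom m) := fun m => rfl
  have hinj : Function.Injective φ := by
    intro m m' hmm
    rw [hφ, hφ, GrothendieckTopology.Point.toPresheafFiber_eq_iff'] at hmm
    obtain ⟨Y, f, y, hy, hz'⟩ := hmm
    let yl : Spec (CommRingCat.of Ω) ⟶ Y.left := y.left
    have hinj := secTriv_injective T.smallEtaleTopology G (bot_not_mem Y (yl.base default))
      (restrTriv T.smallEtaleTopology G f α)
    apply hinj
    rw [secTriv_restrTriv]
    exact hz'
  have hsurj : Function.Surjective φ := by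
    intro p
    obtain ⟨U', x', z, rfl⟩ := Φ.toPresheafFiber_jointly_surjective (P := G.obj) p
    let e1 : Φ.fiber.Elements := ⟨U', x'⟩
    let e2 : Φ.fiber.Elements := ⟨V, x₀⟩
    let e := IsCofiltered.min e1 e2
    let f1 : e ⟶ e1 := IsCofiltered.minToLeft e1 e2
    let f2 : e ⟶ e2 := IsCofiltered.minToRight e1 e2
    let α'' := restrTriv T.smallEtaleTopology G f2.1 α
    obtain ⟨R, hR, hRs⟩ := exists_sieve_const T.smallEtaleTopology G α''
      (fun _ : Unit => (G.obj.map f1.1.op).hom z)
    obtain ⟨V', g, hg, y, hy⟩ := Φ.jointly_surjective R hR e.2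
    obtain ⟨m, hm⟩ := hRs g hg ()
    refine ⟨m, ?_⟩
    rw [hφ]
    have k1 := ConcreteCategory.congr_hom (Φ.toPresheafFiber_w g y G.obj)
      ((G.obj.map f1.1.op).hom z)
    have k2 := ConcreteCategory.congr_hom (Φ.toPresheafFiber_w f1.1 e.2 G.obj) z
    have k3 := ConcreteCategory.congr_hom (Φ.toPresheafFiber_w (g ≫ f2.1) y G.obj)
      ((secTriv T.smallEtaleTopology G α).hom m)
    rw [ConcreteCategory.comp_apply] at k1 k2 k3
    have q1 : Φ.fiber.map f1.1 e.2 = x' := f1.2
    have q2 : Φ.fiber.map f2.1 e.2 = x₀ := f2.2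
    have q3 : Φ.fiber.map (g ≫ f2.1) y = x₀ := by
      rw [Functor.map_comp]
      change Φ.fiber.map f2.1 (Φ.fiber.map g y) = _
      rw [hy, q2]
    rw [hy] at k1
    rw [q1] at k2
    rw [q3] at k3
    rw [← k3, ← k2, ← k1]
    congr 1
    rw [← hm, secTriv_restrTriv, secTriv_restrTriv]
    rw [op_comp, G.obj.map_comp]
    rfl
  have hiso : IsIso φ := (ConcreteCategory.isIso_iff_bijective φ).2 ⟨hinj, hsurj⟩
  have e : M ≅ Φ.presheafFiber.obj G.obj := @asIso _ _ _ _ φ hiso
  exact ⟨e⟩

section Locus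

variable (P : AddCommGrpCat.{u + 1} → Prop)

/-- points with a geometric point whose stalk satisfies `P`. -/
def locus (F : EtCoh.Ab T) : Set T :=
  {x | ∃ (Ω : Type u) (_ : Field Ω) (_ : IsSepClosed Ω) (ξ : Spec (CommRingCat.of Ω) ⟶ T),
    Set.range ξ = {x} ∧ P ((EtCoh.stalk ξ).obj F)}

variable (hP : ∀ ⦃A B : AddCommGrpCat.{u + 1}⦄, (A ≅ B) → P A → P B)

include hP

open Groth.Agent.Lib.Helper70.StalkCons in
lemma mem_locus_iff_of_triv (G : EtCoh.Ab T) {V : T.Etale} {M : AddCommGrpCat.{u + 1}}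
    (α : G.over V ≅ (cS T.smallEtaleTopology V).obj M) (v : V.left) :
    V.hom.base v ∈ locus P G ↔ P M := by
  constructor
  · rintro ⟨Ω, _, _, ξ, hξ, hPs⟩
    have hpt : V.hom.base v = ξ.base default := (pt_eq_of_range ξ _ hξ).symm
    obtain ⟨l, hl1, hl2⟩ := Scheme.exists_fac_of_etale_of_isSepClosed V.hom ξ v hpt
    let x₀ : (Scheme.pointSmallEtale ξ).fiber.obj V := Over.homMk l hl1
    obtain ⟨e⟩ := nonempty_stalk_iso_of_triv G α ξ x₀
    exact hP e.symm hPs
  · intro hM
    refine ⟨SeparableClosure (V.left.residueField v), inferInstance, inferInstance,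
      geomPt V v ≫ V.hom, ?_, ?_⟩
    · apply range_eq_singleton
      rw [Scheme.Hom.comp_base, TopCat.comp_app, geomPt_apply]
    · obtain ⟨e⟩ := nonempty_stalk_iso_of_triv G α _ (geomPtFiber V v)
      exact hP e hM

theorem isClopen_locus_of_isFLC (G : EtCoh.Ab T) (hG : EtCoh.IsFiniteLocallyConstant G) :
    IsClopen (locus P G) := by
  have key : ∀ t : T, ∃ O : Set T, IsOpen O ∧ t ∈ O ∧
      (O ⊆ locus P G ∨ O ⊆ (locus P G)ᶜ) := by
    intro t
    obtain ⟨U, y, M, hM, hy, ⟨α⟩⟩ := exists_triv_of_isFLC hG t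
    refine ⟨Set.range U.hom.base, (isOpenMap_of_etale U.hom).isOpen_range, ⟨y, hy⟩, ?_⟩
    by_cases hMs : P M
    · left
      rintro _ ⟨v, rfl⟩
      exact (mem_locus_iff_of_triv P hP G α v).2 hMs
    · right
      rintro _ ⟨v, rfl⟩ hv
      exact hMs ((mem_locus_iff_of_triv P hP G α v).1 hv)
  constructor
  · rw [← isOpen_compl_iff, isOpen_iff_forall_mem_open]
    intro t ht
    obtain ⟨O, hO, htO, h | h⟩ := key t
    · exact absurd (h htO) ht
    · exact ⟨O, h, hO, htO⟩
  · rw [isOpen_iff_forall_mem_open]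
    intro t ht
    obtain ⟨O, hO, htO, h | h⟩ := key t
    · exact ⟨O, h, hO, htO⟩
    · exact absurd ht (h htO)

theorem locus_pull_immersion {X : Scheme.{u}} (g : T ⟶ X) [IsImmersion g] (F : EtCoh.Ab X) :
    locus P ((EtCoh.pull g).obj F) = g.base ⁻¹' locus P F := by
  ext t
  constructor
  · rintro ⟨Ω, _, _, ζ, hζ, hPs⟩
    refine ⟨Ω, inferInstance, inferInstance, ζ ≫ g, ?_, ?_⟩
    · apply range_eq_singleton
      rw [Scheme.Hom.comp_base, TopCat.comp_app, pt_eq_of_range ζ t hζ]
    · obtain ⟨e⟩ := Groth.Agent.Lib.Helper70.StalkPull.nonempty_stalk_pull_iso g ζ F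
      exact hP e hPs
  · rintro ⟨Ω, _, _, ξ, hξ, hPs⟩
    have hpt : ξ.base default = g.base t := pt_eq_of_range ξ _ hξ
    obtain ⟨ζ, hζ⟩ := exists_lift_immersion g ξ ⟨t, hpt.symm⟩
    subst hζ
    refine ⟨Ω, inferInstance, inferInstance, ζ, ?_, ?_⟩
    · apply range_eq_singleton
      apply g.isEmbedding.injective
      rw [← hpt, Scheme.Hom.comp_base, TopCat.comp_app]
    · obtain ⟨e⟩ := Groth.Agent.Lib.Helper70.StalkPull.nonempty_stalk_pull_iso g ζ F
      exact hP e.symm hPs

theorem isLocallyConstructible_locus {X : Scheme.{u}} (F : EtCoh.Ab X)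
    (hF : EtPBC.IsConstructible F) : IsLocallyConstructible (locus P F) := by
  intro x
  obtain ⟨_, ⟨U₀, hU₀aff, rfl⟩, hxU₀, -⟩ := X.isBasis_affineOpens.exists_subset_of_mem_open
    (Set.mem_univ x) isOpen_univ
  obtain ⟨U, hUaff, hxU⟩ : ∃ U : X.Opens, IsAffineOpen U ∧ x ∈ U := ⟨U₀, hU₀aff, hxU₀⟩
  refine ⟨(U : Set X), U.2.mem_nhds hxU, U.2, ?_⟩
  obtain ⟨n, Ts, g, himm, hcons, hdisj, hun, hflc⟩ := hF U hUaff
  haveI := himm
  haveI : QuasiSeparatedSpace (U : Set X) := quasiSeparatedSpace_of_isAffineOpen hUaff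
  haveI : CompactSpace (U : Set X) := isCompact_iff_compactSpace.1 hUaff.isCompact
  haveI : PrespectralSpace (U : Set X) := inferInstanceAs (PrespectralSpace U.toScheme)
  haveI : QuasiSober (U : Set X) := inferInstanceAs (QuasiSober U.toScheme)
  have hgU : ∀ i (t : Ts i), (g i).base t ∈ (U : Set X) := fun i t => by
    rw [← hun]; exact Set.mem_iUnion.2 ⟨i, t, rfl⟩
  have hdecomp : ((Subtype.val : ↥(U : Set X) → X) ⁻¹' locus P F) =
      ⋃ i, (Set.codRestrict (g i).base (U : Set X) (hgU i)) ''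
        locus P ((EtCoh.pull (g i)).obj F) := by
    ext z
    simp only [Set.mem_preimage, Set.mem_iUnion, Set.mem_image]
    constructor
    · intro hz
      have hzU : z.1 ∈ ⋃ i, Set.range (g i) := by rw [hun]; exact z.2
      obtain ⟨i, t, ht⟩ := Set.mem_iUnion.1 hzU
      refine ⟨i, t, ?_, Subtype.ext ht⟩
      rw [locus_pull_immersion P hP]
      change (g i).base t ∈ locus P F
      rw [ht]; exact hz
    · rintro ⟨i, t, ht, rfl⟩
      rw [locus_pull_immersion P hP] at ht
      exact ht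
  rw [hdecomp]
  refine IsConstructible.iUnion (fun i => ?_)
  have hemb : IsEmbedding (Set.codRestrict (g i).base (U : Set X) (hgU i)) :=
    (g i).isEmbedding.codRestrict _ _
  have hrange : Set.range (Set.codRestrict (g i).base (U : Set X) (hgU i)) =
      (Subtype.val : ↥(U : Set X) → X) ⁻¹' Set.range (g i) := by
    ext z
    constructor
    · rintro ⟨t, rfl⟩; exact ⟨t, rfl⟩
    · rintro ⟨t, ht⟩; exact ⟨t, Subtype.ext ht⟩
  have hR : IsConstructible (Set.range (Set.codRestrict (g i).base (U : Set X) (hgU i))) := by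
    rw [hrange]; exact hcons i
  haveI hTc : CompactSpace (Ts i) := by
    rw [← isCompact_univ_iff, hemb.isCompact_iff, Set.image_univ]
    exact Groth.Agent.Lib.Cohomology.ConstrTop.isCompact_of_isConstructible hR
  have hclopen := isClopen_locus_of_isFLC P hP _ (hflc i)
  have hC : IsConstructible (locus P ((EtCoh.pull (g i)).obj F)) := by
    have hret : IsRetrocompact (locus P ((EtCoh.pull (g i)).obj F)) := by
      intro W hWc hWo
      exact hWc.inter_left hclopen.1
    exact hret.isConstructible hclopen.2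
  exact Groth.Agent.Lib.Cohomology.ConstrTop.isConstructible_image_of_isEmbedding hemb hR hC

end Locus

end Groth.Agent.Lib.Cohomology.StalkProp
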