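import Groth.Agent.Lib.Cohomology.Helper3_Constr4
import Mathlib.AlgebraicGeometry.Morphisms.UniversallyOpen
import Mathlib.AlgebraicGeometry.Morphisms.Flat

/-!
# Subsheaves of locally constant sheaves are generically locally constant (helper3)
-/

set_option autoImplicit false
universe u
open CategoryTheory CategoryTheory.Limits Opposite AlgebraicGeometry Topology TopologicalSpace

namespace Groth.Agent.Lib.Cohomology.SubConst

open Groth.Agent.Lib.Cohomology.LocConst Groth.Agent.Lib.Cohomology.EtExc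
open Groth.Agent.Lib.Cohomology.Constr

variable {T : Scheme.{u}}

/-- étale morphisms are open maps -/
lemma isOpenMap_of_etale {A B : Scheme.{u}} (f : A ⟶ B) [Etale f] : IsOpenMap f :=
  f.isOpenMap

/-- common refinement of two étale `W`-schemes at points with the same image in `W`. -/
lemma exists_common_over {U U' W : T.Etale} (g : U ⟶ W) (g' : U' ⟶ W) (y : U.left) (y' : U'.left)
    (h : g.left.base y = g'.left.base y') :
    ∃ (U'' : T.Etale) (p : U'' ⟶ U) (p' : U'' ⟶ U') (_ : U''.left), p ≫ g = p' ≫ g' := by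
  obtain ⟨z, hz1, hz2⟩ :=
    Scheme.Pullback.exists_preimage_pullback (f := g.left) (g := g'.left) y y' h
  have hw : pullback.snd g.left g'.left ≫ U'.hom = pullback.fst g.left g'.left ≫ U.hom := by
    rw [← MorphismProperty.Over.w g, ← MorphismProperty.Over.w g', ← Category.assoc,
      ← Category.assoc, pullback.condition]
  refine ⟨Xo (pullback.fst g.left g'.left ≫ U.hom),
    MorphismProperty.Over.homMk (pullback.fst g.left g'.left) (by
      change pullback.fst g.left g'.left ≫ U.hom = 𝟙 _ ≫ pullback.fst g.left g'.left ≫ U.hom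
      rw [Category.id_comp]),
    MorphismProperty.Over.homMk (pullback.snd g.left g'.left) (by
      change pullback.snd g.left g'.left ≫ U'.hom = 𝟙 _ ≫ pullback.fst g.left g'.left ≫ U.hom
      rw [Category.id_comp, hw]), z, ?_⟩
  apply MorphismProperty.Over.Hom.ext
  exact pullback.condition

lemma bot_mem_of_isEmpty (U : T.Etale) [IsEmpty U.left] :
    (⊥ : Sieve U) ∈ T.smallEtaleTopology U := by
  have eX : T.smallEtaleTopology =
      (T.smallPretopology (P := EtCoh.etaleMP) (Q := EtCoh.etaleMP)).toGrothendieck :=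
    Scheme.smallGrothendieckTopology_eq_toGrothendieck_smallPretopology T le_rfl
  rw [eX]
  exact (Scheme.mem_toGrothendieck_smallPretopology U ⊥).2 (fun w => isEmptyElim w)

lemma sections_eq_of_isEmpty (G : EtCoh.Ab T) (U : T.Etale) [IsEmpty U.left]
    (s s' : G.obj.obj (op U)) : s = s' := by
  have h1 : Presieve.IsSheaf T.smallEtaleTopology (G.obj ⋙ forget AddCommGrpCat.{u + 1}) :=
    (isSheaf_iff_isSheaf_of_type _ _).1
      ((Presheaf.isSheaf_iff_isSheaf_forget _ G.obj (forget AddCommGrpCat.{u + 1})).1 G.property)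
  refine (h1 _ (bot_mem_of_isEmpty U)).isSeparatedFor.ext ?_
  intro Y f hf
  exact hf.elim

section Elem

variable {H F : EtCoh.Ab T} (ι : H ⟶ F)

lemma nat_apply {U U' : T.Etale} (p : U' ⟶ U) (h : H.obj.obj (op U)) :
    (ι.hom.app (op U')).hom ((H.obj.map p.op).hom h) =
      (F.obj.map p.op).hom ((ι.hom.app (op U)).hom h) := by
  have := ConcreteCategory.congr_hom (ι.hom.naturality p.op) h
  simpa using this

lemma map_comp_apply (G : EtCoh.Ab T) {U U' U'' : T.Etale} (p : U'' ⟶ U') (g : U' ⟶ U)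
    (x : G.obj.obj (op U)) :
    (G.obj.map (p ≫ g).op).hom x = (G.obj.map p.op).hom ((G.obj.map g.op).hom x) := by
  rw [op_comp, G.obj.map_comp]
  rfl

end Elem

section KP

variable {H F : EtCoh.Ab T} (ι : H ⟶ F) {W : T.Etale} {M : AddCommGrpCat.{u + 1}}
  (α : F.over W ≅ (cS T.smallEtaleTopology W).obj M)

/-- the constant section with value `m` restricted along `g : U ⟶ W`. -/
noncomputable def resF {U : T.Etale} (g : U ⟶ W) (m : M) : F.obj.obj (op U) :=
  (F.obj.map g.op).hom ((secTriv T.smallEtaleTopology F α).hom m)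

lemma resF_comp {U U' : T.Etale} (p : U' ⟶ U) (g : U ⟶ W) (m : M) :
    resF α (p ≫ g) m = (F.obj.map p.op).hom (resF α g m) :=
  map_comp_apply F p g _

lemma resF_add {U : T.Etale} (g : U ⟶ W) (m m' : M) :
    resF α g (m + m') = resF α g m + resF α g m' := by
  unfold resF
  rw [map_add, map_add]

lemma resF_neg {U : T.Etale} (g : U ⟶ W) (m : M) : resF α g (-m) = -resF α g m := by
  unfold resF
  rw [map_neg, map_neg]

lemma resF_zero {U : T.Etale} (g : U ⟶ W) : resF α g (0 : M) = 0 := by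
  unfold resF
  rw [map_zero, map_zero]

/-- `m` is generically a section of the subsheaf. -/
def Good (m : M) : Prop :=
  ∃ (U : T.Etale) (g : U ⟶ W) (_ : U.left) (h : H.obj.obj (op U)),
    (ι.hom.app (op U)).hom h = resF α g m

lemma good_restrict {U U' : T.Etale} (p : U' ⟶ U) (g : U ⟶ W) (m : M) (h : H.obj.obj (op U))
    (hh : (ι.hom.app (op U)).hom h = resF α g m) :
    (ι.hom.app (op U')).hom ((H.obj.map p.op).hom h) = resF α (p ≫ g) m := by
  rw [nat_apply, hh, resF_comp]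

variable (w₁ : W.left) (hw₁ : ∀ O : Set W.left, IsOpen O → O.Nonempty → w₁ ∈ O)

include hw₁ in
lemma exists_over_w₁ {U : T.Etale} (g : U ⟶ W) (u : U.left) :
    ∃ u' : U.left, g.left.base u' = w₁ :=
  hw₁ _ (isOpenMap_of_etale g.left).isOpen_range ⟨_, u, rfl⟩

include hw₁ in
lemma exists_common_good {U U' : T.Etale} (g : U ⟶ W) (g' : U' ⟶ W) (u : U.left) (u' : U'.left) :
    ∃ (U'' : T.Etale) (p : U'' ⟶ U) (p' : U'' ⟶ U') (_ : U''.left), p ≫ g = p' ≫ g' := by
  obtain ⟨y, hy⟩ := exists_over_w₁ w₁ hw₁ g u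
  obtain ⟨y', hy'⟩ := exists_over_w₁ w₁ hw₁ g' u'
  exact exists_common_over g g' y y' (hy.trans hy'.symm)

include hw₁ in
lemma good_add_neg {m m' : M} (hm : Good ι α m) (hm' : Good ι α m') : Good ι α (m + -m') := by
  obtain ⟨U, g, u, h, hh⟩ := hm
  obtain ⟨U', g', u', h', hh'⟩ := hm'
  obtain ⟨U'', p, p', z, hpp⟩ := exists_common_good w₁ hw₁ g g' u u'
  refine ⟨U'', p ≫ g, z, (H.obj.map p.op).hom h + -(H.obj.map p'.op).hom h', ?_⟩
  rw [map_add, map_neg, good_restrict ι α p g m h hh, good_restrict ι α p' g' m' h' hh', ← hpp,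
    resF_add, resF_neg]

include hw₁ in
lemma exists_common_sections [Finite M] :
    ∃ (U₀ : T.Etale) (g₀ : U₀ ⟶ W) (_ : U₀.left), ∀ m : M, Good ι α m →
      ∃ h : H.obj.obj (op U₀), (ι.hom.app (op U₀)).hom h = resF α g₀ m := by
  classical
  have key : ∀ S : Finset M, (∀ m ∈ S, Good ι α m) →
      ∃ (U₀ : T.Etale) (g₀ : U₀ ⟶ W) (_ : U₀.left), ∀ m ∈ S,
        ∃ h : H.obj.obj (op U₀), (ι.hom.app (op U₀)).hom h = resF α g₀ m := by
    intro S
    induction S using Finset.induction_on with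
    | empty => intro _; exact ⟨W, 𝟙 W, w₁, fun m hm => absurd hm (Finset.notMem_empty m)⟩
    | insert a S ha IH =>
      intro hS
      obtain ⟨U, g, u, hU⟩ := IH (fun m hm => hS m (Finset.mem_insert_of_mem hm))
      obtain ⟨U', g', u', h', hh'⟩ := hS a (Finset.mem_insert_self a S)
      obtain ⟨U'', p, p', z, hpp⟩ := exists_common_good w₁ hw₁ g g' u u'
      refine ⟨U'', p ≫ g, z, fun m hm => ?_⟩
      rcases Finset.mem_insert.1 hm with rfl | hm
      · exact ⟨(H.obj.map p'.op).hom h', by rw [hpp]; exact good_restrict ι α p' g' _ h' hh'⟩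
      · obtain ⟨h, hh⟩ := hU m hm
        exact ⟨(H.obj.map p.op).hom h, good_restrict ι α p g m h hh⟩
  haveI : Fintype M := Fintype.ofFinite M
  obtain ⟨U₀, g₀, u₀, h₀⟩ := key (Finset.univ.filter (fun m => Good ι α m))
    (fun m hm => (Finset.mem_filter.1 hm).2)
  exact ⟨U₀, g₀, u₀, fun m hm => h₀ m (Finset.mem_filter.2 ⟨Finset.mem_univ m, hm⟩)⟩

include w₁ in
lemma good_zero : Good ι α (0 : M) :=
  ⟨W, 𝟙 W, w₁, 0, by rw [map_zero, resF_zero]⟩

include α hw₁ in
/-- a subsheaf of a constant sheaf with finite value group is constant on a nonempty étale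
`W`-scheme, provided `W` has a dense point. -/
theorem exists_triv_sub [Mono ι] [Finite M] :
    ∃ (U₀ : T.Etale) (_ : U₀.left) (E : AddCommGrpCat.{u + 1}) (_ : Finite E),
      Nonempty (H.over U₀ ≅ (cS T.smallEtaleTopology U₀).obj E) := by
  classical
  obtain ⟨U₀, g₀, u₀, hU₀⟩ := exists_common_sections ι α w₁ hw₁
  let M' : AddSubgroup M := AddSubgroup.ofSub {m | Good ι α m} ⟨0, good_zero ι α w₁⟩
    (fun x hx y hy => good_add_neg ι α w₁ hw₁ hx hy)
  have hinj : ∀ U : T.Etale, Function.Injective (ι.hom.app (op U)).hom :=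
    fun U => sections_injective_of_mono ι U
  choose τf hτf using (fun m : M' => hU₀ m.1 m.2)
  let τ : M' →+ H.obj.obj (op U₀) := AddMonoidHom.mk' τf (fun a b => hinj U₀ (by
    rw [map_add, hτf, hτf, hτf, AddSubgroup.coe_add]
    exact resF_add α g₀ a.1 b.1))
  have hτ : ∀ m : M', (ι.hom.app (op U₀)).hom (τ m) = resF α g₀ m.1 := hτf
  let a : cP U₀ (AddCommGrpCat.of M') ⟶ (H.over U₀).obj :=
    { app := fun V => AddCommGrpCat.ofHom τ ≫ H.obj.map V.unop.hom.op
      naturality := by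
        intro V V' k
        have hk : k.unop.left ≫ V.unop.hom = V'.unop.hom := Over.w k.unop
        change 𝟙 _ ≫ AddCommGrpCat.ofHom τ ≫ H.obj.map V'.unop.hom.op =
          (AddCommGrpCat.ofHom τ ≫ H.obj.map V.unop.hom.op) ≫ H.obj.map k.unop.left.op
        rw [Category.id_comp, Category.assoc, ← H.obj.map_comp, ← op_comp, hk] }
  let β : (cS T.smallEtaleTopology U₀).obj (AddCommGrpCat.of M') ⟶ H.over U₀ :=
    ⟨sheafifyLift (T.smallEtaleTopology.over U₀) a (H.over U₀).property⟩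
  have hβ : ∀ (V : Over U₀) (m : M'),
      (β.hom.app (op V)).hom ((eta T.smallEtaleTopology U₀ (AddCommGrpCat.of M') V).hom m) =
        (H.obj.map V.hom.op).hom (τ m) := by
    intro V m
    have h1 := congrArg (fun t => t.app (op V))
      (toSheafify_sheafifyLift (T.smallEtaleTopology.over U₀) a (H.over U₀).property)
    exact ConcreteCategory.congr_hom h1 m
  refine ⟨U₀, u₀, AddCommGrpCat.of M', inferInstanceAs (Finite M'), ?_⟩
  let α' := restrTriv T.smallEtaleTopology F g₀ α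
  have hα' : secTriv T.smallEtaleTopology F α' =
      secTriv T.smallEtaleTopology F α ≫ F.obj.map g₀.op :=
    secTriv_restrTriv T.smallEtaleTopology F g₀ α
  -- `β` is a monomorphism
  have hfac : β ≫ (T.smallEtaleTopology.overPullback AddCommGrpCat.{u + 1} U₀).map ι ≫ α'.hom =
      (cS T.smallEtaleTopology U₀).map (AddCommGrpCat.ofHom M'.subtype) := by
    apply cS_hom_ext
    ext m
    have h1 := hβ (Over.mk (𝟙 U₀)) m
    have h2 : (H.obj.map (Over.mk (𝟙 U₀)).hom.op).hom (τ m) = τ m := by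
      change (H.obj.map (𝟙 U₀).op).hom (τ m) = τ m
      rw [op_id, H.obj.map_id]; rfl
    have h3 : (secTriv T.smallEtaleTopology F α').hom m.1 = (ι.hom.app (op U₀)).hom (τ m) := by
      rw [hτ, hα']; rfl
    have h4 : (α'.hom.hom.app (op (Over.mk (𝟙 U₀)))).hom
        ((secTriv T.smallEtaleTopology F α').hom m.1) =
        (eta T.smallEtaleTopology U₀ M (Over.mk (𝟙 U₀))).hom m.1 := by
      unfold secTriv
      have h5 : α'.inv.hom.app (op (Over.mk (𝟙 U₀))) ≫ α'.hom.hom.app (op (Over.mk (𝟙 U₀))) =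
          𝟙 _ := by
        rw [← NatTrans.comp_app, ← ObjectProperty.FullSubcategory.comp_hom, Iso.inv_hom_id]
        rfl
      have h6 := ConcreteCategory.congr_hom h5
        ((eta T.smallEtaleTopology U₀ M (Over.mk (𝟙 U₀))).hom m.1)
      exact h6
    have h7 := ConcreteCategory.congr_hom
      (eta_nat T.smallEtaleTopology U₀ (AddCommGrpCat.ofHom M'.subtype) (Over.mk (𝟙 U₀))) m
    change (α'.hom.hom.app (op (Over.mk (𝟙 U₀)))).hom ((ι.hom.app (op U₀)).hom
      ((β.hom.app (op (Over.mk (𝟙 U₀)))).hom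
        ((eta T.smallEtaleTopology U₀ (AddCommGrpCat.of M') (Over.mk (𝟙 U₀))).hom m))) = _
    rw [h1, h2, ← h3, h4]
    exact h7.symm
  haveI : Mono (AddCommGrpCat.ofHom M'.subtype) :=
    (AddCommGrpCat.mono_iff_injective _).2 M'.subtype_injective
  haveI : Mono ((cS T.smallEtaleTopology U₀).map (AddCommGrpCat.ofHom M'.subtype)) :=
    inferInstance
  haveI hmono : Mono β := mono_of_mono_fac hfac
  -- `β` is an epimorphism
  haveI hls : Sheaf.IsLocallySurjective β := by
    constructor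
    intro V s
    rw [GrothendieckTopology.mem_over_iff]
    let αV := restrTriv T.smallEtaleTopology F V.hom α'
    obtain ⟨R, hR, hR'⟩ := exists_sieve_const T.smallEtaleTopology F αV
      (I := Unit) (fun _ => (ι.hom.app (op V.left)).hom s)
    refine T.smallEtaleTopology.superset_covering ?_ hR
    intro V' k hk
    rw [Sieve.overEquiv_iff]
    by_cases hne : Nonempty V'.left
    · obtain ⟨v'⟩ := hne
      obtain ⟨m, hm⟩ := hR' k hk ()
      have hm' : resF α (k ≫ V.hom ≫ g₀) m =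
          (F.obj.map k.op).hom ((ι.hom.app (op V.left)).hom s) := by
        rw [← hm, secTriv_restrTriv T.smallEtaleTopology F k αV,
          secTriv_restrTriv T.smallEtaleTopology F V.hom α', hα', resF_comp, resF_comp]
        rfl
      have hgood : Good ι α m :=
        ⟨V', k ≫ V.hom ≫ g₀, v', (H.obj.map k.op).hom s, by rw [nat_apply, hm']⟩
      refine ⟨(eta T.smallEtaleTopology U₀ (AddCommGrpCat.of M') (Over.mk (k ≫ V.hom))).hom
        ⟨m, hgood⟩, ?_⟩
      have h1 := hβ (Over.mk (k ≫ V.hom)) ⟨m, hgood⟩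
      refine h1.trans ?_
      apply hinj V'
      change (ι.hom.app (op V')).hom ((H.obj.map (k ≫ V.hom).op).hom (τ ⟨m, hgood⟩)) =
        (ι.hom.app (op V')).hom ((H.obj.map k.op).hom s)
      rw [good_restrict ι α (k ≫ V.hom) g₀ m (τ ⟨m, hgood⟩) (hτ ⟨m, hgood⟩), nat_apply,
        Category.assoc, hm']
    · haveI : IsEmpty V'.left := not_nonempty_iff.1 hne
      exact ⟨0, sections_eq_of_isEmpty H V' _ _⟩
  haveI : Epi β := inferInstance
  haveI : IsIso β := isIso_of_mono_of_epi β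
  exact ⟨(asIso β).symm⟩

end KP

open Groth.Agent.Lib.Cohomology.OverPull in
/-- shrinking an étale `T`-scheme to a nonempty open piece with a dense point. -/
lemma exists_dense_point_open [IsLocallyNoetherian T] (W : T.Etale) (w : W.left) :
    ∃ (W' : T.Etale) (_ : W' ⟶ W) (w₁ : W'.left),
      ∀ O : Set W'.left, IsOpen O → O.Nonempty → w₁ ∈ O := by
  haveI : IsLocallyNoetherian ((Functor.fromPUnit T).obj W.right) := ‹IsLocallyNoetherian T›
  haveI : IsLocallyNoetherian W.left := LocallyOfFiniteType.isLocallyNoetherian W.hom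
  obtain ⟨_, ⟨A₀, hA₀, rfl⟩, hwA₀, -⟩ := W.left.isBasis_affineOpens.exists_subset_of_mem_open
    (Set.mem_univ w) isOpen_univ
  obtain ⟨A, hA, hwA⟩ : ∃ A : W.left.Opens, IsAffineOpen A ∧ w ∈ A := ⟨A₀, hA₀, hwA₀⟩
  haveI : IsAffine A.toScheme := hA
  haveI : IsNoetherian A.toScheme := { }
  have hne : (⊤ : Closeds A.toScheme) ≠ ⊥ := by
    intro h
    have : (⟨w, hwA⟩ : A.toScheme) ∈ ((⊤ : Closeds A.toScheme) : Set A.toScheme) := trivial
    rw [h] at this
    exact this
  obtain ⟨a₁, V₁, hV₁, ha₁, -, hsub⟩ := exists_generic_open (⊤ : Closeds A.toScheme) hne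
  let O : W.left.Opens := A.ι ''ᵁ ⟨V₁, hV₁⟩
  have ha₁O : A.ι a₁ ∈ O := ⟨a₁, ha₁, rfl⟩
  have key : ∀ Q : Set W.left, IsOpen Q → (Q ∩ (O : Set W.left)).Nonempty → A.ι a₁ ∈ Q := by
    rintro Q hQ ⟨_, hyQ, ⟨v, hv, rfl⟩⟩
    have hvcl : v ∈ closure ({a₁} : Set A.toScheme) := hsub ⟨hv, trivial⟩
    obtain ⟨z, hzQ, hz⟩ := mem_closure_iff.1 hvcl (A.ι ⁻¹' Q) (hQ.preimage A.ι.continuous) hyQ
    rw [Set.mem_singleton_iff] at hz
    rw [hz] at hzQ
    exact hzQ
  refine ⟨Xo (O.ι ≫ W.hom), MorphismProperty.Over.homMk O.ι (by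
      change O.ι ≫ W.hom = 𝟙 _ ≫ O.ι ≫ W.hom
      rw [Category.id_comp]), (⟨A.ι a₁, ha₁O⟩ : O.toScheme), ?_⟩
  intro Q' hQ' hne'
  obtain ⟨Q, hQ, rfl⟩ := isOpen_induced_iff.1 hQ'
  obtain ⟨⟨y, hyO⟩, hyQ⟩ := hne'
  exact key Q hQ ⟨y, hyQ, hyO⟩

open Groth.Agent.Lib.Cohomology.OverPull in
/-- a subsheaf of a finite locally constant sheaf on a locally Noetherian scheme with a dense
point is finite locally constant on a nonempty open. -/
theorem exists_open_flc_sub [IsLocallyNoetherian T] (t₀ : T)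
    (ht₀ : ∀ O : Set T, IsOpen O → O.Nonempty → t₀ ∈ O) {H F : EtCoh.Ab T} (ι : H ⟶ F) [Mono ι]
    (hF : EtCoh.IsFiniteLocallyConstant F) :
    ∃ T' : T.Opens, t₀ ∈ T' ∧ EtCoh.IsFiniteLocallyConstant ((EtCoh.pull T'.ι).obj H) := by
  obtain ⟨U, y, M, hM, -, ⟨α⟩⟩ := exists_triv_of_isFLC hF t₀
  obtain ⟨W', j, w₁, hw₁⟩ := exists_dense_point_open U y
  obtain ⟨U₀, u₀, E, hE, ⟨α₀⟩⟩ :=
    exists_triv_sub ι (restrTriv T.smallEtaleTopology F j α) w₁ hw₁
  let T' : T.Opens := ⟨Set.range U₀.hom.base, (isOpenMap_of_etale U₀.hom).isOpen_range⟩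
  refine ⟨T', ht₀ _ T'.2 ⟨_, u₀, rfl⟩, ?_⟩
  apply isFLC_of_forall_point
  intro x
  obtain ⟨u, hu⟩ : (T'.ι x) ∈ Set.range U₀.hom.base := x.2
  obtain ⟨z, -, hz2⟩ :=
    Scheme.Pullback.exists_preimage_pullback (f := U₀.hom) (g := T'.ι) u x hu
  exact ⟨(EtCoh.bc T'.ι).obj U₀, z, E, hE, hz2, nonempty_pull_const T'.ι H U₀ E α₀⟩

open Groth.Agent.Lib.Cohomology.EtSplit in
/-- on a locally Noetherian scheme a subsheaf of a constructible abelian sheaf is constructible. -/
theorem isConstructible_of_mono {X : Scheme.{u}} [IsLocallyNoetherian X] {F G : EtCoh.Ab X}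
    (ι : G ⟶ F) [Mono ι] (hF : EtPBC.IsConstructible F) : EtPBC.IsConstructible G := by
  apply isConstructible_of_generic_flc
  intro x
  obtain ⟨V, T, g, himm, hxV, hrange, hflc⟩ := exists_flc_on_closure_of_isConstructible F hF x
  haveI := himm
  haveI : IsLocallyNoetherian T := LocallyOfFiniteType.isLocallyNoetherian g
  have hxr : x ∈ Set.range g := by rw [hrange]; exact ⟨hxV, subset_closure rfl⟩
  obtain ⟨t₀, ht₀⟩ := hxr
  have hdense : ∀ O : Set T, IsOpen O → O.Nonempty → t₀ ∈ O := by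
    rintro O hO ⟨y, hy⟩
    obtain ⟨Q, hQ, rfl⟩ := g.isEmbedding.isInducing.isOpen_iff.1 hO
    have hgy : g y ∈ closure {x} := by
      have : g y ∈ Set.range g := ⟨y, rfl⟩
      rw [hrange] at this
      exact this.2
    obtain ⟨z, hzQ, hz⟩ := mem_closure_iff.1 hgy Q hQ hy
    rw [Set.mem_singleton_iff] at hz
    subst hz
    change g t₀ ∈ Q
    rw [ht₀]
    exact hzQ
  haveI : Mono ((EtCoh.pull g).map ι) := inferInstance
  obtain ⟨T', ht₀T', hflc'⟩ := exists_open_flc_sub t₀ hdense ((EtCoh.pull g).map ι) hflc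
  obtain ⟨Q, hQ, hQT'⟩ := g.isEmbedding.isInducing.isOpen_iff.1 T'.2
  refine ⟨V ⊓ ⟨Q, hQ⟩, T'.toScheme, T'.ι ≫ g, inferInstance, ⟨hxV, ?_⟩, ?_,
    isFLC_of_iso ((EtCore.pullComp T'.ι g).app G).symm hflc'⟩
  · change x ∈ Q
    rw [← ht₀]
    have : t₀ ∈ g ⁻¹' Q := by rw [hQT']; exact ht₀T'
    exact this
  · have hQT'' : (T' : Set T) = g ⁻¹' Q := hQT'.symm
    rw [Scheme.Hom.comp_base, TopCat.coe_comp, Set.range_comp, Scheme.Opens.range_ι, hQT'',
      Set.image_preimage_eq_inter_range, hrange]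
    ext y
    simp only [TopologicalSpace.Opens.coe_inf, TopologicalSpace.Opens.coe_mk, Set.mem_inter_iff]
    tauto

/-- kernels and cokernels of morphisms of constructible sheaves are constructible. -/
theorem isConstructible_kernel_cokernel {X : Scheme.{u}} {F G : EtCoh.Ab X} (φ : F ⟶ G)
    (hF : EtPBC.IsConstructible F) (hG : EtPBC.IsConstructible G) :
    EtPBC.IsConstructible (kernel φ) ∧ EtPBC.IsConstructible (cokernel φ) := by
  have key : ∀ U : X.Opens, IsAffineOpen U →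
      EtPBC.AdaptedStrata (kernel φ) (U : Set X) ∧ EtPBC.AdaptedStrata (cokernel φ) (U : Set X) := by
    intro U hU
    obtain ⟨k, T, g, himm, hcons, hdisj, hun, hflc⟩ := adaptedStrata_common (hF U hU) (hG U hU)
    have h2 : ∀ i, EtCoh.IsFiniteLocallyConstant ((EtCoh.pull (g i)).obj (kernel φ)) ∧
        EtCoh.IsFiniteLocallyConstant ((EtCoh.pull (g i)).obj (cokernel φ)) := by
      intro i
      have h3 := isFLC_kernel_cokernel ((EtCoh.pull (g i)).map φ) (hflc i).1 (hflc i).2
      exact ⟨isFLC_of_iso (PreservesKernel.iso (EtCoh.pull (g i)) φ).symm h3.1,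
        isFLC_of_iso (PreservesCokernel.iso (EtCoh.pull (g i)) φ).symm h3.2⟩
    exact ⟨⟨k, T, g, himm, hcons, hdisj, hun, fun i _ => (h2 i).1⟩,
      ⟨k, T, g, himm, hcons, hdisj, hun, fun i _ => (h2 i).2⟩⟩
  exact ⟨fun U hU => (key U hU).1, fun U hU => (key U hU).2⟩

theorem isConstructible_of_iso {X : Scheme.{u}} {F F' : EtCoh.Ab X} (e : F ≅ F')
    (hF : EtPBC.IsConstructible F) : EtPBC.IsConstructible F' := by
  intro U hU
  obtain ⟨k, T, g, himm, hcons, hdisj, hun, hflc⟩ := hF U hU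
  exact ⟨k, T, g, himm, hcons, hdisj, hun, fun i _ =>
    isFLC_of_iso ((EtCoh.pull (g i)).mapIso e) (hflc i)⟩

/-- on a locally Noetherian scheme a quotient of a constructible abelian sheaf is constructible. -/
theorem isConstructible_of_epi {X : Scheme.{u}} [IsLocallyNoetherian X] {F Q : EtCoh.Ab X}
    (π : F ⟶ Q) [Epi π] (hF : EtPBC.IsConstructible F) : EtPBC.IsConstructible Q := by
  have hK := isConstructible_of_mono (kernel.ι π) hF
  have hC := (isConstructible_kernel_cokernel (kernel.ι π) hK hF).2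
  let e : cokernel (kernel.ι π) ≅ Q :=
    (colimit.isColimit _).coconePointUniqueUpToIso
      (Abelian.epiIsCokernelOfKernel (KernelFork.ofι (kernel.ι π) (kernel.condition π))
        (kernelIsKernel π))
  exact isConstructible_of_iso e hC

end Groth.Agent.Lib.Cohomology.SubConst
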