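import Groth.Agent.Lib.Cohomology.Helper3_ChainStab

/-!
# The support of a constructible abelian étale sheaf is locally constructible (helper3)

* `isZero_stalk_iff_of_triv`: if `G` is constant with value `M` on an étale `V`, the stalk at a
  geometric point through `V` vanishes iff `M` is trivial;
* `isClopen_supp_of_isFLC`: the support of a finite locally constant sheaf is open and closed;
* `supp_pull_immersion`: support and inverse image along an immersion;
* `isLocallyConstructible_supp`.
-/

set_option autoImplicit false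
universe u
open CategoryTheory CategoryTheory.Limits Opposite AlgebraicGeometry Topology TopologicalSpace

namespace Groth.Agent.Lib.Cohomology.SuppConstr

open Groth.Agent.Lib.Cohomology.LocConst Groth.Agent.Lib.Cohomology.EtExc
open Groth.Agent.Lib.Cohomology.Constr Groth.Agent.Lib.Cohomology.SubConst
open Groth.Agent.Lib.Cohomology.ChainStab

variable {T : Scheme.{u}}

set_option backward.isDefEq.respectTransparency.types false in
theorem isZero_stalk_iff_of_triv (G : EtCoh.Ab T) {V : T.Etale} {M : AddCommGrpCat.{u + 1}}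
    (α : G.over V ≅ (cS T.smallEtaleTopology V).obj M) {Ω : Type u} [Field Ω] [IsSepClosed Ω]
    (ζ : Spec (CommRingCat.of Ω) ⟶ T) (x₀ : (Scheme.pointSmallEtale ζ).fiber.obj V) :
    IsZero ((EtCoh.stalk ζ).obj G) ↔ Subsingleton M := by
  let Φ := Scheme.pointSmallEtale ζ
  constructor
  · intro hz
    haveI hsub : Subsingleton (ToType ((EtCoh.stalk ζ).obj G)) :=
      AddCommGrpCat.subsingleton_of_isZero hz
    refine ⟨fun m m' => ?_⟩
    have hgerm : Φ.toPresheafFiber V x₀ G.obj ((secTriv T.smallEtaleTopology G α).hom m) =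
        Φ.toPresheafFiber V x₀ G.obj ((secTriv T.smallEtaleTopology G α).hom m') :=
      hsub.elim _ _
    rw [GrothendieckTopology.Point.toPresheafFiber_eq_iff'] at hgerm
    obtain ⟨Y, f, y, hy, hz'⟩ := hgerm
    let yl : Spec (CommRingCat.of Ω) ⟶ Y.left := y.left
    have hinj := secTriv_injective T.smallEtaleTopology G (bot_not_mem Y (yl.base default))
      (restrTriv T.smallEtaleTopology G f α)
    apply hinj
    rw [secTriv_restrTriv]
    exact hz'
  · intro hM
    haveI : Subsingleton (ToType ((EtCoh.stalk ζ).obj G)) := by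
      refine ⟨fun p p' => ?_⟩
      have key : ∀ p : ToType ((EtCoh.stalk ζ).obj G), p = 0 := by
        intro p
        obtain ⟨U', x', z, rfl⟩ := Φ.toPresheafFiber_jointly_surjective (P := G.obj) p
        let e1 : Φ.fiber.Elements := ⟨U', x'⟩
        let e2 : Φ.fiber.Elements := ⟨V, x₀⟩
        let e := IsCofiltered.min e1 e2
        let f1 : e ⟶ e1 := IsCofiltered.minToLeft e1 e2
        let f2 : e ⟶ e2 := IsCofiltered.minToRight e1 e2
        let α'' := restrTriv T.smallEtaleTopology G f2.1 α
        obtain ⟨R, hR, hRs⟩ := exists_sieve_const T.smallEtaleTopology G α''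
          (fun _ : Unit => (G.obj.map f1.1.op).hom z)
        obtain ⟨V', g, hg, y, hy⟩ := Φ.jointly_surjective R hR e.2
        obtain ⟨m, hm⟩ := hRs g hg ()
        have hm0 : m = 0 := Subsingleton.elim _ _
        rw [hm0, map_zero] at hm
        have k1 := ConcreteCategory.congr_hom (Φ.toPresheafFiber_w g y G.obj)
          ((G.obj.map f1.1.op).hom z)
        have k2 := ConcreteCategory.congr_hom (Φ.toPresheafFiber_w f1.1 e.2 G.obj) z
        rw [ConcreteCategory.comp_apply] at k1 k2
        have q1 : Φ.fiber.map f1.1 e.2 = x' := f1.2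
        rw [hy] at k1
        rw [q1] at k2
        have hm' : (G.obj.map g.op) ((G.obj.map f1.1.op).hom z) = 0 := hm.symm
        rw [hm', map_zero] at k1
        exact (k1.trans k2).symm.symm ▸ rfl
      rw [key p, key p']
    exact AddCommGrpCat.isZero_of_subsingleton _

/-- a geometric point is concentrated at one point -/
lemma range_eq_singleton {Ω : Type u} [Field Ω] (ξ : Spec (CommRingCat.of Ω) ⟶ T) (x : T)
    (h : ξ.base default = x) : Set.range ξ = {x} := by
  ext t
  constructor
  · rintro ⟨s, rfl⟩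
    rw [Subsingleton.elim s default]
    exact h
  · rintro rfl
    exact ⟨default, h⟩

lemma pt_eq_of_range {Ω : Type u} [Field Ω] (ξ : Spec (CommRingCat.of Ω) ⟶ T) (x : T)
    (h : Set.range ξ = {x}) : ξ.base default = x := by
  have : ξ.base default ∈ Set.range ξ := ⟨default, rfl⟩
  rw [h] at this
  exact this

open Groth.Agent.Lib.Helper70.StalkCons in
lemma mem_supp_iff_of_triv (G : EtCoh.Ab T) {V : T.Etale} {M : AddCommGrpCat.{u + 1}}
    (α : G.over V ≅ (cS T.smallEtaleTopology V).obj M) (v : V.left) :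
    V.hom.base v ∈ EtPBC.supp G ↔ ¬ Subsingleton M := by
  constructor
  · rintro ⟨Ω, _, _, ξ, hξ, hnz⟩ hM
    have hpt : V.hom.base v = ξ.base default := (pt_eq_of_range ξ _ hξ).symm
    obtain ⟨l, hl1, hl2⟩ := Scheme.exists_fac_of_etale_of_isSepClosed V.hom ξ v hpt
    let x₀ : (Scheme.pointSmallEtale ξ).fiber.obj V := Over.homMk l hl1
    exact hnz ((isZero_stalk_iff_of_triv G α ξ x₀).2 hM)
  · intro hM
    refine ⟨SeparableClosure (V.left.residueField v), inferInstance, inferInstance,
      geomPt V v ≫ V.hom, ?_, ?_⟩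
    · apply range_eq_singleton
      rw [Scheme.Hom.comp_base, TopCat.comp_app, geomPt_apply]
    · intro hz
      exact hM ((isZero_stalk_iff_of_triv G α _ (geomPtFiber V v)).1 hz)

/-- the support of a finite locally constant sheaf is open and closed. -/
theorem isClopen_supp_of_isFLC (G : EtCoh.Ab T) (hG : EtCoh.IsFiniteLocallyConstant G) :
    IsClopen (EtPBC.supp G) := by
  have key : ∀ t : T, ∃ O : Set T, IsOpen O ∧ t ∈ O ∧
      (O ⊆ EtPBC.supp G ∨ O ⊆ (EtPBC.supp G)ᶜ) := by
    intro t
    obtain ⟨U, y, M, hM, hy, ⟨α⟩⟩ := exists_triv_of_isFLC hG t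
    refine ⟨Set.range U.hom.base, (isOpenMap_of_etale U.hom).isOpen_range, ⟨y, hy⟩, ?_⟩
    by_cases hMs : Subsingleton M
    · right
      rintro _ ⟨v, rfl⟩ hv
      exact (mem_supp_iff_of_triv G α v).1 hv hMs
    · left
      rintro _ ⟨v, rfl⟩
      exact (mem_supp_iff_of_triv G α v).2 hMs
  constructor
  · rw [← isOpen_compl_iff, isOpen_iff_forall_mem_open]
    intro t ht
    obtain ⟨O, hO, htO, h | h⟩ := key t
    · exact absurd (h htO) ht
    · exact ⟨O, h, hO, htO⟩
  · rw [isOpen_iff_forall_mem_open]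
    intro t ht
    obtain ⟨O, hO, htO, h | h⟩ := key t
    · exact ⟨O, h, hO, htO⟩
    · exact absurd ht (h htO)

/-- support and inverse image along an immersion. -/
theorem supp_pull_immersion {X : Scheme.{u}} (g : T ⟶ X) [IsImmersion g] (F : EtCoh.Ab X) :
    EtPBC.supp ((EtCoh.pull g).obj F) = g.base ⁻¹' EtPBC.supp F := by
  ext t
  constructor
  · rintro ⟨Ω, _, _, ζ, hζ, hnz⟩
    refine ⟨Ω, inferInstance, inferInstance, ζ ≫ g, ?_, ?_⟩
    · apply range_eq_singleton
      rw [Scheme.Hom.comp_base, TopCat.comp_app, pt_eq_of_range ζ t hζ]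
    · intro hz
      apply hnz
      obtain ⟨e⟩ := Groth.Agent.Lib.Helper70.StalkPull.nonempty_stalk_pull_iso g ζ F
      exact hz.of_iso e
  · rintro ⟨Ω, _, _, ξ, hξ, hnz⟩
    have hpt : ξ.base default = g.base t := pt_eq_of_range ξ _ hξ
    obtain ⟨ζ, hζ⟩ := exists_lift_immersion g ξ ⟨t, hpt.symm⟩
    subst hζ
    refine ⟨Ω, inferInstance, inferInstance, ζ, ?_, ?_⟩
    · apply range_eq_singleton
      apply g.isEmbedding.injective
      rw [← hpt, Scheme.Hom.comp_base, TopCat.comp_app]
    · intro hz
      apply hnz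
      obtain ⟨e⟩ := Groth.Agent.Lib.Helper70.StalkPull.nonempty_stalk_pull_iso g ζ F
      exact hz.of_iso e.symm

/-- the support of a constructible abelian étale sheaf is locally constructible. -/
theorem isLocallyConstructible_supp {X : Scheme.{u}} (F : EtCoh.Ab X)
    (hF : EtPBC.IsConstructible F) : IsLocallyConstructible (EtPBC.supp F) := by
  intro x
  obtain ⟨_, ⟨U₀, hU₀aff, rfl⟩, hxU₀, -⟩ := X.isBasis_affineOpens.exists_subset_of_mem_open
    (Set.mem_univ x) isOpen_univ
  obtain ⟨U, hUaff, hxU⟩ : ∃ U : X.Opens, IsAffineOpen U ∧ x ∈ U := ⟨U₀, hU₀aff, hxU₀⟩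
  refine ⟨(U : Set X), U.2.mem_nhds hxU, U.2, ?_⟩
  obtain ⟨n, Ts, g, himm, hcons, hdisj, hun, hflc⟩ := hF U hUaff
  haveI := himm
  haveI : QuasiSeparatedSpace (U : Set X) := quasiSeparatedSpace_of_isAffineOpen hUaff
  haveI : CompactSpace (U : Set X) := isCompact_iff_compactSpace.1 hUaff.isCompact
  haveI : PrespectralSpace (U : Set X) := inferInstanceAs (PrespectralSpace U.toScheme)
  haveI : QuasiSober (U : Set X) := inferInstanceAs (QuasiSober U.toScheme)
  have hgU : ∀ i (t : Ts i), (g i).base t ∈ (U : Set X) := fun i t => by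
    rw [← hun]; exact Set.mem_iUnion.2 ⟨i, t, rfl⟩
  have hdecomp : ((Subtype.val : ↥(U : Set X) → X) ⁻¹' EtPBC.supp F) =
      ⋃ i, (Set.codRestrict (g i).base (U : Set X) (hgU i)) ''
        EtPBC.supp ((EtCoh.pull (g i)).obj F) := by
    ext z
    simp only [Set.mem_preimage, Set.mem_iUnion, Set.mem_image]
    constructor
    · intro hz
      have hzU : z.1 ∈ ⋃ i, Set.range (g i) := by rw [hun]; exact z.2
      obtain ⟨i, t, ht⟩ := Set.mem_iUnion.1 hzU
      refine ⟨i, t, ?_, Subtype.ext ht⟩
      rw [supp_pull_immersion]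
      change (g i).base t ∈ EtPBC.supp F
      rw [ht]; exact hz
    · rintro ⟨i, t, ht, rfl⟩
      rw [supp_pull_immersion] at ht
      exact ht
  rw [hdecomp]
  refine IsConstructible.iUnion (fun i => ?_)
  have hemb : IsEmbedding (Set.codRestrict (g i).base (U : Set X) (hgU i)) :=
    (g i).isEmbedding.codRestrict _ _
  have hrange : Set.range (Set.codRestrict (g i).base (U : Set X) (hgU i)) =
      (Subtype.val : ↥(U : Set X) → X) ⁻¹' Set.range (g i) := by
    ext z
    constructor
    · rintro ⟨t, rfl⟩; exact ⟨t, rfl⟩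
    · rintro ⟨t, ht⟩; exact ⟨t, Subtype.ext ht⟩
  have hR : IsConstructible (Set.range (Set.codRestrict (g i).base (U : Set X) (hgU i))) := by
    rw [hrange]; exact hcons i
  haveI hTc : CompactSpace (Ts i) := by
    rw [← isCompact_univ_iff, hemb.isCompact_iff, Set.image_univ]
    exact Groth.Agent.Lib.Cohomology.ConstrTop.isCompact_of_isConstructible hR
  have hclopen := isClopen_supp_of_isFLC _ (hflc i)
  have hC : IsConstructible (EtPBC.supp ((EtCoh.pull (g i)).obj F)) := by
    have hret : IsRetrocompact (EtPBC.supp ((EtCoh.pull (g i)).obj F)) := by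
      intro W hWc hWo
      exact hWc.inter_left hclopen.1
    exact hret.isConstructible hclopen.2
  exact Groth.Agent.Lib.Cohomology.ConstrTop.isConstructible_image_of_isEmbedding hemb hR hC

end Groth.Agent.Lib.Cohomology.SuppConstr
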