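import Groth.Agent.Lib.Cohomology.Helper3_ExtPreSh
import Groth.Agent.Lib.Cohomology.Helper3_RHZ
import Groth.Prelude.Def_SuppFam

/-!
# The local cohomology sheaves of a locally closed subset as sheafified Ext presheaves (helper3)

`nonempty_HZshLC_iso h F q : (SuppFam.HZshLC h q).obj F ≅ sheafify (SuppFam.HZpre F q h)`.
Sections of `SuppFam.sectSuppLC h F` over `V'` are identified with the sections of `F` over
`V ⊓ V'` vanishing on `W ⊓ V'` (`e1`), i.e. with `Ext⁰(ℤ_{V ⊓ V'}/ℤ_{W ⊓ V'}, F)` (`e0`), naturally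
in `V'` and `F`; then `Helper3_ExtPreSh` applies.
-/

set_option autoImplicit false
set_option backward.isDefEq.respectTransparency false
set_option backward.defeqAttrib.useBackward true
universe u
open CategoryTheory CategoryTheory.Limits TopologicalSpace Opposite

namespace Groth.Agent.Lib.Cohomology.SuppLC

open Groth.Agent.Lib.Cohomology.OpenAdj Groth.Agent.Lib.Cohomology.LocCohSh
  Groth.Agent.Lib.Cohomology.SectSupp Abelian

variable {X : TopCat.{u}} {W V : Opens X} (h : W ≤ V)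

/-- the preimage of `V'` in the subspace `V` -/
abbrev Vp (V : Opens X) (V' : Opens X) : Opens (TopCat.of V) := (Opens.map (CohCx.incl V)).obj V'

/-- the restriction of `F` to `V` -/
noncomputable abbrev AV (V : Opens X) (F : CohTop.Ab X) : CohTop.Ab (TopCat.of V) :=
  (CohTop.restrFunctor V).obj F

/-- restriction maps of a sheaf compose -/
lemma res_res (F : CohTop.Ab X) {A B C : Opens X} (f : A ⟶ B) (g : B ⟶ C) (k : A ⟶ C)
    (s : F.obj.obj (op C)) :
    F.obj.map f.op (F.obj.map g.op s) = F.obj.map k.op s := by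
  have e : k = f ≫ g := Subsingleton.elim _ _
  rw [e, op_comp, F.obj.map_comp]
  rfl

lemma res_self (F : CohTop.Ab X) {A : Opens X} (f : A ⟶ A) (s : F.obj.obj (op A)) :
    F.obj.map f.op s = s := by
  have e : f = 𝟙 A := Subsingleton.elim _ _
  rw [e, op_id, F.obj.map_id]
  rfl

/-- sections of `Γ_Z F` over `V'` as sections of `F` over `V ∩ V'` (image form) -/
noncomputable def aLC (F : CohTop.Ab X) (V' : Opens X) :
    ((SuppFam.sectSuppLC h).obj F).obj.obj (op V') →+ F.obj.obj (op (jj V V')) :=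
  ((kernel.ι ((adj (SuppFam.inOpen V W)).unit.app (AV V F))).hom.app (op (Vp V V'))).hom

lemma aLC_injective (F : CohTop.Ab X) (V' : Opens X) : Function.Injective (aLC h F V') :=
  kernel_ι_injective ((adj (SuppFam.inOpen V W)).unit.app (AV V F)) (Vp V V')

/-- the open `W ∩ V'` as an image of an open of the subspace `V` -/
noncomputable abbrev TT (V W V' : Opens X) : Opens X :=
  (V.isOpenEmbedding.isOpenMap.functor).obj (jj (SuppFam.inOpen V W) (Vp V V'))

lemma TT_le_jj (V W V' : Opens X) : TT V W V' ≤ jj V V' :=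
  leOfHom ((V.isOpenEmbedding.isOpenMap.functor).map (homOfLE (jj_le (SuppFam.inOpen V W) (Vp V V'))))

lemma mem_TT (V W V' : Opens X) (x : X) : x ∈ TT V W V' ↔ x ∈ V ∧ x ∈ W ∧ x ∈ V' := by
  constructor
  · rintro ⟨y, hy, rfl⟩
    have := (mem_jj (SuppFam.inOpen V W) (Vp V V') y).1 hy
    exact ⟨y.2, this.2, this.1⟩
  · rintro ⟨hV, hW, hV'⟩
    exact ⟨⟨x, hV⟩, (mem_jj (SuppFam.inOpen V W) (Vp V V') ⟨x, hV⟩).2 ⟨hV', hW⟩, rfl⟩

lemma aLC_res_TT (F : CohTop.Ab X) (V' : Opens X)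
    (x : ((SuppFam.sectSuppLC h).obj F).obj.obj (op V')) :
    F.obj.map (homOfLE (TT_le_jj V W V')).op (aLC h F V' x) = 0 := by
  have h1 : ((adj (SuppFam.inOpen V W)).unit.app (AV V F)).hom.app (op (Vp V V'))
      (aLC h F V' x) = 0 := by
    change (kernel.ι ((adj (SuppFam.inOpen V W)).unit.app (AV V F)) ≫
      (adj (SuppFam.inOpen V W)).unit.app (AV V F)).hom.app (op (Vp V V')) x = 0
    rw [kernel.condition]
    rfl
  rw [unit_app_eq_zero_iff] at h1
  exact h1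

lemma exists_aLC_eq (F : CohTop.Ab X) (V' : Opens X) (s : F.obj.obj (op (jj V V')))
    (hs : F.obj.map (homOfLE (TT_le_jj V W V')).op s = 0) : ∃ x, aLC h F V' x = s := by
  have hs' : (AV V F).obj.map (homOfLE (jj_le (SuppFam.inOpen V W) (Vp V V'))).op s = 0 := hs
  rw [← unit_app_eq_zero_iff] at hs'
  exact exists_kernel_section ((adj (SuppFam.inOpen V W)).unit.app (AV V F)) (Vp V V') s hs'


lemma inf_le_jj (V V' : Opens X) : V ⊓ V' ≤ jj V V' :=
  fun x hx => (mem_jj V V' x).2 ⟨hx.2, hx.1⟩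

lemma jj_le_inf (V V' : Opens X) : jj V V' ≤ V ⊓ V' :=
  fun x hx => ⟨((mem_jj V V' x).1 hx).2, ((mem_jj V V' x).1 hx).1⟩

include h in
lemma inf_le_TT (V' : Opens X) : W ⊓ V' ≤ TT V W V' :=
  fun x hx => (mem_TT V W V' x).2 ⟨h hx.1, hx.1, hx.2⟩

lemma TT_le_inf (V W V' : Opens X) : TT V W V' ≤ W ⊓ V' :=
  fun x hx => ⟨((mem_TT V W V' x).1 hx).2.1, ((mem_TT V W V' x).1 hx).2.2⟩

include h in
/-- the pair `W ⊓ V' ≤ V ⊓ V'` -/
lemma hp (V' : Opens X) : W ⊓ V' ≤ V ⊓ V' := inf_le_inf_right V' h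

/-- sections of `Γ_Z F` over `V'` as sections of `F` over `V ⊓ V'` -/
noncomputable def bLCa (F : CohTop.Ab X) (V' : Opens X) :
    ((SuppFam.sectSuppLC h).obj F).obj.obj (op V') →+ F.obj.obj (op (V ⊓ V')) :=
  (F.obj.map (homOfLE (inf_le_jj V V')).op).hom.comp (aLC h F V')

lemma bLCa_apply (F : CohTop.Ab X) (V' : Opens X)
    (x : ((SuppFam.sectSuppLC h).obj F).obj.obj (op V')) :
    bLCa h F V' x = F.obj.map (homOfLE (inf_le_jj V V')).op (aLC h F V' x) := rfl

lemma bLCa_injective (F : CohTop.Ab X) (V' : Opens X) : Function.Injective (bLCa h F V') := by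
  intro x y hxy
  apply aLC_injective h F V'
  have := congrArg (fun t => F.obj.map (homOfLE (jj_le_inf V V')).op t) hxy
  simp only [bLCa_apply] at this
  rw [res_res F _ _ (𝟙 _), res_res F _ _ (𝟙 _), res_self, res_self] at this
  exact this

lemma bLCa_mem (F : CohTop.Ab X) (V' : Opens X)
    (x : ((SuppFam.sectSuppLC h).obj F).obj.obj (op V')) :
    bLCa h F V' x ∈ LocCohZ.sectZ F (hp h V') := by
  rw [AddMonoidHom.mem_ker]
  change F.obj.map (homOfLE (hp h V')).op (bLCa h F V' x) = 0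
  rw [bLCa_apply, res_res F _ _ (homOfLE (inf_le_TT h V') ≫ homOfLE (TT_le_jj V W V')),
    ← res_res F (homOfLE (inf_le_TT h V')) (homOfLE (TT_le_jj V W V')) _, aLC_res_TT, map_zero]

lemma exists_bLCa_eq (F : CohTop.Ab X) (V' : Opens X) (t : F.obj.obj (op (V ⊓ V')))
    (ht : t ∈ LocCohZ.sectZ F (hp h V')) : ∃ x, bLCa h F V' x = t := by
  rw [AddMonoidHom.mem_ker] at ht
  have ht' : F.obj.map (homOfLE (hp h V')).op t = 0 := ht
  obtain ⟨x, hx⟩ := exists_aLC_eq h F V' (F.obj.map (homOfLE (jj_le_inf V V')).op t) (by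
    rw [res_res F _ _ (homOfLE (TT_le_inf V W V') ≫ homOfLE (hp h V')),
      ← res_res F (homOfLE (TT_le_inf V W V')) (homOfLE (hp h V')) _, ht', map_zero])
  refine ⟨x, ?_⟩
  rw [bLCa_apply, hx, res_res F _ _ (𝟙 _), res_self]

/-- `Γ(V', Γ_Z F) ≃+ {s ∈ F(V ⊓ V') | s|_{W ⊓ V'} = 0}` -/
noncomputable def e1 (F : CohTop.Ab X) (V' : Opens X) :
    ((SuppFam.sectSuppLC h).obj F).obj.obj (op V') ≃+ LocCohZ.sectZ F (hp h V') :=
  AddEquiv.ofBijective ((bLCa h F V').codRestrict _ (bLCa_mem h F V'))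
    ⟨fun x y hxy => bLCa_injective h F V' (congrArg Subtype.val hxy),
     fun s => by
      obtain ⟨x, hx⟩ := exists_bLCa_eq h F V' s.1 s.2
      exact ⟨x, Subtype.ext hx⟩⟩

/-- `Γ(V', Γ_Z F) ≃+ Ext⁰(ℤ_{V ⊓ V'}/ℤ_{W ⊓ V'}, F)` -/
noncomputable def e0 (F : CohTop.Ab X) (V' : Opens X) :
    ((SuppFam.sectSuppLC h).obj F).obj.obj (op V') ≃+ LocCohZ.HZ F 0 (hp h V') :=
  (e1 h F V').trans (LocCohZ.sect0Equiv F (hp h V')).symm

/-- the section of `F` over `V ⊓ V'` attached to a class in `Ext⁰` -/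
noncomputable def bMap (F : CohTop.Ab X) (V' : Opens X) (y : LocCohZ.HZ F 0 (hp h V')) :
    F.obj.obj (op (V ⊓ V')) :=
  ((LocCohZ.sect0Equiv F (hp h V')) y).1

lemma bMap_e0 (F : CohTop.Ab X) (V' : Opens X)
    (x : ((SuppFam.sectSuppLC h).obj F).obj.obj (op V')) :
    bMap h F V' (e0 h F V' x) = bLCa h F V' x := by
  simp [bMap, e0, e1]

lemma bMap_injective (F : CohTop.Ab X) (V' : Opens X) : Function.Injective (bMap h F V') := by
  intro y y' hy
  exact (LocCohZ.sect0Equiv F (hp h V')).injective (Subtype.ext hy)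

lemma bMap_mk₀ (F : CohTop.Ab X) (V' : Opens X) (f : LocCohZ.zq (hp h V') ⟶ F) :
    bMap h F V' (Ext.mk₀ f) = CohFree.evalGen (Opens.grothendieckTopology X) (V ⊓ V') F
      (cokernel.π (CohCx.freeSheafMap (Opens.grothendieckTopology X) (homOfLE (hp h V'))) ≫ f) := by
  change CohFree.evalGen (Opens.grothendieckTopology X) (V ⊓ V') F
      (cokernel.π (CohCx.freeSheafMap (Opens.grothendieckTopology X) (homOfLE (hp h V'))) ≫
        Ext.addEquiv₀ (Ext.mk₀ f)) = _
  rw [← Ext.addEquiv₀_symm_apply, AddEquiv.apply_symm_apply]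


/-! ### naturality in the open -/

lemma aLC_res (F : CohTop.Ab X) {V' V'' : Opens X} (g : V'' ⟶ V')
    (x : ((SuppFam.sectSuppLC h).obj F).obj.obj (op V')) :
    aLC h F V'' (((SuppFam.sectSuppLC h).obj F).obj.map g.op x) =
      F.obj.map ((V.isOpenEmbedding.isOpenMap.functor).map
        ((Opens.map (CohCx.incl V)).map g)).op (aLC h F V' x) := by
  have hnat := congrArg (fun κ => κ x)
    ((kernel.ι ((adj (SuppFam.inOpen V W)).unit.app (AV V F))).hom.naturality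
      ((Opens.map (CohCx.incl V)).map g).op)
  exact hnat

lemma bLCa_res (F : CohTop.Ab X) {V' V'' : Opens X} (g : V'' ⟶ V')
    (x : ((SuppFam.sectSuppLC h).obj F).obj.obj (op V')) :
    bLCa h F V'' (((SuppFam.sectSuppLC h).obj F).obj.map g.op x) =
      F.obj.map (homOfLE (inf_le_inf_left V (leOfHom g))).op (bLCa h F V' x) := by
  rw [bLCa_apply, bLCa_apply, aLC_res]
  rw [res_res F _ _ (homOfLE ((inf_le_inf_left V (leOfHom g)).trans (inf_le_jj V V'))),
    res_res F _ _ (homOfLE ((inf_le_inf_left V (leOfHom g)).trans (inf_le_jj V V')))]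

lemma bMap_res (F : CohTop.Ab X) {V' V'' : Opens X} (g : V'' ⟶ V')
    (y : LocCohZ.HZ F 0 (hp h V')) :
    bMap h F V'' (LocCohZ.resZ F 0 (hp h V') (hp h V'') (inf_le_inf_left W (leOfHom g))
      (inf_le_inf_left V (leOfHom g)) y) =
      F.obj.map (homOfLE (inf_le_inf_left V (leOfHom g))).op (bMap h F V' y) := by
  obtain ⟨f, rfl⟩ : ∃ f : LocCohZ.zq (hp h V') ⟶ F, Ext.mk₀ f = y :=
    ⟨Ext.addEquiv₀ y, by simp⟩
  have h1 : LocCohZ.resZ F 0 (hp h V') (hp h V'') (inf_le_inf_left W (leOfHom g))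
      (inf_le_inf_left V (leOfHom g)) (Ext.mk₀ f) =
      Ext.mk₀ (LocCohZ.zqMap (hp h V') (hp h V'') (inf_le_inf_left W (leOfHom g))
        (inf_le_inf_left V (leOfHom g)) ≫ f) := by
    change (Ext.mk₀ _).comp (Ext.mk₀ f) (zero_add 0) = _
    rw [Ext.mk₀_comp_mk₀]
  rw [h1, bMap_mk₀, bMap_mk₀]
  have h2 : cokernel.π (CohCx.freeSheafMap (Opens.grothendieckTopology X) (homOfLE (hp h V''))) ≫
      LocCohZ.zqMap (hp h V') (hp h V'') (inf_le_inf_left W (leOfHom g))
        (inf_le_inf_left V (leOfHom g)) =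
      CohCx.freeSheafMap (Opens.grothendieckTopology X)
        (homOfLE (inf_le_inf_left V (leOfHom g))) ≫
      cokernel.π (CohCx.freeSheafMap (Opens.grothendieckTopology X) (homOfLE (hp h V'))) := by
    simp [LocCohZ.zqMap]
  rw [← Category.assoc, h2, Category.assoc, CohFree.evalGen_freeSheafMap_comp]

/-! ### naturality in the sheaf -/

lemma aLC_naturality {F F' : CohTop.Ab X} (φ : F ⟶ F') (V' : Opens X)
    (x : ((SuppFam.sectSuppLC h).obj F).obj.obj (op V')) :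
    aLC h F' V' (((SuppFam.sectSuppLC h).map φ).hom.app (op V') x) =
      φ.hom.app (op (jj V V')) (aLC h F V' x) := by
  have h1 : (LocCohZ.sectSuppF (SuppFam.inOpen V W)).map ((CohTop.restrFunctor V).map φ) ≫
      kernel.ι ((adj (SuppFam.inOpen V W)).unit.app (AV V F')) =
      kernel.ι ((adj (SuppFam.inOpen V W)).unit.app (AV V F)) ≫ (CohTop.restrFunctor V).map φ := by
    dsimp [LocCohZ.sectSuppF]
    simp
  have := congrArg (fun κ : (LocCohZ.sectSuppF (SuppFam.inOpen V W)).obj (AV V F) ⟶ AV V F' =>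
    κ.hom.app (op (Vp V V')) x) h1
  exact this

lemma bLCa_naturality {F F' : CohTop.Ab X} (φ : F ⟶ F') (V' : Opens X)
    (x : ((SuppFam.sectSuppLC h).obj F).obj.obj (op V')) :
    bLCa h F' V' (((SuppFam.sectSuppLC h).map φ).hom.app (op V') x) =
      φ.hom.app (op (V ⊓ V')) (bLCa h F V' x) := by
  rw [bLCa_apply, bLCa_apply, aLC_naturality]
  exact (congrArg (fun κ => κ (aLC h F V' x))
    (φ.hom.naturality (homOfLE (inf_le_jj V V')).op)).symm

lemma bMap_naturality {F F' : CohTop.Ab X} (φ : F ⟶ F') (V' : Opens X)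
    (y : LocCohZ.HZ F 0 (hp h V')) :
    bMap h F' V' (y.comp (Ext.mk₀ φ) (add_zero 0)) = φ.hom.app (op (V ⊓ V')) (bMap h F V' y) := by
  obtain ⟨f, rfl⟩ : ∃ f : LocCohZ.zq (hp h V') ⟶ F, Ext.mk₀ f = y :=
    ⟨Ext.addEquiv₀ y, by simp⟩
  rw [Ext.mk₀_comp_mk₀, bMap_mk₀, bMap_mk₀, ← Category.assoc]
  rfl


/-! ### the comparison -/

/-- the functor `V' ↦ ℤ_{V ⊓ V'}/ℤ_{W ⊓ V'}` -/
noncomputable def zqFunctor : Opens X ⥤ CohTop.Ab X where
  obj V' := LocCohZ.zq (hp h V')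
  map {V'' V'} g := LocCohZ.zqMap (hp h V') (hp h V'') (inf_le_inf_left W (leOfHom g))
    (inf_le_inf_left V (leOfHom g))
  map_id _ := SuppFam.zqMap_id _
  map_comp _ _ := (SuppFam.zqMap_comp _ _ _ _ _ _ _).symm

/-- the presheaf underlying `Γ_Z F` is `V' ↦ Ext⁰(ℤ_{V ⊓ V'}/ℤ_{W ⊓ V'}, F)` -/
noncomputable def e₀ (F : CohTop.Ab X) :
    ((SuppFam.sectSuppLC h).obj F).obj ≅ ExtPreSh.Epre (zqFunctor h) F 0 :=
  NatIso.ofComponents (fun V' => (e0 h F V'.unop).toAddCommGrpIso) (by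
    intro V' V'' g
    ext x
    apply bMap_injective h F V''.unop
    change bMap h F V''.unop (e0 h F V''.unop (((SuppFam.sectSuppLC h).obj F).obj.map g x)) =
      bMap h F V''.unop (LocCohZ.resZ F 0 (hp h V'.unop) (hp h V''.unop)
        (inf_le_inf_left W (leOfHom g.unop)) (inf_le_inf_left V (leOfHom g.unop))
        (e0 h F V'.unop x))
    rw [bMap_e0, bMap_res h F g.unop, bMap_e0]
    exact bLCa_res h F g.unop x)

lemma he₀ {F F' : CohTop.Ab X} (φ : F ⟶ F') :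
    ((SuppFam.sectSuppLC h).map φ).hom ≫ (e₀ h F').hom =
      (e₀ h F).hom ≫ ExtPreSh.EpreMap (zqFunctor h) φ 0 := by
  ext V' x
  apply bMap_injective h F' V'.unop
  change bMap h F' V'.unop (e0 h F' V'.unop (((SuppFam.sectSuppLC h).map φ).hom.app V' x)) =
    bMap h F' V'.unop ((e0 h F V'.unop x).comp (Ext.mk₀ φ) (add_zero 0))
  rw [bMap_e0, bMap_naturality, bMap_e0]
  exact bLCa_naturality h φ V'.unop x

/-- the presheaf `V' ↦ Ext^q(ℤ_{V ⊓ V'}/ℤ_{W ⊓ V'}, F)` is the prelude's `HZpre` -/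
noncomputable def EpreIso (F : CohTop.Ab X) (q : ℕ) :
    ExtPreSh.Epre (zqFunctor h) F q ≅ SuppFam.HZpre F q h :=
  NatIso.ofComponents (fun V' => Iso.refl _) (by
    intro V' V'' g
    ext x
    rfl)

theorem nonempty_HZshLC_iso (F : CohTop.Ab X) (q : ℕ) :
    Nonempty ((SuppFam.HZshLC h q).obj F ≅
      (presheafToSheaf (Opens.grothendieckTopology X) AddCommGrpCat.{u}).obj
        (SuppFam.HZpre F q h)) := by
  have : PreservesFiniteLimits (SuppFam.sectSuppLC h) :=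
    ExtPreSh.preservesFiniteLimits_of_iso (Opens.grothendieckTopology X) (zqFunctor h)
      (SuppFam.sectSuppLC h) (e₀ h) (he₀ h)
  obtain ⟨e⟩ := ExtPreSh.rightDerived_iso_sheafify (Opens.grothendieckTopology X) (zqFunctor h)
    (SuppFam.sectSuppLC h) (e₀ h) (he₀ h) q F
  exact ⟨e ≪≫ (presheafToSheaf (Opens.grothendieckTopology X) AddCommGrpCat.{u}).mapIso
    (EpreIso h F q)⟩

end Groth.Agent.Lib.Cohomology.SuppLC
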