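import Groth.Agent.Lib.Cohomology.Helper3_TensorFunct
import Groth.Agent.Lib.Cohomology.Helper3_EtDepthLoc
import Groth.Agent.S13507

/-!
# Étale-local triviality of Tate twists (helper3)
-/

set_option autoImplicit false
universe u
open CategoryTheory CategoryTheory.Limits AlgebraicGeometry Opposite

namespace Groth.Agent.Lib.Cohomology.TateLoc

open Groth.Agent.Lib.Cohomology Groth.Agent.Lib.Helper47
open Groth.Agent.Lib.Cohomology.EtDepthLoc

section Restr

variable {X W : Scheme.{u}} (g : W ⟶ X) [Etale g]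

set_option backward.isDefEq.respectTransparency.types false in
/-- `G_m` restricts to `G_m` along an étale map -/
noncomputable def restrGmIso : (EtShriek.restrAlong g).obj (EtCoh.Gm X) ≅ EtCoh.Gm W :=
  (fullyFaithfulSheafToPresheaf _ _).preimageIso
    (NatIso.ofComponents (fun T => Iso.refl _) (by
      intro T T' f
      simp only [Iso.refl_hom, Category.comp_id, Category.id_comp]
      rfl))

/-- `μ_n` restricts to `μ_n` along an étale map -/
noncomputable def restrMuIso (n : ℕ) : (EtShriek.restrAlong g).obj (EtCoh.mu X n) ≅ EtCoh.mu W n :=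
  PreservesKernel.iso (EtShriek.restrAlong g) (EtCoh.powMap X n) ≪≫
    kernel.mapIso ((EtShriek.restrAlong g).map (EtCoh.powMap X n)) (EtCoh.powMap W n)
      (restrGmIso g) (restrGmIso g) (by
        unfold EtCoh.powMap
        rw [Functor.map_nsmul, CategoryTheory.Functor.map_id, Preadditive.nsmul_comp,
          Preadditive.comp_nsmul, Category.id_comp, Category.comp_id])

/-- constant sheaves restrict to constant sheaves along an étale map -/
noncomputable def restrConstIso (M : Type) [AddCommGroup M] :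
    (EtShriek.restrAlong g).obj (EtCoh.const X M) ≅ EtCoh.const W M :=
  ((EtRestr.pullIsoRestr g).app _).symm ≪≫ EtCore.pullConst g M

end Restr

section alg
open Polynomial
variable {R : Type u} [CommRing R] (n : ℕ)

/-- The standard étale pair `(Φ_n, 1)` for `n` invertible. -/
noncomputable def cycloPair (hn0 : n ≠ 0) (hn : IsUnit (n : R)) : StandardEtalePair R where
  f := cyclotomic n R
  monic_f := cyclotomic.monic n R
  g := 1
  cond := by
    obtain ⟨n', hn'⟩ := hn.exists_left_inv
    obtain ⟨G, hG⟩ := cyclotomic.dvd_X_pow_sub_one n R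
    refine ⟨C n' * X * G, C n' * X * derivative G - G, 0, ?_⟩
    have hd := congrArg derivative hG
    rw [derivative_sub, derivative_X_pow, derivative_one, sub_zero, derivative_mul] at hd
    have h1 : (C n' : R[X]) * C (n : R) = 1 := by rw [← C_mul, hn', C_1]
    have h2 : (X : R[X]) * X ^ (n - 1) = X ^ n := by
      rw [← pow_succ', Nat.sub_add_cancel (Nat.pos_of_ne_zero hn0)]
    calc derivative (cyclotomic n R) * (C n' * X * G) +
          cyclotomic n R * (C n' * X * derivative G - G)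
        = C n' * X * (derivative (cyclotomic n R) * G + cyclotomic n R * derivative G) -
          cyclotomic n R * G := by ring
      _ = C n' * X * (C (n : R) * X ^ (n - 1)) - (X ^ n - 1) := by rw [← hd, ← hG]
      _ = (C n' * C (n : R)) * (X * X ^ (n - 1)) - (X ^ n - 1) := by ring
      _ = 1 ^ 0 := by rw [h1, h2]; ring

lemma eval_cyclotomic_hom {A A' : Type*} [CommRing A] [CommRing A'] (φ : A →+* A') (x : A) :
    Polynomial.eval (φ x) (cyclotomic n A') = φ (Polynomial.eval x (cyclotomic n A)) := by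
  rw [← map_cyclotomic n φ, Polynomial.eval_map, Polynomial.eval₂_hom]

lemma aeval_cyclotomic_eq_eval {A A' : Type*} [CommRing A] [CommRing A'] [Algebra A A'] (x : A') :
    aeval x (cyclotomic n A) = Polynomial.eval x (cyclotomic n A') := by
  rw [aeval_def, Polynomial.eval₂_eq_eval_map, map_cyclotomic]

lemma cycloPair_X_root (hn0 : n ≠ 0) (hn : IsUnit (n : R)) :
    Polynomial.eval (cycloPair n hn0 hn).X (cyclotomic n (cycloPair n hn0 hn).Ring) = 0 := by
  have h := (cycloPair n hn0 hn).hasMap_X.1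
  have hf : (cycloPair n hn0 hn).f = cyclotomic n R := rfl
  rw [hf, aeval_cyclotomic_eq_eval] at h
  exact h

lemma cycloPair_exists_prime (hn0 : n ≠ 0) (hn : IsUnit (n : R)) (p : Ideal R) [p.IsPrime] :
    ∃ q : Ideal (cycloPair n hn0 hn).Ring, q.IsPrime ∧
      q.comap (algebraMap R (cycloPair n hn0 hn).Ring) = p := by
  let K := AlgebraicClosure p.ResidueField
  have hdeg : (cyclotomic n K).degree ≠ 0 := by
    rw [degree_cyclotomic]
    exact_mod_cast (Nat.totient_pos.2 (Nat.pos_of_ne_zero hn0)).ne'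
  obtain ⟨b, hb⟩ := IsAlgClosed.exists_root (cyclotomic n K) hdeg
  have hmap : (cycloPair n hn0 hn).HasMap b := by
    have hf : (cycloPair n hn0 hn).f = cyclotomic n R := rfl
    have hg : (cycloPair n hn0 hn).g = 1 := rfl
    refine ⟨?_, ?_⟩
    · rw [hf, aeval_cyclotomic_eq_eval]
      exact hb
    · rw [hg, map_one]; exact isUnit_one
  let ψ := (cycloPair n hn0 hn).lift b hmap
  refine ⟨RingHom.ker ψ.toRingHom, RingHom.ker_isPrime _, ?_⟩
  ext r
  simp only [Ideal.mem_comap, RingHom.mem_ker, AlgHom.toRingHom_eq_coe, RingHom.coe_coe,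
    AlgHom.commutes]
  rw [IsScalarTower.algebraMap_apply R p.ResidueField K, map_eq_zero_iff _
    (algebraMap p.ResidueField K).injective, Ideal.algebraMap_residueField_eq_zero]

end alg

section Cover

set_option backward.isDefEq.respectTransparency.types false in
/-- étale locally (`n` invertible) `μ_n` is constant -/
theorem exists_etale_mu_triv (X : Scheme.{u}) (n : ℕ) (hn : IsUnit (n : Γ(X, ⊤))) (x : X) :
    n ≠ 0 ∧ ∃ (W : Scheme.{u}) (g : W ⟶ X) (_ : Etale g),
      x ∈ Set.range g.base ∧ Nonempty (EtCoh.mu W n ≅ EtCoh.const W (ZMod n)) := by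
  obtain ⟨W, hW, hxW, -⟩ := exists_isAffineOpen_mem_and_subset
    (X := X) (TopologicalSpace.Opens.mem_top x)
  let ρ : Γ(X, ⊤) ⟶ Γ(X, W) := X.presheaf.map (homOfLE le_top).op
  have hnR : IsUnit (n : Γ(X, W)) := by
    have := hn.map ρ.hom
    rwa [map_natCast] at this
  have : Nonempty W := ⟨⟨x, hxW⟩⟩
  have : Nontrivial Γ(X, W) := inferInstance
  have hn0 : n ≠ 0 := by
    rintro rfl
    rw [Nat.cast_zero] at hnR
    exact not_isUnit_zero hnR
  refine ⟨hn0, ?_⟩
  let P := cycloPair n hn0 hnR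
  let B : CommRingCat.{u} := CommRingCat.of P.Ring
  let φ : Γ(X, W) ⟶ B := CommRingCat.ofHom (algebraMap Γ(X, W) P.Ring)
  have hφ : Etale (Spec.map φ) := by
    rw [HasRingHomProperty.Spec_iff (P := @Etale.{u})]
    show (algebraMap Γ(X, W) P.Ring).Etale
    rw [RingHom.etale_algebraMap]
    infer_instance
  let f₀ : Spec B ⟶ X := Spec.map φ ≫ hW.fromSpec
  have hf₀ : Etale f₀ := inferInstance
  obtain ⟨q, hq, hqp⟩ := cycloPair_exists_prime n hn0 hnR (hW.primeIdealOf ⟨x, hxW⟩).asIdeal
  let y : Spec B := ⟨q, hq⟩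
  refine ⟨Spec B, f₀, hf₀, ⟨y, ?_⟩, ?_⟩
  · show hW.fromSpec (Spec.map φ y) = x
    have h1 : Spec.map φ y = hW.primeIdealOf ⟨x, hxW⟩ := by
      rw [Spec.map_apply]
      exact PrimeSpectrum.ext hqp
    rw [h1, hW.fromSpec_primeIdealOf]
  · have hunit : IsUnit (n : Γ(Spec B, ⊤)) := by
      have := hn.map f₀.appTop.hom
      rwa [map_natCast] at this
    let ζ : Γ(Spec B, ⊤) := (Scheme.ΓSpecIso B).inv.hom P.X
    have hζ : Polynomial.aeval ζ (Polynomial.cyclotomic n ℤ) = 0 := by
      rw [aeval_cyclotomic_eq_eval]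
      show Polynomial.eval ((Scheme.ΓSpecIso B).inv.hom P.X) _ = 0
      rw [eval_cyclotomic_hom n (Scheme.ΓSpecIso B).inv.hom P.X, cycloPair_X_root, map_zero]
    exact Groth.Agent.S13507.result (Spec B) n (Nat.pos_of_ne_zero hn0) hunit ζ hζ

/-- if `μ_n` is constant on `W`, the Tate twists of `X` become constant on `W` -/
theorem nonempty_restr_tate_iso {X W : Scheme.{u}} (g : W ⟶ X) [Etale g] (n : ℕ) [NeZero n]
    (e : EtCoh.mu W n ≅ EtCoh.const W (ZMod n)) (c : ℕ) :
    Nonempty ((EtShriek.restrAlong g).obj (EtDual.tate X n c) ≅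
      (EtShriek.restrAlong g).obj (EtCoh.const X (ZMod n))) := by
  induction c with
  | zero => exact ⟨Iso.refl _⟩
  | succ c ih =>
    obtain ⟨i⟩ := ih
    obtain ⟨t⟩ := TensorConst.nonempty_tensorConstIso (X := W) n
    exact ⟨TensorFunct.restrTensorIso g (EtDual.tate X n c) (EtCoh.mu X n) ≪≫
      TensorFunct.tensorAbIso (i ≪≫ restrConstIso g (ZMod n)) (restrMuIso g n ≪≫ e) ≪≫
      t.symm ≪≫ (restrConstIso g (ZMod n)).symm⟩

/-- Tate twists restrict to Tate twists along étale maps -/
noncomputable def restrTateIso {X W : Scheme.{u}} (g : W ⟶ X) [Etale g] (n : ℕ) :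
    (c : ℕ) → ((EtShriek.restrAlong g).obj (EtDual.tate X n c) ≅ EtDual.tate W n c)
  | 0 => restrConstIso g (ZMod n)
  | c + 1 => TensorFunct.restrTensorIso g (EtDual.tate X n c) (EtCoh.mu X n) ≪≫
      TensorFunct.tensorAbIso (restrTateIso g n c) (restrMuIso g n)

/-- vanishing of `H^m_Y(ℤ/n)` implies vanishing of `H^m_Y(ℤ/n(c))` (`n` invertible) -/
theorem isZero_locCoh_tate {X U : Scheme.{u}} (j : U ⟶ X) [IsOpenImmersion j] (n : ℕ)
    (hn : IsUnit (n : Γ(X, ⊤))) (c m : ℕ)
    (h : IsZero ((EtDual.locCoh j m).obj (EtCoh.const X (ZMod n)))) :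
    IsZero ((EtDual.locCoh j m).obj (EtDual.tate X n c)) := by
  apply EtDepthLoc.isZero_of_locally
  intro x
  obtain ⟨hn0, W, g, hg, hx, ⟨e⟩⟩ := exists_etale_mu_triv X n hn x
  haveI : NeZero n := ⟨hn0⟩
  refine ⟨W, g, hg, hx, ?_⟩
  obtain ⟨ψ⟩ := nonempty_restr_tate_iso g n e c
  obtain ⟨θ⟩ := EtDepthLoc.nonempty_locCoh_restr_iso j g m
  have hz : IsZero ((EtShriek.restrAlong g).obj
      ((EtDual.locCoh j m).obj (EtCoh.const X (ZMod n)))) :=
    (EtShriek.restrAlong g).map_isZero h
  exact hz.of_iso (θ.app _ ≪≫ (EtDual.locCoh (pullback.snd j g) m).mapIso ψ ≪≫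
    (θ.app _).symm)

end Cover

end Groth.Agent.Lib.Cohomology.TateLoc
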