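import Groth.Agent.Lib.Cohomology.Helper3_EtDepthFLC
import Groth.Prelude.Def_EtDual

/-!
# `ℤ/n ⊗ ℤ/n ≅ ℤ/n` for constant étale sheaves (helper3)

`tensorConstIso : EtDual.tensorAb (const X (ZMod n)) (const X (ZMod n)) ≅ const X (ZMod n)`.
-/

set_option autoImplicit false
universe u
open CategoryTheory CategoryTheory.Limits AlgebraicGeometry Opposite
open scoped TensorProduct

namespace Groth.Agent.Lib.Cohomology.TensorConst

open Groth.Agent.Lib.Cohomology

variable {X : Scheme.{u}} (n : ℕ)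

/-- the value group -/
abbrev Mn : AddCommGrpCat.{u + 1} := AddCommGrpCat.of (ULift.{u + 1} (ZMod n))

/-- the constant presheaf -/
abbrev cP (X : Scheme.{u}) : X.Etaleᵒᵖ ⥤ AddCommGrpCat.{u + 1} :=
  (Functor.const X.Etaleᵒᵖ).obj (Mn.{u} n)

/-- the constant sheaf `ℤ/n` -/
noncomputable abbrev Λ (X : Scheme.{u}) : EtCoh.Ab X := EtCoh.const X (ZMod n)

/-- `ℤ/n → Λ(T)` -/
noncomputable def η (T : X.Etale) : Mn.{u} n ⟶ (Λ n X).obj.obj (op T) :=
  (toSheafify X.smallEtaleTopology (cP n X)).app (op T)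

lemma η_map {T T' : X.Etale} (f : T' ⟶ T) (m : Mn.{u} n) :
    ((Λ n X).obj.map f.op).hom ((η n T).hom m) = (η n T').hom m := by
  have h := (toSheafify X.smallEtaleTopology (cP n X)).naturality f.op
  have h2 := congrArg (fun k => k.hom m) h
  exact h2.symm

/-- sections of `Λ` are killed by `n` -/
lemma nsmul_eq_zero (T : X.Etale) (s : (Λ n X).obj.obj (op T)) : n • s = 0 := by
  have h1 : n • 𝟙 (Mn.{u} n) = 0 := by
    ext m
    change (n • m).down = (0 : ULift.{u + 1} (ZMod n)).down
    change n • m.down = 0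
    rw [nsmul_eq_mul, ZMod.natCast_self, zero_mul]
  have h2 : n • 𝟙 (Λ n X) = 0 := by
    have h3 := (constantSheaf X.smallEtaleTopology AddCommGrpCat.{u + 1}).map_nsmul
      (f := 𝟙 (Mn.{u} n)) (n := n)
    rw [h1, Functor.map_zero, CategoryTheory.Functor.map_id] at h3
    exact h3.symm
  have h4 : ∀ (k : ℕ) (φ : Λ n X ⟶ Λ n X), ((k • φ).hom.app (op T)).hom s =
      k • (φ.hom.app (op T)).hom s := by
    intro k φ
    induction k with
    | zero => simp
    | succ k ih => rw [succ_nsmul, succ_nsmul, ← ih]; rfl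
  have h5 := h4 n (𝟙 _)
  rw [h2] at h5
  exact h5.symm

/-- the unit section -/
noncomputable def e1 (T : X.Etale) : (Λ n X).obj.obj (op T) := (η n T).hom (ULift.up 1)

/-- the presheaf map `ℤ/n → Λ ⊗ Λ`, `m ↦ η(m) ⊗ η(1)` -/
noncomputable def ψ : cP n X ⟶ EtDual.tensorPre (Λ n X) (Λ n X) where
  app T := AddCommGrpCat.ofHom
    ((((TensorProduct.mk ℤ ((Λ n X).obj.obj T) ((Λ n X).obj.obj T)).flip
      (e1 n T.unop)).toAddMonoidHom).comp (η n T.unop).hom)
  naturality T T' f := by
    ext m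
    change ((η n T'.unop).hom m) ⊗ₜ[ℤ] (e1 n T'.unop) =
      (TensorProduct.map (EtDual.resLin (Λ n X) f) (EtDual.resLin (Λ n X) f))
        (((η n T.unop).hom m) ⊗ₜ[ℤ] (e1 n T.unop))
    rw [TensorProduct.map_tmul]
    congr 1
    · exact (η_map n f.unop _).symm
    · exact (η_map n f.unop _).symm

lemma ψ_app (T : X.Etale) (m : Mn.{u} n) :
    ((ψ n (X := X)).app (op T)).hom m = ((η n T).hom m) ⊗ₜ[ℤ] (e1 n T) := rfl

lemma tensorPre_map_tmul {T T' : X.Etale} (f : T' ⟶ T) (s s' : (Λ n X).obj.obj (op T)) :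
    ((EtDual.tensorPre (Λ n X) (Λ n X)).map f.op).hom (s ⊗ₜ[ℤ] s') =
      (((Λ n X).obj.map f.op).hom s) ⊗ₜ[ℤ] (((Λ n X).obj.map f.op).hom s') := by
  change (TensorProduct.map (EtDual.resLin (Λ n X) f.op) (EtDual.resLin (Λ n X) f.op))
    (s ⊗ₜ[ℤ] s') = _
  rw [TensorProduct.map_tmul]
  rfl

/-- `η(a) ⊗ η(b) = ψ(b.val • a)` -/
lemma η_tmul_η [NeZero n] (T : X.Etale) (a b : Mn.{u} n) :
    ((η n T).hom a) ⊗ₜ[ℤ] ((η n T).hom b) =
      ((ψ n (X := X)).app (op T)).hom (((b.down.val : ℕ) : ℤ) • a) := by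
  have hb : b = ((b.down.val : ℕ) : ℤ) • (ULift.up 1 : ULift.{u + 1} (ZMod n)) := by
    apply ULift.ext
    change b.down = ((b.down.val : ℕ) : ℤ) • (1 : ZMod n)
    rw [zsmul_eq_mul, mul_one, Int.cast_natCast, ZMod.natCast_zmod_val]
  have h1 : (η n T).hom b = ((b.down.val : ℕ) : ℤ) • e1 n T := by
    conv_lhs => rw [hb]
    exact map_zsmul (η n T).hom _ _
  rw [ψ_app, h1, ← TensorProduct.smul_tmul, ← map_zsmul]

instance isLocallySurjective_ψ [NeZero n] :
    Presheaf.IsLocallySurjective X.smallEtaleTopology (ψ n (X := X)) where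
  imageSieve_mem {T} t := by
    induction t using TensorProduct.induction_on with
    | zero =>
      apply X.smallEtaleTopology.superset_covering _ (X.smallEtaleTopology.top_mem T)
      intro V f _
      refine ⟨0, ?_⟩
      exact (map_zero ((ψ n (X := X)).app (op V)).hom).trans
        (map_zero ((EtDual.tensorPre (Λ n X) (Λ n X)).map f.op).hom).symm
    | tmul s s' =>
      have h1 := Presheaf.imageSieve_mem X.smallEtaleTopology
        (toSheafify X.smallEtaleTopology (cP n X)) (U := op T) s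
      have h2 := Presheaf.imageSieve_mem X.smallEtaleTopology
        (toSheafify X.smallEtaleTopology (cP n X)) (U := op T) s'
      apply X.smallEtaleTopology.superset_covering _
        (X.smallEtaleTopology.intersection_covering h1 h2)
      rintro V f ⟨⟨a, ha⟩, ⟨b, hb⟩⟩
      refine ⟨((b.down.val : ℕ) : ℤ) • a, ?_⟩
      have ha' : (η n V).hom a = ((Λ n X).obj.map f.op).hom s := ha
      have hb' : (η n V).hom b = ((Λ n X).obj.map f.op).hom s' := hb
      refine (η_tmul_η n V a b).symm.trans ?_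
      rw [ha', hb']
      exact (tensorPre_map_tmul n f s s').symm
    | add t t' ht ht' =>
      apply X.smallEtaleTopology.superset_covering _
        (X.smallEtaleTopology.intersection_covering ht ht')
      rintro V f ⟨⟨a, ha⟩, ⟨b, hb⟩⟩
      refine ⟨a + b, ?_⟩
      have ha' : ((ψ n (X := X)).app (op V)).hom a =
        ((EtDual.tensorPre (Λ n X) (Λ n X)).map f.op).hom t := ha
      have hb' : ((ψ n (X := X)).app (op V)).hom b =
        ((EtDual.tensorPre (Λ n X) (Λ n X)).map f.op).hom t' := hb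
      exact (map_add ((ψ n (X := X)).app (op V)).hom a b).trans
        ((congrArg₂ (· + ·) ha' hb').trans
          (map_add ((EtDual.tensorPre (Λ n X) (Λ n X)).map f.op).hom t t').symm)

section Act

/-- `m ↦ m • s` for `s` killed by `n` -/
noncomputable def actHom {L : Type*} [AddCommGroup L] (s : L) (hs : n • s = 0) :
    ULift.{u + 1} (ZMod n) →+ L :=
  (ZMod.lift n ⟨zmultiplesHom L s, by
    change (n : ℤ) • s = 0
    rw [natCast_zsmul]
    exact hs⟩).comp AddEquiv.ulift.toAddMonoidHom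

lemma actHom_apply [NeZero n] {L : Type*} [AddCommGroup L] (s : L) (hs : n • s = 0)
    (m : ULift.{u + 1} (ZMod n)) : actHom n s hs m = ((m.down.val : ℕ) : ℤ) • s := by
  have h1 : m.down = (((m.down.val : ℕ) : ℤ) : ZMod n) := by
    rw [Int.cast_natCast, ZMod.natCast_zmod_val]
  have hs' : (zmultiplesHom L s) (n : ℤ) = 0 := by
    change (n : ℤ) • s = 0
    rw [natCast_zsmul]
    exact hs
  change ZMod.lift n ⟨zmultiplesHom L s, hs'⟩ m.down = _
  conv_lhs => rw [h1]
  exact ZMod.lift_coe n ⟨zmultiplesHom L s, hs'⟩ _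

lemma val_one_zsmul [NeZero n] (m : ULift.{u + 1} (ZMod n)) :
    ((((ULift.up 1 : ULift.{u + 1} (ZMod n)).down.val : ℕ) : ℤ)) • m = m := by
  apply ULift.ext
  change ((((1 : ZMod n).val : ℕ) : ℤ)) • m.down = m.down
  rw [zsmul_eq_mul, Int.cast_natCast, ZMod.natCast_zmod_val, one_mul]

end Act

section Pairing

variable [NeZero n] (T : X.Etale)

/-- restriction of `s` to `V → T` -/
noncomputable def resS (V : Over T) (s : (Λ n X).obj.obj (op T)) :
    (Λ n X).obj.obj (op V.left) := ((Λ n X).obj.map V.hom.op).hom s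

/-- `m ↦ m • s|_V` -/
noncomputable def αhom (V : Over T) (s : (Λ n X).obj.obj (op T)) :
    ULift.{u + 1} (ZMod n) →+ (Λ n X).obj.obj (op V.left) :=
  actHom n (resS n T V s) (nsmul_eq_zero n _ _)

lemma αhom_apply (V : Over T) (s : (Λ n X).obj.obj (op T)) (m : ULift.{u + 1} (ZMod n)) :
    αhom n T V s m = ((m.down.val : ℕ) : ℤ) • resS n T V s :=
  actHom_apply n _ _ m

/-- the presheaf map `m ↦ m • s|_V` on `Over T` -/
noncomputable def α (s : (Λ n X).obj.obj (op T)) :
    LocConst.cP T (Mn.{u} n) ⟶ ((Λ n X).over T).obj where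
  app V := AddCommGrpCat.ofHom (αhom n T V.unop s)
  naturality V V' g := by
    ext m
    change αhom n T V'.unop s m =
      (((Λ n X).obj.map g.unop.left.op).hom) (αhom n T V.unop s m)
    rw [αhom_apply, αhom_apply, map_zsmul]
    congr 1
    unfold resS
    rw [← Over.w g.unop, op_comp, Functor.map_comp]
    rfl

lemma α_app (s : (Λ n X).obj.obj (op T)) (V : Over T) (m : ULift.{u + 1} (ZMod n)) :
    ((α n T s).app (op V)).hom m = ((m.down.val : ℕ) : ℤ) • resS n T V s :=
  αhom_apply n T V s m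

lemma α_add (s s' : (Λ n X).obj.obj (op T)) : α n T (s + s') = α n T s + α n T s' := by
  ext V m
  change ((α n T (s + s')).app (op V.unop)).hom m =
    ((α n T s).app (op V.unop)).hom m + ((α n T s').app (op V.unop)).hom m
  rw [α_app, α_app, α_app]
  unfold resS
  rw [map_add, smul_add]
  rfl

/-- the sheaf map `ŝ` -/
noncomputable def shat (s : (Λ n X).obj.obj (op T)) :
    sheafify (X.smallEtaleTopology.over T) (LocConst.cP T (Mn.{u} n)) ⟶
      ((Λ n X).over T).obj :=
  sheafifyLift (X.smallEtaleTopology.over T) (α n T s) ((Λ n X).over T).property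

lemma shat_add (s s' : (Λ n X).obj.obj (op T)) : shat n T (s + s') = shat n T s + shat n T s' := by
  symm
  apply sheafifyLift_unique
  rw [Preadditive.comp_add, α_add]
  congr 1
  · exact toSheafify_sheafifyLift _ _ _
  · exact toSheafify_sheafifyLift _ _ _

/-- `Λ(T) → (constant sheaf on Over T)(𝟙)` -/
noncomputable def κ : (Λ n X).obj.obj (op T) →+
    (sheafify (X.smallEtaleTopology.over T) (LocConst.cP T (Mn.{u} n))).obj
      (op (Over.mk (𝟙 T))) :=
  ((EtDepthFLC.constOver X.smallEtaleTopology T (Mn.{u} n)).hom.hom.app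
    (op (Over.mk (𝟙 T)))).hom

/-- the unit on `Over T` -/
noncomputable def η' : ULift.{u + 1} (ZMod n) →+
    (sheafify (X.smallEtaleTopology.over T) (LocConst.cP T (Mn.{u} n))).obj
      (op (Over.mk (𝟙 T))) :=
  ((toSheafify (X.smallEtaleTopology.over T) (LocConst.cP T (Mn.{u} n))).app
    (op (Over.mk (𝟙 T)))).hom

lemma κ_η (m : ULift.{u + 1} (ZMod n)) : κ n T ((η n T).hom m) = η' n T m := by
  have h := (Over.forget T).toSheafify_pullbackSheafificationCompatibility AddCommGrpCat.{u + 1}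
    (X.smallEtaleTopology.over T) X.smallEtaleTopology (cP n X)
  have h1 := congrArg (fun k => (k.app (op (Over.mk (𝟙 T)))).hom m) h
  let cmp := ((Over.forget T).pushforwardContinuousSheafificationCompatibility
    AddCommGrpCat.{u + 1} (X.smallEtaleTopology.over T) X.smallEtaleTopology).app (cP n X)
  have h2 : cmp.hom.hom.app (op (Over.mk (𝟙 T))) ≫ cmp.inv.hom.app (op (Over.mk (𝟙 T))) =
      𝟙 _ := by
    rw [← NatTrans.comp_app, ← ObjectProperty.FullSubcategory.comp_hom, Iso.hom_inv_id]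
    rfl
  have h3 : (cmp.hom.hom.app (op (Over.mk (𝟙 T)))).hom (η' n T m) = (η n T).hom m := h1
  rw [← h3]
  exact congrArg (fun k => k.hom (η' n T m)) h2

/-- the pairing -/
noncomputable def B (s s' : (Λ n X).obj.obj (op T)) : (Λ n X).obj.obj (op T) :=
  ((shat n T s).app (op (Over.mk (𝟙 T)))).hom (κ n T s')

lemma B_η (s : (Λ n X).obj.obj (op T)) (m : ULift.{u + 1} (ZMod n)) :
    B n T s ((η n T).hom m) = ((m.down.val : ℕ) : ℤ) • s := by
  unfold B
  rw [κ_η]
  have h := toSheafify_sheafifyLift (X.smallEtaleTopology.over T) (α n T s)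
    ((Λ n X).over T).property
  have h1 := congrArg (fun k => (k.app (op (Over.mk (𝟙 T)))).hom m) h
  refine h1.trans ?_
  rw [α_app]
  congr 1
  unfold resS
  change ((Λ n X).obj.map (𝟙 (op T))).hom s = s
  rw [CategoryTheory.Functor.map_id]
  rfl

lemma B_add_left (s₁ s₂ s' : (Λ n X).obj.obj (op T)) :
    B n T (s₁ + s₂) s' = B n T s₁ s' + B n T s₂ s' := by
  unfold B
  rw [shat_add]
  rfl

lemma B_add_right (s s₁ s₂ : (Λ n X).obj.obj (op T)) :
    B n T s (s₁ + s₂) = B n T s s₁ + B n T s s₂ := by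
  unfold B
  rw [map_add, map_add]
  rfl

/-- the pairing as a bi-additive map -/
noncomputable def Bhom : (Λ n X).obj.obj (op T) →+ (Λ n X).obj.obj (op T) →+
    (Λ n X).obj.obj (op T) :=
  AddMonoidHom.mk' (fun s => AddMonoidHom.mk' (fun s' => B n T s s') (B_add_right n T s)) (by
    intro s₁ s₂
    ext s'
    exact B_add_left n T s₁ s₂ s')

/-- the pairing as an additive map out of the tensor product -/
noncomputable def β : ((Λ n X).obj.obj (op T)) ⊗[ℤ] ((Λ n X).obj.obj (op T)) →+
    (Λ n X).obj.obj (op T) :=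
  TensorProduct.liftAddHom (Bhom n T) (by
    intro r m m'
    rw [map_zsmul, AddMonoidHom.smul_apply, map_zsmul])

lemma β_tmul (s s' : (Λ n X).obj.obj (op T)) : β n T (s ⊗ₜ[ℤ] s') = B n T s s' := by
  unfold β
  rw [TensorProduct.liftAddHom_tmul]
  rfl

lemma η_injective (hT : (⊥ : Sieve T) ∉ X.smallEtaleTopology T) :
    Function.Injective (η n T).hom := by
  intro m m' h
  by_contra hne
  apply hT
  have h1 : Presheaf.equalizerSieve (F := cP n X) (X := op T) m m' ∈ X.smallEtaleTopology T :=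
    Presheaf.equalizerSieve_mem X.smallEtaleTopology
      (toSheafify X.smallEtaleTopology (cP n X)) m m' h
  have h2 : Presheaf.equalizerSieve (F := cP n X) (X := op T) m m' = ⊥ := by
    ext Z f
    simp only [Presheaf.equalizerSieve_apply, Sieve.bot_apply, iff_false]
    intro h
    exact hne h
  rwa [h2] at h1

lemma ψ_injective (hT : (⊥ : Sieve T) ∉ X.smallEtaleTopology T) :
    Function.Injective ((ψ n (X := X)).app (op T)).hom := by
  intro m m' h
  have h1 := congrArg (β n T) h
  rw [ψ_app, ψ_app, β_tmul, β_tmul] at h1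
  unfold e1 at h1
  rw [B_η, B_η, ← map_zsmul, ← map_zsmul, val_one_zsmul, val_one_zsmul] at h1
  exact η_injective n T hT h1

end Pairing

instance isLocallyInjective_ψ [NeZero n] :
    Presheaf.IsLocallyInjective X.smallEtaleTopology (ψ n (X := X)) where
  equalizerSieve_mem {T} x y h := by
    by_cases hT : (⊥ : Sieve T.unop) ∈ X.smallEtaleTopology T.unop
    · exact X.smallEtaleTopology.superset_covering bot_le hT
    · have hxy := ψ_injective n T.unop hT h
      subst hxy
      rw [Presheaf.equalizerSieve_self_eq_top]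
      exact X.smallEtaleTopology.top_mem _

/-- `ℤ/n ≅ ℤ/n ⊗ ℤ/n` for constant étale sheaves -/
theorem nonempty_tensorConstIso [NeZero n] :
    Nonempty (Λ n X ≅ EtDual.tensorAb (Λ n X) (Λ n X)) := by
  have hW : X.smallEtaleTopology.W (ψ n (X := X)) :=
    GrothendieckTopology.W_of_isLocallyBijective _ _
  have hiso : IsIso ((presheafToSheaf X.smallEtaleTopology AddCommGrpCat.{u + 1}).map
      (ψ n (X := X))) := (GrothendieckTopology.W_iff _ _).1 hW
  exact ⟨@asIso _ _ _ _ ((presheafToSheaf X.smallEtaleTopology AddCommGrpCat.{u + 1}).map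
    (ψ n (X := X))) hiso⟩

end Groth.Agent.Lib.Cohomology.TensorConst
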