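import Groth.Agent.Lib.Cohomology.Helper3_TensorConst

/-!
# Functoriality of `EtDual.tensorAb` and compatibility with étale restriction (helper3)
-/

set_option autoImplicit false
universe u
open CategoryTheory CategoryTheory.Limits AlgebraicGeometry Opposite
open scoped TensorProduct

namespace Groth.Agent.Lib.Cohomology.TensorFunct

open Groth.Agent.Lib.Cohomology Groth.Agent.Lib.Helper47

section Funct

variable {X : Scheme.{u}}

lemma hom_ext_tensor {A B : EtCoh.Ab X} {T : X.Etaleᵒᵖ} {G : AddCommGrpCat.{u + 1}}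
    (f g : (EtDual.tensorPre A B).obj T ⟶ G)
    (h : ∀ (a : A.obj.obj T) (b : B.obj.obj T), f.hom (a ⊗ₜ[ℤ] b) = g.hom (a ⊗ₜ[ℤ] b)) :
    f = g := by
  ext x
  induction x using TensorProduct.induction_on with
  | zero => exact (map_zero f.hom).trans (map_zero g.hom).symm
  | tmul a b => exact h a b
  | add x y hx hy =>
    exact (map_add f.hom x y).trans ((congrArg₂ (· + ·) hx hy).trans (map_add g.hom x y).symm)

/-- functoriality of the presheaf tensor product -/
noncomputable def tensorPreMap {A A' B B' : EtCoh.Ab X} (φ : A ⟶ A') (ψ : B ⟶ B') :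
    EtDual.tensorPre A B ⟶ EtDual.tensorPre A' B' where
  app T := AddCommGrpCat.ofHom (TensorProduct.map (φ.hom.app T).hom.toIntLinearMap
    (ψ.hom.app T).hom.toIntLinearMap).toAddMonoidHom
  naturality T T' f := by
    apply hom_ext_tensor
    intro a b
    change (TensorProduct.map (φ.hom.app T').hom.toIntLinearMap
        (ψ.hom.app T').hom.toIntLinearMap)
        ((TensorProduct.map (EtDual.resLin A f) (EtDual.resLin B f)) (a ⊗ₜ[ℤ] b)) =
      (TensorProduct.map (EtDual.resLin A' f) (EtDual.resLin B' f))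
        ((TensorProduct.map (φ.hom.app T).hom.toIntLinearMap
          (ψ.hom.app T).hom.toIntLinearMap) (a ⊗ₜ[ℤ] b))
    rw [TensorProduct.map_tmul, TensorProduct.map_tmul, TensorProduct.map_tmul,
      TensorProduct.map_tmul]
    have h1 := congrArg (fun k => k.hom a) (φ.hom.naturality f)
    have h2 := congrArg (fun k => k.hom b) (ψ.hom.naturality f)
    exact congrArg₂ (· ⊗ₜ[ℤ] ·) h1 h2

lemma tensorPreMap_app_tmul {A A' B B' : EtCoh.Ab X} (φ : A ⟶ A') (ψ : B ⟶ B')
    (T : X.Etaleᵒᵖ) (a : A.obj.obj T) (b : B.obj.obj T) :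
    ((tensorPreMap φ ψ).app T).hom (a ⊗ₜ[ℤ] b) =
      ((φ.hom.app T).hom a) ⊗ₜ[ℤ] ((ψ.hom.app T).hom b) := by
  change (TensorProduct.map (φ.hom.app T).hom.toIntLinearMap
    (ψ.hom.app T).hom.toIntLinearMap) (a ⊗ₜ[ℤ] b) = _
  rw [TensorProduct.map_tmul]
  rfl

lemma tensorPreMap_ext {A B : EtCoh.Ab X} {P : X.Etaleᵒᵖ ⥤ AddCommGrpCat.{u + 1}}
    (f g : EtDual.tensorPre A B ⟶ P)
    (h : ∀ (T : X.Etaleᵒᵖ) (a : A.obj.obj T) (b : B.obj.obj T),
      (f.app T).hom (a ⊗ₜ[ℤ] b) = (g.app T).hom (a ⊗ₜ[ℤ] b)) : f = g := by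
  ext T : 2
  exact hom_ext_tensor _ _ (h T)

lemma tensorPreMap_id (A B : EtCoh.Ab X) : tensorPreMap (𝟙 A) (𝟙 B) = 𝟙 _ := by
  apply tensorPreMap_ext
  intro T a b
  rw [tensorPreMap_app_tmul]
  rfl

lemma tensorPreMap_comp {A A' A'' B B' B'' : EtCoh.Ab X} (φ : A ⟶ A') (φ' : A' ⟶ A'')
    (ψ : B ⟶ B') (ψ' : B' ⟶ B'') :
    tensorPreMap (φ ≫ φ') (ψ ≫ ψ') = tensorPreMap φ ψ ≫ tensorPreMap φ' ψ' := by
  apply tensorPreMap_ext
  intro T a b
  change _ = ((tensorPreMap φ' ψ').app T).hom (((tensorPreMap φ ψ).app T).hom (a ⊗ₜ[ℤ] b))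
  rw [tensorPreMap_app_tmul, tensorPreMap_app_tmul, tensorPreMap_app_tmul]
  rfl

/-- `tensorAb` respects isomorphisms -/
noncomputable def tensorAbIso {A A' B B' : EtCoh.Ab X} (a : A ≅ A') (b : B ≅ B') :
    EtDual.tensorAb A B ≅ EtDual.tensorAb A' B' :=
  (presheafToSheaf X.smallEtaleTopology AddCommGrpCat.{u + 1}).mapIso
    { hom := tensorPreMap a.hom b.hom
      inv := tensorPreMap a.inv b.inv
      hom_inv_id := by
        rw [← tensorPreMap_comp, Iso.hom_inv_id, Iso.hom_inv_id, tensorPreMap_id]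
      inv_hom_id := by
        rw [← tensorPreMap_comp, Iso.inv_hom_id, Iso.inv_hom_id, tensorPreMap_id] }

end Funct

section Restr

variable {X W : Scheme.{u}} (g : W ⟶ X) [Etale g]

set_option backward.isDefEq.respectTransparency.types false in
instance isCocontinuous_compEtale :
    (EtShriek.compEtale g).IsCocontinuous W.smallEtaleTopology X.smallEtaleTopology where
  cover_lift {T S} hS := by
    have eW : W.smallEtaleTopology =
        (W.smallPretopology (P := EtCoh.etaleMP) (Q := EtCoh.etaleMP)).toGrothendieck :=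
      Scheme.smallGrothendieckTopology_eq_toGrothendieck_smallPretopology W le_rfl
    rw [eW]
    refine (Scheme.mem_toGrothendieck_smallPretopology T _).2 ?_
    intro t
    obtain ⟨T₀, a, t₀, hSa, ht₀⟩ :=
      LocConst.exists_mem_sieve_point ((EtShriek.compEtale g).obj T) S hS t
    have e1 : a.left ≫ T.hom ≫ g = T₀.hom := MorphismProperty.Over.w a
    have hW : EtCoh.etaleMP ((a.left ≫ T.hom) ≫ g) := by
      rw [Category.assoc, e1]; exact T₀.prop
    have hT₀' : EtCoh.etaleMP (a.left ≫ T.hom) :=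
      EtCoh.etaleMP.of_postcomp (W' := EtCoh.etaleMP) (a.left ≫ T.hom) g inferInstance hW
    let T₀' : W.Etale := MorphismProperty.Over.mk ⊤ (a.left ≫ T.hom) hT₀'
    let a' : T₀' ⟶ T := MorphismProperty.Over.homMk a.left rfl
    let e : (EtShriek.compEtale g).obj T₀' ≅ T₀ := MorphismProperty.Over.isoMk (Iso.refl _)
      ((Category.id_comp T₀.hom).trans (e1.symm.trans (Category.assoc _ _ _).symm))
    have k1 : (EtShriek.compEtale g).map a' = e.hom ≫ a := by
      apply MorphismProperty.Over.Hom.ext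
      exact (Category.id_comp a.left).symm
    refine ⟨T₀', a', t₀, ?_, ?_, ht₀⟩
    · change S ((EtShriek.compEtale g).map a')
      rw [k1]
      exact S.downward_closed hSa e.hom
    · exact EtCoh.etaleMP.of_postcomp (W' := EtCoh.etaleMP) a.left T.hom T.prop hT₀'

/-- restriction along an étale map commutes with the presheaf tensor product -/
noncomputable def restrTensorPreIso (A B : EtCoh.Ab X) :
    (EtShriek.compEtale g).op ⋙ EtDual.tensorPre A B ≅
      EtDual.tensorPre ((EtShriek.restrAlong g).obj A) ((EtShriek.restrAlong g).obj B) :=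
  NatIso.ofComponents (fun T => Iso.refl _) (by
    intro T T' f
    simp only [Iso.refl_hom, Category.comp_id, Category.id_comp]
    rfl)

/-- restriction along an étale map commutes with the tensor product of sheaves -/
noncomputable def restrTensorIso (A B : EtCoh.Ab X) :
    (EtShriek.restrAlong g).obj (EtDual.tensorAb A B) ≅
      EtDual.tensorAb ((EtShriek.restrAlong g).obj A) ((EtShriek.restrAlong g).obj B) :=
  (((EtShriek.compEtale g).pushforwardContinuousSheafificationCompatibility
    AddCommGrpCat.{u + 1} W.smallEtaleTopology X.smallEtaleTopology).app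
      (EtDual.tensorPre A B)).symm ≪≫
  (presheafToSheaf W.smallEtaleTopology AddCommGrpCat.{u + 1}).mapIso (restrTensorPreIso g A B)

end Restr

end Groth.Agent.Lib.Cohomology.TensorFunct
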