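import Groth.Agent.Lib.Cohomology.Helper3_EtDepthExt
import Groth.Agent.Lib.Cohomology.Helper3_RDerFunSES

/-!
# Cohomology with supports for a triple `Z ⊆ Y ⊆ X` (helper3)

For open immersions `j' : U → X'`, `k' : X' → X`, `j = j' ≫ k'` (so `Z = X - X'`, `Y = X - U`,
`V = X' - U`): the sequence `0 → Γ_Z(X, -) → Γ_Y(X, -) → Γ_V(X', -|_{X'}) → 0` is exact on
injectives, hence `H^p_Y(X, F) ≅ H^p_V(X', F|_{X'})` when `H^p_Z(X, F) = H^{p+1}_Z(X, F) = 0`.
-/

set_option autoImplicit false
universe u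
open CategoryTheory CategoryTheory.Limits AlgebraicGeometry Opposite

namespace Groth.Agent.Lib.Cohomology.TripleSupp

open Groth.Agent.Lib.Helper34 Groth.Agent.Lib.Helper47
open Groth.Agent.Lib.Cohomology Groth.Agent.Lib.Cohomology.EtMV Groth.Agent.Lib.Cohomology.EtExc

section Lift

variable {U X : Scheme.{u}} (j : U ⟶ X) [IsOpenImmersion j]

/-- a chosen preimage under `γ` -/
noncomputable def pre (G : EtCoh.Ab X) (s : G.obj.obj (op (EtCoh.top X)))
    (hs : (G.obj.map (tU j).op).hom s = 0) : (EtDual.gammaSupp j).obj G :=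
  Classical.choose (exists_γ j G s hs)

lemma pre_spec (G : EtCoh.Ab X) (s : G.obj.obj (op (EtCoh.top X)))
    (hs : (G.obj.map (tU j).op).hom s = 0) : ((γ j).app G).hom (pre j G s hs) = s :=
  Classical.choose_spec (exists_γ j G s hs)

/-- a map into `G(X)` whose image dies on `U` lifts to `Γ_Y(X, G)` -/
noncomputable def liftγ {A : AddCommGrpCat.{u + 1}} (G : EtCoh.Ab X)
    (f : A ⟶ G.obj.obj (op (EtCoh.top X)))
    (hf : ∀ a, (G.obj.map (tU j).op).hom (f.hom a) = 0) : A ⟶ (EtDual.gammaSupp j).obj G :=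
  AddCommGrpCat.ofHom
    { toFun := fun a => pre j G (f.hom a) (hf a)
      map_zero' := by
        apply γ_injective j G
        refine (pre_spec j G _ _).trans ?_
        exact (map_zero f.hom).trans (map_zero ((γ j).app G).hom).symm
      map_add' := fun a b => by
        apply γ_injective j G
        refine (pre_spec j G _ _).trans ?_
        refine (map_add f.hom a b).trans ?_
        refine Eq.trans ?_ (map_add ((γ j).app G).hom _ _).symm
        exact (congrArg₂ (· + ·) (pre_spec j G _ (hf a)) (pre_spec j G _ (hf b))).symm }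

lemma liftγ_γ {A : AddCommGrpCat.{u + 1}} (G : EtCoh.Ab X)
    (f : A ⟶ G.obj.obj (op (EtCoh.top X)))
    (hf : ∀ a, (G.obj.map (tU j).op).hom (f.hom a) = 0) (a : A) :
    ((γ j).app G).hom ((liftγ j G f hf).hom a) = f.hom a :=
  pre_spec j G (f.hom a) (hf a)

end Lift

section Triple

variable {X X' U : Scheme.{u}} (j : U ⟶ X) [IsOpenImmersion j] (k' : X' ⟶ X) [IsOpenImmersion k']
  (j' : U ⟶ X') [IsOpenImmersion j'] (hfac : j' ≫ k' = j)

include hfac in
lemma hom_eq₁ : j' ≫ (Uo k').hom = (Uo j).hom := by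
  change j' ≫ (𝟙 X' ≫ k') = 𝟙 U ≫ j
  rw [Category.id_comp, Category.id_comp, hfac]

/-- `U → X'` as a map of the small étale site of `X` -/
noncomputable def m : Uo j ⟶ Uo k' := MorphismProperty.Over.homMk j' (hom_eq₁ j k' j' hfac)

lemma m_tU : m j k' j' hfac ≫ tU k' = tU j := (EtCore.topIsTerminal X).hom_ext _ _

include hfac in
lemma hom_eq₂ : 𝟙 U ≫ (Uo j).hom = ((EtShriek.compEtale k').obj (Uo j')).hom := by
  change 𝟙 U ≫ (𝟙 U ≫ j) = (𝟙 U ≫ j') ≫ k'
  rw [Category.id_comp, Category.id_comp, Category.id_comp, hfac]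

/-- `U` over `X` via `X'` is `U` over `X` -/
noncomputable def i : (EtShriek.compEtale k').obj (Uo j') ⟶ Uo j :=
  MorphismProperty.Over.homMk (𝟙 U) (hom_eq₂ j k' j' hfac)

/-- `U` over `X` is `U` over `X` via `X'` -/
noncomputable def i' : Uo j ⟶ (EtShriek.compEtale k').obj (Uo j') :=
  MorphismProperty.Over.homMk (𝟙 U) (hom_eq₂ j k' j' hfac).symm

lemma i_tU : (EtShriek.compEtale k').map (tU j') ≫ tU k' = i j k' j' hfac ≫ tU j :=
  (EtCore.topIsTerminal X).hom_ext _ _

lemma i'_m : i' j k' j' hfac ≫ (EtShriek.compEtale k').map (tU j') = m j k' j' hfac := by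
  apply (cancel_mono (tU k')).1
  exact (EtCore.topIsTerminal X).hom_ext _ _

include hfac in
lemma α_res (G : EtCoh.Ab X) (x : (EtDual.gammaSupp k').obj G) :
    (G.obj.map (tU j).op).hom (((γ k').app G).hom x) = 0 := by
  have h1 : (G.obj.map (tU j).op).hom (((γ k').app G).hom x) =
      (G.obj.map (m j k' j' hfac).op).hom
        ((G.obj.map (tU k').op).hom (((γ k').app G).hom x)) := by
    rw [← m_tU j k' j' hfac, op_comp, Functor.map_comp]
    rfl
  rw [h1, γ_res, map_zero]

/-- `Γ_Z(G) ⟶ Γ_Y(G)` -/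
noncomputable def αapp (G : EtCoh.Ab X) :
    (EtDual.gammaSupp k').obj G ⟶ (EtDual.gammaSupp j).obj G :=
  liftγ j G ((γ k').app G) (α_res j k' j' hfac G)

lemma γ_αapp (G : EtCoh.Ab X) (x : (EtDual.gammaSupp k').obj G) :
    ((γ j).app G).hom ((αapp j k' j' hfac G).hom x) = ((γ k').app G).hom x :=
  liftγ_γ j G _ _ x

/-- `Γ_Z ⟶ Γ_Y` -/
noncomputable def α : EtDual.gammaSupp k' ⟶ EtDual.gammaSupp j where
  app G := αapp j k' j' hfac G
  naturality G G' φ := by
    ext x
    apply γ_injective j G'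
    show ((γ j).app G').hom ((αapp j k' j' hfac G').hom (((EtDual.gammaSupp k').map φ).hom x)) =
      ((γ j).app G').hom (((EtDual.gammaSupp j).map φ).hom ((αapp j k' j' hfac G).hom x))
    rw [γ_αapp, γ_nat, γ_nat, γ_αapp]

lemma γ_α (G : EtCoh.Ab X) (x : (EtDual.gammaSupp k').obj G) :
    ((γ j).app G).hom (((α j k' j' hfac).app G).hom x) = ((γ k').app G).hom x :=
  γ_αapp j k' j' hfac G x

/-- restriction of a section with support to `X'` -/
noncomputable def βf (G : EtCoh.Ab X) : (EtDual.gammaSupp j).obj G ⟶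
    ((EtShriek.restrAlong k').obj G).obj.obj (op (EtCoh.top X')) :=
  (γ j).app G ≫ G.obj.map (tU k').op

include hfac in
lemma βf_res (G : EtCoh.Ab X) (x : (EtDual.gammaSupp j).obj G) :
    (((EtShriek.restrAlong k').obj G).obj.map (tU j').op).hom ((βf j k' G).hom x) = 0 := by
  have h1 : (((EtShriek.restrAlong k').obj G).obj.map (tU j').op).hom ((βf j k' G).hom x) =
      (G.obj.map ((EtShriek.compEtale k').map (tU j') ≫ tU k').op).hom
        (((γ j).app G).hom x) := by
    rw [op_comp, Functor.map_comp]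
    rfl
  rw [h1, i_tU j k' j' hfac, op_comp, Functor.map_comp]
  change (G.obj.map (i j k' j' hfac).op).hom
    ((G.obj.map (tU j).op).hom (((γ j).app G).hom x)) = 0
  rw [γ_res, map_zero]

/-- `Γ_Y(X, G) ⟶ Γ_V(X', G|_{X'})` -/
noncomputable def βapp (G : EtCoh.Ab X) :
    (EtDual.gammaSupp j).obj G ⟶ (EtDual.gammaSupp j').obj ((EtShriek.restrAlong k').obj G) :=
  liftγ j' ((EtShriek.restrAlong k').obj G) (βf j k' G) (βf_res j k' j' hfac G)

lemma γ_βapp (G : EtCoh.Ab X) (y : (EtDual.gammaSupp j).obj G) :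
    ((γ j').app ((EtShriek.restrAlong k').obj G)).hom ((βapp j k' j' hfac G).hom y) =
      (G.obj.map (tU k').op).hom (((γ j).app G).hom y) :=
  liftγ_γ j' _ _ _ y

/-- `Γ_Y(X, -) ⟶ Γ_V(X', -|_{X'})` -/
noncomputable def β : EtDual.gammaSupp j ⟶ EtShriek.restrAlong k' ⋙ EtDual.gammaSupp j' where
  app G := βapp j k' j' hfac G
  naturality G G' φ := by
    ext x
    apply γ_injective j' ((EtShriek.restrAlong k').obj G')
    show ((γ j').app _).hom ((βapp j k' j' hfac G').hom (((EtDual.gammaSupp j).map φ).hom x)) =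
      ((γ j').app _).hom (((EtDual.gammaSupp j').map ((EtShriek.restrAlong k').map φ)).hom
        ((βapp j k' j' hfac G).hom x))
    rw [γ_βapp j k' j' hfac G', γ_nat j φ x, γ_nat j' ((EtShriek.restrAlong k').map φ),
      γ_βapp j k' j' hfac G x]
    exact (congrArg (fun k => k.hom (((γ j).app G).hom x)) (φ.hom.naturality (tU k').op)).symm

lemma γ_β (G : EtCoh.Ab X) (y : (EtDual.gammaSupp j).obj G) :
    ((γ j').app ((EtShriek.restrAlong k').obj G)).hom (((β j k' j' hfac).app G).hom y) =
      (G.obj.map (tU k').op).hom (((γ j).app G).hom y) :=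
  γ_βapp j k' j' hfac G y

/-- the sequence `Γ_Z ⟶ Γ_Y ⟶ Γ_V(X', -|_{X'})`, short exact on injectives -/
noncomputable def T : RDerFunSES.FunSES (EtCoh.Ab X) AddCommGrpCat.{u + 1} where
  F₁ := EtDual.gammaSupp k'
  F₂ := EtDual.gammaSupp j
  F₃ := EtShriek.restrAlong k' ⋙ EtDual.gammaSupp j'
  α := α j k' j' hfac
  β := β j k' j' hfac
  zero G := by
    ext x
    apply γ_injective j' ((EtShriek.restrAlong k').obj G)
    show ((γ j').app _).hom (((β j k' j' hfac).app G).hom (((α j k' j' hfac).app G).hom x)) =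
      ((γ j').app _).hom 0
    rw [γ_β, γ_α, γ_res]
    exact (map_zero _).symm
  exact I hI := by
    haveI := hI
    refine { exact := ?_, mono_f := ?_, epi_g := ?_ }
    · rw [ShortComplex.ab_exact_iff]
      intro y hy
      have hy' : ((β j k' j' hfac).app I).hom y = 0 := hy
      have h1 : (I.obj.map (tU k').op).hom (((γ j).app I).hom y) = 0 := by
        rw [← γ_β j k' j' hfac I y, hy']
        exact map_zero _
      obtain ⟨x, hx⟩ := exists_γ k' I _ h1
      refine ⟨x, γ_injective j I ?_⟩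
      exact (γ_α j k' j' hfac I x).trans hx
    · change Mono ((α j k' j' hfac).app I)
      rw [AddCommGrpCat.mono_iff_injective]
      intro x x' hxx
      apply γ_injective k' I
      rw [← γ_α j k' j' hfac I x, ← γ_α j k' j' hfac I x']
      exact congrArg ((γ j).app I).hom hxx
    · change Epi ((β j k' j' hfac).app I)
      rw [AddCommGrpCat.epi_iff_surjective]
      intro z
      obtain ⟨s, hs⟩ := surjective_res_of_injective k' I
        (((γ j').app ((EtShriek.restrAlong k').obj I)).hom z)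
      have hs' : (I.obj.map (tU k').op).hom s =
        ((γ j').app ((EtShriek.restrAlong k').obj I)).hom z := hs
      have hs0 : (I.obj.map (tU j).op).hom s = 0 := by
        have e1 : tU j = i' j k' j' hfac ≫ ((EtShriek.compEtale k').map (tU j') ≫ tU k') :=
          (EtCore.topIsTerminal X).hom_ext _ _
        have h1 : (I.obj.map (tU j).op).hom s =
            (I.obj.map (i' j k' j' hfac).op).hom
              ((I.obj.map ((EtShriek.compEtale k').map (tU j') ≫ tU k').op).hom s) := by
          rw [e1, op_comp, Functor.map_comp]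
          rfl
        have h2 : (I.obj.map ((EtShriek.compEtale k').map (tU j') ≫ tU k').op).hom s =
            (((EtShriek.restrAlong k').obj I).obj.map (tU j').op).hom
              ((I.obj.map (tU k').op).hom s) := by
          rw [op_comp, Functor.map_comp]
          rfl
        rw [h1, h2, hs', γ_res]
        exact map_zero _
      obtain ⟨y, hy⟩ := exists_γ j I s hs0
      refine ⟨y, γ_injective j' _ ?_⟩
      rw [γ_β, hy, hs']

include hfac in
/-- `H^p_Y(X, F) ≅ H^p_V(X', F|_{X'})` when `H^p_Z(X, F) = H^{p+1}_Z(X, F) = 0` -/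
theorem nonempty_HY_iso_of_vanish (F : EtCoh.Ab X) (p : ℕ)
    (h0 : IsZero ((EtDual.HY k' p).obj F)) (h1 : IsZero ((EtDual.HY k' (p + 1)).obj F)) :
    Nonempty ((EtDual.HY j p).obj F ≅
      (EtDual.HY j' p).obj ((EtShriek.restrAlong k').obj F)) := by
  let b : (EtDual.HY j p).obj F ⟶
      ((EtShriek.restrAlong k' ⋙ EtDual.gammaSupp j').rightDerived p).obj F :=
    (NatTrans.rightDerived (T j k' j' hfac).β p).app F
  have hex2 := (T j k' j' hfac).exact₂ F p
  have hex3 := (T j k' j' hfac).exact₃ F p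
  have hmono : Mono b := hex2.mono_g (h0.eq_of_src _ _)
  have hepi : Epi b := hex3.epi_f (h1.eq_of_tgt _ _)
  haveI : IsIso b := isIso_of_mono_of_epi b
  have hacyc : ∀ (n : ℕ) (I : EtCoh.Ab X), Injective I →
      IsZero (((EtDual.gammaSupp j').rightDerived (n + 1)).obj
        ((EtShriek.restrAlong k').obj I)) := by
    intro n I hI
    haveI := EtRestr.injective_restrAlong k' I
    exact Functor.isZero_rightDerived_obj_injective_succ _ n _
  obtain ⟨e1⟩ := RDerComp.nonempty_rightDerived_comp_iso (F := EtShriek.restrAlong k')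
    (G := EtDual.gammaSupp j') hacyc p
  exact ⟨asIso b ≪≫ e1.app F⟩

end Triple

end Groth.Agent.Lib.Cohomology.TripleSupp
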