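import Groth.Agent.Lib.Cohomology.Helper4_Cech
import Mathlib.CategoryTheory.Preadditive.Injective.Basic

/-!
# Čech cohomology of injective (pre)sheaves vanishes (helper4)

Low-tech proof: for any presheaf `P` of abelian groups let `God P` be the presheaf
`W ↦ ∏_{V ≤ W} P(V)`. The Čech complex of `God P` is exact in positive degrees for every family
of opens (explicit contraction using a choice `V ↦ j(V)` with `V ≤ U_{j(V)}`), and `P ⟶ God P`,
`s ↦ (s|_V)_V` is a monomorphism; so an injective presheaf is a retract of `God P`, whence its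
Čech cohomology vanishes in positive degrees.  An injective sheaf is injective as a presheaf.
-/

universe u
open CategoryTheory TopologicalSpace Opposite CategoryTheory.Limits

namespace Groth.Agent.Lib.Cohomology.Cech

variable {X : TopCat.{u}} (P : (Opens X)ᵒᵖ ⥤ AddCommGrpCat.{u}) {ι : Type u} (U : ι → Opens X)

/-- The presheaf `W ↦ ∏_{V ≤ W} P(V)`. -/
def God : (Opens X)ᵒᵖ ⥤ AddCommGrpCat.{u} where
  obj W := AddCommGrpCat.of (∀ V : {V : Opens X // V ≤ W.unop}, P.obj (op V.1))
  map f := AddCommGrpCat.ofHom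
    { toFun := fun s V => s ⟨V.1, V.2.trans (leOfHom f.unop)⟩
      map_zero' := rfl
      map_add' := fun _ _ => rfl }
  map_id _ := rfl
  map_comp _ _ := rfl

/-- Evaluation of a section of `God P` over `W` at `V ≤ W`. -/
def God.ev {W V : Opens X} (h : V ≤ W) (s : (God P).obj (op W)) : P.obj (op V) :=
  s ⟨V, h⟩

lemma God.ext {W : Opens X} {s t : (God P).obj (op W)}
    (h : ∀ (V : Opens X) (hV : V ≤ W), God.ev P hV s = God.ev P hV t) : s = t := by
  funext ⟨V, hV⟩
  exact h V hV

@[simp] lemma God.ev_zero {W V : Opens X} (h : V ≤ W) : God.ev P h (0 : (God P).obj (op W)) = 0 :=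
  rfl

@[simp] lemma God.ev_add {W V : Opens X} (h : V ≤ W) (s t : (God P).obj (op W)) :
    God.ev P h (s + t) = God.ev P h s + God.ev P h t := rfl

/-- `God.ev` as an additive map. -/
def God.evHom {W V : Opens X} (h : V ≤ W) : (God P).obj (op W) →+ P.obj (op V) where
  toFun := God.ev P h
  map_zero' := rfl
  map_add' _ _ := rfl

@[simp] lemma God.ev_map {W W' V : Opens X} (f : op W ⟶ op W') (h : V ≤ W') (s : (God P).obj (op W)) :
    God.ev P h ((God P).map f s) = God.ev P (h.trans (leOfHom f.unop)) s := rfl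

/-- The canonical monomorphism `P ⟶ God P`. -/
def toGod : P ⟶ God P where
  app W := AddCommGrpCat.ofHom
    { toFun := fun s V => P.map (homOfLE V.2).op s
      map_zero' := by funext V; simp
      map_add' := fun s t => by funext V; simp }
  naturality W W' f := by
    ext s
    funext V
    change P.map _ (P.map f s) = P.map _ s
    rw [← ConcreteCategory.comp_apply, ← P.map_comp]
    rfl

instance : Mono (toGod P) := by
  have : ∀ W, Mono ((toGod P).app W) := by
    intro W
    rw [AddCommGrpCat.mono_iff_injective]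
    intro s t hst
    have := congrFun hst ⟨W.unop, le_rfl⟩
    change P.map (𝟙 _) s = P.map (𝟙 _) t at this
    simpa using this
  exact NatTrans.mono_of_mono_app _

/-- Evaluation of a cochain of `God P` at a tuple `i` and an open `V` contained in all `U (i a)`. -/
noncomputable def gev (m : ℕ) (i : Fin (m + 1) → ι) (V : Opens X) (hV : ∀ a, V ≤ U (i a)) :
    (cx (God P) U).X m →+ P.obj (op V) :=
  (God.evHom P (le_inter U i hV)).comp (proj (God P) U m i).hom

lemma gev_congr (m : ℕ) {i i' : Fin (m + 1) → ι} (h : i = i') (V : Opens X)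
    (hV : ∀ a, V ≤ U (i a)) (c : (cx (God P) U).X m) :
    gev P U m i V hV c = gev P U m i' V (fun a => h ▸ hV a) c := by
  subst h; rfl

lemma cons_comp_succAbove_succ {n : ℕ} (j : ι) (i : Fin (n + 2) → ι) (k : Fin (n + 2)) :
    (Fin.cons j i : Fin (n + 3) → ι) ∘ k.succ.succAbove = Fin.cons j (i ∘ k.succAbove) := by
  funext a
  refine Fin.cases ?_ (fun a' => ?_) a
  · simp
  · simp

lemma cons_comp_succAbove_zero {n : ℕ} (j : ι) (i : Fin (n + 2) → ι) :
    (Fin.cons j i : Fin (n + 3) → ι) ∘ (0 : Fin (n + 3)).succAbove = i := by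
  funext a
  simp

lemma gev_d (m : ℕ) (i : Fin (m + 2) → ι) (V : Opens X) (hV : ∀ a, V ≤ U (i a))
    (c : (cx (God P) U).X m) :
    gev P U (m + 1) i V hV ((cx (God P) U).d m (m + 1) c) =
      ∑ k : Fin (m + 2), (-1 : ℤ) ^ (k : ℕ) •
        gev P U m (i ∘ k.succAbove) V (fun _ => hV _) c := by
  change God.evHom P _ (proj (God P) U (m + 1) i _) = _
  rw [proj_d_apply, map_sum]
  refine Finset.sum_congr rfl fun k _ => ?_
  rw [map_zsmul]
  rfl

theorem isZero_cechH_God (n : ℕ) : IsZero (CohTop.cechH (God P) U (n + 1)) := by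
  classical
  rw [isZero_cechH_succ_iff]
  intro c hc
  have hcons : ∀ {m : ℕ} (j : ι) (i : Fin (m + 1) → ι) (V : Opens X), V ≤ U j →
      (∀ a, V ≤ U (i a)) → ∀ a, V ≤ U ((Fin.cons j i : Fin (m + 2) → ι) a) := by
    intro m j i V hj hi a
    refine Fin.cases ?_ (fun a' => ?_) a
    · simpa using hj
    · simpa using hi a'
  let b : Coch (God P) U n := fun i => (fun V =>
    if h : ∃ j, V.1 ≤ U j then
      gev P U (n + 1) (Fin.cons h.choose i) V.1
        (hcons _ _ _ h.choose_spec (fun a => V.2.trans (inter_le U i a))) c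
    else 0)
  refine ⟨(cochEquiv (God P) U n).symm b, ?_⟩
  apply cx_ext
  intro i
  apply God.ext
  intro V hV
  have hVi : ∀ a, V ≤ U (i a) := fun a => hV.trans (inter_le U i a)
  change gev P U (n + 1) i V hVi _ = gev P U (n + 1) i V hVi c
  rw [gev_d]
  have hex : ∃ j, V ≤ U j := ⟨i 0, hVi 0⟩
  set j := hex.choose with hj
  have hjV : V ≤ U j := hex.choose_spec
  have hb : ∀ k : Fin (n + 2), gev P U n (i ∘ k.succAbove) V (fun a => hVi _)
      ((cochEquiv (God P) U n).symm b) =
      gev P U (n + 1) (Fin.cons j (i ∘ k.succAbove)) V (hcons _ _ _ hjV (fun a => hVi _)) c := by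
    intro k
    change God.ev P _ (proj (God P) U n _ _) = _
    rw [proj_cochEquiv_symm]
    change b (i ∘ k.succAbove) ⟨V, _⟩ = _
    simp only [b]
    rw [dif_pos hex]
  simp only [hb]
  -- the cocycle condition at `cons j i`
  have hcoc := congrArg (gev P U (n + 2) (Fin.cons j i) V (hcons j i V hjV hVi)) hc
  rw [gev_d, map_zero, Fin.sum_univ_succ] at hcoc
  have h0 : gev P U (n + 1) ((Fin.cons j i : Fin (n + 3) → ι) ∘ (0 : Fin (n + 3)).succAbove) V
      (fun a => hcons j i V hjV hVi _) c = gev P U (n + 1) i V hVi c :=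
    gev_congr P U (n + 1) (cons_comp_succAbove_zero j i) V _ c
  have hk : ∀ k : Fin (n + 2),
      gev P U (n + 1) ((Fin.cons j i : Fin (n + 3) → ι) ∘ k.succ.succAbove) V
        (fun a => hcons j i V hjV hVi _) c =
      gev P U (n + 1) (Fin.cons j (i ∘ k.succAbove)) V
        (hcons _ _ _ hjV (fun a => hVi _)) c := fun k =>
    gev_congr P U (n + 1) (cons_comp_succAbove_succ j i k) V _ c
  rw [h0] at hcoc
  simp only [hk, Fin.val_succ, pow_succ, Fin.val_zero, pow_zero, one_smul] at hcoc
  simp only [mul_neg, mul_one, neg_smul, Finset.sum_neg_distrib] at hcoc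
  exact (eq_of_sub_eq_zero (by rw [← hcoc]; abel)).symm

/-- Čech cohomology of an injective presheaf vanishes in positive degrees (any family). -/
theorem isZero_cechH_of_injective [Injective P] (n : ℕ) : IsZero (CohTop.cechH P U (n + 1)) := by
  let r : God P ⟶ P := Injective.factorThru (𝟙 P) (toGod P)
  have hr : toGod P ≫ r = 𝟙 P := Injective.comp_factorThru _ _
  let F := cechComplexFunctor U ⋙ HomologicalComplex.homologyFunctor AddCommGrpCat.{u} _ (n + 1)
  have : IsZero (F.obj P) := by
    rw [IsZero.iff_id_eq_zero, ← F.map_id, ← hr, F.map_comp]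
    have h0 : IsZero (F.obj (God P)) := isZero_cechH_God P U n
    rw [h0.eq_of_tgt (F.map (toGod P)) 0, zero_comp]
  exact this

/-- An injective abelian sheaf is injective as a presheaf. -/
lemma injective_presheaf_of_injective_sheaf (F : CohTop.Ab X) [Injective F] : Injective F.obj :=
  Injective.injective_of_adjoint
    (sheafificationAdjunction (Opens.grothendieckTopology X) AddCommGrpCat.{u}) F

/-- Čech cohomology of an injective abelian sheaf vanishes in positive degrees (any family). -/
theorem isZero_cechH_of_injective_sheaf (F : CohTop.Ab X) [Injective F] (n : ℕ) :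
    IsZero (CohTop.cechH F.obj U (n + 1)) := by
  have := injective_presheaf_of_injective_sheaf F
  exact isZero_cechH_of_injective F.obj U n

end Groth.Agent.Lib.Cohomology.Cech
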