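import Mathlib.Algebra.Homology.DerivedCategory.Ext.ExactSequences
import Mathlib.Algebra.Homology.DerivedCategory.Ext.EnoughInjectives
import Mathlib.GroupTheory.QuotientGroup.Basic

/-!
# Comparison of `Ext` groups along an exact functor (helper4)

`ext_comparison`: let `R : 𝒜 ⥤ ℬ` be an additive functor sending short exact sequences to short
exact sequences, `A : 𝒜`, `B : ℬ`, with a natural isomorphism `Ext⁰(A, F) ≃+ Ext⁰(B, R F)` and
such that `Ext^{n+1}(B, R I) = 0` for every injective `I`.  Then `Ext^n(A, F) ≃+ Ext^n(B, R F)`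
for all `n` and `F` (dimension shifting; only existence of the isomorphism is asserted).
Also `extShift`: the connecting map `Ext^n(A, X₃) ≃+ Ext^{n+1}(A, X₁)` when the middle term is
`Ext`-acyclic in degrees `n, n+1`.
-/

universe w w' v v' u u'

open CategoryTheory CategoryTheory.Limits Abelian

namespace Groth.Agent.Lib.Cohomology

section shift

variable {C : Type u} [Category.{v} C] [Abelian C] [HasExt.{w} C]

/-- Dimension shifting: the connecting homomorphism is an isomorphism when the middle term has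
vanishing `Ext` in the two relevant degrees. -/
noncomputable def extShift {S : ShortComplex C} (hS : S.ShortExact) (A : C) (n : ℕ)
    (h1 : Subsingleton (Ext.{w} A S.X₂ n)) (h2 : Subsingleton (Ext.{w} A S.X₂ (n + 1))) :
    Ext.{w} A S.X₃ n ≃+ Ext.{w} A S.X₁ (n + 1) :=
  AddEquiv.ofBijective (hS.extClass.postcomp A rfl) (by
    constructor
    · rw [injective_iff_map_eq_zero]
      intro x hx
      obtain ⟨x₂, rfl⟩ := Ext.covariant_sequence_exact₃ A hS x rfl hx
      rw [Subsingleton.elim x₂ 0, Ext.zero_comp]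
    · intro y
      exact Ext.covariant_sequence_exact₁ A hS y (Subsingleton.elim _ _) rfl)

/-- The connecting map in degree `0 → 1` is surjective when `Ext¹(A, X₂) = 0`. -/
lemma extClass_postcomp_surjective {S : ShortComplex C} (hS : S.ShortExact) (A : C)
    (h2 : Subsingleton (Ext.{w} A S.X₂ 1)) :
    Function.Surjective (hS.extClass.postcomp A (zero_add 1)) := fun y =>
  Ext.covariant_sequence_exact₁ A hS y (Subsingleton.elim _ _) (zero_add 1)

/-- The kernel of the connecting map is the image of `Ext⁰(A, X₂)`. -/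
lemma ker_extClass_postcomp {S : ShortComplex C} (hS : S.ShortExact) (A : C) :
    (hS.extClass.postcomp A (zero_add 1)).ker = ((Ext.mk₀ S.g).postcomp A (add_zero 0)).range := by
  ext x
  constructor
  · intro hx
    obtain ⟨x₂, hx₂⟩ := Ext.covariant_sequence_exact₃ A hS x (zero_add 1) hx
    exact ⟨x₂, hx₂⟩
  · rintro ⟨x₂, rfl⟩
    change ((x₂.comp (Ext.mk₀ S.g) (add_zero 0)).comp hS.extClass (zero_add 1)) = 0
    rw [Ext.comp_assoc_of_second_deg_zero, hS.comp_extClass, Ext.comp_zero]

end shift

section compare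

variable {𝒜 : Type u} [Category.{v} 𝒜] [Abelian 𝒜] [HasExt.{w} 𝒜] [EnoughInjectives 𝒜]
  {ℬ : Type u'} [Category.{v'} ℬ] [Abelian ℬ] [HasExt.{w'} ℬ]
  (R : 𝒜 ⥤ ℬ) [R.Additive]
  (hR : ∀ S : ShortComplex 𝒜, S.ShortExact → (S.map R).ShortExact)
  (A : 𝒜) (B : ℬ)
  (e : ∀ F : 𝒜, Ext.{w} A F 0 ≃+ Ext.{w'} B (R.obj F) 0)
  (he : ∀ {F G : 𝒜} (g : F ⟶ G) (x : Ext.{w} A F 0),
    e G (x.comp (Ext.mk₀ g) (add_zero 0)) = (e F x).comp (Ext.mk₀ (R.map g)) (add_zero 0))
  (hacyc : ∀ (I : 𝒜) [Injective I] (n : ℕ), Subsingleton (Ext.{w'} B (R.obj I) (n + 1)))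

/-- The injective-embedding sequence `F → I → I/F`. -/
noncomputable def injSC (F : 𝒜) : ShortComplex 𝒜 :=
  ShortComplex.mk _ _ (cokernel.condition (Injective.ι F))

omit [HasExt.{w} 𝒜] in
lemma injSC_shortExact (F : 𝒜) : (injSC F).ShortExact :=
  { exact := ShortComplex.exact_of_g_is_cokernel _ (cokernelIsCokernel (injSC F).f)
    mono_f := inferInstanceAs (Mono (Injective.ι F))
    epi_g := inferInstanceAs (Epi (cokernel.π (Injective.ι F))) }

instance (F : 𝒜) : Injective (injSC F).X₂ := inferInstanceAs (Injective (Injective.under F))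

include hR e he hacyc in
theorem ext_comparison_succ (n : ℕ) :
    ∀ F : 𝒜, Nonempty (Ext.{w} A F (n + 1) ≃+ Ext.{w'} B (R.obj F) (n + 1)) := by
  induction n with
  | zero =>
    intro F
    have hS := injSC_shortExact F
    have hS' := hR _ hS
    have hA1 : Subsingleton (Ext.{w} A (injSC F).X₂ 1) :=
      subsingleton_of_forall_eq 0 fun x => Ext.eq_zero_of_injective x
    have hB1 : Subsingleton (Ext.{w'} B ((injSC F).map R).X₂ 1) := hacyc (injSC F).X₂ 0
    let δ := hS.extClass.postcomp A (zero_add 1)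
    let δ' := hS'.extClass.postcomp B (zero_add 1)
    have hδ : Function.Surjective δ := extClass_postcomp_surjective hS A hA1
    have hδ' : Function.Surjective δ' := extClass_postcomp_surjective hS' B hB1
    let e3 : Ext.{w} A (injSC F).X₃ 0 ≃+ Ext.{w'} B ((injSC F).map R).X₃ 0 := e (injSC F).X₃
    have hker : (δ.ker).map (e3 : _ →+ _) = δ'.ker := by
      rw [ker_extClass_postcomp hS A, ker_extClass_postcomp hS' B]
      ext y
      constructor
      · rintro ⟨_, ⟨x₂, rfl⟩, rfl⟩
        refine ⟨e _ x₂, ?_⟩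
        exact (he (injSC F).g x₂).symm
      · rintro ⟨y₂, rfl⟩
        obtain ⟨x₂, rfl⟩ := (e (injSC F).X₂).surjective y₂
        refine ⟨_, ⟨x₂, rfl⟩, ?_⟩
        exact he (injSC F).g x₂
    exact ⟨(QuotientAddGroup.quotientKerEquivOfSurjective δ hδ).symm.trans
      ((QuotientAddGroup.congr δ.ker δ'.ker e3 hker).trans
        (QuotientAddGroup.quotientKerEquivOfSurjective δ' hδ'))⟩
  | succ n ih =>
    intro F
    have hS := injSC_shortExact F
    have hS' := hR _ hS
    have hA : ∀ m, Subsingleton (Ext.{w} A (injSC F).X₂ (m + 1)) := fun m =>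
      subsingleton_of_forall_eq 0 fun x => Ext.eq_zero_of_injective x
    have hB : ∀ m, Subsingleton (Ext.{w'} B ((injSC F).map R).X₂ (m + 1)) :=
      fun m => hacyc (injSC F).X₂ m
    obtain ⟨φ⟩ := ih (injSC F).X₃
    exact ⟨(extShift hS A (n + 1) (hA n) (hA (n + 1))).symm.trans
      (φ.trans (extShift hS' B (n + 1) (hB n) (hB (n + 1))))⟩

include hR e he hacyc in
/-- Comparison of `Ext` groups along an exact functor, by dimension shifting. -/
theorem ext_comparison (n : ℕ) (F : 𝒜) :
    Nonempty (Ext.{w} A F n ≃+ Ext.{w'} B (R.obj F) n) := by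
  cases n with
  | zero => exact ⟨e F⟩
  | succ n => exact ext_comparison_succ R hR A B e he hacyc n F

end compare

end Groth.Agent.Lib.Cohomology
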