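import Mathlib

/-!
# Ordered-tuple cochains on a vertex set: differential, `d ∘ d = 0`, cone homotopy

`Coch V A p = (Fin (p+1) → V) → A` with the alternating coface differential
`(dF)(s) = ∑ k, (-1)^k • F (s ∘ k.succAbove)` (the convention of Mathlib's alternating coface map
complex, hence of `cechComplexFunctor`).
-/

set_option autoImplicit false

namespace Groth.Agent.Lib.Helper59.CechCore

universe u v w

variable (R : Type u) [CommRing R] (V : Type v) (A : Type w) [AddCommGroup A] [Module R A]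

/-- Ordered-tuple cochains. -/
abbrev Coch (p : ℕ) : Type (max v w) := (Fin (p + 1) → V) → A

/-- The alternating coface differential. -/
def dCoch (p : ℕ) : Coch V A p →ₗ[R] Coch V A (p + 1) where
  toFun F s := ∑ k : Fin (p + 2), ((-1 : ℤ) ^ (k : ℕ)) • F (s ∘ k.succAbove)
  map_add' F G := by
    funext s
    simp only [Pi.add_apply, smul_add, Finset.sum_add_distrib]
  map_smul' c F := by
    funext s
    simp only [Pi.smul_apply, RingHom.id_apply, Finset.smul_sum]
    refine Finset.sum_congr rfl (fun k _ => ?_)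
    rw [smul_comm]

variable {V A}

theorem dCoch_apply (p : ℕ) (F : Coch V A p) (s : Fin (p + 2) → V) :
    dCoch R V A p F s = ∑ k : Fin (p + 2), ((-1 : ℤ) ^ (k : ℕ)) • F (s ∘ k.succAbove) := rfl

/-- The simplicial identity for `succAbove`. -/
theorem succAbove_comp_succAbove {n : ℕ} (i : Fin (n + 3)) (j : Fin (n + 2))
    (H : i ≤ Fin.castSucc j) :
    j.succ.succAbove ∘ (i.castLT (Nat.lt_of_le_of_lt (Fin.le_iff_val_le_val.mp H) j.is_lt)).succAbove
      = i.succAbove ∘ j.succAbove := by
  funext k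
  rcases i with ⟨i, hi⟩
  rcases j with ⟨j, hj⟩
  rcases k with ⟨k, hk⟩
  simp only [Fin.le_def, Fin.val_castSucc] at H
  simp only [Function.comp_apply, Fin.succAbove, Fin.castLT_mk, Fin.castSucc_mk, Fin.lt_def,
    Fin.succ_mk]
  split_ifs <;> simp only [Fin.castSucc_mk, Fin.succ_mk, Fin.mk.injEq, Fin.lt_def] at * <;> omega

/-- `d ∘ d = 0`. -/
theorem dCoch_dCoch (p : ℕ) (F : Coch V A p) : dCoch R V A (p + 1) (dCoch R V A p F) = 0 := by
  funext s
  simp only [dCoch_apply, Pi.zero_apply, Finset.smul_sum, smul_smul]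
  rw [← Finset.sum_product']
  let P := Fin (p + 3) × Fin (p + 2)
  let S : Finset P := {ij : P | (ij.1 : ℕ) ≤ (ij.2 : ℕ)}
  rw [Finset.univ_product_univ, ← Finset.sum_add_sum_compl S, ← eq_neg_iff_add_eq_zero,
    ← Finset.sum_neg_distrib]
  let φ : ∀ ij : P, ij ∈ S → P := fun ij hij =>
    (ij.2.succ, Fin.castLT ij.1 (lt_of_le_of_lt (Finset.mem_filter.mp hij).right (Fin.is_lt ij.2)))
  apply Finset.sum_bij φ
  · intro ij hij
    simp_rw [S, φ, Finset.compl_filter, Finset.mem_filter_univ, Fin.val_succ,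
      Fin.val_castLT] at hij ⊢
    omega
  · rintro ⟨i, j⟩ hij ⟨i', j'⟩ hij' h
    rw [Prod.mk.injEq]
    have h1 := congr_arg Prod.fst h
    have h2 := congr_arg Prod.snd h
    simp only [φ] at h1 h2
    refine ⟨?_, Fin.succ_injective _ h1⟩
    have := congr_arg Fin.val h2
    simp only [Fin.val_castLT] at this
    exact Fin.ext this
  · rintro ⟨i', j'⟩ hij'
    simp_rw [S, Finset.compl_filter, Finset.mem_filter_univ, not_le] at hij'
    refine ⟨(Fin.castSucc j', i'.pred ?_), ?_, ?_⟩
    · rintro rfl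
      simp only [Fin.val_zero, not_lt_zero] at hij'
    · simp only [S, Finset.mem_filter_univ, Fin.val_castSucc, Fin.val_pred]
      omega
    · simp only [φ, Fin.succ_pred, Fin.castLT_castSucc]
  · rintro ⟨i, j⟩ hij
    have hij' : (i : ℕ) ≤ (j : ℕ) := by simpa [S] using hij
    have hcomp := succAbove_comp_succAbove i j (by simpa [Fin.le_def] using hij')
    simp only [φ]
    rw [← neg_smul]
    congr 1
    · simp only [Fin.val_succ, Fin.val_castLT, pow_succ]
      ring
    · congr 1
      rw [Function.comp_assoc, Function.comp_assoc, hcomp]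

/-- The cone operator on a vertex `j`: `(hF)(t) = F (j :: t)`. -/
def hCone (j : V) (p : ℕ) : Coch V A (p + 1) →ₗ[R] Coch V A p where
  toFun F t := F (Fin.cons j t)
  map_add' _ _ := rfl
  map_smul' _ _ := rfl

theorem hCone_apply (j : V) (p : ℕ) (F : Coch V A (p + 1)) (t : Fin (p + 1) → V) :
    hCone R j p F t = F (Fin.cons j t) := rfl

/-- The cone identity in positive degrees: `h d + d h = id`. -/
theorem hCone_dCoch_add (j : V) (p : ℕ) (F : Coch V A (p + 1)) :
    hCone R j (p + 1) (dCoch R V A (p + 1) F) + dCoch R V A p (hCone R j p F) = F := by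
  funext t
  simp only [Pi.add_apply, hCone_apply, dCoch_apply]
  rw [Fin.sum_univ_succ]
  simp only [Fin.val_zero, pow_zero, one_smul, Fin.succAbove_zero, Fin.cons_comp_succ,
    Fin.val_succ, Fin.cons_comp_succ_succAbove]
  rw [add_assoc, ← Finset.sum_add_distrib]
  have : ∀ k : Fin (p + 2), ((-1 : ℤ) ^ ((k : ℕ) + 1)) • F (Fin.cons j (k.removeNth t)) +
      ((-1 : ℤ) ^ (k : ℕ)) • F (Fin.cons j (t ∘ k.succAbove)) = 0 := by
    intro k
    have h1 : k.removeNth t = t ∘ k.succAbove := rfl
    rw [h1, pow_succ, mul_neg_one, neg_smul, neg_add_cancel]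
  rw [Finset.sum_congr rfl (fun k _ => this k), Finset.sum_const_zero, add_zero]

/-- The cone identity in degree zero: `h d F = F - F(j)`. -/
theorem hCone_dCoch_zero (j : V) (F : Coch V A 0) (t : Fin 1 → V) :
    hCone R j 0 (dCoch R V A 0 F) t = F t - F (fun _ => j) := by
  simp only [hCone_apply, dCoch_apply]
  rw [Fin.sum_univ_two]
  simp only [Fin.val_zero, pow_zero, one_smul, Fin.val_one, pow_one, neg_smul]
  have h0 : (Fin.cons j t : Fin 2 → V) ∘ (0 : Fin 2).succAbove = t := by
    funext i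
    simp [Fin.cons_succ]
  have h1 : (Fin.cons j t : Fin 2 → V) ∘ (1 : Fin 2).succAbove = fun _ => j := by
    funext i
    have : i = 0 := Subsingleton.elim _ _
    subst this
    simp
  rw [h0, h1, sub_eq_add_neg]

end Groth.Agent.Lib.Helper59.CechCore
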