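import Mathlib
import Groth.Agent.Lib.Cohomology.Helper59_CechCore

/-!
# The relative cochain complex of (simplex, boundary) on ordered tuples

Cochains on ordered tuples in `Fin (n+1)` with values in a submodule `A₀ ≤ A` which vanish on
non-surjective tuples: the cohomology is `A₀` in degree `n` and zero elsewhere.
-/

set_option autoImplicit false

namespace Groth.Agent.Lib.Helper59.CechTop

open Groth.Agent.Lib.Helper59.CechCore

universe u w

variable (R : Type u) [CommRing R] {A : Type w} [AddCommGroup A] [Module R A]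
  (A₀ : Submodule R A)

/-- Cochains with values in `A₀`, vanishing on tuples not satisfying `Q`. -/
def Kof {V : Type} (Q : ∀ p, (Fin (p + 1) → V) → Prop) (p : ℕ) : Submodule R (Coch V A p) where
  carrier := {F | (∀ t, F t ∈ A₀) ∧ ∀ t, ¬ Q p t → F t = 0}
  add_mem' := by
    rintro F G ⟨hF1, hF2⟩ ⟨hG1, hG2⟩
    exact ⟨fun t => A₀.add_mem (hF1 t) (hG1 t), fun t ht => by
      rw [Pi.add_apply, hF2 t ht, hG2 t ht, add_zero]⟩
  zero_mem' := ⟨fun _ => A₀.zero_mem, fun _ _ => rfl⟩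
  smul_mem' := by
    rintro c F ⟨hF1, hF2⟩
    exact ⟨fun t => A₀.smul_mem c (hF1 t), fun t ht => by
      rw [Pi.smul_apply, hF2 t ht, smul_zero]⟩

variable {R A₀}

theorem mem_Kof {V : Type} {Q : ∀ p, (Fin (p + 1) → V) → Prop} {p : ℕ} {F : Coch V A p} :
    F ∈ Kof R A₀ Q p ↔ (∀ t, F t ∈ A₀) ∧ ∀ t, ¬ Q p t → F t = 0 := Iff.rfl

/-- The differential preserves `Kof` when `Q` is inherited by faces. -/
theorem dCoch_mem_Kof {V : Type} {Q : ∀ p, (Fin (p + 1) → V) → Prop}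
    (hQ : ∀ p (s : Fin (p + 2) → V) (k : Fin (p + 2)), Q p (s ∘ k.succAbove) → Q (p + 1) s)
    {p : ℕ} {F : Coch V A p} (hF : F ∈ Kof R A₀ Q p) : dCoch R V A p F ∈ Kof R A₀ Q (p + 1) := by
  obtain ⟨h1, h2⟩ := hF
  refine ⟨fun s => ?_, fun s hs => ?_⟩
  · rw [dCoch_apply]
    exact A₀.sum_mem (fun k _ => A₀.smul_of_tower_mem _ (h1 _))
  · rw [dCoch_apply]
    refine Finset.sum_eq_zero (fun k _ => ?_)
    rw [h2 _ (fun h => hs (hQ p s k h)), smul_zero]

/-- The surjectivity predicate. -/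
def QSurj (n : ℕ) : ∀ p, (Fin (p + 1) → Fin (n + 1)) → Prop := fun _ t => Function.Surjective t

/-- The predicate "the range contains all successors". -/
def QSucc (n : ℕ) : ∀ p, (Fin (p + 1) → Fin (n + 2)) → Prop :=
  fun _ t => ∀ i : Fin (n + 1), i.succ ∈ Set.range t

theorem QSurj_face (n : ℕ) : ∀ p (s : Fin (p + 2) → Fin (n + 1)) (k : Fin (p + 2)),
    QSurj n p (s ∘ k.succAbove) → QSurj n (p + 1) s := by
  intro p s k h x
  obtain ⟨y, hy⟩ := h x
  exact ⟨_, hy⟩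

theorem QSucc_face (n : ℕ) : ∀ p (s : Fin (p + 2) → Fin (n + 2)) (k : Fin (p + 2)),
    QSucc n p (s ∘ k.succAbove) → QSucc n (p + 1) s := by
  intro p s k h i
  obtain ⟨y, hy⟩ := h i
  exact ⟨_, hy⟩

variable (R A₀)

/-- The relative cochains of (simplex, boundary). -/
abbrev Ttop (n p : ℕ) : Submodule R (Coch (Fin (n + 1)) A p) := Kof R A₀ (QSurj n) p

/-- The cochains relative to the union of the facets opposite to the nonzero vertices. -/
abbrev Kmid (n p : ℕ) : Submodule R (Coch (Fin (n + 2)) A p) := Kof R A₀ (QSucc n) p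

variable {R A₀}

theorem Ttop_le_Kmid (n p : ℕ) : Ttop R A₀ (n + 1) p ≤ Kmid R A₀ n p := by
  rintro F ⟨h1, h2⟩
  refine ⟨h1, fun t ht => h2 t (fun hs => ht (fun i => hs _))⟩

/-- The cone on the vertex `0` preserves `Kmid`. -/
theorem hCone_mem_Kmid {n p : ℕ} {F : Coch (Fin (n + 2)) A (p + 1)}
    (hF : F ∈ Kmid R A₀ n (p + 1)) : hCone R (0 : Fin (n + 2)) p F ∈ Kmid R A₀ n p := by
  obtain ⟨h1, h2⟩ := hF
  refine ⟨fun t => h1 _, fun t ht => h2 _ (fun hs => ht (fun i => ?_))⟩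
  obtain ⟨y, hy⟩ := hs i
  revert hy
  refine Fin.cases ?_ (fun y' => ?_) y
  · intro hy
    rw [Fin.cons_zero] at hy
    exact absurd hy.symm (Fin.succ_ne_zero i)
  · intro hy
    rw [Fin.cons_succ] at hy
    exact ⟨y', hy⟩

/-- Restriction to tuples avoiding the vertex `0`. -/
def rho (n p : ℕ) : Coch (Fin (n + 2)) A p →ₗ[R] Coch (Fin (n + 1)) A p where
  toFun F t := F (Fin.succ ∘ t)
  map_add' _ _ := rfl
  map_smul' _ _ := rfl

theorem rho_apply (n p : ℕ) (F : Coch (Fin (n + 2)) A p) (t : Fin (p + 1) → Fin (n + 1)) :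
    rho (R := R) n p F t = F (Fin.succ ∘ t) := rfl

theorem rho_dCoch (n p : ℕ) (F : Coch (Fin (n + 2)) A p) :
    rho (R := R) n (p + 1) (dCoch R _ A p F) = dCoch R _ A p (rho (R := R) n p F) := rfl

theorem rho_mem_Ttop {n p : ℕ} {F : Coch (Fin (n + 2)) A p} (hF : F ∈ Kmid R A₀ n p) :
    rho (R := R) n p F ∈ Ttop R A₀ n p := by
  obtain ⟨h1, h2⟩ := hF
  refine ⟨fun t => h1 _, fun t ht => h2 _ (fun hs => ht (fun i => ?_))⟩
  obtain ⟨y, hy⟩ := hs i
  exact ⟨y, Fin.succ_injective _ hy⟩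

theorem rho_eq_zero_of_mem_Ttop {n p : ℕ} {F : Coch (Fin (n + 2)) A p}
    (hF : F ∈ Ttop R A₀ (n + 1) p) : rho (R := R) n p F = 0 := by
  funext t
  rw [rho_apply]
  refine hF.2 _ (fun hs => ?_)
  obtain ⟨y, hy⟩ := hs 0
  exact Fin.succ_ne_zero _ hy

/-- Extension by zero to tuples meeting the vertex `0`. -/
noncomputable def eps (n p : ℕ) : Coch (Fin (n + 1)) A p →ₗ[R] Coch (Fin (n + 2)) A p where
  toFun G t := by
    classical
    exact if h : ∀ i, t i ≠ 0 then G (fun i => (t i).pred (h i)) else 0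
  map_add' F G := by
    funext t
    by_cases h : ∀ i, t i ≠ 0
    · simp only [Pi.add_apply, dif_pos h]
    · simp only [Pi.add_apply, dif_neg h, add_zero]
  map_smul' c F := by
    funext t
    by_cases h : ∀ i, t i ≠ 0
    · simp only [Pi.smul_apply, dif_pos h, RingHom.id_apply]
    · simp only [Pi.smul_apply, dif_neg h, smul_zero]

theorem eps_apply_of (n p : ℕ) (G : Coch (Fin (n + 1)) A p) (t : Fin (p + 1) → Fin (n + 2))
    (h : ∀ i, t i ≠ 0) : eps (R := R) n p G t = G (fun i => (t i).pred (h i)) := by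
  classical
  exact dif_pos h

theorem eps_apply_of_not (n p : ℕ) (G : Coch (Fin (n + 1)) A p) (t : Fin (p + 1) → Fin (n + 2))
    (h : ¬ ∀ i, t i ≠ 0) : eps (R := R) n p G t = 0 := by
  classical
  exact dif_neg h

theorem rho_eps (n p : ℕ) (G : Coch (Fin (n + 1)) A p) :
    rho (R := R) n p (eps (R := R) n p G) = G := by
  funext t
  rw [rho_apply, eps_apply_of (R := R) n p G (Fin.succ ∘ t) (fun i => Fin.succ_ne_zero _)]
  congr 1

theorem eps_mem_Kmid {n p : ℕ} {G : Coch (Fin (n + 1)) A p} (hG : G ∈ Ttop R A₀ n p) :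
    eps (R := R) n p G ∈ Kmid R A₀ n p := by
  obtain ⟨h1, h2⟩ := hG
  refine ⟨fun t => ?_, fun t ht => ?_⟩
  · by_cases h : ∀ i, t i ≠ 0
    · rw [eps_apply_of (R := R) n p G t h]; exact h1 _
    · rw [eps_apply_of_not (R := R) n p G t h]; exact A₀.zero_mem
  · by_cases h : ∀ i, t i ≠ 0
    · rw [eps_apply_of (R := R) n p G t h]
      refine h2 _ (fun hs => ht (fun i => ?_))
      obtain ⟨y, hy⟩ := hs i
      refine ⟨y, ?_⟩
      rw [← hy, Fin.succ_pred]
    · exact eps_apply_of_not (R := R) n p G t h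

/-- A cochain in `Kmid` restricting to zero lies in `Ttop`. -/
theorem mem_Ttop_of_rho_eq_zero {n p : ℕ} {F : Coch (Fin (n + 2)) A p} (hF : F ∈ Kmid R A₀ n p)
    (h0 : rho (R := R) n p F = 0) : F ∈ Ttop R A₀ (n + 1) p := by
  obtain ⟨h1, h2⟩ := hF
  refine ⟨h1, fun t ht => ?_⟩
  by_cases hs : ∀ i : Fin (n + 1), i.succ ∈ Set.range t
  · -- then `0 ∉ range t`
    have h0t : ∀ i, t i ≠ 0 := by
      intro i hi
      apply ht
      intro x
      refine Fin.cases ⟨i, hi⟩ (fun x' => hs x') x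
    have : t = Fin.succ ∘ (fun i => (t i).pred (h0t i)) := by
      funext i
      simp
    rw [this]
    exact congrFun h0 _
  · exact h2 t hs

variable (R A₀)

/-- Cocycles of the relative complex. -/
def Zt (n p : ℕ) : Submodule R (Coch (Fin (n + 1)) A p) :=
  Ttop R A₀ n p ⊓ LinearMap.ker (dCoch R (Fin (n + 1)) A p)

/-- Coboundaries of the relative complex. -/
def Bt (n : ℕ) : (p : ℕ) → Submodule R (Coch (Fin (n + 1)) A p)
  | 0 => ⊥
  | p + 1 => (Ttop R A₀ n p).map (dCoch R (Fin (n + 1)) A p)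

/-- The cohomology of the relative complex. -/
abbrev Ht (n p : ℕ) : Type _ := (Zt R A₀ n p) ⧸ ((Bt R A₀ n p).comap (Zt R A₀ n p).subtype)

variable {R A₀}

theorem mem_Zt {n p : ℕ} {F : Coch (Fin (n + 1)) A p} :
    F ∈ Zt R A₀ n p ↔ F ∈ Ttop R A₀ n p ∧ dCoch R (Fin (n + 1)) A p F = 0 := by
  rw [Zt, Submodule.mem_inf, LinearMap.mem_ker]

theorem mem_Bt_succ {n p : ℕ} {F : Coch (Fin (n + 1)) A (p + 1)} :
    F ∈ Bt R A₀ n (p + 1) ↔ ∃ G ∈ Ttop R A₀ n p, dCoch R (Fin (n + 1)) A p G = F := by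
  rw [Bt, Submodule.mem_map]

theorem Bt_le_Zt (n p : ℕ) : Bt R A₀ n p ≤ Zt R A₀ n p := by
  cases p with
  | zero => exact bot_le
  | succ p =>
    intro F hF
    obtain ⟨G, hG, rfl⟩ := mem_Bt_succ.mp hF
    exact mem_Zt.mpr ⟨dCoch_mem_Kof (QSurj_face n) hG, dCoch_dCoch R p G⟩

/-- In degree zero, for at least two vertices, the relative complex vanishes. -/
theorem Ttop_zero_eq_bot (n : ℕ) : Ttop R A₀ (n + 1) 0 = ⊥ := by
  rw [eq_bot_iff]
  intro F hF
  rw [Submodule.mem_bot]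
  funext t
  refine hF.2 t (fun hs => ?_)
  obtain ⟨a, ha⟩ := hs 0
  obtain ⟨b, hb⟩ := hs 1
  have : a = b := by
    apply Fin.ext
    have h1 := a.isLt
    have h2 := b.isLt
    omega
  rw [this, hb] at ha
  exact absurd ha (by simp)

/-- The connecting construction: for a cocycle `F` on `n+2` vertices, `ρ(hF)` is a cocycle on
`n+1` vertices. -/
theorem rho_hCone_mem_Zt {n p : ℕ} {F : Coch (Fin (n + 2)) A (p + 1)}
    (hF : F ∈ Zt R A₀ (n + 1) (p + 1)) :
    rho (R := R) n p (hCone R (0 : Fin (n + 2)) p F) ∈ Zt R A₀ n p := by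
  obtain ⟨hFT, hFd⟩ := mem_Zt.mp hF
  have hG := hCone_mem_Kmid (Ttop_le_Kmid n (p + 1) hFT)
  refine mem_Zt.mpr ⟨rho_mem_Ttop hG, ?_⟩
  rw [← rho_dCoch]
  have hcone := hCone_dCoch_add R (0 : Fin (n + 2)) p F
  rw [hFd, map_zero, zero_add] at hcone
  rw [hcone]
  exact rho_eq_zero_of_mem_Ttop hFT

/-- If `ρ(hF)` is a coboundary then so is `F`. -/
theorem mem_Bt_of_rho_hCone_mem_Bt {n p : ℕ} {F : Coch (Fin (n + 2)) A (p + 1)}
    (hF : F ∈ Zt R A₀ (n + 1) (p + 1))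
    (hB : rho (R := R) n p (hCone R (0 : Fin (n + 2)) p F) ∈ Bt R A₀ n p) :
    F ∈ Bt R A₀ (n + 1) (p + 1) := by
  obtain ⟨hFT, hFd⟩ := mem_Zt.mp hF
  have hG := hCone_mem_Kmid (Ttop_le_Kmid n (p + 1) hFT)
  have hcone := hCone_dCoch_add R (0 : Fin (n + 2)) p F
  rw [hFd, map_zero, zero_add] at hcone
  cases p with
  | zero =>
    have h0 : rho (R := R) n 0 (hCone R (0 : Fin (n + 2)) 0 F) = 0 := by simpa [Bt] using hB
    exact mem_Bt_succ.mpr ⟨_, mem_Ttop_of_rho_eq_zero hG h0, hcone⟩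
  | succ p =>
    obtain ⟨E, hE, hEd⟩ := mem_Bt_succ.mp hB
    have hE' := eps_mem_Kmid (R := R) hE
    refine mem_Bt_succ.mpr ⟨hCone R (0 : Fin (n + 2)) (p + 1) F -
      dCoch R _ A p (eps (R := R) n p E), ?_, ?_⟩
    · refine mem_Ttop_of_rho_eq_zero
        (Submodule.sub_mem _ hG (dCoch_mem_Kof (QSucc_face n) hE')) ?_
      rw [map_sub, rho_dCoch, rho_eps, hEd, sub_self]
    · rw [map_sub, dCoch_dCoch, sub_zero, hcone]

/-- Exactness propagates from `n+1` to `n+2` vertices. -/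
theorem exact_succ {n : ℕ} (ih : ∀ p, p ≠ n → Zt R A₀ n p ≤ Bt R A₀ n p) :
    ∀ p, p ≠ n + 1 → Zt R A₀ (n + 1) p ≤ Bt R A₀ (n + 1) p := by
  intro p hp F hF
  cases p with
  | zero =>
    have : F ∈ Ttop R A₀ (n + 1) 0 := (mem_Zt.mp hF).1
    rw [Ttop_zero_eq_bot] at this
    exact this
  | succ p =>
    exact mem_Bt_of_rho_hCone_mem_Bt hF (ih p (fun h => hp (by omega)) (rho_hCone_mem_Zt hF))

/-- Exactness for a single vertex in positive degrees. -/
theorem exact_zero : ∀ p, p ≠ 0 → Zt R A₀ 0 p ≤ Bt R A₀ 0 p := by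
  intro p hp F hF
  cases p with
  | zero => exact absurd rfl hp
  | succ p =>
    obtain ⟨hFT, hFd⟩ := mem_Zt.mp hF
    have hcone := hCone_dCoch_add R (0 : Fin 1) p F
    rw [hFd, map_zero, zero_add] at hcone
    refine mem_Bt_succ.mpr ⟨_, ⟨fun t => hFT.1 _, fun t ht => absurd ?_ ht⟩, hcone⟩
    intro x
    refine ⟨0, ?_⟩
    apply Fin.ext
    have h1 := x.isLt
    have h2 := (t 0).isLt
    omega

theorem exact_all (n : ℕ) : ∀ p, p ≠ n → Zt R A₀ n p ≤ Bt R A₀ n p := by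
  induction n with
  | zero => exact exact_zero
  | succ n ih => exact exact_succ ih

variable (R A₀)

/-- The connecting map on cocycles. -/
noncomputable def connZ (n p : ℕ) : Zt R A₀ (n + 1) (p + 1) →ₗ[R] Zt R A₀ n p :=
  LinearMap.codRestrict (Zt R A₀ n p)
    ((rho (R := R) n p).comp ((hCone R (0 : Fin (n + 2)) p).comp (Zt R A₀ (n + 1) (p + 1)).subtype))
    (fun F => rho_hCone_mem_Zt F.2)

/-- The connecting map to cohomology. -/
noncomputable def connH (n p : ℕ) : Zt R A₀ (n + 1) (p + 1) →ₗ[R] Ht R A₀ n p :=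
  (Submodule.mkQ _).comp (connZ R A₀ n p)

variable {R A₀}

theorem connZ_coe (n p : ℕ) (F : Zt R A₀ (n + 1) (p + 1)) :
    (connZ R A₀ n p F : Coch (Fin (n + 1)) A p) =
      rho (R := R) n p (hCone R (0 : Fin (n + 2)) p (F : Coch (Fin (n + 2)) A (p + 1))) := rfl

/-- `ρ h d E` is a coboundary for `E` in the relative complex. -/
theorem rho_hCone_dCoch_mem_Bt {n p : ℕ} {E : Coch (Fin (n + 2)) A p}
    (hE : E ∈ Ttop R A₀ (n + 1) p) :
    rho (R := R) n p (hCone R (0 : Fin (n + 2)) p (dCoch R _ A p E)) ∈ Bt R A₀ n p := by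
  cases p with
  | zero =>
    rw [Ttop_zero_eq_bot, Submodule.mem_bot] at hE
    rw [hE, map_zero, map_zero, map_zero]
    exact Submodule.zero_mem _
  | succ p =>
    have hcone := hCone_dCoch_add R (0 : Fin (n + 2)) p E
    have h1 : hCone R (0 : Fin (n + 2)) (p + 1) (dCoch R _ A (p + 1) E) =
        E - dCoch R _ A p (hCone R (0 : Fin (n + 2)) p E) := eq_sub_of_add_eq hcone
    rw [h1, map_sub, rho_eq_zero_of_mem_Ttop hE, zero_sub, rho_dCoch]
    refine Submodule.neg_mem _ (mem_Bt_succ.mpr ⟨_, ?_, rfl⟩)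
    exact rho_mem_Ttop (hCone_mem_Kmid (Ttop_le_Kmid n (p + 1) hE))

theorem ker_connH (n p : ℕ) :
    LinearMap.ker (connH R A₀ n p) =
      (Bt R A₀ (n + 1) (p + 1)).comap (Zt R A₀ (n + 1) (p + 1)).subtype := by
  ext F
  rw [LinearMap.mem_ker, connH, LinearMap.comp_apply, Submodule.mkQ_apply,
    Submodule.Quotient.mk_eq_zero, Submodule.mem_comap, Submodule.mem_comap,
    Submodule.subtype_apply, Submodule.subtype_apply, connZ_coe]
  constructor
  · intro h
    exact mem_Bt_of_rho_hCone_mem_Bt F.2 h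
  · intro h
    obtain ⟨E, hE, hEd⟩ := mem_Bt_succ.mp h
    rw [← hEd]
    exact rho_hCone_dCoch_mem_Bt hE

theorem connH_surjective (n p : ℕ) : Function.Surjective (connH R A₀ n p) := by
  intro x
  obtain ⟨⟨Gb, hGb⟩, rfl⟩ := Submodule.mkQ_surjective _ x
  obtain ⟨hGT, hGd⟩ := mem_Zt.mp hGb
  have hG := eps_mem_Kmid (R := R) hGT
  have hF : dCoch R _ A p (eps (R := R) n p Gb) ∈ Zt R A₀ (n + 1) (p + 1) := by
    refine mem_Zt.mpr ⟨mem_Ttop_of_rho_eq_zero (dCoch_mem_Kof (QSucc_face n) hG) ?_,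
      dCoch_dCoch R p _⟩
    rw [rho_dCoch, rho_eps, hGd]
  refine ⟨⟨_, hF⟩, ?_⟩
  rw [connH, LinearMap.comp_apply, Submodule.mkQ_apply, Submodule.mkQ_apply,
    Submodule.Quotient.eq, Submodule.mem_comap, Submodule.subtype_apply]
  show rho (R := R) n p (hCone R (0 : Fin (n + 2)) p (dCoch R _ A p (eps (R := R) n p Gb))) - Gb
    ∈ Bt R A₀ n p
  cases p with
  | zero =>
    have h1 : hCone R (0 : Fin (n + 2)) 0 (dCoch R _ A 0 (eps (R := R) n 0 Gb)) =
        eps (R := R) n 0 Gb := by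
      funext t
      rw [hCone_dCoch_zero, eps_apply_of_not (R := R) n 0 Gb (fun _ => 0)
        (fun h => h 0 rfl), sub_zero]
    rw [h1, rho_eps, sub_self]
    exact Submodule.zero_mem _
  | succ p =>
    have hcone := hCone_dCoch_add R (0 : Fin (n + 2)) p (eps (R := R) n (p + 1) Gb)
    have h1 : hCone R (0 : Fin (n + 2)) (p + 1) (dCoch R _ A (p + 1) (eps (R := R) n (p + 1) Gb)) =
        eps (R := R) n (p + 1) Gb -
          dCoch R _ A p (hCone R (0 : Fin (n + 2)) p (eps (R := R) n (p + 1) Gb)) :=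
      eq_sub_of_add_eq hcone
    rw [h1, map_sub, rho_eps, sub_sub_cancel_left, rho_dCoch]
    refine Submodule.neg_mem _ (mem_Bt_succ.mpr ⟨_, ?_, rfl⟩)
    exact rho_mem_Ttop (hCone_mem_Kmid hG)

variable (R A₀)

/-- The connecting isomorphism `H^{p+1}(n+2 vertices) ≅ H^p(n+1 vertices)`. -/
noncomputable def connEquiv (n p : ℕ) : Ht R A₀ (n + 1) (p + 1) ≃ₗ[R] Ht R A₀ n p :=
  (Submodule.quotEquivOfEq _ _ (ker_connH n p).symm).trans
    ((connH R A₀ n p).quotKerEquivOfSurjective (connH_surjective n p))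

/-- Degree zero cohomology for a single vertex. -/
noncomputable def evalZero : Zt R A₀ 0 0 →ₗ[R] A₀ :=
  LinearMap.codRestrict A₀
    ((LinearMap.proj (fun _ => (0 : Fin 1))).comp (Zt R A₀ 0 0).subtype)
    (fun F => (mem_Zt.mp F.2).1.1 _)

variable {R A₀}

theorem evalZero_coe (F : Zt R A₀ 0 0) :
    (evalZero R A₀ F : A) = (F : Coch (Fin 1) A 0) (fun _ => 0) := rfl

theorem tuple_fin_one {p : ℕ} (t t' : Fin (p + 1) → Fin (0 + 1)) : t = t' := by
  funext i
  apply Fin.ext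
  have h1 := (t i).isLt
  have h2 := (t' i).isLt
  omega

theorem evalZero_bijective : Function.Bijective (evalZero R A₀) := by
  constructor
  · rw [← LinearMap.ker_eq_bot, eq_bot_iff]
    intro F hF
    rw [LinearMap.mem_ker] at hF
    have h0 := congrArg Subtype.val hF
    rw [evalZero_coe] at h0
    rw [Submodule.mem_bot]
    apply Subtype.ext
    funext t
    rw [tuple_fin_one t (fun _ => 0)]
    exact h0
  · intro a
    have hmem : (fun _ => (a : A) : Coch (Fin (0 + 1)) A 0) ∈ Zt R A₀ 0 0 := by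
      refine mem_Zt.mpr ⟨⟨fun _ => a.2, fun t ht => absurd ?_ ht⟩, ?_⟩
      · intro x
        exact ⟨0, by apply Fin.ext; have h1 := x.isLt; have h2 := (t 0).isLt; omega⟩
      · funext s
        rw [dCoch_apply, Fin.sum_univ_two]
        simp
    exact ⟨⟨_, hmem⟩, Subtype.ext rfl⟩

variable (R A₀)

/-- `H^0` of the relative complex on one vertex is `A₀`. -/
noncomputable def HtZeroEquiv : Ht R A₀ 0 0 ≃ₗ[R] A₀ :=
  (Submodule.quotEquivOfEqBot _ (by
    show (⊥ : Submodule R (Coch (Fin (0 + 1)) A 0)).comap (Zt R A₀ 0 0).subtype = ⊥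
    rw [Submodule.comap_bot, LinearMap.ker_eq_bot]
    exact Subtype.val_injective)).trans
    (LinearEquiv.ofBijective (evalZero R A₀) evalZero_bijective)

/-- `H^n` of the relative complex on `n+1` vertices is `A₀`. -/
noncomputable def HtTopEquiv : (n : ℕ) → Ht R A₀ n n ≃ₗ[R] A₀
  | 0 => HtZeroEquiv R A₀
  | n + 1 => (connEquiv R A₀ n n).trans (HtTopEquiv n)

end Groth.Agent.Lib.Helper59.CechTop
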