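import Mathlib
import Groth.Agent.Lib.Cohomology.Helper59_CechTop

/-!
# The multigraded model of the Čech complex of `O(d)` on projective space

`M` is a type of "monomials", `N m ⊆ Fin (n+1)` the set of variables with negative exponent,
`D` a degree condition. The model complex consists of the cochains `F` on ordered tuples of
`Fin (n+1)` with values in `M →₀ R` such that `F t` only involves monomials `m ∈ D` whose poles
`N m` lie in the range of `t`.
-/

set_option autoImplicit false

namespace Groth.Agent.Lib.Helper59.CechModel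

open Groth.Agent.Lib.Helper59.CechCore Groth.Agent.Lib.Helper59.CechTop

universe u w

variable (R : Type u) [CommRing R] {n : ℕ} {M : Type w} (N : M → Finset (Fin (n + 1)))
  (D : Set M)

/-- The model cochains. -/
def Cmod (p : ℕ) : Submodule R (Coch (Fin (n + 1)) (M →₀ R) p) where
  carrier := {F | ∀ t m, F t m ≠ 0 → m ∈ D ∧ ∀ i ∈ N m, i ∈ Set.range t}
  add_mem' := by
    intro F G hF hG t m h
    by_cases h1 : F t m = 0
    · by_cases h2 : G t m = 0
      · exact absurd (by rw [Pi.add_apply, Finsupp.add_apply, h1, h2, add_zero]) h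
      · exact hG t m h2
    · exact hF t m h1
  zero_mem' := fun t m h => absurd rfl h
  smul_mem' := by
    intro c F hF t m h
    refine hF t m (fun h0 => h ?_)
    rw [Pi.smul_apply, Finsupp.smul_apply, h0, smul_zero]

/-- The part of the model away from the top monomials. -/
def Crest (p : ℕ) : Submodule R (Coch (Fin (n + 1)) (M →₀ R) p) where
  carrier := {F | ∀ t m, F t m ≠ 0 → m ∈ D ∧ N m ≠ Finset.univ ∧ ∀ i ∈ N m, i ∈ Set.range t}
  add_mem' := by
    intro F G hF hG t m h
    by_cases h1 : F t m = 0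
    · by_cases h2 : G t m = 0
      · exact absurd (by rw [Pi.add_apply, Finsupp.add_apply, h1, h2, add_zero]) h
      · exact hG t m h2
    · exact hF t m h1
  zero_mem' := fun t m h => absurd rfl h
  smul_mem' := by
    intro c F hF t m h
    refine hF t m (fun h0 => h ?_)
    rw [Pi.smul_apply, Finsupp.smul_apply, h0, smul_zero]

variable {R N D}

theorem mem_Cmod {p : ℕ} {F : Coch (Fin (n + 1)) (M →₀ R) p} :
    F ∈ Cmod R N D p ↔ ∀ t m, F t m ≠ 0 → m ∈ D ∧ ∀ i ∈ N m, i ∈ Set.range t := Iff.rfl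

theorem mem_Crest {p : ℕ} {F : Coch (Fin (n + 1)) (M →₀ R) p} :
    F ∈ Crest R N D p ↔
      ∀ t m, F t m ≠ 0 → m ∈ D ∧ N m ≠ Finset.univ ∧ ∀ i ∈ N m, i ∈ Set.range t := Iff.rfl

theorem Crest_le_Cmod (p : ℕ) : Crest R N D p ≤ Cmod R N D p :=
  fun _ hF t m h => ⟨(hF t m h).1, (hF t m h).2.2⟩

/-- Evaluation of the differential at a monomial. -/
theorem dCoch_apply_apply (p : ℕ) (F : Coch (Fin (n + 1)) (M →₀ R) p)
    (s : Fin (p + 2) → Fin (n + 1)) (m : M) :
    dCoch R _ (M →₀ R) p F s m =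
      ∑ k : Fin (p + 2), ((-1 : ℤ) ^ (k : ℕ)) • F (s ∘ k.succAbove) m := by
  rw [dCoch_apply, Finsupp.finsetSum_apply]
  rfl

theorem dCoch_mem_Cmod {p : ℕ} {F : Coch (Fin (n + 1)) (M →₀ R) p} (hF : F ∈ Cmod R N D p) :
    dCoch R _ _ p F ∈ Cmod R N D (p + 1) := by
  intro s m h
  rw [dCoch_apply_apply] at h
  obtain ⟨k, -, hk⟩ := Finset.exists_ne_zero_of_sum_ne_zero h
  have hk' : F (s ∘ k.succAbove) m ≠ 0 := fun h0 => hk (by rw [h0, smul_zero])
  obtain ⟨h1, h2⟩ := hF _ m hk'
  refine ⟨h1, fun i hi => ?_⟩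
  obtain ⟨y, hy⟩ := h2 i hi
  exact ⟨_, hy⟩

theorem dCoch_mem_Crest {p : ℕ} {F : Coch (Fin (n + 1)) (M →₀ R) p} (hF : F ∈ Crest R N D p) :
    dCoch R _ _ p F ∈ Crest R N D (p + 1) := by
  intro s m h
  rw [dCoch_apply_apply] at h
  obtain ⟨k, -, hk⟩ := Finset.exists_ne_zero_of_sum_ne_zero h
  have hk' : F (s ∘ k.succAbove) m ≠ 0 := fun h0 => hk (by rw [h0, smul_zero])
  obtain ⟨h1, h2, h3⟩ := hF _ m hk'
  refine ⟨h1, h2, fun i hi => ?_⟩
  obtain ⟨y, hy⟩ := h3 i hi
  exact ⟨_, hy⟩

section Homotopy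

variable (R) (J : M → Fin (n + 1))

/-- The monomial-wise cone operator: `(hJ F)(t)(m) = F (J m :: t) m`. -/
noncomputable def hJ (p : ℕ) :
    Coch (Fin (n + 1)) (M →₀ R) (p + 1) →ₗ[R] Coch (Fin (n + 1)) (M →₀ R) p := by
  classical
  exact
  { toFun := fun F t => ∑ v : Fin (n + 1), (F (Fin.cons v t)).filter (fun m => J m = v)
    map_add' := by
      intro F G
      funext t
      simp only [Pi.add_apply, Finsupp.filter_add, Finset.sum_add_distrib]
    map_smul' := by
      intro c F
      funext t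
      simp only [Pi.smul_apply, Finsupp.filter_smul, Finset.smul_sum, RingHom.id_apply] }

variable {R}

theorem hJ_apply_apply (p : ℕ) (F : Coch (Fin (n + 1)) (M →₀ R) (p + 1))
    (t : Fin (p + 1) → Fin (n + 1)) (m : M) :
    hJ R J p F t m = F (Fin.cons (J m) t) m := by
  classical
  show (∑ v : Fin (n + 1), (F (Fin.cons v t)).filter (fun m => J m = v)) m = _
  rw [Finsupp.finsetSum_apply]
  simp only [Finsupp.filter_apply]
  rw [Finset.sum_eq_single (J m)]
  · rw [if_pos rfl]
  · intro v _ hv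
    rw [if_neg (fun h => hv h.symm)]
  · intro h
    exact absurd (Finset.mem_univ _) h

/-- The monomial-wise cone identity in positive degrees. -/
theorem hJ_dCoch_add (p : ℕ) (F : Coch (Fin (n + 1)) (M →₀ R) (p + 1)) :
    hJ R J (p + 1) (dCoch R _ _ (p + 1) F) + dCoch R _ _ p (hJ R J p F) = F := by
  funext t
  ext m
  rw [Pi.add_apply, Finsupp.add_apply, hJ_apply_apply, dCoch_apply_apply, dCoch_apply_apply]
  simp only [hJ_apply_apply]
  have key := congrFun (hCone_dCoch_add R (J m) p (fun t => F t m : Coch (Fin (n + 1)) R (p + 1))) t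
  rw [Pi.add_apply, hCone_apply, dCoch_apply, dCoch_apply] at key
  simp only [hCone_apply] at key
  exact key

/-- The monomial-wise cone identity in degree zero. -/
theorem hJ_dCoch_zero (F : Coch (Fin (n + 1)) (M →₀ R) 0) (t : Fin 1 → Fin (n + 1)) (m : M) :
    hJ R J 0 (dCoch R _ _ 0 F) t m = F t m - F (fun _ => J m) m := by
  rw [hJ_apply_apply, dCoch_apply_apply]
  have key := hCone_dCoch_zero R (J m) (fun t => F t m : Coch (Fin (n + 1)) R 0) t
  rw [hCone_apply, dCoch_apply] at key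
  exact key

theorem hJ_mem_Crest (hJN : ∀ m, N m ≠ Finset.univ → J m ∉ N m) {p : ℕ}
    {F : Coch (Fin (n + 1)) (M →₀ R) (p + 1)} (hF : F ∈ Crest R N D (p + 1)) :
    hJ R J p F ∈ Crest R N D p := by
  intro t m h
  rw [hJ_apply_apply] at h
  obtain ⟨h1, h2, h3⟩ := hF _ m h
  refine ⟨h1, h2, fun i hi => ?_⟩
  obtain ⟨y, hy⟩ := h3 i hi
  revert hy
  refine Fin.cases ?_ (fun y' => ?_) y
  · intro hy
    rw [Fin.cons_zero] at hy
    exact absurd (hy ▸ hi) (hJN m h2)
  · intro hy
    rw [Fin.cons_succ] at hy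
    exact ⟨y', hy⟩

end Homotopy

/-- A choice of a non-pole variable for each non-top monomial. -/
theorem exists_J (N : M → Finset (Fin (n + 1))) :
    ∃ J : M → Fin (n + 1), ∀ m, N m ≠ Finset.univ → J m ∉ N m := by
  classical
  have : ∀ m, ∃ j : Fin (n + 1), N m ≠ Finset.univ → j ∉ N m := by
    intro m
    by_cases h : N m = Finset.univ
    · exact ⟨0, fun h' => absurd h h'⟩
    · obtain ⟨j, hj⟩ : ∃ j, j ∉ N m := by
        by_contra hcon
        push Not at hcon
        exact h (Finset.eq_univ_iff_forall.mpr hcon)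
      exact ⟨j, fun _ => hj⟩
  choose J hJ using this
  exact ⟨J, hJ⟩

/-- Away from the top monomials, cocycles in positive degrees are coboundaries. -/
theorem Crest_exact {p : ℕ} {F : Coch (Fin (n + 1)) (M →₀ R) (p + 1)}
    (hF : F ∈ Crest R N D (p + 1)) (hd : dCoch R _ _ (p + 1) F = 0) :
    ∃ G ∈ Crest R N D p, dCoch R _ _ p G = F := by
  obtain ⟨J, hJN⟩ := exists_J N
  refine ⟨hJ R J p F, hJ_mem_Crest J hJN hF, ?_⟩
  have := hJ_dCoch_add J p F
  rwa [hd, map_zero, zero_add] at this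

/-- Away from the top monomials, degree-zero cocycles are constant. -/
theorem Crest_cocycle_zero_const {F : Coch (Fin (n + 1)) (M →₀ R) 0}
    (hd : dCoch R _ _ 0 F = 0) (t t' : Fin 1 → Fin (n + 1)) : F t = F t' := by
  let J : M → Fin (n + 1) := fun _ => 0
  ext m
  have h1 := hJ_dCoch_zero J F t m
  have h2 := hJ_dCoch_zero J F t' m
  rw [hd, map_zero] at h1 h2
  simp only [Pi.zero_apply, Finsupp.zero_apply] at h1 h2
  rw [sub_eq_zero.mp h1.symm, sub_eq_zero.mp h2.symm]

section Split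

variable (R N D)

/-- The coefficient module of the top part: Laurent polynomials in the top monomials. -/
def Atop : Submodule R (M →₀ R) := Finsupp.supported R R {m | m ∈ D ∧ N m = Finset.univ}

/-- Projection to the top monomials. -/
noncomputable def topPart (p : ℕ) :
    Coch (Fin (n + 1)) (M →₀ R) p →ₗ[R] Coch (Fin (n + 1)) (M →₀ R) p := by
  classical
  exact
  { toFun := fun F t => (F t).filter (fun m => N m = Finset.univ)
    map_add' := by
      intro F G
      funext t
      simp only [Pi.add_apply, Finsupp.filter_add]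
    map_smul' := by
      intro c F
      funext t
      simp only [Pi.smul_apply, Finsupp.filter_smul, RingHom.id_apply] }

variable {R N D}

theorem topPart_apply_of_eq {p : ℕ} (F : Coch (Fin (n + 1)) (M →₀ R) p)
    (t : Fin (p + 1) → Fin (n + 1)) {m : M} (hm : N m = Finset.univ) :
    topPart R N p F t m = F t m := by
  classical
  exact Finsupp.filter_apply_pos _ _ hm

theorem topPart_apply_of_ne {p : ℕ} (F : Coch (Fin (n + 1)) (M →₀ R) p)
    (t : Fin (p + 1) → Fin (n + 1)) {m : M} (hm : N m ≠ Finset.univ) :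
    topPart R N p F t m = 0 := by
  classical
  exact Finsupp.filter_apply_neg _ _ hm

theorem dCoch_topPart (p : ℕ) (F : Coch (Fin (n + 1)) (M →₀ R) p) :
    dCoch R _ _ p (topPart R N p F) = topPart R N (p + 1) (dCoch R _ _ p F) := by
  funext s
  ext m
  by_cases hm : N m = Finset.univ
  · rw [topPart_apply_of_eq _ _ hm, dCoch_apply_apply, dCoch_apply_apply]
    simp only [topPart_apply_of_eq _ _ hm]
  · rw [topPart_apply_of_ne _ _ hm, dCoch_apply_apply]
    simp only [topPart_apply_of_ne _ _ hm, smul_zero, Finset.sum_const_zero]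

theorem topPart_mem_Ttop {p : ℕ} {F : Coch (Fin (n + 1)) (M →₀ R) p} (hF : F ∈ Cmod R N D p) :
    topPart R N p F ∈ Ttop R (Atop R N D) n p := by
  refine ⟨fun t => ?_, fun t ht => ?_⟩
  · rw [Atop, Finsupp.mem_supported]
    intro m hm
    rw [Finset.mem_coe, Finsupp.mem_support_iff] at hm
    by_cases hN : N m = Finset.univ
    · rw [topPart_apply_of_eq _ _ hN] at hm
      exact ⟨(hF t m hm).1, hN⟩
    · exact absurd (topPart_apply_of_ne _ _ hN) hm
  · ext m
    rw [Finsupp.zero_apply]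
    by_cases hN : N m = Finset.univ
    · rw [topPart_apply_of_eq _ _ hN]
      by_contra h
      apply ht
      intro x
      exact (hF t m h).2 x (hN ▸ Finset.mem_univ x)
    · exact topPart_apply_of_ne _ _ hN

theorem sub_topPart_mem_Crest {p : ℕ} {F : Coch (Fin (n + 1)) (M →₀ R) p}
    (hF : F ∈ Cmod R N D p) : F - topPart R N p F ∈ Crest R N D p := by
  intro t m h
  rw [Pi.sub_apply, Finsupp.sub_apply] at h
  by_cases hN : N m = Finset.univ
  · rw [topPart_apply_of_eq _ _ hN, sub_self] at h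
    exact absurd rfl h
  · rw [topPart_apply_of_ne _ _ hN, sub_zero] at h
    exact ⟨(hF t m h).1, hN, (hF t m h).2⟩

theorem Ttop_le_Cmod (p : ℕ) : Ttop R (Atop R N D) n p ≤ Cmod R N D p := by
  rintro F ⟨h1, h2⟩ t m h
  have hFt : F t ≠ 0 := fun h0 => h (by rw [h0, Finsupp.zero_apply])
  have hsurj : Function.Surjective t := by
    by_contra hs
    exact hFt (h2 t hs)
  have hmem := h1 t
  rw [Atop, Finsupp.mem_supported] at hmem
  have := hmem (Finset.mem_coe.mpr (Finsupp.mem_support_iff.mpr h))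
  exact ⟨this.1, fun i _ => hsurj i⟩

theorem topPart_eq_self {p : ℕ} {F : Coch (Fin (n + 1)) (M →₀ R) p}
    (hF : F ∈ Ttop R (Atop R N D) n p) : topPart R N p F = F := by
  funext t
  ext m
  by_cases hN : N m = Finset.univ
  · exact topPart_apply_of_eq _ _ hN
  · rw [topPart_apply_of_ne _ _ hN]
    have hmem := hF.1 t
    rw [Atop, Finsupp.mem_supported] at hmem
    by_contra h
    have := hmem (Finset.mem_coe.mpr (Finsupp.mem_support_iff.mpr (Ne.symm h)))
    exact hN this.2

variable (R N D)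

/-- Cocycles of the model. -/
noncomputable def Zm (p : ℕ) : Submodule R (Coch (Fin (n + 1)) (M →₀ R) p) :=
  Cmod R N D p ⊓ LinearMap.ker (dCoch R _ _ p)

/-- Coboundaries of the model. -/
noncomputable def Bm : (p : ℕ) → Submodule R (Coch (Fin (n + 1)) (M →₀ R) p)
  | 0 => ⊥
  | p + 1 => (Cmod R N D p).map (dCoch R _ _ p)

variable {R N D}

theorem mem_Zm {p : ℕ} {F : Coch (Fin (n + 1)) (M →₀ R) p} :
    F ∈ Zm R N D p ↔ F ∈ Cmod R N D p ∧ dCoch R _ _ p F = 0 := by
  rw [Zm, Submodule.mem_inf, LinearMap.mem_ker]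

theorem mem_Bm_succ {p : ℕ} {F : Coch (Fin (n + 1)) (M →₀ R) (p + 1)} :
    F ∈ Bm R N D (p + 1) ↔ ∃ G ∈ Cmod R N D p, dCoch R _ _ p G = F := by
  rw [Bm, Submodule.mem_map]

/-- A cocycle whose top part is a coboundary of the relative complex is a coboundary. -/
theorem mem_Bm_of_topPart_mem_Bt {p : ℕ} {F : Coch (Fin (n + 1)) (M →₀ R) (p + 1)}
    (hF : F ∈ Zm R N D (p + 1))
    (hT : topPart R N (p + 1) F ∈ Bt R (Atop R N D) n (p + 1)) : F ∈ Bm R N D (p + 1) := by
  obtain ⟨hFC, hFd⟩ := mem_Zm.mp hF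
  obtain ⟨E, hE, hEd⟩ := mem_Bt_succ.mp hT
  have hrest := sub_topPart_mem_Crest hFC
  have hdrest : dCoch R _ _ (p + 1) (F - topPart R N (p + 1) F) = 0 := by
    rw [map_sub, hFd, dCoch_topPart, hFd, map_zero, sub_zero]
  obtain ⟨G, hG, hGd⟩ := Crest_exact hrest hdrest
  refine mem_Bm_succ.mpr ⟨E + G, Submodule.add_mem _ (Ttop_le_Cmod p hE) (Crest_le_Cmod p hG), ?_⟩
  rw [map_add, hEd, hGd, add_sub_cancel]

/-- Exactness of the model in positive degrees different from `n` (or when there are no top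
monomials). -/
theorem Zm_le_Bm {p : ℕ} (h : p + 1 ≠ n ∨ ∀ m ∈ D, N m ≠ Finset.univ) :
    Zm R N D (p + 1) ≤ Bm R N D (p + 1) := by
  intro F hF
  obtain ⟨hFC, hFd⟩ := mem_Zm.mp hF
  apply mem_Bm_of_topPart_mem_Bt hF
  rcases h with h | h
  · apply exact_all n (p + 1) h
    refine CechTop.mem_Zt.mpr ⟨topPart_mem_Ttop hFC, ?_⟩
    rw [dCoch_topPart, hFd, map_zero]
  · have h0 : topPart R N (p + 1) F = 0 := by
      funext t
      ext m
      rw [Pi.zero_apply, Finsupp.zero_apply]
      by_cases hN : N m = Finset.univ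
      · rw [topPart_apply_of_eq _ _ hN]
        by_contra hne
        exact h m (hFC t m hne).1 hN
      · exact topPart_apply_of_ne _ _ hN
    rw [h0]
    exact Submodule.zero_mem _

end Split

section TopIso

variable (R N D)

/-- The top part of a model cocycle, as a cocycle of the relative complex. -/
noncomputable def topZ (p : ℕ) : Zm R N D p →ₗ[R] Zt R (Atop R N D) n p :=
  LinearMap.codRestrict (Zt R (Atop R N D) n p)
    ((topPart R N p).comp (Zm R N D p).subtype)
    (fun F => by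
      obtain ⟨hFC, hFd⟩ := mem_Zm.mp F.2
      refine CechTop.mem_Zt.mpr ⟨topPart_mem_Ttop hFC, ?_⟩
      show dCoch R _ _ p (topPart R N p (F : Coch (Fin (n + 1)) (M →₀ R) p)) = 0
      rw [dCoch_topPart, hFd, map_zero])

/-- The map from model cocycles in degree `n` to the top coefficient module. -/
noncomputable def topMap : Zm R N D n →ₗ[R] Atop R N D :=
  ((HtTopEquiv R (Atop R N D) n).toLinearMap.comp (Submodule.mkQ _)).comp (topZ R N D n)

variable {R N D}

theorem topZ_coe (p : ℕ) (F : Zm R N D p) :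
    (topZ R N D p F : Coch (Fin (n + 1)) (M →₀ R) p) =
      topPart R N p (F : Coch (Fin (n + 1)) (M →₀ R) p) := rfl

theorem topMap_surjective : Function.Surjective (topMap R N D (n := n)) := by
  intro a
  obtain ⟨x, hx⟩ := (HtTopEquiv R (Atop R N D) n).surjective a
  obtain ⟨⟨G, hG⟩, rfl⟩ := Submodule.mkQ_surjective _ x
  obtain ⟨hGT, hGd⟩ := CechTop.mem_Zt.mp hG
  have hGm : G ∈ Zm R N D n := mem_Zm.mpr ⟨Ttop_le_Cmod n hGT, hGd⟩
  refine ⟨⟨G, hGm⟩, ?_⟩
  rw [← hx]
  show (HtTopEquiv R (Atop R N D) n) (Submodule.mkQ _ (topZ R N D n ⟨G, hGm⟩)) = _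
  congr 2
  apply Subtype.ext
  rw [topZ_coe]
  exact topPart_eq_self hGT

theorem topMap_eq_zero_iff (hn : n ≠ 0) (F : Zm R N D n) :
    topMap R N D F = 0 ↔ (F : Coch (Fin (n + 1)) (M →₀ R) n) ∈ Bm R N D n := by
  obtain ⟨n', rfl⟩ := Nat.exists_eq_succ_of_ne_zero hn
  have h1 : topMap R N D F = 0 ↔
      (topZ R N D (n' + 1) F : Coch (Fin (n' + 1 + 1)) (M →₀ R) (n' + 1)) ∈
        Bt R (Atop R N D) (n' + 1) (n' + 1) := by
    unfold topMap
    rw [LinearMap.comp_apply, LinearMap.comp_apply, LinearEquiv.coe_coe,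
      LinearEquiv.map_eq_zero_iff, Submodule.mkQ_apply, Submodule.Quotient.mk_eq_zero,
      Submodule.mem_comap, Submodule.subtype_apply]
  rw [h1, topZ_coe]
  constructor
  · intro h
    exact mem_Bm_of_topPart_mem_Bt F.2 h
  · intro h
    obtain ⟨G, hG, hGd⟩ := mem_Bm_succ.mp h
    rw [← hGd, ← dCoch_topPart]
    exact mem_Bt_succ.mpr ⟨_, topPart_mem_Ttop hG, rfl⟩

end TopIso

section DegreeZero

variable (R N D)

/-- The coefficient module of global sections: Laurent polynomials without poles. -/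
def Azero : Submodule R (M →₀ R) := Finsupp.supported R R {m | m ∈ D ∧ N m = ∅}

variable {R N D}

theorem mem_Azero {g : M →₀ R} : g ∈ Azero R N D ↔ ∀ m, g m ≠ 0 → m ∈ D ∧ N m = ∅ := by
  unfold Azero
  rw [Finsupp.mem_supported]
  constructor
  · intro h m hm
    exact h (Finset.mem_coe.mpr (Finsupp.mem_support_iff.mpr hm))
  · intro h m hm
    exact h m (Finsupp.mem_support_iff.mp (Finset.mem_coe.mp hm))

/-- For at least two vertices, a degree-zero cocycle of the model takes values without poles. -/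
theorem cocycle_zero_mem_Azero {n' : ℕ} {N : M → Finset (Fin (n' + 2))}
    {F : Coch (Fin (n' + 2)) (M →₀ R) 0} (hF : F ∈ Zm R N D 0)
    (t : Fin 1 → Fin (n' + 2)) : F t ∈ Azero R N D := by
  obtain ⟨hFC, hFd⟩ := mem_Zm.mp hF
  rw [mem_Azero]
  intro m hm
  refine ⟨(hFC t m hm).1, ?_⟩
  rw [Finset.eq_empty_iff_forall_notMem]
  intro i hi
  have h0 : F (fun _ => 0) m ≠ 0 := by
    rw [← Crest_cocycle_zero_const hFd t (fun _ => 0)]; exact hm
  have h1 : F (fun _ => 1) m ≠ 0 := by
    rw [← Crest_cocycle_zero_const hFd t (fun _ => 1)]; exact hm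
  obtain ⟨_, ha⟩ := (hFC _ m h0).2 i hi
  obtain ⟨_, hb⟩ := (hFC _ m h1).2 i hi
  have : (0 : Fin (n' + 2)) = 1 := ha.trans hb.symm
  exact absurd this (by simp)

variable (R D)

/-- Evaluation of degree-zero cocycles. -/
noncomputable def evalZ {n' : ℕ} (N : M → Finset (Fin (n' + 2))) :
    Zm R N D 0 →ₗ[R] Azero R N D :=
  LinearMap.codRestrict (Azero R N D)
    ((LinearMap.proj (fun _ => (0 : Fin (n' + 2)))).comp (Zm R N D 0).subtype)
    (fun F => cocycle_zero_mem_Azero F.2 _)

variable {R D}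

theorem evalZ_bijective {n' : ℕ} (N : M → Finset (Fin (n' + 2))) :
    Function.Bijective (evalZ R D N) := by
  constructor
  · intro F G hFG
    have h0 : (F : Coch (Fin (n' + 2)) (M →₀ R) 0) (fun _ => 0) =
        (G : Coch (Fin (n' + 2)) (M →₀ R) 0) (fun _ => 0) := congrArg Subtype.val hFG
    apply Subtype.ext
    funext t
    rw [Crest_cocycle_zero_const (mem_Zm.mp F.2).2 t (fun _ => 0),
      Crest_cocycle_zero_const (mem_Zm.mp G.2).2 t (fun _ => 0)]
    exact h0
  · intro a
    have hmem : (fun _ => (a : M →₀ R) : Coch (Fin (n' + 2)) (M →₀ R) 0) ∈ Zm R N D 0 := by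
      refine mem_Zm.mpr ⟨fun t m h => ?_, ?_⟩
      · have hm := (mem_Azero.mp a.2) m h
        refine ⟨hm.1, fun i hi => ?_⟩
        rw [hm.2] at hi
        exact absurd hi (Finset.notMem_empty i)
      · funext s
        rw [dCoch_apply, Fin.sum_univ_two]
        simp
    exact ⟨⟨_, hmem⟩, Subtype.ext rfl⟩

/-- `H^0` of the model: Laurent polynomials without poles (for at least two vertices). -/
noncomputable def ZmZeroEquiv {n' : ℕ} (N : M → Finset (Fin (n' + 2))) :
    Zm R N D 0 ≃ₗ[R] Azero R N D :=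
  LinearEquiv.ofBijective (evalZ R D N) (evalZ_bijective N)

end DegreeZero

section OneVertex

theorem tuple_one_vertex {p : ℕ} (t t' : Fin (p + 1) → Fin (0 + 1)) : t = t' := by
  funext i
  apply Fin.ext
  have h1 := (t i).isLt
  have h2 := (t' i).isLt
  omega

variable (R D)

/-- Evaluation of degree-zero cocycles, one vertex. -/
noncomputable def evalOne (N : M → Finset (Fin (0 + 1))) :
    Zm R N D 0 →ₗ[R] Finsupp.supported R R D :=
  LinearMap.codRestrict (Finsupp.supported R R D)
    ((LinearMap.proj (fun _ => (0 : Fin (0 + 1)))).comp (Zm R N D 0).subtype)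
    (fun F => by
      rw [Finsupp.mem_supported]
      intro m hm
      rw [Finset.mem_coe, Finsupp.mem_support_iff] at hm
      exact ((mem_Zm.mp F.2).1 _ m hm).1)

variable {R D}

theorem evalOne_bijective (N : M → Finset (Fin (0 + 1))) : Function.Bijective (evalOne R D N) := by
  constructor
  · intro F G hFG
    have h0 : (F : Coch (Fin (0 + 1)) (M →₀ R) 0) (fun _ => 0) =
        (G : Coch (Fin (0 + 1)) (M →₀ R) 0) (fun _ => 0) := congrArg Subtype.val hFG
    apply Subtype.ext
    funext t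
    rw [tuple_one_vertex t (fun _ => 0)]
    exact h0
  · intro a
    have hmem : (fun _ => (a : M →₀ R) : Coch (Fin (0 + 1)) (M →₀ R) 0) ∈ Zm R N D 0 := by
      refine mem_Zm.mpr ⟨fun t m h => ?_, ?_⟩
      · have ha := a.2
        rw [Finsupp.mem_supported] at ha
        refine ⟨ha (Finset.mem_coe.mpr (Finsupp.mem_support_iff.mpr h)), fun i _ => ⟨0, ?_⟩⟩
        apply Fin.ext
        have h1 := (t 0).isLt
        have h2 := i.isLt
        omega
      · funext s
        rw [dCoch_apply, Fin.sum_univ_two]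
        simp
    exact ⟨⟨_, hmem⟩, Subtype.ext rfl⟩

/-- `H^0` of the model on one vertex. -/
noncomputable def ZmZeroEquivOne (N : M → Finset (Fin (0 + 1))) :
    Zm R N D 0 ≃ₗ[R] Finsupp.supported R R D :=
  LinearEquiv.ofBijective (evalOne R D N) (evalOne_bijective N)

end OneVertex

end Groth.Agent.Lib.Helper59.CechModel
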