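import Mathlib
import Groth.Agent.Lib.Cohomology.Helper59_CechModel

/-!
# The Čech complex of `O(d)` on `P^n`: Laurent-monomial model and its cohomology

`LM n = Fin (n+1) → ℤ` are the Laurent monomials, `negSupp m` the variables with negative exponent
and `degSet n d` the monomials of total degree `d`. The model complex
`CechPn R n d p = Cmod R negSupp (degSet n d) p` consists of the families
`F : (Fin (p+1) → Fin (n+1)) → (LM n →₀ R)` such that `F t` is a Laurent polynomial, homogeneous of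
degree `d`, with poles only along the variables `x_{t 0}, …, x_{t p}`; this is the group of
sections of `O(d)` on `D₊(x_{t 0} ⋯ x_{t p})`, and `dCoch` is the Čech differential.
-/

set_option autoImplicit false

namespace Groth.Agent.Lib.Helper59.CechPn

open Groth.Agent.Lib.Helper59.CechCore Groth.Agent.Lib.Helper59.CechTop
  Groth.Agent.Lib.Helper59.CechModel

universe u

/-- Laurent monomials in `n+1` variables. -/
abbrev LM (n : ℕ) : Type := Fin (n + 1) → ℤ

/-- The variables occurring with negative exponent. -/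
def negSupp {n : ℕ} (m : LM n) : Finset (Fin (n + 1)) := Finset.univ.filter (fun i => m i < 0)

/-- The monomials of total degree `d`. -/
def degSet (n : ℕ) (d : ℤ) : Set (LM n) := {m | ∑ i, m i = d}

theorem mem_negSupp {n : ℕ} {m : LM n} {i : Fin (n + 1)} : i ∈ negSupp m ↔ m i < 0 := by
  simp [negSupp]

theorem negSupp_eq_empty_iff {n : ℕ} {m : LM n} : negSupp m = ∅ ↔ ∀ i, 0 ≤ m i := by
  rw [Finset.eq_empty_iff_forall_notMem]
  simp only [mem_negSupp, not_lt]

theorem negSupp_eq_univ_iff {n : ℕ} {m : LM n} : negSupp m = Finset.univ ↔ ∀ i, m i < 0 := by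
  rw [Finset.eq_univ_iff_forall]
  simp only [mem_negSupp]

/-- Monomials without poles of degree `e` correspond to exponent vectors of degree `e`. -/
noncomputable def posEquiv (n e : ℕ) :
    {m : LM n // m ∈ degSet n (e : ℤ) ∧ negSupp m = ∅} ≃ {x : Fin (n + 1) →₀ ℕ // x.degree = e} where
  toFun m := ⟨Finsupp.equivFunOnFinite.symm (fun i => (m.1 i).toNat), by
    have h0 := negSupp_eq_empty_iff.mp m.2.2
    have h1 : ∑ i, m.1 i = (e : ℤ) := m.2.1
    have h2 : ((∑ i, ((m.1 i).toNat : ℕ) : ℕ) : ℤ) = e := by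
      push_cast
      rw [Finset.sum_congr rfl (fun i _ => Int.toNat_of_nonneg (h0 i))]
      exact h1
    rw [Finsupp.degree_eq_sum]
    simp only [Finsupp.coe_equivFunOnFinite_symm]
    exact_mod_cast h2⟩
  invFun x := ⟨fun i => (x.1 i : ℤ), by
    refine ⟨?_, negSupp_eq_empty_iff.mpr (fun i => Int.natCast_nonneg _)⟩
    show ∑ i, (x.1 i : ℤ) = e
    have h := x.2
    rw [Finsupp.degree_eq_sum] at h
    exact_mod_cast h⟩
  left_inv m := by
    apply Subtype.ext
    funext i
    have h0 := negSupp_eq_empty_iff.mp m.2.2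
    simp only [Finsupp.coe_equivFunOnFinite_symm]
    exact Int.toNat_of_nonneg (h0 i)
  right_inv x := by
    apply Subtype.ext
    ext i
    simp

/-- Monomials with poles along all variables, of degree `-(n+1+k)`, correspond to exponent
vectors of degree `k`. -/
noncomputable def negEquiv (n k : ℕ) :
    {m : LM n // m ∈ degSet n (-((n : ℤ) + 1 + k)) ∧ negSupp m = Finset.univ} ≃
      {x : Fin (n + 1) →₀ ℕ // x.degree = k} where
  toFun m := ⟨Finsupp.equivFunOnFinite.symm (fun i => (-1 - m.1 i).toNat), by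
    have h0 := negSupp_eq_univ_iff.mp m.2.2
    have h1 : ∑ i, m.1 i = -((n : ℤ) + 1 + k) := m.2.1
    have h3 : ∑ i : Fin (n + 1), (-1 - m.1 i) = k := by
      rw [Finset.sum_sub_distrib, h1]
      simp
    have h2 : ((∑ i, ((-1 - m.1 i).toNat : ℕ) : ℕ) : ℤ) = k := by
      push_cast
      rw [Finset.sum_congr rfl (fun i _ => Int.toNat_of_nonneg
        (show 0 ≤ -1 - m.1 i by have := h0 i; omega))]
      exact h3
    rw [Finsupp.degree_eq_sum]
    simp only [Finsupp.coe_equivFunOnFinite_symm]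
    exact_mod_cast h2⟩
  invFun x := ⟨fun i => -1 - (x.1 i : ℤ), by
    refine ⟨?_, negSupp_eq_univ_iff.mpr (fun i => by
      have : (0 : ℤ) ≤ (x.1 i : ℤ) := Int.natCast_nonneg _
      omega)⟩
    show ∑ i, (-1 - (x.1 i : ℤ)) = -((n : ℤ) + 1 + k)
    have h := x.2
    rw [Finsupp.degree_eq_sum] at h
    have h' : ∑ i, (x.1 i : ℤ) = k := by exact_mod_cast h
    rw [Finset.sum_sub_distrib, h']
    simp
    ring⟩
  left_inv m := by
    apply Subtype.ext
    funext i
    have h0 := negSupp_eq_univ_iff.mp m.2.2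
    simp only [Finsupp.coe_equivFunOnFinite_symm]
    rw [Int.toNat_of_nonneg (by have := h0 i; omega)]
    ring
  right_inv x := by
    apply Subtype.ext
    ext i
    simp

section Main

variable (R : Type u) [CommRing R] (n : ℕ) (d : ℤ)

/-- The model Čech cochains of `O(d)` on `P^n`. -/
noncomputable abbrev CechPn (p : ℕ) : Submodule R (Coch (Fin (n + 1)) (LM n →₀ R) p) :=
  Cmod R (negSupp (n := n)) (degSet n d) p

/-- Cocycles. -/
noncomputable abbrev ZPn (p : ℕ) : Submodule R (Coch (Fin (n + 1)) (LM n →₀ R) p) :=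
  Zm R (negSupp (n := n)) (degSet n d) p

/-- Coboundaries (`⊥` in degree zero). -/
noncomputable abbrev BPn (p : ℕ) : Submodule R (Coch (Fin (n + 1)) (LM n →₀ R) p) :=
  Bm R (negSupp (n := n)) (degSet n d) p

variable {R n d}

theorem mem_CechPn {p : ℕ} {F : Coch (Fin (n + 1)) (LM n →₀ R) p} :
    F ∈ CechPn R n d p ↔
      ∀ t m, F t m ≠ 0 → ∑ i, m i = d ∧ ∀ i, m i < 0 → i ∈ Set.range t := by
  constructor
  · intro h t m hm
    exact ⟨(h t m hm).1, fun i hi => (h t m hm).2 i (mem_negSupp.mpr hi)⟩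
  · intro h t m hm
    exact ⟨(h t m hm).1, fun i hi => (h t m hm).2 i (mem_negSupp.mp hi)⟩

theorem mem_ZPn {p : ℕ} {F : Coch (Fin (n + 1)) (LM n →₀ R) p} :
    F ∈ ZPn R n d p ↔ F ∈ CechPn R n d p ∧ dCoch R _ _ p F = 0 := mem_Zm

theorem mem_BPn_succ {p : ℕ} {F : Coch (Fin (n + 1)) (LM n →₀ R) (p + 1)} :
    F ∈ BPn R n d (p + 1) ↔ ∃ G ∈ CechPn R n d p, dCoch R _ _ p G = F := mem_Bm_succ

theorem no_top_of_lt (h : -((n : ℤ) + 1) < d) :
    ∀ m ∈ degSet n d, negSupp m ≠ Finset.univ := by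
  intro m hm hN
  have h0 := negSupp_eq_univ_iff.mp hN
  have h1 : ∑ i, m i = d := hm
  have h2 : ∑ i, m i ≤ ∑ _i : Fin (n + 1), (-1 : ℤ) :=
    Finset.sum_le_sum (fun i _ => by have := h0 i; omega)
  simp at h2
  omega

theorem no_pos_of_lt (h : d < 0) : ∀ m ∈ degSet n d, negSupp m ≠ ∅ := by
  intro m hm hN
  have h0 := negSupp_eq_empty_iff.mp hN
  have h1 : ∑ i, m i = d := hm
  have h2 : 0 ≤ ∑ i, m i := Finset.sum_nonneg (fun i _ => h0 i)
  omega

/-- **Vanishing in positive degrees**: every model cocycle of degree `p+1` is a coboundary, unless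
`p + 1 = n` and `d ≤ -(n+1)`. -/
theorem ZPn_le_BPn (p : ℕ) (h : p + 1 ≠ n ∨ -((n : ℤ) + 1) < d) :
    ZPn R n d (p + 1) ≤ BPn R n d (p + 1) := by
  apply Zm_le_Bm
  rcases h with h | h
  · exact Or.inl h
  · exact Or.inr (no_top_of_lt h)

/-- Element form of `ZPn_le_BPn`. -/
theorem exists_cobound (p : ℕ) (h : p + 1 ≠ n ∨ -((n : ℤ) + 1) < d)
    {F : Coch (Fin (n + 1)) (LM n →₀ R) (p + 1)} (hF : F ∈ CechPn R n d (p + 1))
    (hd : dCoch R _ _ (p + 1) F = 0) : ∃ G ∈ CechPn R n d p, dCoch R _ _ p G = F :=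
  mem_BPn_succ.mp (ZPn_le_BPn p h (mem_ZPn.mpr ⟨hF, hd⟩))

/-- **Vanishing of `H^0`** for negative twists (`n ≥ 1`). -/
theorem ZPn_zero_eq_bot (hn : n ≠ 0) (hd : d < 0) : ZPn R n d 0 = ⊥ := by
  obtain ⟨n', rfl⟩ := Nat.exists_eq_succ_of_ne_zero hn
  rw [eq_bot_iff]
  intro F hF
  rw [Submodule.mem_bot]
  funext t
  have h1 := cocycle_zero_mem_Azero hF t
  rw [mem_Azero] at h1
  ext m
  by_contra hne
  obtain ⟨hm, hN⟩ := h1 m hne
  exact no_pos_of_lt hd m hm hN

variable (R n)

/-- The homogeneous polynomials of degree `k` as finitely supported functions. -/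
noncomputable def homogEquiv (k : ℕ) :
    (MvPolynomial.homogeneousSubmodule (Fin (n + 1)) R k) ≃ₗ[R]
      ({x : Fin (n + 1) →₀ ℕ // x.degree = k} →₀ R) :=
  (LinearEquiv.ofEq _ _ (MvPolynomial.homogeneousSubmodule_eq_finsupp_supported (Fin (n + 1)) R k)).trans
    (AddMonoidAlgebra.supportedEquivFinsupp (R := R) (S := R) {x : Fin (n + 1) →₀ ℕ | x.degree = k})

/-- Laurent polynomials of degree `e ≥ 0` without poles are the homogeneous polynomials. -/
noncomputable def AzeroEquiv (e : ℕ) :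
    Azero R (negSupp (n := n)) (degSet n (e : ℤ)) ≃ₗ[R]
      MvPolynomial.homogeneousSubmodule (Fin (n + 1)) R e :=
  ((Finsupp.supportedEquivFinsupp (R := R) (M := R)
      {m : LM n | m ∈ degSet n (e : ℤ) ∧ negSupp m = ∅}).trans
    (Finsupp.domLCongr (posEquiv n e))).trans (homogEquiv R n e).symm

/-- Laurent polynomials of degree `-(n+1+k)` with poles along all variables correspond to the
homogeneous polynomials of degree `k`. -/
noncomputable def AtopEquiv (k : ℕ) :
    Atop R (negSupp (n := n)) (degSet n (-((n : ℤ) + 1 + k))) ≃ₗ[R]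
      MvPolynomial.homogeneousSubmodule (Fin (n + 1)) R k :=
  ((Finsupp.supportedEquivFinsupp (R := R) (M := R)
      {m : LM n | m ∈ degSet n (-((n : ℤ) + 1 + k)) ∧ negSupp m = Finset.univ}).trans
    (Finsupp.domLCongr (negEquiv n k))).trans (homogEquiv R n k).symm

end Main

section Final

variable (R : Type u) [CommRing R]

theorem supported_degSet_eq_Azero (e : ℕ) :
    Finsupp.supported R R (degSet 0 (e : ℤ)) = Azero R (negSupp (n := 0)) (degSet 0 (e : ℤ)) := by
  unfold Azero
  congr 1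
  ext m
  constructor
  · intro hm
    refine ⟨hm, negSupp_eq_empty_iff.mpr (fun i => ?_)⟩
    have h1 : ∑ j, m j = (e : ℤ) := hm
    rw [Fin.sum_univ_one] at h1
    have : i = 0 := by
      apply Fin.ext
      have := i.isLt
      simp only [Fin.val_zero]
      omega
    rw [this, h1]
    exact Int.natCast_nonneg e
  · intro hm
    exact hm.1

theorem supported_degSet_eq_Atop (k : ℕ) :
    Finsupp.supported R R (degSet 0 (-(((0 : ℕ) : ℤ) + 1 + k))) =
      Atop R (negSupp (n := 0)) (degSet 0 (-(((0 : ℕ) : ℤ) + 1 + k))) := by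
  unfold Atop
  congr 1
  ext m
  constructor
  · intro hm
    refine ⟨hm, negSupp_eq_univ_iff.mpr (fun i => ?_)⟩
    have h1 : ∑ j, m j = -(((0 : ℕ) : ℤ) + 1 + k) := hm
    rw [Fin.sum_univ_one] at h1
    have : i = 0 := by
      apply Fin.ext
      have := i.isLt
      simp only [Fin.val_zero]
      omega
    rw [this, h1]
    have : (0 : ℤ) ≤ (k : ℤ) := Int.natCast_nonneg k
    push_cast
    omega
  · intro hm
    exact hm.1

/-- **`H^0`**: the degree-zero cocycles of the model of `O(e)`, `e ≥ 0`, are the homogeneous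
polynomials of degree `e`. -/
noncomputable def ZPnZeroEquiv : (n : ℕ) → (e : ℕ) →
    ZPn R n (e : ℤ) 0 ≃ₗ[R] MvPolynomial.homogeneousSubmodule (Fin (n + 1)) R e
  | 0, e => ((ZmZeroEquivOne (R := R) (D := degSet 0 (e : ℤ)) (negSupp (n := 0))).trans
      (LinearEquiv.ofEq _ _ (supported_degSet_eq_Azero R e))).trans (AzeroEquiv R 0 e)
  | n' + 1, e => (ZmZeroEquiv (R := R) (D := degSet (n' + 1) (e : ℤ)) (negSupp (n := n' + 1))).trans
      (AzeroEquiv R (n' + 1) e)

/-- **`H^n`**: there is a surjective linear map from the degree-`n` cocycles of the model of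
`O(-(n+1+k))` onto the homogeneous polynomials of degree `k`, whose kernel is the coboundaries. -/
theorem exists_topMap (n k : ℕ) :
    ∃ φ : ZPn R n (-((n : ℤ) + 1 + k)) n →ₗ[R] MvPolynomial.homogeneousSubmodule (Fin (n + 1)) R k,
      Function.Surjective φ ∧
        ∀ F, φ F = 0 ↔ (F : Coch (Fin (n + 1)) (LM n →₀ R) n) ∈ BPn R n (-((n : ℤ) + 1 + k)) n := by
  cases n with
  | zero =>
    let φ := ((ZmZeroEquivOne (R := R) (D := degSet 0 (-(((0 : ℕ) : ℤ) + 1 + k)))
      (negSupp (n := 0))).trans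
      (LinearEquiv.ofEq _ _ (supported_degSet_eq_Atop R k))).trans (AtopEquiv R 0 k)
    refine ⟨φ.toLinearMap, φ.surjective, fun F => ?_⟩
    rw [LinearEquiv.coe_coe, LinearEquiv.map_eq_zero_iff]
    show F = 0 ↔ (F : Coch (Fin (0 + 1)) (LM 0 →₀ R) 0) ∈ (⊥ : Submodule R _)
    rw [Submodule.mem_bot]
    exact ⟨fun h => by rw [h]; rfl, fun h => Subtype.ext h⟩
  | succ n' =>
    refine ⟨(AtopEquiv R (n' + 1) k).toLinearMap.comp
      (topMap R (negSupp (n := n' + 1)) (degSet (n' + 1) (-(((n' + 1 : ℕ) : ℤ) + 1 + k)))),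
      (AtopEquiv R (n' + 1) k).surjective.comp topMap_surjective, fun F => ?_⟩
    rw [LinearMap.comp_apply, LinearEquiv.coe_coe, LinearEquiv.map_eq_zero_iff]
    exact topMap_eq_zero_iff (Nat.succ_ne_zero n') F

end Final

end Groth.Agent.Lib.Helper59.CechPn
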