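import Groth.Agent.Lib.Cohomology.helper5_EdgeBij
import Groth.Agent.Lib.Cohomology.helper5_RightDerivedShift

/-!
# Edge maps `Ext^p(B, R F) → Ext^p(A, F)` of an adjunction `L ⊣ R` with `L` exact (helper5)

For an adjunction `L ⊣ R` between abelian categories with `L` exact, and `o : A ⟶ L B`, the edge map
`E adj o F p : Ext^p(B, R F) →+ Ext^p(A, F)` applies `L`, precomposes with `o` and postcomposes with
the counit.  If `o` is an isomorphism, then `E adj o F p` is bijective for every `p` and every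
`R`-acyclic object `F` (`E_bijective`).
-/

set_option autoImplicit false
universe w w' v v' u u'
open CategoryTheory CategoryTheory.Limits

namespace Groth.Agent.Lib.Cohomology.AdjEdge

open Abelian

variable {C : Type u} [Category.{v} C] [Abelian C] [HasExt.{w} C]
variable {D : Type u'} [Category.{v'} D] [Abelian D] [HasExt.{w'} D]
variable {L : D ⥤ C} {R : C ⥤ D} (adj : L ⊣ R)
variable [L.Additive] [PreservesFiniteLimits L] [PreservesFiniteColimits L] [R.Additive]
variable {A : C} {B : D} (o : A ⟶ L.obj B)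

/-- the edge map -/
noncomputable def E (F : C) (p : ℕ) : Ext.{w'} B (R.obj F) p →+ Ext.{w} A F p :=
  ((Ext.mk₀ (adj.counit.app F)).postcomp A (add_zero p)).comp
    (((Ext.mk₀ o).precomp (L.obj (R.obj F)) (zero_add p)).comp (L.mapExtAddHom B (R.obj F) p))

lemma E_apply (F : C) (p : ℕ) (x : Ext.{w'} B (R.obj F) p) :
    E adj o F p x = ((Ext.mk₀ o).comp (x.mapExactFunctor L) (zero_add p)).comp
      (Ext.mk₀ (adj.counit.app F)) (add_zero p) := rfl

lemma E_nat {F G : C} (g : F ⟶ G) (p : ℕ) (x : Ext.{w'} B (R.obj F) p) :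
    E adj o G p (x.comp (Ext.mk₀ (R.map g)) (add_zero p)) =
      (E adj o F p x).comp (Ext.mk₀ g) (add_zero p) := by
  rw [E_apply, E_apply, Ext.mapExactFunctor_comp, Ext.mapExactFunctor_mk₀]
  have hn : L.map (R.map g) ≫ adj.counit.app G = adj.counit.app F ≫ g :=
    adj.counit.naturality g
  rw [Ext.comp_assoc_of_third_deg_zero, Ext.comp_assoc_of_third_deg_zero,
    Ext.comp_assoc_of_third_deg_zero, Ext.comp_assoc_of_third_deg_zero, Ext.mk₀_comp_mk₀,
    Ext.mk₀_comp_mk₀, hn]

/-- the counit as a morphism of short complexes `L R S ⟶ S` -/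
noncomputable def counitSC (S : ShortComplex C) : (S.map R).map L ⟶ S where
  τ₁ := adj.counit.app S.X₁
  τ₂ := adj.counit.app S.X₂
  τ₃ := adj.counit.app S.X₃
  comm₁₂ := (adj.counit.naturality S.f).symm
  comm₂₃ := (adj.counit.naturality S.g).symm

omit [HasExt.{w} C] [HasExt.{w'} D] in
/-- abstract form of the compatibility with connecting maps -/
lemma delta_aux [HasExt.{w} C] [HasExt.{w'} D] {Z₃ Z₁ : D} {W₃ W₁ : C} (p : ℕ)
    (x : Ext.{w'} B Z₃ p) (c : Ext.{w'} Z₃ Z₁ 1) (c' : Ext.{w} W₃ W₁ 1)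
    (e₁ : L.obj Z₁ ⟶ W₁) (e₃ : L.obj Z₃ ⟶ W₃)
    (h : (c.mapExactFunctor L).comp (Ext.mk₀ e₁) (add_zero 1) =
      (Ext.mk₀ e₃).comp c' (zero_add 1)) :
    ((Ext.mk₀ o).comp ((x.comp c rfl).mapExactFunctor L) (zero_add (p + 1))).comp
        (Ext.mk₀ e₁) (add_zero (p + 1)) =
      (((Ext.mk₀ o).comp (x.mapExactFunctor L) (zero_add p)).comp
        (Ext.mk₀ e₃) (add_zero p)).comp c' rfl := by
  rw [Ext.mapExactFunctor_comp]
  have h1 : ((Ext.mk₀ o).comp
      ((x.mapExactFunctor L).comp (c.mapExactFunctor L) rfl)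
        (zero_add (p + 1))).comp (Ext.mk₀ e₁) (add_zero (p + 1)) =
      (Ext.mk₀ o).comp ((x.mapExactFunctor L).comp
        ((c.mapExactFunctor L).comp (Ext.mk₀ e₁) (add_zero 1)) rfl)
        (zero_add (p + 1)) := by
    rw [Ext.comp_assoc_of_third_deg_zero, Ext.comp_assoc_of_third_deg_zero]
  have h2 : (((Ext.mk₀ o).comp (x.mapExactFunctor L) (zero_add p)).comp
      (Ext.mk₀ e₃) (add_zero p)).comp c' rfl =
      (Ext.mk₀ o).comp ((x.mapExactFunctor L).comp
        ((Ext.mk₀ e₃).comp c' (zero_add 1)) rfl) (zero_add (p + 1)) := by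
    rw [Ext.comp_assoc_of_second_deg_zero]
    exact Ext.comp_assoc _ _ _ _ _ (by omega)
  rw [h1, h2, h]

lemma E_delta (S : ShortComplex C) (hS : S.ShortExact) (hS' : (S.map R).ShortExact) (p : ℕ)
    (x : Ext.{w'} B (R.obj S.X₃) p) :
    E adj o S.X₁ (p + 1) (x.comp hS'.extClass rfl) = (E adj o S.X₃ p x).comp hS.extClass rfl := by
  have hn := ShortComplex.ShortExact.extClass_naturality (hS'.map_of_exact L) hS (counitSC adj S)
  rw [← Ext.mapExactFunctor_extClass L hS'] at hn
  exact delta_aux o p x hS'.extClass hS.extClass (adj.counit.app S.X₁) (adj.counit.app S.X₃) hn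

lemma E_zero_mk₀ (F : C) (φ : B ⟶ R.obj F) :
    E adj o F 0 (Ext.mk₀ φ) = Ext.mk₀ (o ≫ (adj.homEquiv B F).symm φ) := by
  rw [E_apply, Ext.mapExactFunctor_mk₀, Ext.mk₀_comp_mk₀, Ext.mk₀_comp_mk₀,
    Adjunction.homEquiv_counit, Category.assoc]

lemma E_zero_bijective [IsIso o] (F : C) : Function.Bijective (E adj o F 0) := by
  have h : ⇑(E adj o F 0) = (Ext.mk₀ ∘ (fun ψ => o ≫ ψ) ∘ (adj.homEquiv B F).symm) ∘
      Ext.homEquiv₀ := by
    funext x
    obtain ⟨φ, rfl⟩ := (Ext.mk₀_bijective _ _).2 x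
    have hφ : Ext.homEquiv₀ (Ext.mk₀ φ) = φ :=
      (Ext.mk₀_bijective _ _).1 (Ext.mk₀_homEquiv₀_apply _)
    simp only [Function.comp_apply, E_zero_mk₀, hφ]
  rw [h]
  refine Function.Bijective.comp ?_ Ext.homEquiv₀.bijective
  refine (Ext.mk₀_bijective _ _).comp (Function.Bijective.comp ?_ (adj.homEquiv B F).symm.bijective)
  exact ⟨fun a b hab => (cancel_epi o).1 hab, fun ψ => ⟨inv o ≫ ψ, by simp⟩⟩

variable [EnoughInjectives C]

include adj in
/-- **The edge map is bijective on `R`-acyclic objects.** -/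
theorem E_bijective [IsIso o] (P : C → Prop)
    (hP : ∀ F : C, P F → ((ExtShift.injSES F).map R).ShortExact ∧ P (ExtShift.injSES F).X₃)
    (F : C) (hF : P F) (p : ℕ) : Function.Bijective (E adj o F p) := by
  refine EdgeBij.bijective_of_class.{w, w'} R A B (E adj o) (fun g p x => E_nat adj o g p x)
    (fun S hS hS' p x => E_delta adj o S hS hS' p x) (E_zero_bijective adj o) ?_ P hP p F hF
  intro I _ m x
  have : Injective (R.obj I) := Injective.injective_of_adjoint adj I
  exact Ext.eq_zero_of_injective x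

end Groth.Agent.Lib.Cohomology.AdjEdge
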