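import Groth.Agent.Lib.Cohomology.helper5_HSigma
import Groth.Agent.Lib.Cohomology.helper5_HHLES

/-!
# Cohomology of a direct sum of `O_X`-modules on a qcqs scheme (helper5)

`HHSigma.subsingleton_HH_sigma` : on a quasi-compact quasi-separated scheme, if `H^p(X, M i) = 0`
for all `i` then `H^p(X, ∐ M) = 0`.
-/

set_option autoImplicit false
universe u

namespace Groth.Agent.Lib.Cohomology.HHSigma

open AlgebraicGeometry CategoryTheory CategoryTheory.Limits

theorem subsingleton_HH_sigma (X : Scheme.{u}) [CompactSpace X] [QuasiSeparatedSpace X] (p : ℕ)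
    {I : Type u} (M : I → X.Modules) (h : ∀ i, Subsingleton (Coh.HH X (M i) p)) :
    Subsingleton (Coh.HH X (∐ M) p) := by
  have : PrespectralSpace ↑X.toTopCat := inferInstanceAs (PrespectralSpace X)
  have : CompactSpace ↑X.toTopCat := inferInstanceAs (CompactSpace X)
  have : QuasiSeparatedSpace ↑X.toTopCat := inferInstanceAs (QuasiSeparatedSpace X)
  have hP := Groth.Agent.S6160.toSheaf_preservesColimitsOfSize (HHLES.RR X)
  let G := HHLES.toAbF X
  have : PreservesColimit (Discrete.functor M) G :=
    (hP.preservesColimitsOfShape (J := Discrete I)).preservesColimit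
  let e : G.obj (∐ M) ≅ ∐ fun i : I => G.obj (M i) := PreservesCoproduct.iso G M
  have hs := HSigma.subsingleton_H_sigma X.toTopCat p (fun i : I => G.obj (M i)) h
  have hinj : Function.Injective (Sheaf.H.map e.hom p) := by
    intro a b hab
    have := congrArg (Sheaf.H.map e.inv p) hab
    rw [← Sheaf.H.map_comp_apply, ← Sheaf.H.map_comp_apply, e.hom_inv_id] at this
    simpa using this
  exact @Function.Injective.subsingleton _ _ _ hinj hs

end Groth.Agent.Lib.Cohomology.HHSigma
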