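import Mathlib

/-!
# Extra degeneracies and the alternating coface map complex

If `X` is an augmented simplicial object in a category `D` with an extra degeneracy and
`G : Dᵒᵖ ⥤ A` is a functor to a preadditive category, then the alternating coface map complex
of the cosimplicial object `X.left.rightOp ⋙ G` is homotopy equivalent to `G(X.right)` in degree `0`.
-/

set_option autoImplicit false

namespace Groth.Agent.Lib.Cohomology

open CategoryTheory Limits Opposite Simplicial AlgebraicTopology

universe v₁ u₁ v₂ u₂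

variable {D : Type u₁} [Category.{v₁} D] {A : Type u₂} [Category.{v₂} A]

/-- The cosimplicial object obtained from a simplicial object and a contravariant functor. -/
def cosimp (X : SimplicialObject D) (G : Dᵒᵖ ⥤ A) : CosimplicialObject A := X.rightOp ⋙ G

namespace CofaceED

variable (X : SimplicialObject D) (G : Dᵒᵖ ⥤ A)

/-- terms -/
abbrev KX (n : ℕ) : A := G.obj (op (X _⦋n⦌))

/-- cofaces -/
def Kδ {n : ℕ} (i : Fin (n + 2)) : KX X G n ⟶ KX X G (n + 1) := G.map (X.δ i).op

variable [Preadditive A]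

/-- differential -/
def KD (n : ℕ) : KX X G n ⟶ KX X G (n + 1) := ∑ i : Fin (n + 2), (-1 : ℤ) ^ (i : ℕ) • Kδ X G i

lemma KD_sq (n : ℕ) : KD X G n ≫ KD X G (n + 1) = 0 :=
  AlternatingCofaceMapComplex.d_squared (cosimp X G) n

/-- the complex -/
def K : CochainComplex A ℕ := CochainComplex.of (KX X G) (KD X G) (KD_sq X G)

lemma K_eq : K X G = (alternatingCofaceMapComplex A).obj (cosimp X G) := rfl

@[simp] lemma K_d (n : ℕ) : (K X G).d n (n + 1) = KD X G n := CochainComplex.of_d _ _ n

end CofaceED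

open CofaceED

variable [Preadditive A] [HasZeroObject A]

lemma aux_ε {X : SimplicialObject.Augmented D} (n : ℕ) (i : Fin (n + 2)) :
    X.left.δ i ≫ X.hom.app (op ⦋n⦌) = X.hom.app (op ⦋n + 1⦌) := by
  have := X.hom.naturality (SimplexCategory.δ i).op
  dsimp at this
  rw [Category.comp_id] at this
  exact this

/-- augmentation -/
def aug (X : SimplicialObject.Augmented D) (G : Dᵒᵖ ⥤ A) : G.obj (op X.right) ⟶ KX X.left G 0 :=
  G.map (X.hom.app (op ⦋0⦌)).op

lemma aug_δ (X : SimplicialObject.Augmented D) (G : Dᵒᵖ ⥤ A) (i : Fin 2) :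
    aug X G ≫ Kδ X.left G i = G.map (X.hom.app (op ⦋1⦌)).op := by
  simp only [aug, Kδ, ← G.map_comp, ← op_comp, aux_ε]

lemma aug_d (X : SimplicialObject.Augmented D) (G : Dᵒᵖ ⥤ A) :
    aug X G ≫ KD X.left G 0 = 0 := by
  rw [KD, Fin.sum_univ_succ, Fin.sum_univ_succ, Fin.sum_univ_zero]
  simp only [Preadditive.comp_add, Preadditive.comp_zsmul, aug_δ]
  simp

open SimplicialObject.Augmented

/-- codegeneracy -/
def Ks {X : SimplicialObject.Augmented D} (ed : ExtraDegeneracy X) (G : Dᵒᵖ ⥤ A) (n : ℕ) :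
    KX X.left G (n + 1) ⟶ KX X.left G n := G.map (ed.s n).op

/-- coaugmentation section -/
def Ks' {X : SimplicialObject.Augmented D} (ed : ExtraDegeneracy X) (G : Dᵒᵖ ⥤ A) :
    KX X.left G 0 ⟶ G.obj (op X.right) := G.map ed.s'.op

lemma aug_Ks' {X : SimplicialObject.Augmented D} (ed : ExtraDegeneracy X) (G : Dᵒᵖ ⥤ A) :
    aug X G ≫ Ks' ed G = 𝟙 _ := by
  simp only [aug, Ks', ← G.map_comp, ← op_comp]
  rw [ed.s'_comp_ε]
  simp

lemma Kδ_zero_Ks {X : SimplicialObject.Augmented D} (ed : ExtraDegeneracy X) (G : Dᵒᵖ ⥤ A) (n : ℕ) :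
    Kδ X.left G (0 : Fin (n + 2)) ≫ Ks ed G n = 𝟙 _ := by
  simp only [Kδ, Ks, ← G.map_comp, ← op_comp]
  rw [ed.s_comp_δ₀]
  simp [KX]

lemma Kδ_succ_Ks {X : SimplicialObject.Augmented D} (ed : ExtraDegeneracy X) (G : Dᵒᵖ ⥤ A) (n : ℕ)
    (i : Fin (n + 2)) :
    Kδ X.left G i.succ ≫ Ks ed G (n + 1) = Ks ed G n ≫ Kδ X.left G i := by
  simp only [Kδ, Ks, ← G.map_comp, ← op_comp]
  rw [ed.s_comp_δ]

lemma Kδ_one_Ks_zero {X : SimplicialObject.Augmented D} (ed : ExtraDegeneracy X) (G : Dᵒᵖ ⥤ A) :
    Kδ X.left G (1 : Fin 2) ≫ Ks ed G 0 = Ks' ed G ≫ aug X G := by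
  simp only [Kδ, Ks, Ks', aug, ← G.map_comp, ← op_comp]
  rw [ed.s₀_comp_δ₁]

lemma KD_Ks_zero {X : SimplicialObject.Augmented D} (ed : ExtraDegeneracy X) (G : Dᵒᵖ ⥤ A) :
    KD X.left G 0 ≫ Ks ed G 0 = 𝟙 _ - Ks' ed G ≫ aug X G := by
  rw [KD, Fin.sum_univ_succ, Fin.sum_univ_succ, Fin.sum_univ_zero]
  simp only [Preadditive.add_comp, Preadditive.zsmul_comp]
  rw [Kδ_zero_Ks]
  erw [Kδ_one_Ks_zero]
  simp [sub_eq_add_neg]

lemma KD_Ks_succ {X : SimplicialObject.Augmented D} (ed : ExtraDegeneracy X) (G : Dᵒᵖ ⥤ A) (n : ℕ) :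
    KD X.left G (n + 1) ≫ Ks ed G (n + 1) = 𝟙 _ - Ks ed G n ≫ KD X.left G n := by
  rw [KD, Fin.sum_univ_succ]
  simp only [Preadditive.add_comp, Preadditive.sum_comp, Preadditive.zsmul_comp, Kδ_succ_Ks,
    Kδ_zero_Ks, KD, Preadditive.comp_sum, Preadditive.comp_zsmul]
  simp [pow_succ, sub_eq_add_neg, Finset.sum_neg_distrib]

/-- The homotopy for the explicit complex `K`. -/
def homotopyHom {X : SimplicialObject.Augmented D} (ed : ExtraDegeneracy X)
    (G : Dᵒᵖ ⥤ A) : ∀ i j : ℕ, (K X.left G).X i ⟶ (K X.left G).X j := fun i => match i with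
  | 0 => 0
  | (k + 1) => Pi.single k (-(Ks ed G k))

lemma homotopyHom_succ {X : SimplicialObject.Augmented D} (ed : ExtraDegeneracy X)
    (G : Dᵒᵖ ⥤ A) (k : ℕ) : homotopyHom ed G (k + 1) k = -(Ks ed G k) := by
  simp [homotopyHom]

/-- the augmentation as a morphism of complexes -/
noncomputable def homK (X : SimplicialObject.Augmented D) (G : Dᵒᵖ ⥤ A) :
    (CochainComplex.single₀ A).obj (G.obj (op X.right)) ⟶ K X.left G :=
  (CochainComplex.fromSingle₀Equiv _ _).symm ⟨aug X G, by rw [K_d]; exact aug_d X G⟩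

lemma homK_f_zero (X : SimplicialObject.Augmented D) (G : Dᵒᵖ ⥤ A) :
    (homK X G).f 0 = aug X G :=
  CochainComplex.fromSingle₀Equiv_symm_apply_f_zero _ _

/-- the retraction as a morphism of complexes -/
noncomputable def invK {X : SimplicialObject.Augmented D} (ed : ExtraDegeneracy X) (G : Dᵒᵖ ⥤ A) :
    K X.left G ⟶ (CochainComplex.single₀ A).obj (G.obj (op X.right)) :=
  (CochainComplex.toSingle₀Equiv _ _).symm (Ks' ed G)

lemma invK_f_zero {X : SimplicialObject.Augmented D} (ed : ExtraDegeneracy X) (G : Dᵒᵖ ⥤ A) :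
    (invK ed G).f 0 = Ks' ed G :=
  CochainComplex.toSingle₀Equiv_symm_apply_f_zero _

lemma invK_f_succ {X : SimplicialObject.Augmented D} (ed : ExtraDegeneracy X) (G : Dᵒᵖ ⥤ A)
    (n : ℕ) : (invK ed G).f (n + 1) = 0 :=
  CochainComplex.toSingle₀Equiv_symm_apply_f_succ _ _

set_option backward.isDefEq.respectTransparency false in
/-- The homotopy equivalence for the explicit complex `K`. -/
noncomputable def homotopyEquivK {X : SimplicialObject.Augmented D} (ed : ExtraDegeneracy X)
    (G : Dᵒᵖ ⥤ A) :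
    HomotopyEquiv ((CochainComplex.single₀ A).obj (G.obj (op X.right))) (K X.left G) where
  hom := homK X G
  inv := invK ed G
  homotopyHomInvId := Homotopy.ofEq (by
    apply (CochainComplex.toSingle₀Equiv _ _).injective
    simp only [CochainComplex.toSingle₀Equiv_apply, HomologicalComplex.comp_f,
      HomologicalComplex.id_f]
    rw [homK_f_zero, invK_f_zero]
    exact aug_Ks' ed G)
  homotopyInvHomId :=
    { hom := homotopyHom ed G
      zero := by
        intro i j hij
        cases i with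
        | zero => rfl
        | succ k =>
          have : k ≠ j := fun h => hij (by subst h; simp)
          simp [homotopyHom, Pi.single_eq_of_ne' this]
      comm := by
        intro i
        cases i with
        | zero =>
          rw [Homotopy.prevD_zero_cochainComplex, Homotopy.dNext_cochainComplex, homotopyHom_succ,
            HomologicalComplex.comp_f, homK_f_zero, invK_f_zero, K_d, HomologicalComplex.id_f,
            Preadditive.comp_neg, KD_Ks_zero]
          have h : (𝟙 ((K X.left G).X 0)) = 𝟙 (KX X.left G 0) := rfl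
          rw [h]
          abel
        | succ k =>
          rw [Homotopy.prevD_succ_cochainComplex, Homotopy.dNext_cochainComplex, homotopyHom_succ,
            homotopyHom_succ, HomologicalComplex.comp_f, invK_f_succ, K_d, K_d,
            HomologicalComplex.id_f,
            Preadditive.comp_neg, Preadditive.neg_comp, KD_Ks_succ]
          have h : (𝟙 ((K X.left G).X (k + 1))) = 𝟙 (KX X.left G (k + 1)) := rfl
          rw [h, zero_comp]
          abel }

/-- The alternating coface map complex of the cosimplicial object obtained by applying a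
contravariant functor to an augmented simplicial object with an extra degeneracy is homotopy
equivalent to the value at the augmentation, placed in degree `0`. -/
noncomputable def cofaceHomotopyEquivOfExtraDegeneracy
    {X : SimplicialObject.Augmented D} (ed : ExtraDegeneracy X) (G : Dᵒᵖ ⥤ A) :
    HomotopyEquiv ((CochainComplex.single₀ A).obj (G.obj (op X.right)))
      ((alternatingCofaceMapComplex A).obj (cosimp X.left G)) :=
  homotopyEquivK ed G

end Groth.Agent.Lib.Cohomology
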