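import Mathlib
import Groth.Agent.Lib.Cohomology.helper5_CofaceExtraDegeneracy

/-!
# The Čech complex of a family in a thin category, one of whose members dominates the others

Let `C` be a thin category with finite products, `U : ι → C` a family, `W : C` an object with
maps `U j ⟶ W` for all `j` and a map `W ⟶ U i₀`. Then for every presheaf `F : Cᵒᵖ ⥤ A`, the Čech
complex of `F` with respect to `U` is homotopy equivalent to `F(W)` in degree `0`.
-/

set_option autoImplicit false

namespace Groth.Agent.Lib.Cohomology

open CategoryTheory Limits Opposite Simplicial AlgebraicTopology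

universe w v u v' u'

variable {C : Type u} [Category.{v} C] [Quiver.IsThin C] [HasFiniteProducts C]
  {ι : Type w} (U : ι → C) (W : C) (hW : ∀ j, U j ⟶ W) (i₀ : ι) (d : W ⟶ U i₀)

namespace CechThin

/-- two morphisms of formal coproducts in a thin category are equal when the maps on indices are -/
lemma formal_hom_ext {X Y : FormalCoproduct.{w} C} {f g : X ⟶ Y} (h : f.f = g.f) : f = g :=
  FormalCoproduct.hom_ext h (fun _ => Subsingleton.elim _ _)

/-- the Čech simplicial object -/
noncomputable abbrev E : SimplicialObject (FormalCoproduct.{w} C) := (FormalCoproduct.mk _ U).cech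

/-- The augmented Čech object over `W`. -/
noncomputable def augmented : SimplicialObject.Augmented (FormalCoproduct.{w} C) where
  left := E U
  right := (FormalCoproduct.incl C).obj W
  hom :=
    { app := fun n => ⟨fun _ => PUnit.unit, fun x => Pi.π _ (0 : Fin (n.unop.len + 1)) ≫ hW _⟩
      naturality := fun _ _ _ => formal_hom_ext rfl }

lemma δ_f (n : ℕ) (i : Fin (n + 2)) (x : Fin (n + 2) → ι) (a : Fin (n + 1)) :
    ((E U).δ i).f x a = x (i.succAbove a) := rfl

lemma σ_f (n : ℕ) (i : Fin (n + 1)) (x : Fin (n + 1) → ι) (a : Fin (n + 2)) :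
    ((E U).σ i).f x a = x (i.predAbove a) := rfl

/-- The extra degeneracy on indices. -/
noncomputable def sHom (n : ℕ) : (E U) _⦋n⦌ ⟶ (E U) _⦋n + 1⦌ where
  f := fun x => (Fin.cons i₀ x : Fin (n + 2) → ι)
  φ := fun x => Pi.lift (fun a => Fin.cases (motive := fun a => (∏ᶜ (U ∘ x) ⟶ U ((Fin.cons i₀ x : Fin (n + 2) → ι) a)))
    (Pi.π _ (0 : Fin (n + 1)) ≫ hW _ ≫ d) (fun b => Pi.π _ b) a)

/-- The extra degeneracy of the augmented Čech object. -/
noncomputable def extraDegeneracy :
    SimplicialObject.Augmented.ExtraDegeneracy (augmented U W hW) where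
  s' := FormalCoproduct.Hom.fromIncl (fun _ => i₀) (Pi.lift fun _ => d)
  s := sHom U W hW i₀ d
  s'_comp_ε := formal_hom_ext rfl
  s₀_comp_δ₁ := formal_hom_ext (by
    funext x
    funext a
    change (Fin.cons i₀ x : Fin 2 → ι) ((1 : Fin 2).succAbove a) = i₀
    have : a = (0 : Fin 1) := Subsingleton.elim (α := Fin 1) _ _
    subst this
    rfl)
  s_comp_δ₀ := fun n => formal_hom_ext (by
    funext x
    funext a
    change (Fin.cons i₀ x : Fin (n + 2) → ι) ((0 : Fin (n + 2)).succAbove a) = x a
    rw [Fin.succAbove_zero, Fin.cons_succ])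
  s_comp_δ := fun n i => formal_hom_ext (by
    funext x
    funext a
    change (Fin.cons i₀ x : Fin (n + 3) → ι) (i.succ.succAbove a) =
      (Fin.cons i₀ (fun b => x (i.succAbove b)) : Fin (n + 2) → ι) a
    refine Fin.cases ?_ (fun b => ?_) a
    · rw [Fin.succ_succAbove_zero, Fin.cons_zero, Fin.cons_zero]
    · rw [Fin.succ_succAbove_succ, Fin.cons_succ, Fin.cons_succ])
  s_comp_σ := fun n i => formal_hom_ext (by
    funext x
    funext a
    change (Fin.cons i₀ x : Fin (n + 2) → ι) (i.succ.predAbove a) =
      (Fin.cons i₀ (fun b => x (i.predAbove b)) : Fin (n + 3) → ι) a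
    refine Fin.cases ?_ (fun b => ?_) a
    · rw [Fin.predAbove_right_zero, Fin.cons_zero, Fin.cons_zero]
    · rw [Fin.succ_predAbove_succ, Fin.cons_succ, Fin.cons_succ])

end CechThin

variable {A : Type u'} [Category.{v'} A] [Preadditive A] [HasZeroObject A] [HasProducts.{w} A]

/-- If all members of the family `U` map to `W` and `W` maps to some `U i₀` (in a thin category),
the Čech complex of any presheaf `F` with respect to `U` is homotopy equivalent to `F(W)` placed in
degree `0`. -/
noncomputable def cechHomotopyEquivOfThin (F : Cᵒᵖ ⥤ A) :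
    HomotopyEquiv ((CochainComplex.single₀ A).obj (F.obj (op W)))
      ((cechComplexFunctor U).obj F) :=
  (HomotopyEquiv.ofIso ((CochainComplex.single₀ A).mapIso
    ((((FormalCoproduct.evalOpCompInlIsoId.{w} C A).app F).app (op W)).symm))).trans
    (cofaceHomotopyEquivOfExtraDegeneracy (CechThin.extraDegeneracy U W hW i₀ d)
      ((FormalCoproduct.evalOp.{w} C A).obj F))

end Groth.Agent.Lib.Cohomology
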