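import Groth.Agent.Lib.QCoh.CohKernel
import Groth.Agent.Lib.QCoh.AffineOpen
import Groth.Agent.Lib.QCoh.Helper24_Colimits
import Groth.Agent.Lib.QCoh.Helper50_AffineDict

/-!
# Finite direct sums of coherent modules are coherent (helper5)
-/

set_option autoImplicit false
universe u
open CategoryTheory CategoryTheory.Limits AlgebraicGeometry

namespace Groth.Agent.Lib.Cohomology.CohSigma

open Groth.Agent.Lib.QCoh Scheme.Modules

section general
variable {𝒞 : Type*} [Category 𝒞] [Preadditive 𝒞] {β : Type*} [Fintype β] [DecidableEq β]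
  (f : β → 𝒞) [HasCoproduct f]

/-- the bicone identity for a finite coproduct in a preadditive category -/
lemma sum_π_ι : ∑ j, Sigma.π f j ≫ Sigma.ι f j = 𝟙 (∐ f) := by
  apply Sigma.hom_ext
  intro k
  rw [Preadditive.comp_sum, Category.comp_id]
  rw [Finset.sum_eq_single k]
  · rw [Sigma.ι_π_eq_id_assoc]
  · intro j _ hjk
    rw [Sigma.ι_π_of_ne_assoc f (Ne.symm hjk), zero_comp]
  · intro h
    exact absurd (Finset.mem_univ k) h

end general

variable {X : Scheme.{u}}

lemma sum_app {M N : X.Modules} {β : Type*} (s : Finset β) (φ : β → (M ⟶ N)) (U : X.Opens)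
    (x : Γ(M, U)) : (∑ j ∈ s, φ j).app U x = ∑ j ∈ s, (φ j).app U x := by
  classical
  induction s using Finset.induction_on with
  | empty => simp
  | insert a s ha ih =>
    rw [Finset.sum_insert ha, Finset.sum_insert ha, Hom.add_app]
    change (φ a).app U x + (∑ j ∈ s, φ j).app U x = _
    rw [ih]

/-- a finite direct sum of quasi-coherent modules is quasi-coherent -/
theorem isQuasicoherent_sigma_fin {r : ℕ} (M : Fin r → X.Modules)
    (h : ∀ j, (M j).IsQuasicoherent) : (∐ M).IsQuasicoherent := by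
  let e : (∐ fun j : ULift.{u} (Fin r) => M j.down) ≅ ∐ M :=
    Sigma.reindex (Equiv.ulift : ULift.{u} (Fin r) ≃ Fin r) M
  have := isQuasicoherent_sigma (fun j : ULift.{u} (Fin r) => M j.down) (fun j => h j.down)
  exact isQuasicoherent_of_iso e this

/-- a finite direct sum of coherent modules is coherent -/
theorem isCoh_sigma_fin {r : ℕ} (M : Fin r → X.Modules) (h : ∀ j, Coh.IsCoh (M j)) :
    Coh.IsCoh (∐ M) := by
  have hq : (∐ M).IsQuasicoherent := isQuasicoherent_sigma_fin M (fun j => (h j).1)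
  refine ⟨hq, ?_⟩
  rw [isFiniteType_iff_forall_finite]
  intro U
  have hfin : ∀ j, Module.Finite Γ(X, (U : X.Opens)) Γ(M j, (U : X.Opens)) := by
    intro j
    have : (M j).IsQuasicoherent := (h j).1
    have : (M j).IsFiniteType := (h j).2
    exact finite_Γ_of_isAffineOpen U.2 (M j)
  let Φ : (∀ j, Γ(M j, (U : X.Opens))) →ₗ[Γ(X, (U : X.Opens))] Γ(∐ M, (U : X.Opens)) :=
    LinearMap.lsum _ _ Γ(X, (U : X.Opens)) (fun j => appLinear (Sigma.ι M j) (U : X.Opens))
  refine Module.Finite.of_surjective Φ fun x => ⟨fun j => (Sigma.π M j).app (U : X.Opens) x, ?_⟩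
  have hx : x = (∑ j, Sigma.π M j ≫ Sigma.ι M j).app (U : X.Opens) x := by
    rw [sum_π_ι]; rfl
  rw [sum_app] at hx
  refine Eq.trans ?_ hx.symm
  simp only [Φ, LinearMap.lsum_apply, LinearMap.coe_sum, Finset.sum_apply, LinearMap.coe_comp,
    Function.comp_apply, LinearMap.coe_proj, Function.eval]
  rfl

end Groth.Agent.Lib.Cohomology.CohSigma
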