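import Groth.Agent.S0862
import Mathlib.Topology.Spectral.Prespectral

/-!
# Cohomology of a compact quasi-separated open commutes with filtered colimits

On a prespectral space `X`, for a compact open `U` which is quasi-separated (as a subset),
`H^p(U, -)` commutes with filtered colimits of abelian sheaves on `X`.  Corollary of S0862.
-/

set_option autoImplicit false
universe u

namespace Groth.Agent.Lib.Cohomology.ColimCompactQS

open CategoryTheory TopologicalSpace Opposite CategoryTheory.Limits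

/-- Finite nonempty intersections of compact opens inside a quasi-separated open are compact. -/
lemma isCompact_inf' {X : TopCat.{u}} (U : Opens X) (hqs : IsQuasiSeparated (U : Set X))
    {κ : Type} (s : Finset κ) (hs : s.Nonempty) (f : κ → Opens X)
    (hf : ∀ k, IsCompact ((f k : Opens X) : Set X) ∧ f k ≤ U) :
    IsCompact ((s.inf' hs f : Opens X) : Set X) ∧ s.inf' hs f ≤ U := by
  refine Finset.inf'_induction hs f
    (p := fun W : Opens X => IsCompact (W : Set X) ∧ W ≤ U) ?_ ?_
  · intro a ha b hb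
    refine ⟨?_, le_trans inf_le_left ha.2⟩
    rw [Opens.coe_inf]
    exact hqs _ _ ha.2 a.isOpen ha.1 hb.2 b.isOpen hb.1
  · intro k _
    exact hf k

/-- The underlying open of a finite nonempty product in `Over V` is the infimum. -/
lemma prod_left_eq {X : TopCat.{u}} (V : Opens X) (n : ℕ) (Z : Fin (n + 1) → Over V) :
    (∏ᶜ Z).left = Finset.univ.inf' Finset.univ_nonempty (fun k => (Z k).left) := by
  apply le_antisymm
  · refine Finset.le_inf' _ _ (fun k _ => ?_)
    exact (Pi.π Z k).left.le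
  · have hle : Finset.univ.inf' Finset.univ_nonempty (fun k => (Z k).left) ≤ V :=
      le_trans (Finset.inf'_le _ (Finset.mem_univ (0 : Fin (n + 1)))) (Z 0).hom.le
    let P : Over V := Over.mk (homOfLE hle)
    have g : ∀ k, P ⟶ Z k := fun k =>
      Over.homMk (homOfLE (Finset.inf'_le _ (Finset.mem_univ k))) (Subsingleton.elim _ _)
    exact (Pi.lift g).left.le

theorem preservesColimit_H {X : TopCat.{u}} [PrespectralSpace X]
    (U : Opens X) (hU : IsCompact (U : Set X)) (hqs : IsQuasiSeparated (U : Set X))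
    (q : ℕ) {I : Type u} [SmallCategory I] [IsFiltered I]
    (K : I ⥤ Sheaf (Opens.grothendieckTopology X) AddCommGrpCat.{u}) :
    PreservesColimit K
      ((Sheaf.cohomologyPresheafFunctor (Opens.grothendieckTopology X) q).flip.obj (op U)) := by
  classical
  let J := Opens.grothendieckTopology X
  let B : Set (Opens X) := {V | IsCompact (V : Set X) ∧ V ≤ U}
  let Cov : ∀ (V : Opens X) (κ : Type u), (κ → Over V) → Prop := fun V κ Y =>
    Finite κ ∧ V ∈ B ∧ (∀ i, IsCompact (((Y i).left : Opens X) : Set X)) ∧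
      Sieve.ofArrows (fun i => (Y i).left) (fun i => (Y i).hom) ∈ J V
  have h1 : ∀ (V : Opens X) (κ : Type u) (Y : κ → Over V), Cov V κ Y → Finite κ ∧ V ∈ B ∧
      Sieve.ofArrows (fun i => (Y i).left) (fun i => (Y i).hom) ∈ J V ∧
      ∀ (p : ℕ) (a : Fin (p + 1) → κ), (∏ᶜ fun k => Y (a k)).left ∈ B := by
    intro V κ Y hY
    obtain ⟨hfin, hV, hc, hcov⟩ := hY
    refine ⟨hfin, hV, hcov, ?_⟩
    intro p a
    show IsCompact (((∏ᶜ fun k => Y (a k)).left : Opens X) : Set X) ∧
      (∏ᶜ fun k => Y (a k)).left ≤ U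
    rw [prod_left_eq V p (fun k => Y (a k))]
    exact isCompact_inf' U hqs _ _ _
      (fun k => ⟨hc (a k), le_trans (Y (a k)).hom.le hV.2⟩)
  have h2 : ∀ V ∈ B, ∀ T ∈ J V, ∃ (κ : Type u) (Y : κ → Over V), Cov V κ Y ∧
      ∀ i, T.arrows (Y i).hom := by
    intro V hV T hT
    have hT' : ∀ x ∈ V, ∃ (W : Opens X) (f : W ⟶ V), T f ∧ x ∈ W := hT
    have key : ∀ x : V, ∃ (W : Opens X), IsCompact (W : Set X) ∧ (x : X) ∈ W ∧
        ∃ (h : W ≤ V), T.arrows (homOfLE h) := by
      intro x
      obtain ⟨W, f, hf, hx⟩ := hT' x.1 x.2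
      obtain ⟨v, ⟨hvo, hvc⟩, hxv, hvW⟩ :=
        (PrespectralSpace.isTopologicalBasis (X := X)).exists_subset_of_mem_open hx W.isOpen
      refine ⟨⟨v, hvo⟩, hvc, hxv, le_trans hvW f.le, ?_⟩
      have : (homOfLE (le_trans hvW f.le) : (⟨v, hvo⟩ : Opens X) ⟶ V) =
          (homOfLE hvW : (⟨v, hvo⟩ : Opens X) ⟶ W) ≫ f := Subsingleton.elim _ _
      rw [this]
      exact T.downward_closed hf _
    choose W hWc hxW hWV hWT using key
    obtain ⟨t, ht⟩ := hV.1.elim_finite_subcover (fun x : V => ((W x : Opens X) : Set X))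
      (fun x => (W x).isOpen) (fun x hx => Set.mem_iUnion.mpr ⟨⟨x, hx⟩, hxW ⟨x, hx⟩⟩)
    refine ⟨{x // x ∈ t}, fun i => Over.mk (homOfLE (hWV i.1)), ⟨?_, hV, ?_, ?_⟩, ?_⟩
    · infer_instance
    · intro i
      exact hWc i.1
    · intro x hx
      have := ht hx
      simp only [Set.mem_iUnion] at this
      obtain ⟨i, hi, hxi⟩ := this
      exact ⟨W i, homOfLE (hWV i), Sieve.ofArrows_mk _ _ (⟨i, hi⟩ : {x // x ∈ t}), hxi⟩
    · intro i
      exact hWT i.1
  exact Groth.Agent.S0862.result J B Cov h1 h2 U ⟨hU, le_rfl⟩ q I K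

end Groth.Agent.Lib.Cohomology.ColimCompactQS
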