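import Groth.Agent.Lib.Cohomology.helper5_ExtShift

/-!
# Bijectivity of edge maps by dimension shifting (helper5)

Let `R : C ⥤ D` be an additive functor between abelian categories, `A : C`, `B : D`, and
`E F p : Ext^p(B, R F) →+ Ext^p(A, F)` a family of additive maps, natural in `F` and compatible
with the connecting maps of those short exact sequences that `R` keeps exact.  If `E F 0` is
bijective for all `F`, `Ext^{n+1}(B, R I) = 0` for injective `I`, and `P` is a class of objects
stable under `F ↦ I/F` (chosen injective hull) on which `R` keeps `0 → F → I → I/F → 0` exact,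
then `E F p` is bijective for all `p` and all `F` in `P` (`bijective_of_class`).
-/

set_option autoImplicit false
universe w w' v v' u u'
open CategoryTheory CategoryTheory.Limits

namespace Groth.Agent.Lib.Cohomology.EdgeBij

open Abelian Groth.Agent.Lib.Cohomology.ExtShift

variable {C : Type u} [Category.{v} C] [Abelian C] [HasExt.{w} C] [EnoughInjectives C]
variable {D : Type u'} [Category.{v'} D] [Abelian D] [HasExt.{w'} D]
variable (R : C ⥤ D) [R.Additive]
variable (A : C) (B : D)
variable (E : ∀ (F : C) (p : ℕ), Ext.{w'} B (R.obj F) p →+ Ext.{w} A F p)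
variable (hnat : ∀ {F G : C} (g : F ⟶ G) (p : ℕ) (x : Ext.{w'} B (R.obj F) p),
  E G p (x.comp (Ext.mk₀ (R.map g)) (add_zero p)) = (E F p x).comp (Ext.mk₀ g) (add_zero p))
variable (hδ : ∀ (S : ShortComplex C) (hS : S.ShortExact) (hS' : (S.map R).ShortExact) (p : ℕ)
  (x : Ext.{w'} B (R.obj S.X₃) p),
  E S.X₁ (p + 1) (x.comp hS'.extClass rfl) = (E S.X₃ p x).comp hS.extClass rfl)
variable (h0 : ∀ F : C, Function.Bijective (E F 0))
variable (hR : ∀ (I : C) [Injective I] (n : ℕ) (x : Ext.{w'} B (R.obj I) (n + 1)), x = 0)
variable (P : C → Prop)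
  (hP : ∀ F : C, P F → ((injSES F).map R).ShortExact ∧ P (injSES F).X₃)

include hnat hδ h0 hR hP in
/-- The edge maps are bijective on the class `P`. -/
theorem bijective_of_class (p : ℕ) : ∀ F : C, P F → Function.Bijective (E F p) := by
  induction p with
  | zero => exact fun F _ => h0 F
  | succ p ih =>
    intro F hF
    have hS := injSES_shortExact F
    have hS' : ((injSES F).map R).ShortExact := (hP F hF).1
    have ihQ := ih (injSES F).X₃ (hP F hF).2
    -- `E I p` is surjective for the injective `I`
    have hEI : Function.Surjective (E (injSES F).X₂ p) := by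
      rcases p with _ | p
      · exact (h0 _).2
      · intro y
        exact ⟨0, by rw [map_zero]; exact (Ext.eq_zero_of_injective y).symm⟩
    have hδX : Function.Surjective (extδ hS A p) :=
      extδ_surjective hS A p (fun x => Ext.eq_zero_of_injective x)
    have hδY : Function.Surjective (extδ hS' B p) :=
      extδ_surjective hS' B p (hR (injSES F).X₂ p)
    constructor
    · rw [injective_iff_map_eq_zero]
      intro z hz
      obtain ⟨q', rfl⟩ := hδY z
      rw [extδ_apply] at hz ⊢
      have h1 : (E (injSES F).X₃ p q').comp hS.extClass rfl = 0 := by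
        rw [← hδ (injSES F) hS hS' p q']; exact hz
      obtain ⟨i0, hi0⟩ := Ext.covariant_sequence_exact₃ A hS _ rfl h1
      obtain ⟨i0', rfl⟩ := hEI i0
      have h2 : q' = i0'.comp (Ext.mk₀ (R.map (injSES F).g)) (add_zero p) := by
        apply ihQ.1
        rw [hnat]
        exact hi0.symm
      have h3 : ∀ (t : Ext.{w'} B ((injSES F).map R).X₂ p),
          (t.comp (Ext.mk₀ ((injSES F).map R).g) (add_zero p)).comp hS'.extClass rfl = 0 := by
        intro t
        rw [Ext.comp_assoc_of_second_deg_zero, hS'.comp_extClass, Ext.comp_zero]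
      subst h2
      exact h3 i0'
    · intro y
      obtain ⟨q0, rfl⟩ := hδX y
      obtain ⟨q0', rfl⟩ := ihQ.2 q0
      refine ⟨extδ hS' B p q0', ?_⟩
      rw [extδ_apply, extδ_apply]
      exact hδ (injSES F) hS hS' p q0'

end Groth.Agent.Lib.Cohomology.EdgeBij
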