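import Groth.Prelude.Def_RDer

/-!
# The first edge map of a composite is an isomorphism on acyclic objects (helper5)

`isIso_edgeIn Φ Ψ X h q : IsIso (RDer.edgeIn Φ Ψ q X)` when `Φ` is left exact, preserves injectives and
`R^{q+1} Φ X = 0` for all `q`.
-/

universe v₁ v₂ v₃ u₁ u₂ u₃
open CategoryTheory CategoryTheory.Limits HomologicalComplex

namespace Groth.Agent.Lib.Cohomology.EdgeInIso

variable {A : Type u₁} [Category.{v₁} A] [Abelian A] [HasInjectiveResolutions A]
  {B : Type u₂} [Category.{v₂} B] [Abelian B] [HasInjectiveResolutions B]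
  {C : Type u₃} [Category.{v₃} C] [Abelian C]
  (Φ : A ⥤ B) [Φ.Additive] [PreservesFiniteLimits Φ]
  (Ψ : B ⥤ C) [Ψ.Additive] (X : A)

omit [HasInjectiveResolutions A] [HasInjectiveResolutions B] [PreservesFiniteLimits Φ] in
set_option backward.isDefEq.respectTransparency false in
lemma mapAug_f_zero (I : InjectiveResolution X) :
    (RDer.mapAug Φ I.ι).f 0 = Φ.map (I.ι.f 0) := by
  simp [RDer.mapAug, HomologicalComplex.singleMapHomologicalComplex_inv_app_self]

omit [HasInjectiveResolutions B] in
set_option backward.isDefEq.respectTransparency false in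
lemma quasiIso_mapAug (I : InjectiveResolution X)
    (h : ∀ q, IsZero ((Φ.rightDerived (q + 1)).obj X)) :
    QuasiIso (RDer.mapAug Φ I.ι) := ⟨fun n => by
  cases n with
  | zero =>
    rw [CochainComplex.quasiIsoAt₀_iff, ShortComplex.quasiIso_iff_of_zeros]
    · have hk := KernelFork.mapIsLimit _ (I.isLimitKernelFork) Φ
      have := (ShortComplex.exact_and_mono_f_iff_f_is_kernel
        (ShortComplex.mk (Φ.map (I.ι.f 0)) (Φ.map (I.cocomplex.d 0 1))
          (by rw [← Φ.map_comp, I.ι_f_zero_comp_complex_d, Φ.map_zero]))).2 ⟨hk⟩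
      refine (ShortComplex.exact_and_mono_f_iff_of_iso ?_).2 this
      refine ShortComplex.isoMk (Iso.refl _) (Iso.refl _) (Iso.refl _) ?_ ?_
      · refine (Category.id_comp _).trans (Eq.trans ?_ (Category.comp_id _).symm)
        exact (mapAug_f_zero Φ X I).symm
      · exact (Category.id_comp _).trans (Category.comp_id _).symm
    · rfl
    · rfl
    · exact HomologicalComplex.shape ((Φ.mapHomologicalComplex (ComplexShape.up ℕ)).obj I.cocomplex) 0 0
        (by simp)
  | succ n =>
    rw [quasiIsoAt_iff_exactAt]
    · rw [exactAt_iff_isZero_homology]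
      exact IsZero.of_iso (h n) (I.isoRightDerivedObj Φ (n + 1)).symm
    · apply CochainComplex.exactAt_succ_single_obj⟩

variable [Φ.PreservesInjectiveObjects]

/-- For `Φ` left exact preserving injectives and `X` a `Φ`-acyclic object, `Φ` of an injective
resolution of `X` is an injective resolution of `Φ X`. -/
noncomputable def res (I : InjectiveResolution X)
    (h : ∀ q, IsZero ((Φ.rightDerived (q + 1)).obj X)) : InjectiveResolution (Φ.obj X) where
  cocomplex := (Φ.mapHomologicalComplex _).obj I.cocomplex
  ι := RDer.mapAug Φ I.ι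
  injective := fun n => Φ.injective_obj (I.cocomplex.X n)
  quasiIso := quasiIso_mapAug Φ X I h

omit [HasInjectiveResolutions A] [HasInjectiveResolutions B] in
/-- a cochain map between injective resolutions of the same object, compatible with the
augmentations, induces an isomorphism on the homology after applying any additive functor -/
lemma isIso_homologyMap_of_comm {Y : B} (J J' : InjectiveResolution Y)
    (d : J.cocomplex ⟶ J'.cocomplex) (hd : J.ι ≫ d = J'.ι) (q : ℕ) :
    IsIso ((HomologicalComplex.homologyFunctor C _ q).map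
      ((Ψ.mapHomologicalComplex _).map d)) := by
  let back : J'.cocomplex ⟶ J.cocomplex := InjectiveResolution.desc (𝟙 Y) J J'
  have hback : J'.ι ≫ back = J.ι := by
    simp [back]
  have h1 : Homotopy (d ≫ back) (𝟙 _) :=
    InjectiveResolution.descHomotopy (𝟙 Y) _ _ (by rw [reassoc_of% hd, hback]; simp) (by simp)
  have h2 : Homotopy (back ≫ d) (𝟙 _) :=
    InjectiveResolution.descHomotopy (𝟙 Y) _ _ (by rw [reassoc_of% hback, hd]; simp) (by simp)
  refine ⟨(HomologicalComplex.homologyFunctor C _ q).map
      ((Ψ.mapHomologicalComplex _).map back), ?_, ?_⟩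
  · rw [← Functor.map_comp, ← Functor.map_comp]
    have := (Ψ.mapHomotopy h1).homologyMap_eq q
    rw [CategoryTheory.Functor.map_id, HomologicalComplex.homologyMap_id] at this
    exact this
  · rw [← Functor.map_comp, ← Functor.map_comp]
    have := (Ψ.mapHomotopy h2).homologyMap_eq q
    rw [CategoryTheory.Functor.map_id, HomologicalComplex.homologyMap_id] at this
    exact this

/-- The first edge map `(R^q Ψ)(Φ X) ⟶ R^q(Φ ⋙ Ψ) X` is an isomorphism when `Φ` is left exact,
preserves injectives and `X` is `Φ`-acyclic. -/
theorem isIso_edgeIn (h : ∀ q, IsZero ((Φ.rightDerived (q + 1)).obj X)) (q : ℕ) :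
    IsIso (RDer.edgeIn Φ Ψ q X) := by
  have hd : (injectiveResolution (Φ.obj X)).ι ≫
      RDer.descToInjectives (𝟙 (Φ.obj X)) (injectiveResolution (Φ.obj X)).cocomplex
        (injectiveResolution (Φ.obj X)).ι (res Φ X (injectiveResolution X) h).cocomplex
        (res Φ X (injectiveResolution X) h).ι = (res Φ X (injectiveResolution X) h).ι := by
    apply HomologicalComplex.from_single_hom_ext
    rw [HomologicalComplex.comp_f, RDer.ι_descToInjectives_f_zero, Category.id_comp]
  have := isIso_homologyMap_of_comm Ψ (injectiveResolution (Φ.obj X))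
    (res Φ X (injectiveResolution X) h) _ hd q
  dsimp only [RDer.edgeIn]
  have h2 : IsIso ((HomologicalComplex.homologyFunctor C _ q).map ((Ψ.mapHomologicalComplex _).map
      (RDer.descToInjectives (𝟙 (Φ.obj X)) (injectiveResolution (Φ.obj X)).cocomplex
        (injectiveResolution (Φ.obj X)).ι
        ((Φ.mapHomologicalComplex _).obj (injectiveResolution X).cocomplex)
        (RDer.mapAug Φ (injectiveResolution X).ι)))) := this
  infer_instance

end Groth.Agent.Lib.Cohomology.EdgeInIso
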