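import Groth.Agent.Lib.Cohomology.helper5_ColimCompactQS
import Groth.Agent.Lib.Cohomology.Helper1_HUTop
import Mathlib.CategoryTheory.Limits.Constructions.Filtered

/-!
# Sheaf cohomology of a quasi-compact quasi-separated prespectral space commutes with
filtered colimits and with arbitrary coproducts

* `HSigma.functorHIso X n` : `H^n(⊤, -) ≅ H^n(X, -)` as functors.
* `HSigma.preservesColimit_functorH` : on a compact quasi-separated prespectral space,
  `Sheaf.functorH J n` preserves filtered colimits.
* `HSigma.subsingleton_H_sigma` : if all `H^n(X, F i)` vanish then so does `H^n(X, ∐ F)`.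
-/

set_option autoImplicit false
universe u

namespace Groth.Agent.Lib.Cohomology.HSigma

open CategoryTheory TopologicalSpace Opposite CategoryTheory.Limits

/-- `H^n(⊤, -) ≅ H^n(X, -)` as functors on abelian sheaves. -/
noncomputable def functorHIso (X : TopCat.{u}) (n : ℕ) :
    (Sheaf.cohomologyPresheafFunctor (Opens.grothendieckTopology X) n).flip.obj (op ⊤) ≅
      Sheaf.functorH (Opens.grothendieckTopology X) n :=
  NatIso.ofComponents
    (fun F => (((Abelian.extFunctor n).mapIso (freeSheafTopIso X).op).app F).symm)
    (by
      intro F G f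
      exact (((Abelian.extFunctor n).mapIso (freeSheafTopIso X).op).inv.naturality f))

theorem preservesColimit_functorH (X : TopCat.{u}) [PrespectralSpace X] [CompactSpace X]
    [QuasiSeparatedSpace X] (n : ℕ) {I : Type u} [SmallCategory I] [IsFiltered I]
    (K : I ⥤ Sheaf (Opens.grothendieckTopology X) AddCommGrpCat.{u}) :
    PreservesColimit K (Sheaf.functorH (Opens.grothendieckTopology X) n) := by
  have h := ColimCompactQS.preservesColimit_H (X := X) ⊤ isCompact_univ
    (isQuasiSeparated_univ (α := X)) n K
  exact preservesColimit_of_natIso K (functorHIso X n)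

/-- A colimit of a diagram of zero objects is zero. -/
lemma isZero_of_isColimit_of_isZero {A : Type*} [Category A] [HasZeroMorphisms A]
    {I : Type*} [Category I] {D : I ⥤ A} {c : Cocone D} (hc : IsColimit c)
    (h : ∀ i, IsZero (D.obj i)) : IsZero c.pt := by
  rw [IsZero.iff_id_eq_zero]
  apply hc.hom_ext
  intro i
  exact (h i).eq_of_src _ _

theorem subsingleton_H_sigma (X : TopCat.{u}) [PrespectralSpace X] [CompactSpace X]
    [QuasiSeparatedSpace X] (n : ℕ) {ι : Type u}
    (F : ι → Sheaf (Opens.grothendieckTopology X) AddCommGrpCat.{u})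
    (h : ∀ i, Subsingleton (Sheaf.H (F i) n)) : Subsingleton (Sheaf.H (∐ F) n) := by
  classical
  let J := Opens.grothendieckTopology X
  let G := Sheaf.functorH J n
  have hG : ∀ i, IsZero (G.obj (F i)) := fun i => by
    have : Subsingleton (G.obj (F i)) := h i
    exact AddCommGrpCat.isZero_of_subsingleton _
  have hc := CoproductsFromFiniteFiltered.isColimitFiniteSubproductsCocone F
  have := preservesColimit_functorH X n
    (CoproductsFromFiniteFiltered.liftToFinsetObj (Discrete.functor F))
  have hc' := isColimitOfPreserves G hc
  have hz : IsZero (G.mapCocone (CoproductsFromFiniteFiltered.finiteSubcoproductsCocone F)).pt := by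
    refine isZero_of_isColimit_of_isZero hc' ?_
    intro S
    show IsZero (G.obj (∐ fun i : S => F i.1.as))
    refine IsZero.of_iso ?_ (PreservesCoproduct.iso G (fun i : S => F i.1.as))
    rw [IsZero.iff_id_eq_zero]
    apply Sigma.hom_ext
    intro b
    exact (hG b.1.as).eq_of_src _ _
  exact AddCommGrpCat.subsingleton_of_isZero hz

end Groth.Agent.Lib.Cohomology.HSigma
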