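import Groth.Prelude.Def_RDer

/-!
# When is `H^i(Ψ K) ⟶ Ψ(H^i K)` an isomorphism? (helper5)

`Ψ : B ⥤ C` a left exact additive functor between abelian categories, `P` a class of "`Ψ`-acyclic"
objects (`AcycClass Ψ P`: closed under isomorphisms, cokernels of monomorphisms, extensions, and `Ψ`
preserves epimorphisms with kernel in `P`).  If `K` is an `ℕ`-indexed cochain complex all of whose terms
and all of whose cohomology objects are in `P`, then `RDer.homologyComparison Ψ K i` is an isomorphism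
for every `i` (`isIso_homologyComparison`).  No derived functors of `Ψ` are needed.
-/

set_option autoImplicit false

namespace Groth.Agent.Lib.Cohomology.HomCmp

open CategoryTheory Limits

universe v₁ v₂ u₁ u₂

variable {B : Type u₁} [Category.{v₁} B] [Abelian B] {C : Type u₂} [Category.{v₂} C] [Abelian C]
  (Ψ : B ⥤ C) [Ψ.Additive] [PreservesFiniteLimits Ψ]

/-- a class of `Ψ`-acyclic objects -/
structure AcycClass (P : B → Prop) : Prop where
  of_iso : ∀ {A A' : B}, (A ≅ A') → P A → P A'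
  coker : ∀ (S : ShortComplex B), S.ShortExact → P S.X₁ → P S.X₂ → P S.X₃
  ext : ∀ (S : ShortComplex B), S.ShortExact → P S.X₁ → P S.X₃ → P S.X₂
  epi : ∀ (S : ShortComplex B), S.ShortExact → P S.X₁ → Epi (Ψ.map S.g)

section CyclesIso

variable {ι' : Type*} {c : ComplexShape ι'} (K : HomologicalComplex B c) (i : ι')

instance isIso_cyclesComparison : IsIso (RDer.cyclesComparison Ψ K i) := by
  have h : RDer.cyclesComparison Ψ K i =
      (IsLimit.conePointUniqueUpToIso
        (((Ψ.mapHomologicalComplex c).obj K).cyclesIsKernel i (c.next i) rfl)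
        (KernelFork.mapIsLimit _ (K.cyclesIsKernel i (c.next i) rfl) Ψ)).hom := rfl
  rw [h]
  infer_instance

/-- if `Ψ` preserves the cokernel `K^j ⟶ Z^i ⟶ H^i ⟶ 0`, the comparison map is an isomorphism -/
theorem isIso_homologyComparison_of_exact (j : ι') (hj : c.prev i = j)
    (hex : (ShortComplex.mk (Ψ.map (K.toCycles j i)) (Ψ.map (K.homologyπ i))
      (by rw [← Ψ.map_comp, K.toCycles_comp_homologyπ, Ψ.map_zero])).Exact)
    (hepi : Epi (Ψ.map (K.homologyπ i))) : IsIso (RDer.homologyComparison Ψ K i) := by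
  subst hj
  set L := (Ψ.mapHomologicalComplex c).obj K with hL
  have hcok₂ : IsColimit (CokernelCofork.ofπ (Ψ.map (K.homologyπ i)) _) := hex.gIsCokernel
  have hcok₁ := L.homologyIsCokernel (c.prev i) i rfl
  have e1 : L.toCycles (c.prev i) i ≫ RDer.cyclesComparison Ψ K i =
      Ψ.map (K.toCycles (c.prev i) i) := RDer.toCycles_cyclesComparison Ψ K i
  have e2 : L.homologyπ i ≫ RDer.homologyComparison Ψ K i =
      RDer.cyclesComparison Ψ K i ≫ Ψ.map (K.homologyπ i) :=
    RDer.homologyπ_homologyComparison Ψ K i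
  have w : Ψ.map (K.toCycles (c.prev i) i) ≫ inv (RDer.cyclesComparison Ψ K i) ≫ L.homologyπ i = 0 := by
    have h0 : L.toCycles (c.prev i) i ≫ L.homologyπ i = 0 := L.toCycles_comp_homologyπ _ _
    have e1' : Ψ.map (K.toCycles (c.prev i) i) ≫ inv (RDer.cyclesComparison Ψ K i) =
        L.toCycles (c.prev i) i := (IsIso.comp_inv_eq _).2 e1.symm
    calc _ = (Ψ.map (K.toCycles (c.prev i) i) ≫ inv (RDer.cyclesComparison Ψ K i)) ≫
          L.homologyπ i := (Category.assoc _ _ _).symm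
      _ = L.toCycles (c.prev i) i ≫ L.homologyπ i := congrArg (· ≫ L.homologyπ i) e1'
      _ = 0 := h0
  let φ : Ψ.obj (K.homology i) ⟶ L.homology i :=
    hcok₂.desc (CokernelCofork.ofπ (inv (RDer.cyclesComparison Ψ K i) ≫ L.homologyπ i) w)
  have hφ : Ψ.map (K.homologyπ i) ≫ φ = inv (RDer.cyclesComparison Ψ K i) ≫ L.homologyπ i :=
    Cofork.IsColimit.π_desc hcok₂
  refine ⟨φ, ?_, ?_⟩
  · apply Cofork.IsColimit.hom_ext hcok₁
    change L.homologyπ i ≫ RDer.homologyComparison Ψ K i ≫ φ = L.homologyπ i ≫ 𝟙 _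
    rw [← Category.assoc, e2, Category.assoc, hφ, IsIso.hom_inv_id_assoc, Category.comp_id]
  · apply Cofork.IsColimit.hom_ext hcok₂
    change Ψ.map (K.homologyπ i) ≫ φ ≫ RDer.homologyComparison Ψ K i =
      Ψ.map (K.homologyπ i) ≫ 𝟙 _
    rw [← Category.assoc, hφ, Category.assoc, e2, IsIso.inv_hom_id_assoc, Category.comp_id]

end CyclesIso

section FourTerm

variable {Ψ} {P : B → Prop} (hP : AcycClass Ψ P)

include hP in
/-- `0 → Z₀ → A → Z → H → 0` exact with `Z₀, A, H` acyclic: then `Z` is acyclic and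
`Ψ A → Ψ Z → Ψ H → 0` is exact. -/
theorem four_term {Z₀ A Z H : B} (ι : Z₀ ⟶ A) (t : A ⟶ Z) (π : Z ⟶ H) (w₁ : ι ≫ t = 0)
    (w₂ : t ≫ π = 0) (hk : IsLimit (KernelFork.ofι ι w₁)) (hc : IsColimit (CokernelCofork.ofπ π w₂))
    (h0 : P Z₀) (hA : P A) (hH : P H) :
    P Z ∧ Epi (Ψ.map π) ∧ (ShortComplex.mk (Ψ.map t) (Ψ.map π)
      (by rw [← Ψ.map_comp, w₂, Ψ.map_zero])).Exact := by
  have hem : Abelian.factorThruImage t ≫ Abelian.image.ι t = t := Abelian.image.fac t
  have w₁' : ι ≫ Abelian.factorThruImage t = 0 := by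
    rw [← cancel_mono (Abelian.image.ι t), Category.assoc, hem, w₁, zero_comp]
  have w₂' : Abelian.image.ι t ≫ π = 0 := by
    rw [← cancel_epi (Abelian.factorThruImage t), ← Category.assoc, hem, w₂, comp_zero]
  have hSa : (ShortComplex.mk ι (Abelian.factorThruImage t) w₁').ShortExact :=
    { exact := ShortComplex.exact_of_f_is_kernel _
        (isKernelOfComp (Abelian.image.ι t) t hk w₁' hem)
      mono_f := mono_of_isLimit_fork hk
      epi_g := inferInstanceAs (Epi (Abelian.factorThruImage t)) }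
  have hSb : (ShortComplex.mk (Abelian.image.ι t) π w₂').ShortExact :=
    { exact := ShortComplex.exact_of_g_is_cokernel _
        (isCokernelOfComp (Abelian.factorThruImage t) t hc w₂' hem)
      mono_f := inferInstanceAs (Mono (Abelian.image.ι t))
      epi_g := epi_of_isColimit_cofork hc }
  have hI : P (Abelian.image t) := hP.coker _ hSa h0 hA
  have hZ : P Z := hP.ext _ hSb hI hH
  have he : Epi (Ψ.map (Abelian.factorThruImage t)) := hP.epi _ hSa h0
  have hπ : Epi (Ψ.map π) := hP.epi _ hSb hI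
  refine ⟨hZ, hπ, ?_⟩
  have hexb : ((ShortComplex.mk (Abelian.image.ι t) π w₂').map Ψ).Exact :=
    hSb.exact.map_of_mono_of_preservesKernel Ψ hSb.mono_f inferInstance
  let φ : ShortComplex.mk (Ψ.map t) (Ψ.map π) (by rw [← Ψ.map_comp, w₂, Ψ.map_zero]) ⟶
      (ShortComplex.mk (Abelian.image.ι t) π w₂').map Ψ :=
    { τ₁ := Ψ.map (Abelian.factorThruImage t)
      τ₂ := 𝟙 _
      τ₃ := 𝟙 _
      comm₁₂ := by
        change Ψ.map (Abelian.factorThruImage t) ≫ Ψ.map (Abelian.image.ι t) = Ψ.map t ≫ 𝟙 _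
        rw [← Ψ.map_comp, hem, Category.comp_id]
      comm₂₃ := by
        change 𝟙 _ ≫ Ψ.map π = Ψ.map π ≫ 𝟙 _
        rw [Category.id_comp, Category.comp_id] }
  have : Epi φ.τ₁ := he
  have : IsIso φ.τ₂ := inferInstanceAs (IsIso (𝟙 _))
  have : Mono φ.τ₃ := inferInstanceAs (Mono (𝟙 _))
  exact (ShortComplex.exact_iff_of_epi_of_isIso_of_mono φ).2 hexb

end FourTerm

section Main

variable {Ψ} {P : B → Prop} (hP : AcycClass Ψ P) (K : CochainComplex B ℕ)
  (hX : ∀ n, P (K.X n)) (hH : ∀ n, P (K.homology n))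

include hP hX hH in
theorem acyc_cycles_and_exact (n : ℕ) :
    P (K.cycles n) ∧ (P (K.cycles (n + 1)) ∧ Epi (Ψ.map (K.homologyπ (n + 1))) ∧
      (ShortComplex.mk (Ψ.map (K.toCycles n (n + 1))) (Ψ.map (K.homologyπ (n + 1)))
        (by rw [← Ψ.map_comp, K.toCycles_comp_homologyπ, Ψ.map_zero])).Exact) := by
  induction n with
  | zero =>
    have h0 : P (K.cycles 0) := hP.of_iso K.isoHomologyπ₀.symm (hH 0)
    have w₁ : K.iCycles 0 ≫ K.toCycles 0 1 = 0 := by
      rw [← cancel_mono (K.iCycles 1), Category.assoc, K.toCycles_i, K.iCycles_d, zero_comp]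
    refine ⟨h0, four_term hP (K.iCycles 0) (K.toCycles 0 1) (K.homologyπ 1) w₁
      (K.toCycles_comp_homologyπ 0 1)
      (isKernelOfComp (K.iCycles 1) (K.d 0 1) (K.cyclesIsKernel 0 1 (by simp)) w₁
        (K.toCycles_i 0 1))
      (K.homologyIsCokernel 0 1 (by simp)) h0 (hX 0) (hH 1)⟩
  | succ n ih =>
    have h0 : P (K.cycles (n + 1)) := ih.2.1
    have w₁ : K.iCycles (n + 1) ≫ K.toCycles (n + 1) (n + 1 + 1) = 0 := by
      rw [← cancel_mono (K.iCycles (n + 1 + 1)), Category.assoc, K.toCycles_i, K.iCycles_d,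
        zero_comp]
    refine ⟨h0, four_term hP (K.iCycles (n + 1)) (K.toCycles (n + 1) (n + 1 + 1))
      (K.homologyπ (n + 1 + 1)) w₁
      (K.toCycles_comp_homologyπ (n + 1) (n + 1 + 1))
      (isKernelOfComp (K.iCycles (n + 1 + 1)) (K.d (n + 1) (n + 1 + 1))
        (K.cyclesIsKernel (n + 1) (n + 1 + 1) (by simp)) w₁
        (K.toCycles_i (n + 1) (n + 1 + 1)))
      (K.homologyIsCokernel (n + 1) (n + 1 + 1) (by simp)) h0 (hX (n + 1)) (hH (n + 1 + 1))⟩

include hP hX hH in
/-- **Main theorem**: for a complex of acyclics with acyclic cohomology, `H^i(Ψ K) ≅ Ψ(H^i K)`. -/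
theorem isIso_homologyComparison (i : ℕ) : IsIso (RDer.homologyComparison Ψ K i) := by
  rcases i with _ | n
  · -- degree zero: both `homologyπ 0` are isomorphisms
    have e2 := RDer.homologyπ_homologyComparison Ψ K 0
    have h1 : IsIso (((Ψ.mapHomologicalComplex (ComplexShape.up ℕ)).obj K).homologyπ 0) :=
      inferInstanceAs (IsIso (CochainComplex.isoHomologyπ₀
        ((Ψ.mapHomologicalComplex (ComplexShape.up ℕ)).obj K)).hom)
    have h2 : IsIso (K.homologyπ 0) := inferInstanceAs (IsIso K.isoHomologyπ₀.hom)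
    have h3 : RDer.homologyComparison Ψ K 0 =
        inv (((Ψ.mapHomologicalComplex (ComplexShape.up ℕ)).obj K).homologyπ 0) ≫
          RDer.cyclesComparison Ψ K 0 ≫ Ψ.map (K.homologyπ 0) := by
      rw [← e2, IsIso.inv_hom_id_assoc]
    rw [h3]
    infer_instance
  · obtain ⟨-, -, hepi, hex⟩ := acyc_cycles_and_exact hP K hX hH n
    exact isIso_homologyComparison_of_exact Ψ K (n + 1) n (by simp) hex hepi

end Main

end Groth.Agent.Lib.Cohomology.HomCmp
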