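import Groth.Agent.Lib.Cohomology.helper5_HomologyComparison
import Groth.Agent.Lib.Helper47.RDerLES

/-!
# `H^n(Ψ K) ≅ Ψ(H^n K)` when `K` is exact below `n` (helper5)

* `RAcyc Ψ A`: `A` is right-derived acyclic for the left exact functor `Ψ` (`R^{a+1}Ψ A = 0`);
  `rAcycClass Ψ : AcycClass Ψ (RAcyc Ψ)`.
* `four_term'`: the half of `four_term` that needs no hypothesis on the last term.
* `isIso_homologyComparison_of_vanishing_below`: if all terms of `K` are acyclic and `H^m K = 0` for
  `m < n`, then `RDer.homologyComparison Ψ K n` is an isomorphism (the edge map of the Grothendieck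
  spectral sequence in the lowest non-trivial degree).
-/

set_option autoImplicit false

namespace Groth.Agent.Lib.Cohomology.HomCmp

open CategoryTheory Limits

universe v₁ v₂ u₁ u₂

variable {B : Type u₁} [Category.{v₁} B] [Abelian B] {C : Type u₂} [Category.{v₂} C] [Abelian C]
  (Ψ : B ⥤ C) [Ψ.Additive] [PreservesFiniteLimits Ψ]

section RAcyc

variable [HasInjectiveResolutions B]

/-- right-derived acyclic objects -/
def RAcyc (A : B) : Prop := ∀ a : ℕ, IsZero ((Ψ.rightDerived (a + 1)).obj A)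

theorem rAcycClass : AcycClass Ψ (RAcyc Ψ) where
  of_iso := fun e h a => (h a).of_iso ((Ψ.rightDerived (a + 1)).mapIso e.symm)
  coker := by
    intro S hS h1 h2 a
    have hex := (Groth.Agent.Lib.Helper47.RDerLES.derivedLES Ψ).exact₃ S hS (a + 1) (a + 1 + 1) rfl
    exact hex.isZero_of_both_zeros ((h2 a).eq_of_src _ _) ((h1 (a + 1)).eq_of_tgt _ _)
  ext := by
    intro S hS h1 h3 a
    have hex := (Groth.Agent.Lib.Helper47.RDerLES.derivedLES Ψ).exact₂ S hS (a + 1)
    exact hex.isZero_of_both_zeros ((h1 a).eq_of_src _ _) ((h3 a).eq_of_tgt _ _)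
  epi := by
    intro S hS h1
    have hex := (Groth.Agent.Lib.Helper47.RDerLES.derivedLES Ψ).exact₃ S hS 0 1 rfl
    have hepi : Epi ((Ψ.rightDerived 0).map S.g) := hex.epi_f ((h1 0).eq_of_tgt _ _)
    have hnat := Ψ.toRightDerivedZero.naturality S.g
    have h2 : Ψ.map S.g = (Ψ.toRightDerivedZero.app _ ≫ (Ψ.rightDerived 0).map S.g) ≫
        inv (Ψ.toRightDerivedZero.app _) := by
      rw [← hnat, Category.assoc, IsIso.hom_inv_id, Category.comp_id]
    rw [h2]
    infer_instance

omit [PreservesFiniteLimits Ψ] in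
lemma rAcyc_of_isZero (A : B) (hA : IsZero A) : RAcyc Ψ A :=
  fun _ => Functor.map_isZero _ hA

/-- in a short exact sequence `0 → A → I → J → 0` with `I`, `J` injective and `Ψ I → Ψ J` epi, the
kernel `A` is `Ψ`-acyclic -/
theorem rAcyc_X₁_of_injective (S : ShortComplex B) (hS : S.ShortExact) (hI₂ : Injective S.X₂)
    (hI₃ : Injective S.X₃) (hg : Epi (Ψ.map S.g)) : RAcyc Ψ S.X₁ := by
  intro a
  have hex₁ := (Groth.Agent.Lib.Helper47.RDerLES.derivedLES Ψ).exact₁ S hS a (a + 1) rfl
  have hz2 : IsZero ((Ψ.rightDerived (a + 1)).obj S.X₂) :=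
    Functor.isZero_rightDerived_obj_injective_succ _ a _
  have hepiδ : Epi ((Groth.Agent.Lib.Helper47.RDerLES.derivedLES Ψ).δ S hS a (a + 1) rfl) :=
    hex₁.epi_f (hz2.eq_of_tgt _ _)
  have hδ0 : (Groth.Agent.Lib.Helper47.RDerLES.derivedLES Ψ).δ S hS a (a + 1) rfl = 0 := by
    rcases a with _ | b
    · have hnat := Ψ.toRightDerivedZero.naturality S.g
      have h2 : (Ψ.rightDerived 0).map S.g = inv (Ψ.toRightDerivedZero.app _) ≫ Ψ.map S.g ≫
          Ψ.toRightDerivedZero.app _ := by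
        rw [hnat, IsIso.inv_hom_id_assoc]
      have hepi0 : Epi ((Ψ.rightDerived 0).map S.g) := by
        rw [h2]
        infer_instance
      have hc := (Groth.Agent.Lib.Helper47.RDerLES.derivedLES Ψ).comp_δ S hS 0 (0 + 1) rfl
      rw [← cancel_epi ((Ψ.rightDerived 0).map S.g), hc, comp_zero]
    · have hz3 : IsZero ((Ψ.rightDerived (b + 1)).obj S.X₃) :=
        Functor.isZero_rightDerived_obj_injective_succ _ b _
      exact hz3.eq_of_src _ _
  rw [IsZero.iff_id_eq_zero,
    ← cancel_epi ((Groth.Agent.Lib.Helper47.RDerLES.derivedLES Ψ).δ S hS a (a + 1) rfl), hδ0,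
    zero_comp, zero_comp]

end RAcyc

section FourTerm'

variable {Ψ} {P : B → Prop} (hP : AcycClass Ψ P)

include hP in
/-- `0 → Z₀ → A → Z → H → 0` exact with `Z₀, A` acyclic: `Ψ A → Ψ Z → Ψ H → 0` is exact. -/
theorem four_term' {Z₀ A Z H : B} (ι : Z₀ ⟶ A) (t : A ⟶ Z) (π : Z ⟶ H) (w₁ : ι ≫ t = 0)
    (w₂ : t ≫ π = 0) (hk : IsLimit (KernelFork.ofι ι w₁)) (hc : IsColimit (CokernelCofork.ofπ π w₂))
    (h0 : P Z₀) (hA : P A) :
    Epi (Ψ.map π) ∧ (ShortComplex.mk (Ψ.map t) (Ψ.map π)
      (by rw [← Ψ.map_comp, w₂, Ψ.map_zero])).Exact := by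
  have hem : Abelian.factorThruImage t ≫ Abelian.image.ι t = t := Abelian.image.fac t
  have w₁' : ι ≫ Abelian.factorThruImage t = 0 := by
    rw [← cancel_mono (Abelian.image.ι t), Category.assoc, hem, w₁, zero_comp]
  have w₂' : Abelian.image.ι t ≫ π = 0 := by
    rw [← cancel_epi (Abelian.factorThruImage t), ← Category.assoc, hem, w₂, comp_zero]
  have hSa : (ShortComplex.mk ι (Abelian.factorThruImage t) w₁').ShortExact :=
    { exact := ShortComplex.exact_of_f_is_kernel _
        (isKernelOfComp (Abelian.image.ι t) t hk w₁' hem)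
      mono_f := mono_of_isLimit_fork hk
      epi_g := inferInstanceAs (Epi (Abelian.factorThruImage t)) }
  have hSb : (ShortComplex.mk (Abelian.image.ι t) π w₂').ShortExact :=
    { exact := ShortComplex.exact_of_g_is_cokernel _
        (isCokernelOfComp (Abelian.factorThruImage t) t hc w₂' hem)
      mono_f := inferInstanceAs (Mono (Abelian.image.ι t))
      epi_g := epi_of_isColimit_cofork hc }
  have hI : P (Abelian.image t) := hP.coker _ hSa h0 hA
  have he : Epi (Ψ.map (Abelian.factorThruImage t)) := hP.epi _ hSa h0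
  have hπ : Epi (Ψ.map π) := hP.epi _ hSb hI
  refine ⟨hπ, ?_⟩
  have hexb : ((ShortComplex.mk (Abelian.image.ι t) π w₂').map Ψ).Exact :=
    hSb.exact.map_of_mono_of_preservesKernel Ψ hSb.mono_f inferInstance
  let φ : ShortComplex.mk (Ψ.map t) (Ψ.map π) (by rw [← Ψ.map_comp, w₂, Ψ.map_zero]) ⟶
      (ShortComplex.mk (Abelian.image.ι t) π w₂').map Ψ :=
    { τ₁ := Ψ.map (Abelian.factorThruImage t)
      τ₂ := 𝟙 _
      τ₃ := 𝟙 _
      comm₁₂ := by
        change Ψ.map (Abelian.factorThruImage t) ≫ Ψ.map (Abelian.image.ι t) = Ψ.map t ≫ 𝟙 _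
        rw [← Ψ.map_comp, hem, Category.comp_id]
      comm₂₃ := by
        change 𝟙 _ ≫ Ψ.map π = Ψ.map π ≫ 𝟙 _
        rw [Category.id_comp, Category.comp_id] }
  have : Epi φ.τ₁ := he
  have : IsIso φ.τ₂ := inferInstanceAs (IsIso (𝟙 _))
  have : Mono φ.τ₃ := inferInstanceAs (Mono (𝟙 _))
  exact (ShortComplex.exact_iff_of_epi_of_isIso_of_mono φ).2 hexb

end FourTerm'

section Below

variable {Ψ} {P : B → Prop} (hP : AcycClass Ψ P) (K : CochainComplex B ℕ)
  (hX : ∀ m, P (K.X m)) (h0 : ∀ A : B, IsZero A → P A) (n : ℕ)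
  (hH : ∀ m, m < n → IsZero (K.homology m))

include hP hX h0 hH in
lemma acyc_cycles_below (m : ℕ) (hm : m < n) : P (K.cycles m) := by
  induction m with
  | zero => exact h0 _ (IsZero.of_iso (hH 0 hm) K.isoHomologyπ₀)
  | succ m ih =>
    have hm' : m < n := by omega
    have w₁ : K.iCycles m ≫ K.toCycles m (m + 1) = 0 := by
      rw [← cancel_mono (K.iCycles (m + 1)), Category.assoc, K.toCycles_i, K.iCycles_d, zero_comp]
    exact (four_term hP (K.iCycles m) (K.toCycles m (m + 1)) (K.homologyπ (m + 1)) w₁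
      (K.toCycles_comp_homologyπ m (m + 1))
      (isKernelOfComp (K.iCycles (m + 1)) (K.d m (m + 1)) (K.cyclesIsKernel m (m + 1) (by simp)) w₁
        (K.toCycles_i m (m + 1)))
      (K.homologyIsCokernel m (m + 1) (by simp)) (ih hm') (hX m) (h0 _ (hH (m + 1) hm))).1

include hP hX h0 hH in
/-- **lowest-degree edge isomorphism**: terms acyclic and `H^m K = 0` for `m < n` imply
`H^n(Ψ K) ≅ Ψ(H^n K)`. -/
theorem isIso_homologyComparison_of_vanishing_below :
    IsIso (RDer.homologyComparison Ψ K n) := by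
  rcases n with _ | k
  · have e2 := RDer.homologyπ_homologyComparison Ψ K 0
    have h1 : IsIso (((Ψ.mapHomologicalComplex (ComplexShape.up ℕ)).obj K).homologyπ 0) :=
      inferInstanceAs (IsIso (CochainComplex.isoHomologyπ₀
        ((Ψ.mapHomologicalComplex (ComplexShape.up ℕ)).obj K)).hom)
    have h2 : IsIso (K.homologyπ 0) := inferInstanceAs (IsIso K.isoHomologyπ₀.hom)
    have h3 : RDer.homologyComparison Ψ K 0 =
        inv (((Ψ.mapHomologicalComplex (ComplexShape.up ℕ)).obj K).homologyπ 0) ≫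
          RDer.cyclesComparison Ψ K 0 ≫ Ψ.map (K.homologyπ 0) := by
      rw [← e2, IsIso.inv_hom_id_assoc]
    rw [h3]
    infer_instance
  · have hZ : P (K.cycles k) := acyc_cycles_below hP K hX h0 (k + 1) hH k (by omega)
    have w₁ : K.iCycles k ≫ K.toCycles k (k + 1) = 0 := by
      rw [← cancel_mono (K.iCycles (k + 1)), Category.assoc, K.toCycles_i, K.iCycles_d, zero_comp]
    obtain ⟨hepi, hex⟩ := four_term' hP (K.iCycles k) (K.toCycles k (k + 1)) (K.homologyπ (k + 1))
      w₁ (K.toCycles_comp_homologyπ k (k + 1))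
      (isKernelOfComp (K.iCycles (k + 1)) (K.d k (k + 1)) (K.cyclesIsKernel k (k + 1) (by simp)) w₁
        (K.toCycles_i k (k + 1)))
      (K.homologyIsCokernel k (k + 1) (by simp)) hZ (hX k)
    exact isIso_homologyComparison_of_exact Ψ K (k + 1) k (by simp) hex hepi

end Below

end Groth.Agent.Lib.Cohomology.HomCmp
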