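import Mathlib
import Groth.Prelude.Def_EtLim
import Groth.Agent.Lib.Cohomology.Helper3_ExtFunct

/-!
# `Hpull`, `HofPush` and `baseChange0` through `conjMap` (helper5)

* The first section is a verbatim copy of lemmas of helper3 (`Helper3_EtMV1`, `Helper3_EtMV2`:
  `unit_pullConstIso_inv`, `pushComp_app`, `pushComp_top`, `unit_pullComp_inv`, `pushGsec_comp`,
  `pullConst_comp`), copied here only to keep the import closure small.
* `Hpull_eq_conjMap`, `HofPush_eq_conjMap`: the pullback maps on etale cohomology as `conjMap`s.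
(The square compatibilities `sqIso`, `sqIso_const`, `sqIso_counit` are in `helper5_HpullSq`.)
-/

set_option autoImplicit false
universe u
open CategoryTheory CategoryTheory.Limits Opposite AlgebraicGeometry CategoryTheory.Abelian

namespace Groth.Agent.Lib.Cohomology.HpullComp

open Groth.Agent.Lib.Cohomology.ExtFunct

/-! ### Copied from helper3 -/

/-- the coefficient group `ℤ` in the right universe -/
abbrev MZ : AddCommGrpCat.{u + 1} := AddCommGrpCat.of (ULift.{u + 1} ℤ)

section PullConst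

variable {X Y : Scheme.{u}} (f : X ⟶ Y)

/-- the unit characterisation of `pullConstIso` (helper3) -/
lemma unit_pullConstIso_inv (M : AddCommGrpCat.{u + 1}) :
    (EtCore.constAdj X).unit.app M ≫ (EtCore.gsec X).map ((EtCore.pullConstIso f).inv.app M) =
      ((EtCore.constAdj Y).unit.app M ≫ (EtCore.gsec Y).map ((EtCoh.pullPushAdj f).unit.app
        ((constantSheaf Y.smallEtaleTopology AddCommGrpCat.{u + 1}).obj M))) ≫
        (EtCore.pushGsecIso f).hom.app _ := by
  have h := Adjunction.unit_leftAdjointUniq_hom_app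
    (((EtCore.constAdj Y).comp (EtCoh.pullPushAdj f)).ofNatIsoRight (EtCore.pushGsecIso f))
    (EtCore.constAdj X) M
  have h2 : (EtCore.constAdj X).unit.app M ≫
      (EtCore.gsec X).map ((EtCore.pullConstIso f).inv.app M) =
      ((((EtCore.constAdj Y).comp (EtCoh.pullPushAdj f)).ofNatIsoRight
        (EtCore.pushGsecIso f)).unit.app M) := by
    rw [← h, Category.assoc, ← Functor.map_comp]
    erw [Iso.hom_inv_id_app]
    erw [CategoryTheory.Functor.map_id, Category.comp_id]
  rw [h2]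
  simp only [Adjunction.ofNatIsoRight_unit, Adjunction.comp_unit_app, NatTrans.comp_app,
    Functor.whiskerLeft_app]
  rfl

end PullConst

section Comp

variable {W U X : Scheme.{u}} (k : W ⟶ U) (j : U ⟶ X)

set_option backward.isDefEq.respectTransparency.types false in
lemma pushComp_app (G : EtCoh.Ab W) (V : X.Etale) :
    ((EtCoh.pushComp j k).hom.app G).hom.app (op V) =
      G.obj.map ((MorphismProperty.Over.pullbackComp (P := EtCoh.etaleMP) (Q := ⊤)
        k j (k ≫ j) rfl).symm.inv.app V).op := by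
  unfold EtCoh.pushComp
  rw [Functor.sheafPushforwardContinuousComp'_hom_app_hom_app]
  rfl

set_option backward.isDefEq.respectTransparency.types false in
lemma pushComp_top (G : EtCoh.Ab W)
    (y : G.obj.obj (op ((EtCoh.bc k).obj ((EtCoh.bc j).obj (EtCoh.top X))))) :
    (G.obj.map (EtCore.bcTopIso (k ≫ j)).inv.op).hom
      ((((EtCoh.pushComp j k).hom.app G).hom.app (op (EtCoh.top X))).hom y) =
    (G.obj.map (EtCore.bcTopIso k).inv.op).hom
      ((G.obj.map ((EtCoh.bc k).map (EtCore.bcTopIso j).inv).op).hom y) := by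
  rw [pushComp_app]
  have hT : IsTerminal ((EtCoh.bc k).obj ((EtCoh.bc j).obj (EtCoh.top X))) :=
    IsTerminal.isTerminalObj (EtCoh.bc k) _ (EtCore.bcTopIsTerminal j)
  let a : (EtCoh.bc (k ≫ j)).obj (EtCoh.top X) ⟶ (EtCoh.bc k).obj ((EtCoh.bc j).obj (EtCoh.top X)) :=
    (MorphismProperty.Over.pullbackComp (P := EtCoh.etaleMP) (Q := ⊤)
        k j (k ≫ j) rfl).symm.inv.app (EtCoh.top X)
  have key : G.obj.map a.op ≫ G.obj.map (EtCore.bcTopIso (k ≫ j)).inv.op =
      G.obj.map ((EtCoh.bc k).map (EtCore.bcTopIso j).inv).op ≫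
        G.obj.map (EtCore.bcTopIso k).inv.op := by
    rw [← Functor.map_comp, ← Functor.map_comp, ← op_comp, ← op_comp]
    congr 2
    exact hT.hom_ext _ _
  exact congrArg (fun m => m.hom y) key

/-- the unit characterisation of `pullComp` (helper3) -/
lemma unit_pullComp_inv (G : EtCoh.Ab X) :
    (EtCoh.pullPushAdj (k ≫ j)).unit.app G =
      (((EtCoh.pullPushAdj j).unit.app G ≫ (EtCoh.push j).map ((EtCoh.pullPushAdj k).unit.app
        ((EtCoh.pull j).obj G))) ≫ (EtCoh.pushComp j k).hom.app _) ≫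
        (EtCoh.push (k ≫ j)).map ((EtCore.pullComp k j).inv.app G) := by
  have h := Adjunction.unit_leftAdjointUniq_hom_app (EtCoh.pullPushAdj (k ≫ j))
    (((EtCoh.pullPushAdj j).comp (EtCoh.pullPushAdj k)).ofNatIsoRight (EtCoh.pushComp j k)) G
  have h2 : (((EtCoh.pullPushAdj j).comp (EtCoh.pullPushAdj k)).ofNatIsoRight
      (EtCoh.pushComp j k)).unit.app G =
      ((EtCoh.pullPushAdj j).unit.app G ≫ (EtCoh.push j).map ((EtCoh.pullPushAdj k).unit.app
        ((EtCoh.pull j).obj G))) ≫ (EtCoh.pushComp j k).hom.app _ := by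
    simp only [Adjunction.ofNatIsoRight_unit, Adjunction.comp_unit_app, NatTrans.comp_app,
      Functor.whiskerLeft_app]
    rfl
  rw [← h2, ← h, Category.assoc, ← Functor.map_comp]
  erw [Iso.hom_inv_id_app]
  erw [CategoryTheory.Functor.map_id, Category.comp_id]

lemma pushGsec_comp (G : EtCoh.Ab W) :
    (EtCore.pushGsecIso j).hom.app ((EtCoh.push k).obj G) ≫ (EtCore.pushGsecIso k).hom.app G =
      (EtCore.gsec X).map ((EtCoh.pushComp j k).hom.app G) ≫
        (EtCore.pushGsecIso (k ≫ j)).hom.app G := by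
  ext y
  exact (pushComp_top k j G y).symm

/-- `pullConst` is compatible with composition (helper3) -/
theorem pullConst_comp (j₃ : W ⟶ X) (w : k ≫ j = j₃) :
    (EtCore.pullConst k ℤ).inv ≫ (EtCoh.pull k).map (EtCore.pullConst j ℤ).inv ≫
      (((EtCore.pullComp k j).symm ≪≫ EtCore.pullCongr w).app (EtCoh.const X ℤ)).hom =
    (EtCore.pullConst j₃ ℤ).inv := by
  subst w
  have hθ : (((EtCore.pullComp k j).symm ≪≫ EtCore.pullCongr rfl).app (EtCoh.const X ℤ)).hom =
      (EtCore.pullComp k j).inv.app (EtCoh.const X ℤ) := by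
    simp [EtCore.pullCongr]
  rw [hθ]
  apply ((EtCore.constAdj W).homEquiv MZ.{u} _).injective
  rw [Adjunction.homEquiv_unit, Adjunction.homEquiv_unit]
  have hk : (EtCore.constAdj W).unit.app MZ.{u} ≫ (EtCore.gsec W).map (EtCore.pullConst k ℤ).inv =
      ((EtCore.constAdj U).unit.app MZ.{u} ≫ (EtCore.gsec U).map ((EtCoh.pullPushAdj k).unit.app
        (EtCoh.const U ℤ))) ≫ (EtCore.pushGsecIso k).hom.app ((EtCoh.pull k).obj (EtCoh.const U ℤ)) :=
    unit_pullConstIso_inv k MZ.{u}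
  have hj : (EtCore.constAdj U).unit.app MZ.{u} ≫ (EtCore.gsec U).map (EtCore.pullConst j ℤ).inv =
      ((EtCore.constAdj X).unit.app MZ.{u} ≫ (EtCore.gsec X).map ((EtCoh.pullPushAdj j).unit.app
        (EtCoh.const X ℤ))) ≫ (EtCore.pushGsecIso j).hom.app ((EtCoh.pull j).obj (EtCoh.const X ℤ)) :=
    unit_pullConstIso_inv j MZ.{u}
  have hkj : (EtCore.constAdj W).unit.app MZ.{u} ≫
      (EtCore.gsec W).map (EtCore.pullConst (k ≫ j) ℤ).inv =
      ((EtCore.constAdj X).unit.app MZ.{u} ≫ (EtCore.gsec X).map ((EtCoh.pullPushAdj (k ≫ j)).unit.app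
        (EtCoh.const X ℤ))) ≫
        (EtCore.pushGsecIso (k ≫ j)).hom.app ((EtCoh.pull (k ≫ j)).obj (EtCoh.const X ℤ)) :=
    unit_pullConstIso_inv (k ≫ j) MZ.{u}
  have hc := unit_pullComp_inv k j (EtCoh.const X ℤ)
  have hp := pushGsec_comp k j ((EtCoh.pull k).obj ((EtCoh.pull j).obj (EtCoh.const X ℤ)))
  have n1 : (EtCore.gsec U).map ((EtCoh.push k).map ((EtCoh.pull k).map (EtCore.pullConst j ℤ).inv)) ≫
      (EtCore.pushGsecIso k).hom.app ((EtCoh.pull k).obj ((EtCoh.pull j).obj (EtCoh.const X ℤ))) =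
      (EtCore.pushGsecIso k).hom.app ((EtCoh.pull k).obj (EtCoh.const U ℤ)) ≫
        (EtCore.gsec W).map ((EtCoh.pull k).map (EtCore.pullConst j ℤ).inv) :=
    (EtCore.pushGsecIso k).hom.naturality ((EtCoh.pull k).map (EtCore.pullConst j ℤ).inv)
  have n2 : (EtCore.pullConst j ℤ).inv ≫
      (EtCoh.pullPushAdj k).unit.app ((EtCoh.pull j).obj (EtCoh.const X ℤ)) =
      (EtCoh.pullPushAdj k).unit.app (EtCoh.const U ℤ) ≫
        (EtCoh.push k).map ((EtCoh.pull k).map (EtCore.pullConst j ℤ).inv) :=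
    (EtCoh.pullPushAdj k).unit.naturality (EtCore.pullConst j ℤ).inv
  have n3 : (EtCore.gsec X).map ((EtCoh.push j).map ((EtCoh.pullPushAdj k).unit.app
      ((EtCoh.pull j).obj (EtCoh.const X ℤ)))) ≫
      (EtCore.pushGsecIso j).hom.app ((EtCoh.push k).obj ((EtCoh.pull k).obj
        ((EtCoh.pull j).obj (EtCoh.const X ℤ)))) =
      (EtCore.pushGsecIso j).hom.app ((EtCoh.pull j).obj (EtCoh.const X ℤ)) ≫
        (EtCore.gsec U).map ((EtCoh.pullPushAdj k).unit.app ((EtCoh.pull j).obj (EtCoh.const X ℤ))) :=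
    (EtCore.pushGsecIso j).hom.naturality
      ((EtCoh.pullPushAdj k).unit.app ((EtCoh.pull j).obj (EtCoh.const X ℤ)))
  have n4 : (EtCore.gsec X).map ((EtCoh.push (k ≫ j)).map
      ((EtCore.pullComp k j).inv.app (EtCoh.const X ℤ))) ≫
      (EtCore.pushGsecIso (k ≫ j)).hom.app ((EtCoh.pull (k ≫ j)).obj (EtCoh.const X ℤ)) =
      (EtCore.pushGsecIso (k ≫ j)).hom.app ((EtCoh.pull k).obj ((EtCoh.pull j).obj (EtCoh.const X ℤ))) ≫
        (EtCore.gsec W).map ((EtCore.pullComp k j).inv.app (EtCoh.const X ℤ)) :=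
    (EtCore.pushGsecIso (k ≫ j)).hom.naturality ((EtCore.pullComp k j).inv.app (EtCoh.const X ℤ))
  rw [hkj, hc]
  simp only [Functor.map_comp, Category.assoc]
  rw [reassoc_of% hk, ← reassoc_of% n1]
  rw [← Functor.map_comp_assoc (EtCore.gsec U), ← n2, Functor.map_comp_assoc, reassoc_of% hj,
    ← reassoc_of% n3, reassoc_of% hp, n4]

end Comp

/-! ### `conjMap` and composition with degree-zero classes -/

section ConjMap

universe w w' v v' u₁ u₂

variable {C : Type u₁} [Category.{v} C] [Abelian C] [HasExt.{w} C]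
variable {D : Type u₂} [Category.{v'} D] [Abelian D] [HasExt.{w'} D]

lemma conjMap_comp_mk₀ (L : C ⥤ D) [L.Additive] [PreservesFiniteLimits L]
    [PreservesFiniteColimits L] {A B : C} {A' B' B'' : D} (α : A' ⟶ L.obj A) (β : L.obj B ⟶ B')
    (φ : B' ⟶ B'') (q : ℕ) (x : Ext.{w} A B q) :
    (conjMap L α β q x).comp (Ext.mk₀ φ) (add_zero q) = conjMap L α (β ≫ φ) q x := by
  rw [conjMap_apply, conjMap_apply, Ext.comp_assoc_of_third_deg_zero,
    Ext.comp_assoc_of_third_deg_zero, Ext.mk₀_comp_mk₀]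

end ConjMap

/-! ### `Hpull` and `HofPush` as `conjMap`s -/

section Hpull

variable {X Y : Scheme.{u}} (f : X ⟶ Y) [PreservesFiniteLimits (EtCoh.pull f)]

lemma Hpull_eq_conjMap (G : EtCoh.Ab Y) (n : ℕ) (x : EtCoh.H Y G n) :
    EtCore.Hpull f G n x =
      conjMap (EtCoh.pull f) (EtCore.pullConst f ℤ).inv (𝟙 ((EtCoh.pull f).obj G)) n x := by
  rw [conjMap_apply, Ext.comp_mk₀_id]
  rfl

lemma HF_map_apply {G G' : EtCoh.Ab X} (φ : G ⟶ G') (n : ℕ) (y : EtCoh.H X G n) :
    ((EtCoh.HF X n).map φ).hom y = y.comp (Ext.mk₀ φ) (add_zero n) := rfl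

lemma HofPush_eq_conjMap (F : EtCoh.Ab X) (n : ℕ) (z : EtCoh.H Y ((EtCoh.push f).obj F) n) :
    EtLim.HofPush f F n z =
      conjMap (EtCoh.pull f) (EtCore.pullConst f ℤ).inv ((EtCoh.pullPushAdj f).counit.app F) n z := by
  have h1 : EtLim.HofPush f F n z =
      (EtCore.Hpull f ((EtCoh.push f).obj F) n z).comp
        (Ext.mk₀ ((EtCoh.pullPushAdj f).counit.app F)) (add_zero n) := rfl
  rw [h1, Hpull_eq_conjMap, conjMap_comp_mk₀, Category.id_comp]

end Hpull

end Groth.Agent.Lib.Cohomology.HpullComp
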