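import Mathlib
import Groth.Prelude.Def_EtLim
import Groth.Agent.Lib.Cohomology.helper5_HpullComp

/-!
# Commutative squares: `Hpull`, `pullConst` and `baseChange0` (helper5)

* `homEquiv_pullComp`, `homEquiv_pullCongr`: the adjunction `(k ≫ j)⁻¹ ⊣ (k ≫ j)_*` through
  `pullComp`/`pushComp`, `pullCongr`/`pushCongr`.
* `sqIso`, `sqIso_const`, `sqIso_counit`: for a commutative square `g' ≫ f = f' ≫ g` the isomorphism
  `f⁻¹ ⋙ g'⁻¹ ≅ g⁻¹ ⋙ f'⁻¹`, its compatibility with `pullConst` and with `baseChange0`.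
-/

set_option autoImplicit false
universe u
open CategoryTheory CategoryTheory.Limits Opposite AlgebraicGeometry CategoryTheory.Abelian

namespace Groth.Agent.Lib.Cohomology.HpullComp

/-! ### The adjunctions through `pullComp` and `pullCongr` -/

section Adj

variable {W U X : Scheme.{u}} (k : W ⟶ U) (j : U ⟶ X)

lemma homEquiv_pullComp (G : EtCoh.Ab X) (T : EtCoh.Ab W)
    (v : (EtCoh.pull k).obj ((EtCoh.pull j).obj G) ⟶ T) :
    (EtCoh.pullPushAdj (k ≫ j)).homEquiv _ _ ((EtCore.pullComp k j).hom.app G ≫ v) =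
      (EtCoh.pullPushAdj j).homEquiv _ _ ((EtCoh.pullPushAdj k).homEquiv _ _ v) ≫
        (EtCoh.pushComp j k).hom.app T := by
  have h1 : (EtCoh.pullPushAdj (k ≫ j)).homEquiv _ _ ((EtCore.pullComp k j).hom.app G) =
      (((EtCoh.pullPushAdj j).comp (EtCoh.pullPushAdj k)).ofNatIsoRight
        (EtCoh.pushComp j k)).unit.app G :=
    Adjunction.homEquiv_leftAdjointUniq_hom_app _ _ G
  have h2 : (((EtCoh.pullPushAdj j).comp (EtCoh.pullPushAdj k)).ofNatIsoRight
      (EtCoh.pushComp j k)).unit.app G =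
      ((EtCoh.pullPushAdj j).unit.app G ≫ (EtCoh.push j).map ((EtCoh.pullPushAdj k).unit.app
        ((EtCoh.pull j).obj G))) ≫ (EtCoh.pushComp j k).hom.app _ := by
    simp only [Adjunction.ofNatIsoRight_unit, Adjunction.comp_unit_app, NatTrans.comp_app,
      Functor.whiskerLeft_app]
    rfl
  have nat : (EtCoh.push j).map ((EtCoh.push k).map v) ≫ (EtCoh.pushComp j k).hom.app T =
      (EtCoh.pushComp j k).hom.app _ ≫ (EtCoh.push (k ≫ j)).map v :=
    (EtCoh.pushComp j k).hom.naturality v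
  rw [Adjunction.homEquiv_naturality_right, h1, h2, Adjunction.homEquiv_unit,
    Adjunction.homEquiv_unit, Functor.map_comp]
  simp only [Category.assoc]
  rw [nat]

set_option backward.isDefEq.respectTransparency.types false in
lemma pushCongr_rfl_app {P Q : Scheme.{u}} (a : P ⟶ Q) (T : EtCoh.Ab P) :
    (EtCoh.pushCongr (rfl : a = a)).hom.app T = 𝟙 _ := by
  have key : ∀ V : Q.Etale, (MorphismProperty.Over.pullbackCongr (P := EtCoh.etaleMP) (Q := ⊤)
      (rfl : a = a)).inv.app V = 𝟙 _ := by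
    intro V
    ext
    simp [MorphismProperty.Over.pullbackCongr]
    rfl
  apply Sheaf.hom_ext
  apply NatTrans.ext
  funext V
  have h3 : ((EtCoh.pushCongr (rfl : a = a)).hom.app T).hom.app V =
      T.obj.map ((MorphismProperty.Over.pullbackCongr (P := EtCoh.etaleMP) (Q := ⊤)
        (rfl : a = a)).inv.app V.unop).op := rfl
  rw [h3, key V.unop]
  exact T.obj.map_id _

lemma homEquiv_pullCongr {P Q : Scheme.{u}} {a b : P ⟶ Q} (h : a = b) (G : EtCoh.Ab Q)
    (T : EtCoh.Ab P) (v : (EtCoh.pull a).obj G ⟶ T) :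
    (EtCoh.pullPushAdj b).homEquiv _ _ ((EtCore.pullCongr h).inv.app G ≫ v) =
      (EtCoh.pullPushAdj a).homEquiv _ _ v ≫ (EtCoh.pushCongr h).hom.app T := by
  subst h
  rw [pushCongr_rfl_app, Category.comp_id]
  simp [EtCore.pullCongr]

end Adj

/-! ### Commutative squares -/

section Square

variable {X Y X' Y' : Scheme.{u}} (f : X ⟶ Y) (g : Y' ⟶ Y) (f' : X' ⟶ Y') (g' : X' ⟶ X)
  (w : g' ≫ f = f' ≫ g)

/-- for a commutative square the two iterated inverse images agree -/
noncomputable def sqIso : EtCoh.pull f ⋙ EtCoh.pull g' ≅ EtCoh.pull g ⋙ EtCoh.pull f' :=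
  (EtCore.pullComp g' f).symm ≪≫ EtCore.pullCongr w ≪≫ EtCore.pullComp f' g

lemma sqIso_hom :
    (sqIso f g f' g' w).hom = (EtCore.pullComp g' f).inv ≫
      (EtCore.pullCongr w).hom ≫ (EtCore.pullComp f' g).hom := rfl

lemma sqIso_inv :
    (sqIso f g f' g' w).inv = ((EtCore.pullComp f' g).inv ≫
      (EtCore.pullCongr w).inv) ≫ (EtCore.pullComp g' f).hom := rfl

lemma sqIso_hom_app (G : EtCoh.Ab Y) :
    (sqIso f g f' g' w).hom.app G = (EtCore.pullComp g' f).inv.app G ≫
      (EtCore.pullCongr w).hom.app G ≫ (EtCore.pullComp f' g).hom.app G := by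
  rw [sqIso_hom, NatTrans.comp_app, NatTrans.comp_app]

lemma sqIso_inv_app (G : EtCoh.Ab Y) :
    (sqIso f g f' g' w).inv.app G = (EtCore.pullComp f' g).inv.app G ≫
      (EtCore.pullCongr w).inv.app G ≫ (EtCore.pullComp g' f).hom.app G := by
  rw [sqIso_inv, NatTrans.comp_app, NatTrans.comp_app, Category.assoc]

lemma sqIso_const :
    ((EtCore.pullConst g' ℤ).inv ≫ (EtCoh.pull g').map (EtCore.pullConst f ℤ).inv) ≫
      (sqIso f g f' g' w).hom.app (EtCoh.const Y ℤ) =
    (EtCore.pullConst f' ℤ).inv ≫ (EtCoh.pull f').map (EtCore.pullConst g ℤ).inv := by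
  have h1 := pullConst_comp g' f (f' ≫ g) w
  have h2 := pullConst_comp f' g (f' ≫ g) rfl
  have e1 : (((EtCore.pullComp g' f).symm ≪≫ EtCore.pullCongr w).app (EtCoh.const Y ℤ)).hom =
      (EtCore.pullComp g' f).inv.app _ ≫ (EtCore.pullCongr w).hom.app _ := rfl
  have e2 : (((EtCore.pullComp f' g).symm ≪≫ EtCore.pullCongr rfl).app (EtCoh.const Y ℤ)).hom =
      (EtCore.pullComp f' g).inv.app (EtCoh.const Y ℤ) := by
    simp [EtCore.pullCongr]
  rw [e1] at h1
  rw [e2] at h2
  rw [sqIso_hom_app]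
  calc ((EtCore.pullConst g' ℤ).inv ≫ (EtCoh.pull g').map (EtCore.pullConst f ℤ).inv) ≫
        (EtCore.pullComp g' f).inv.app (EtCoh.const Y ℤ) ≫
        (EtCore.pullCongr w).hom.app (EtCoh.const Y ℤ) ≫
        (EtCore.pullComp f' g).hom.app (EtCoh.const Y ℤ)
      = ((EtCore.pullConst g' ℤ).inv ≫ (EtCoh.pull g').map (EtCore.pullConst f ℤ).inv ≫
        (EtCore.pullComp g' f).inv.app (EtCoh.const Y ℤ) ≫
        (EtCore.pullCongr w).hom.app (EtCoh.const Y ℤ)) ≫
        (EtCore.pullComp f' g).hom.app (EtCoh.const Y ℤ) := by simp only [Category.assoc]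
    _ = (EtCore.pullConst (f' ≫ g) ℤ).inv ≫ (EtCore.pullComp f' g).hom.app (EtCoh.const Y ℤ) := by
        rw [h1]
    _ = ((EtCore.pullConst f' ℤ).inv ≫ (EtCoh.pull f').map (EtCore.pullConst g ℤ).inv ≫
        (EtCore.pullComp f' g).inv.app (EtCoh.const Y ℤ)) ≫
        (EtCore.pullComp f' g).hom.app (EtCoh.const Y ℤ) := by rw [h2]
    _ = (EtCore.pullConst f' ℤ).inv ≫ (EtCoh.pull f').map (EtCore.pullConst g ℤ).inv := by
        simp only [Category.assoc, Iso.inv_hom_id_app, Category.comp_id]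
        erw [Category.comp_id]

lemma sqIso_counit (F : EtCoh.Ab X) :
    (sqIso f g f' g' w).inv.app ((EtCoh.push f).obj F) ≫
      (EtCoh.pull g').map ((EtCoh.pullPushAdj f).counit.app F) =
    (EtCoh.pull f').map (EtCoh.baseChange0 f g f' g' w F) ≫
      (EtCoh.pullPushAdj f').counit.app ((EtCoh.pull g').obj F) := by
  -- both sides are maps `f'⁻¹ g⁻¹ f_* F ⟶ g'⁻¹ F`; compare adjoints
  have inj : Function.Injective (fun v : (EtCoh.pull f').obj ((EtCoh.pull g).obj ((EtCoh.push f).obj F)) ⟶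
      (EtCoh.pull g').obj F =>
      (EtCoh.pullPushAdj (f' ≫ g)).homEquiv _ _ ((EtCore.pullComp f' g).hom.app _ ≫ v)) := by
    intro v v' h
    have h' := ((EtCoh.pullPushAdj (f' ≫ g)).homEquiv _ _).injective h
    exact (cancel_epi _).1 h'
  apply inj
  dsimp only
  -- right hand side
  have hR : (EtCoh.pullPushAdj (f' ≫ g)).homEquiv _ _ ((EtCore.pullComp f' g).hom.app _ ≫
      (EtCoh.pull f').map (EtCoh.baseChange0 f g f' g' w F) ≫
        (EtCoh.pullPushAdj f').counit.app ((EtCoh.pull g').obj F)) =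
      (EtCoh.push f).map ((EtCoh.pullPushAdj g').unit.app F) ≫ (EtCoh.pushComp f g').hom.app _ ≫
        (EtCoh.pushCongr w).hom.app _ := by
    rw [homEquiv_pullComp]
    have e1 : (EtCoh.pullPushAdj f').homEquiv _ _
        ((EtCoh.pull f').map (EtCoh.baseChange0 f g f' g' w F) ≫
          (EtCoh.pullPushAdj f').counit.app ((EtCoh.pull g').obj F)) =
        EtCoh.baseChange0 f g f' g' w F := by
      exact ((EtCoh.pullPushAdj f').homEquiv _ _).apply_symm_apply (EtCoh.baseChange0 f g f' g' w F)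
    have e2 : (EtCoh.pullPushAdj g).homEquiv _ _ (EtCoh.baseChange0 f g f' g' w F) =
        (EtCoh.push f).map ((EtCoh.pullPushAdj g').unit.app F) ≫ (EtCoh.pushComp f g').hom.app _ ≫
          (EtCoh.pushCongr w).hom.app _ ≫ (EtCoh.pushComp g f').inv.app _ :=
      Equiv.apply_symm_apply _ _
    erw [e1, e2]
    simp only [Functor.id_obj, Category.assoc, Iso.inv_hom_id_app, Category.comp_id]
  -- left hand side
  have hL : (EtCoh.pullPushAdj (f' ≫ g)).homEquiv _ _ ((EtCore.pullComp f' g).hom.app _ ≫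
      (sqIso f g f' g' w).inv.app ((EtCoh.push f).obj F) ≫
        (EtCoh.pull g').map ((EtCoh.pullPushAdj f).counit.app F)) =
      (EtCoh.push f).map ((EtCoh.pullPushAdj g').unit.app F) ≫ (EtCoh.pushComp f g').hom.app _ ≫
        (EtCoh.pushCongr w).hom.app _ := by
    rw [sqIso_inv_app]
    have e0 : (EtCore.pullComp f' g).hom.app ((EtCoh.push f).obj F) ≫
        ((EtCore.pullComp f' g).inv.app ((EtCoh.push f).obj F) ≫
          (EtCore.pullCongr w).inv.app ((EtCoh.push f).obj F) ≫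
          (EtCore.pullComp g' f).hom.app ((EtCoh.push f).obj F)) ≫
        (EtCoh.pull g').map ((EtCoh.pullPushAdj f).counit.app F) =
        (EtCore.pullCongr w).inv.app ((EtCoh.push f).obj F) ≫
          ((EtCore.pullComp g' f).hom.app ((EtCoh.push f).obj F) ≫
          (EtCoh.pull g').map ((EtCoh.pullPushAdj f).counit.app F)) := by
      simp only [Category.assoc, Iso.hom_inv_id_app_assoc]
    rw [e0, homEquiv_pullCongr, homEquiv_pullComp]
    have e1 : (EtCoh.pullPushAdj g').homEquiv _ _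
        ((EtCoh.pull g').map ((EtCoh.pullPushAdj f).counit.app F)) =
        (EtCoh.pullPushAdj f).counit.app F ≫ (EtCoh.pullPushAdj g').unit.app F := by
      rw [Adjunction.homEquiv_unit]
      exact ((EtCoh.pullPushAdj g').unit.naturality ((EtCoh.pullPushAdj f).counit.app F)).symm
    have e2 : (EtCoh.pullPushAdj f).homEquiv _ _
        ((EtCoh.pullPushAdj f).counit.app F ≫ (EtCoh.pullPushAdj g').unit.app F) =
        (EtCoh.push f).map ((EtCoh.pullPushAdj g').unit.app F) := by
      rw [Adjunction.homEquiv_unit, Functor.map_comp, ← Category.assoc,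
        Adjunction.right_triangle_components, Category.id_comp]
    erw [e1, e2]
    simp only [Functor.id_obj, Category.assoc]
  exact hL.trans hR.symm

end Square

end Groth.Agent.Lib.Cohomology.HpullComp
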