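import Mathlib
import Groth.Prelude.Def_CohCx
import Groth.Agent.Lib.Helper32.LimHomology

/-!
# A morphism of complexes of abelian sheaves inducing isomorphisms on the cohomology of sections
over a covering class of objects induces an isomorphism on cohomology sheaves
-/

set_option autoImplicit false
universe u

namespace Groth.Agent.Lib.Cohomology.LimCxSheaf

open CategoryTheory CategoryTheory.Limits Opposite

section L1

variable {C₁ C₂ : Type*} [Category C₁] [Category C₂] [Abelian C₁] [Abelian C₂]
  {ι : Type*} {c : ComplexShape ι}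
  (F : C₁ ⥤ C₂) [F.Additive] [F.PreservesHomology]
  {K L : HomologicalComplex C₁ c} (φ : K ⟶ L) (i : ι)

/-- For a functor preserving homology, `H(F φ)` is an iso iff `F (H φ)` is. -/
lemma isIso_homologyMap_map_iff :
    IsIso (HomologicalComplex.homologyMap ((F.mapHomologicalComplex c).map φ) i) ↔
      IsIso (F.map (HomologicalComplex.homologyMap φ i)) := by
  let e1 : ((F.mapHomologicalComplex c).obj K).homology i ≅ F.obj (K.homology i) :=
    (K.sc i).mapHomologyIso F
  let e2 : ((F.mapHomologicalComplex c).obj L).homology i ≅ F.obj (L.homology i) :=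
    (L.sc i).mapHomologyIso F
  have hnat' : HomologicalComplex.homologyMap ((F.mapHomologicalComplex c).map φ) i ≫ e2.hom =
      e1.hom ≫ F.map (HomologicalComplex.homologyMap φ i) :=
    ShortComplex.mapHomologyIso_hom_naturality
      ((HomologicalComplex.shortComplexFunctor C₁ c i).map φ) F
  constructor
  · intro h
    have : F.map (HomologicalComplex.homologyMap φ i) =
        e1.inv ≫ HomologicalComplex.homologyMap ((F.mapHomologicalComplex c).map φ) i ≫ e2.hom :=
      (Iso.eq_inv_comp e1).mpr hnat'.symm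
    rw [this]
    infer_instance
  · intro h
    have : HomologicalComplex.homologyMap ((F.mapHomologicalComplex c).map φ) i =
        (e1.hom ≫ F.map (HomologicalComplex.homologyMap φ i)) ≫ e2.inv :=
      (Iso.eq_comp_inv e2).mpr hnat'
    rw [this]
    infer_instance

end L1

section StepA

variable {C : Type u} [SmallCategory C] (J : GrothendieckTopology C)

/-- A morphism of complexes of abelian sheaves which induces an isomorphism on `H^m` of the
complexes of sections over every member of a covering class `B` of objects induces an isomorphism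
on the cohomology sheaves `H^m`. -/
theorem isIso_homologyMap_of_sections {K K' : CochainComplex (Sheaf J AddCommGrpCat.{u}) ℤ}
    (φ : K ⟶ K') (m : ℤ) (B : Set C)
    (hB : ∀ U : C, ∃ (ι : Type u) (Y : ι → C) (f : ∀ i, Y i ⟶ U),
      Sieve.ofArrows Y f ∈ J U ∧ ∀ i, Y i ∈ B)
    (h : ∀ U ∈ B, IsIso (HomologicalComplex.homologyMap ((CohCx.sectCx J U).map φ) m)) :
    IsIso (HomologicalComplex.homologyMap φ m) := by
  let ι := sheafToPresheaf J AddCommGrpCat.{u}
  let a := presheafToSheaf J AddCommGrpCat.{u}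
  let c := ComplexShape.up ℤ
  let ψ := (ι.mapHomologicalComplex c).map φ
  let ψ' := HomologicalComplex.homologyMap ψ m
  have h1 : ∀ U ∈ B, IsIso (ψ'.app (op U)) := by
    intro U hU
    exact (isIso_homologyMap_map_iff ((evaluation Cᵒᵖ AddCommGrpCat.{u}).obj (op U)) ψ m).mp
      (h U hU)
  have hinj : Presheaf.IsLocallyInjective J ψ' := by
    constructor
    intro X x y hxy
    obtain ⟨κ, YY, f, hcov, hY⟩ := hB X.unop
    refine J.superset_covering ?_ hcov
    rintro Z g ⟨W, k, g', ⟨i⟩, rfl⟩
    apply Sieve.downward_closed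
    have hi := h1 (YY i) (hY i)
    apply ((ConcreteCategory.isIso_iff_bijective _).mp hi).1
    rw [NatTrans.naturality_apply, NatTrans.naturality_apply, hxy]
  have hsurj : Presheaf.IsLocallySurjective J ψ' := by
    constructor
    intro U s
    obtain ⟨κ, YY, f, hcov, hY⟩ := hB U
    refine J.superset_covering ?_ hcov
    rintro Z g ⟨W, k, g', ⟨i⟩, rfl⟩
    apply Sieve.downward_closed
    have hi := h1 (YY i) (hY i)
    exact ((ConcreteCategory.isIso_iff_bijective _).mp hi).2 _
  have hW : J.W ψ' := J.W_of_isLocallyBijective ψ'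
  have h2 : IsIso (a.map ψ') := (J.W_iff ψ').mp hW
  have h3 : IsIso (HomologicalComplex.homologyMap ((a.mapHomologicalComplex c).map ψ) m) :=
    (isIso_homologyMap_map_iff a ψ m).mpr h2
  let ε : ι ⋙ a ≅ 𝟭 _ := asIso (sheafificationAdjunction J AddCommGrpCat.{u}).counit
  let H := HomologicalComplex.homologyFunctor (Sheaf J AddCommGrpCat.{u}) c m
  let E : (ι ⋙ a).mapHomologicalComplex c ⋙ H ≅ H :=
    Functor.isoWhiskerRight (NatIso.mapHomologicalComplex ε c ≪≫
      Functor.mapHomologicalComplexIdIso _ c) H ≪≫ Functor.leftUnitor H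
  have h4 : IsIso (((ι ⋙ a).mapHomologicalComplex c ⋙ H).map φ) := h3
  exact (NatIso.isIso_map_iff E φ).mp h4

end StepA

section Tower

open Groth.Agent.Lib.Helper32

/-- A tower of abelian groups whose transition maps to stage `n₀` are all isomorphisms has limit
isomorphic to stage `n₀`. -/
lemma isIso_limit_π_of_eventually_iso (T : ℕᵒᵖ ⥤ AddCommGrpCat.{u}) (n₀ : ℕ)
    (h : ∀ k, IsIso (T.map (homOfLE (Nat.le_add_right n₀ k)).op)) :
    IsIso (limit.π T (op n₀)) := by
  rw [ConcreteCategory.isIso_iff_bijective]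
  have hbij : ∀ k, Function.Bijective (T.map (homOfLE (Nat.le_add_right n₀ k)).op).hom :=
    fun k => (ConcreteCategory.isIso_iff_bijective _).mp (h k)
  have hcomp : ∀ (a b c : ℕ) (hab : a ≤ b) (hbc : b ≤ c) (x : T.obj (op c)),
      (T.map (homOfLE hab).op).hom ((T.map (homOfLE hbc).op).hom x) =
        (T.map (homOfLE (hab.trans hbc)).op).hom x := by
    intro a b c hab hbc x
    have : (homOfLE (hab.trans hbc)).op = (homOfLE hbc).op ≫ (homOfLE hab).op := rfl
    rw [this, T.map_comp]
    rfl
  have hπ : ∀ (a b : ℕ) (hab : a ≤ b) (x : (limit T : AddCommGrpCat.{u})),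
      (T.map (homOfLE hab).op).hom ((limit.π T (op b)).hom x) = (limit.π T (op a)).hom x := by
    intro a b hab x
    have := limit.w T (homOfLE hab).op
    exact congrArg (fun f => f.hom x) this
  constructor
  · intro x x' hxx
    apply AbCx.glue_ext T (𝟭 _)
    intro i
    have hiM : i ≤ n₀ + (i - n₀) := by omega
    have e1 : (limit.π T (op (n₀ + (i - n₀)))).hom x = (limit.π T (op (n₀ + (i - n₀)))).hom x' := by
      apply (hbij (i - n₀)).1
      rw [hπ, hπ]
      exact hxx
    show (limit.π T (op i)).hom x = (limit.π T (op i)).hom x'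
    rw [← hπ i _ hiM x, ← hπ i _ hiM x', e1]
  · intro y
    choose w hw using fun k => (hbij k).2 y
    have hww : ∀ (k k' : ℕ) (hkk : n₀ + k ≤ n₀ + k'),
        (T.map (homOfLE hkk).op).hom (w k') = w k := by
      intro k k' hkk
      apply (hbij k).1
      rw [hcomp, hw]
      exact (hw k).symm
    obtain ⟨x, hx⟩ := AbCx.glue_exists T (𝟭 _)
      (fun i => (T.map (homOfLE (show i ≤ n₀ + (i - n₀) by omega)).op).hom (w (i - n₀))) (by
        intro i
        show (T.map (homOfLE (Nat.le_succ i)).op).hom
          ((T.map (homOfLE (show i + 1 ≤ n₀ + (i + 1 - n₀) by omega)).op).hom (w (i + 1 - n₀))) =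
          (T.map (homOfLE (show i ≤ n₀ + (i - n₀) by omega)).op).hom (w (i - n₀))
        rw [hcomp, ← hww (i - n₀) (i + 1 - n₀) (by omega), hcomp])
    refine ⟨x, ?_⟩
    have hx0 : (limit.π T (op n₀)).hom x =
        (T.map (homOfLE (show n₀ ≤ n₀ + (n₀ - n₀) by omega)).op).hom (w (n₀ - n₀)) := hx n₀
    rw [hx0]
    exact hw (n₀ - n₀)

end Tower

section StepB

open Groth.Agent.Lib.Helper32

variable {C : Type u} [SmallCategory C] (J : GrothendieckTopology C)
  (F : ℕ → CochainComplex (Sheaf J AddCommGrpCat.{u}) ℤ) (t : ∀ n, F (n + 1) ⟶ F n)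

lemma transition_eq (n₀ k : ℕ) :
    CohCx.transition F t n₀ k =
      (CohCx.opSequence F t).map (homOfLE (Nat.le_add_right n₀ k)).op := by
  induction k with
  | zero =>
    exact ((CohCx.opSequence F t).map_id (op n₀)).symm
  | succ k ih =>
    calc t (n₀ + k) ≫ CohCx.transition F t n₀ k
        = (CohCx.opSequence F t).map (homOfLE (Nat.le_add_right (n₀ + k) 1)).op ≫
            (CohCx.opSequence F t).map (homOfLE (Nat.le_add_right n₀ k)).op := by
          rw [ih]
          congr 1
          exact (Functor.ofOpSequence_map_homOfLE_succ t (n₀ + k)).symm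
      _ = (CohCx.opSequence F t).map ((homOfLE (Nat.le_add_right (n₀ + k) 1)).op ≫
            (homOfLE (Nat.le_add_right n₀ k)).op) := ((CohCx.opSequence F t).map_comp _ _).symm
      _ = _ := rfl

instance preservesLimitsOfShape_sectCx (U : C) :
    PreservesLimitsOfShape ℕᵒᵖ (CohCx.sectCx J U) := by
  apply HomologicalComplex.preservesLimitsOfShape_of_eval
  intro i
  show PreservesLimitsOfShape ℕᵒᵖ (HomologicalComplex.eval _ _ i ⋙
    (sheafToPresheaf J AddCommGrpCat.{u} ⋙ (evaluation Cᵒᵖ AddCommGrpCat.{u}).obj (op U)))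
  infer_instance

theorem isIso_sections (m : ℤ) (U : C) (n₀ : ℕ)
    (ha : ∀ j : ℤ, (j = m - 2 ∨ j = m - 1) →
      CohCx.LimOneIsZero (fun n => ((F n).X j).obj.obj (op U))
        (fun n => (((t n).f j).hom.app (op U)).hom))
    (hb : CohCx.LimOneIsZero
      (fun n => ((CohCx.sectCx J U).obj (F n)).homology (m - 1))
      (fun n => (HomologicalComplex.homologyMap ((CohCx.sectCx J U).map (t n)) (m - 1)).hom))
    (hc : ∀ k : ℕ, IsIso (HomologicalComplex.homologyMap
      ((CohCx.sectCx J U).map (CohCx.transition F t n₀ k)) m)) :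
    IsIso (HomologicalComplex.homologyMap
      ((CohCx.sectCx J U).map (limit.π (CohCx.opSequence F t) (op n₀))) m) := by
  let D := CohCx.opSequence F t
  let Φ := CohCx.sectCx J U
  let K : ℕᵒᵖ ⥤ HomologicalComplex AddCommGrpCat.{u} (ComplexShape.up ℤ) := D ⋙ Φ
  have htc : ∀ i, AbCx.tc K i = Φ.map (t i) :=
    fun i => congrArg Φ.map (Functor.ofOpSequence_map_homOfLE_succ t i)
  have hX : ∀ j, (j = m - 2 ∨ j = m - 1) → AbCx.Lim1X K j := by
    intro j hj c
    obtain ⟨g, hg⟩ := ha j hj c
    refine ⟨g, fun i => ?_⟩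
    rw [htc]
    exact congrFun hg i
  have hH : AbCx.Lim1H K (m - 1) := by
    intro c
    obtain ⟨g, hg⟩ := hb c
    refine ⟨g, fun i => ?_⟩
    rw [htc]
    exact congrFun hg i
  have hZ : AbCx.Lim1Z K (m - 1) :=
    AbCx.lim1_cycles K (m - 2) (m - 1) (by omega) (hX _ (Or.inl rfl)) hH
  have hmain : IsIso (limit.post K (HomologicalComplex.homologyFunctor _ _ m)) :=
    AbCx.main K m (hX _ (Or.inr rfl)) hZ
  have hT : IsIso (limit.π (K ⋙ HomologicalComplex.homologyFunctor _ _ m) (op n₀)) := by
    apply isIso_limit_π_of_eventually_iso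
    intro k
    have := hc k
    rw [transition_eq] at this
    exact this
  let e := preservesLimitIso Φ D
  have h1 : Φ.map (limit.π D (op n₀)) = e.hom ≫ limit.π K (op n₀) :=
    (preservesLimitIso_hom_π Φ D (op n₀)).symm
  have h2 : HomologicalComplex.homologyMap (limit.π K (op n₀)) m =
      limit.post K (HomologicalComplex.homologyFunctor _ _ m) ≫
        limit.π (K ⋙ HomologicalComplex.homologyFunctor _ _ m) (op n₀) :=
    (limit.post_π K (HomologicalComplex.homologyFunctor _ _ m) (op n₀)).symm
  have h3 : IsIso (HomologicalComplex.homologyMap e.hom m) :=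
    inferInstanceAs (IsIso ((HomologicalComplex.homologyFunctor _ _ m).map e.hom))
  show IsIso (HomologicalComplex.homologyMap (Φ.map (limit.π D (op n₀))) m)
  rw [h1, HomologicalComplex.homologyMap_comp, h2]
  exact @IsIso.comp_isIso _ _ _ _ _ _ _ h3 (@IsIso.comp_isIso _ _ _ _ _ _ _ hmain hT)

end StepB

end Groth.Agent.Lib.Cohomology.LimCxSheaf
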