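import Groth.Agent.Lib.Cohomology.helper5_R3Skeleton
import Groth.Agent.Lib.Cohomology.helper5_CohSigma
import Groth.Agent.Lib.Proj.CohQuot
import Groth.Agent.Lib.Proj.Helper3_PnCoh
import Groth.Agent.S2357
import Groth.Agent.S0022

/-!
# Finiteness of coherent cohomology on `P^n_R`, given finiteness for the twisting sheaves (helper5)
-/

set_option autoImplicit false
universe u
open CategoryTheory CategoryTheory.Limits AlgebraicGeometry

namespace Groth.Agent.Lib.Cohomology.PnFinite

open Groth.Agent.Lib.Cohomology.R3 Groth.Agent.Lib.Cohomology.HHLES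
  Groth.Agent.Lib.Cohomology.CohSigma Groth.Agent.Lib.QCoh

variable (n : ℕ) (R : Type u) [CommRing R]

lemma isCoh_twist (d : ℤ) : Coh.IsCoh (Twist.twistProjSpace n R d) := by
  have h := Groth.Agent.Lib.Proj.isInvertible_twist (𝒜 := CohB1.polyGrading n R)
    (Groth.Agent.Lib.Proj.PnCoh.iSup_deg_one n R) d
  exact ⟨isQuasicoherent_of_isInvertible h, isFiniteType_of_isInvertible h⟩

instance [IsNoetherianRing R] : IsLocallyNoetherian (CohB1.ProjSpace n R) := by
  have : IsNoetherian (CohB1.ProjSpace n R) :=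
    Groth.Agent.S2357.result (CohB1.polyGrading n R)
  infer_instance

/-- Finiteness of the cohomology of coherent modules on `P^n_R` (`R` Noetherian), assuming it for
the twisting sheaves `O(d)`. -/
theorem finite_HH [IsNoetherianRing R]
    (hR1 : ∀ (d : ℤ) (i : ℕ),
      Module.Finite R (Coh.HH (CohB1.ProjSpace n R) (Twist.twistProjSpace n R d) i))
    (M : (CohB1.ProjSpace n R).Modules) (hM : Coh.IsCoh M) (i : ℕ) :
    Module.Finite R (Coh.HH (CohB1.ProjSpace n R) M i) := by
  classical
  refine finite_of_resolution R (fun F => Coh.IsCoh F) n ?_ ?_ M hM i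
  · intro F hF i hi
    have : Coh.IsQCoh F := hF.1
    exact Groth.Agent.S0022.result n R F i hi
  · intro F hF
    obtain ⟨m₀, hm₀⟩ := Groth.Agent.Lib.Proj.exists_epi_sigma_twistProjSpace_of_isCoh n R F hF
    obtain ⟨r, φ, hφ⟩ := hm₀ m₀ le_rfl
    have hE : Coh.IsCoh (∐ fun _ : Fin r => Twist.twistProjSpace n R (-(m₀ : ℤ))) :=
      isCoh_sigma_fin _ (fun _ => isCoh_twist n R _)
    refine ⟨_, φ, hφ, isCoh_kernel hE hF φ, fun i => ?_⟩
    let f : Fin r → (CohB1.ProjSpace n R).Modules := fun _ => Twist.twistProjSpace n R (-(m₀ : ℤ))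
    exact finite_of_sum_eq_id f (fun j => Sigma.ι f j) (fun j => Sigma.π f j) (sum_π_ι f) R i
      (fun _ => hR1 _ i)

end Groth.Agent.Lib.Cohomology.PnFinite
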