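import Groth.Prelude.Def_CohPull
import Groth.Agent.Lib.Cohomology.helper5_EdgeBij
import Groth.Agent.Lib.Cohomology.helper5_PushAcyclic

/-!
# The Leray edge map `H^p(Y, f_* F) → H^p(X, F)` for abelian sheaves on spaces (helper5)

`E f F p` : pull back along `f` (`CohPull.pullAb`) then apply the counit `f⁻¹ f_* F ⟶ F`.
`E_bijective`: if `R^q f_* F = 0` for all `q > 0` then `E f F p` is bijective for all `p`.
-/

set_option autoImplicit false
universe u
open CategoryTheory CategoryTheory.Limits TopologicalSpace Opposite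

namespace Groth.Agent.Lib.Cohomology.PushEdge

open CohPull Abelian

variable {X Y : TopCat.{u}} (f : X ⟶ Y)

/-- the counit `f⁻¹ f_* F ⟶ F` -/
noncomputable abbrev ε (F : CohTop.Ab X) : (inv f).obj ((CohTop.push f).obj F) ⟶ F :=
  (invPushAdj f).counit.app F

/-- the edge map -/
noncomputable def E (F : CohTop.Ab X) (p : ℕ) :
    Sheaf.H ((CohTop.push f).obj F) p →+ Sheaf.H F p :=
  (Sheaf.H.map (ε f F) p).comp (pullAb f ((CohTop.push f).obj F) p)

lemma E_apply (F : CohTop.Ab X) (p : ℕ) (x : Sheaf.H ((CohTop.push f).obj F) p) :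
    E f F p x = ((Ext.mk₀ (oneTo f)).comp (x.mapExactFunctor (inv f)) (zero_add p)).comp
      (Ext.mk₀ (ε f F)) (add_zero p) := rfl


lemma E_nat {F G : CohTop.Ab X} (g : F ⟶ G) (p : ℕ) (x : Sheaf.H ((CohTop.push f).obj F) p) :
    E f G p (x.comp (Ext.mk₀ ((CohTop.push f).map g)) (add_zero p)) =
      (E f F p x).comp (Ext.mk₀ g) (add_zero p) := by
  rw [E_apply, E_apply, Ext.mapExactFunctor_comp, Ext.mapExactFunctor_mk₀]
  have hn : (inv f).map ((CohTop.push f).map g) ≫ ε f G = ε f F ≫ g :=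
    (invPushAdj f).counit.naturality g
  rw [Ext.comp_assoc_of_third_deg_zero, Ext.comp_assoc_of_third_deg_zero,
    Ext.comp_assoc_of_third_deg_zero, Ext.comp_assoc_of_third_deg_zero, Ext.mk₀_comp_mk₀,
    Ext.mk₀_comp_mk₀, hn]


/-- the counit as a morphism of short complexes `f⁻¹ f_* S ⟶ S` -/
noncomputable def counitSC (S : ShortComplex (CohTop.Ab X)) :
    (S.map (CohTop.push f)).map (inv f) ⟶ S where
  τ₁ := ε f S.X₁
  τ₂ := ε f S.X₂
  τ₃ := ε f S.X₃
  comm₁₂ := ((invPushAdj f).counit.naturality S.f).symm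
  comm₂₃ := ((invPushAdj f).counit.naturality S.g).symm

/-- abstract form of the compatibility with connecting maps -/
lemma delta_aux {B Z₃ Z₁ : CohTop.Ab Y} {A W₃ W₁ : CohTop.Ab X} (o : A ⟶ (inv f).obj B) (p : ℕ)
    (x : Ext.{u} B Z₃ p) (c : Ext.{u} Z₃ Z₁ 1) (c' : Ext.{u} W₃ W₁ 1)
    (e₁ : (inv f).obj Z₁ ⟶ W₁) (e₃ : (inv f).obj Z₃ ⟶ W₃)
    (h : (c.mapExactFunctor (inv f)).comp (Ext.mk₀ e₁) (add_zero 1) =
      (Ext.mk₀ e₃).comp c' (zero_add 1)) :
    ((Ext.mk₀ o).comp ((x.comp c rfl).mapExactFunctor (inv f)) (zero_add (p + 1))).comp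
        (Ext.mk₀ e₁) (add_zero (p + 1)) =
      (((Ext.mk₀ o).comp (x.mapExactFunctor (inv f)) (zero_add p)).comp
        (Ext.mk₀ e₃) (add_zero p)).comp c' rfl := by
  rw [Ext.mapExactFunctor_comp]
  have h1 : ((Ext.mk₀ o).comp
      ((x.mapExactFunctor (inv f)).comp (c.mapExactFunctor (inv f)) rfl)
        (zero_add (p + 1))).comp (Ext.mk₀ e₁) (add_zero (p + 1)) =
      (Ext.mk₀ o).comp ((x.mapExactFunctor (inv f)).comp
        ((c.mapExactFunctor (inv f)).comp (Ext.mk₀ e₁) (add_zero 1)) rfl)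
        (zero_add (p + 1)) := by
    rw [Ext.comp_assoc_of_third_deg_zero, Ext.comp_assoc_of_third_deg_zero]
  have h2 : (((Ext.mk₀ o).comp (x.mapExactFunctor (inv f)) (zero_add p)).comp
      (Ext.mk₀ e₃) (add_zero p)).comp c' rfl =
      (Ext.mk₀ o).comp ((x.mapExactFunctor (inv f)).comp
        ((Ext.mk₀ e₃).comp c' (zero_add 1)) rfl) (zero_add (p + 1)) := by
    rw [Ext.comp_assoc_of_second_deg_zero]
    exact Ext.comp_assoc _ _ _ _ _ (by omega)
  rw [h1, h2, h]

lemma E_delta (S : ShortComplex (CohTop.Ab X)) (hS : S.ShortExact)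
    (hS' : (S.map (CohTop.push f)).ShortExact) (p : ℕ)
    (x : Sheaf.H ((CohTop.push f).obj S.X₃) p) :
    E f S.X₁ (p + 1) (x.comp hS'.extClass rfl) = (E f S.X₃ p x).comp hS.extClass rfl := by
  have hn := ShortComplex.ShortExact.extClass_naturality (hS'.map_of_exact (inv f)) hS
    (counitSC f S)
  rw [← Ext.mapExactFunctor_extClass (inv f) hS'] at hn
  exact delta_aux f (oneTo f) p x hS'.extClass hS.extClass (ε f S.X₁) (ε f S.X₃) hn


/-- in degree zero the edge map is the identity on global sections -/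
lemma equiv₀_E (F : CohTop.Ab X) (s : Sheaf.H ((CohTop.push f).obj F) 0) :
    Sheaf.H.equiv₀ F CategoryTheory.Limits.isTerminalTop (E f F 0 s) =
      Sheaf.H.equiv₀ ((CohTop.push f).obj F) CategoryTheory.Limits.isTerminalTop s := by
  change Sheaf.H.equiv₀ F CategoryTheory.Limits.isTerminalTop (Sheaf.H.map (ε f F) 0
    (pullAb f ((CohTop.push f).obj F) 0 s)) = _
  rw [← Sheaf.H.equiv₀_naturality, equiv₀_pullAb]
  have ht := (invPushAdj f).right_triangle_components F
  have := congr_arg (fun t => (t.hom.app (op ⊤))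
    (Sheaf.H.equiv₀ ((CohTop.push f).obj F) CategoryTheory.Limits.isTerminalTop s)) ht
  simp only [ObjectProperty.FullSubcategory.comp_hom, NatTrans.comp_app,
    ConcreteCategory.comp_apply] at this
  exact this

lemma E_zero_bijective (F : CohTop.Ab X) : Function.Bijective (E f F 0) := by
  have h : ⇑(E f F 0) = (Sheaf.H.equiv₀ F CategoryTheory.Limits.isTerminalTop).symm ∘
      (Sheaf.H.equiv₀ ((CohTop.push f).obj F) CategoryTheory.Limits.isTerminalTop) := by
    funext s
    apply (Sheaf.H.equiv₀ F CategoryTheory.Limits.isTerminalTop).injective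
    rw [equiv₀_E]
    simp
  rw [h]
  exact (Sheaf.H.equiv₀ F CategoryTheory.Limits.isTerminalTop).symm.bijective.comp
    (Sheaf.H.equiv₀ ((CohTop.push f).obj F) CategoryTheory.Limits.isTerminalTop).bijective


open Groth.Agent.Lib.Cohomology.PushAcyclic in
/-- **The Leray edge map is bijective for `f_*`-acyclic sheaves.** -/
theorem E_bijective (F : CohTop.Ab X) (hF : Acyc f F) (p : ℕ) : Function.Bijective (E f F p) := by
  refine Groth.Agent.Lib.Cohomology.EdgeBij.bijective_of_class.{u, u} (CohTop.push f)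
    ((constantSheaf (Opens.grothendieckTopology X) AddCommGrpCat.{u}).obj
      (AddCommGrpCat.of (ULift ℤ)))
    ((constantSheaf (Opens.grothendieckTopology Y) AddCommGrpCat.{u}).obj
      (AddCommGrpCat.of (ULift ℤ)))
    (E f) (fun g p x => E_nat f g p x) (fun S hS hS' p x => E_delta f S hS hS' p x)
    (E_zero_bijective f) ?_ (Acyc f) (acyc_step f) p F hF
  intro I _ m x
  have : Injective ((CohTop.push f).obj I) := Groth.Agent.S0904.result f I
  exact Ext.eq_zero_of_injective x

end Groth.Agent.Lib.Cohomology.PushEdge
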