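import Groth.Agent.Lib.Cohomology.helper5_HHLES
import Mathlib.RingTheory.Noetherian.Basic
import Mathlib.RingTheory.Finiteness.Quotient
import Mathlib.LinearAlgebra.Isomorphisms

/-!
# Skeleton of the finiteness / Serre vanishing theorems for coherent cohomology (helper5)

Abstract descending inductions (Hartshorne III.5.2), with the geometric inputs as hypotheses:

* `finite_of_resolution`: if `H^i` vanishes above `N` on a class `P` of modules, and every `F ∈ P`
  is a quotient `E ↠ F` with kernel in `P` and all `H^i(E)` finite over the Noetherian ring `A`,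
  then all `H^i(F)`, `F ∈ P`, are finite `A`-modules.
* `vanishing_of_resolution`: the same pattern for `H^i(F(d)) = 0`, `i > 0`, `d ≫ 0`, for a family of
  exact twist functors `T d`.
* `subsingleton_of_sum_eq_id`, `finite_of_sum_eq_id`: cohomology of finite direct sums (bicone form).
-/

set_option autoImplicit false
universe u
open CategoryTheory CategoryTheory.Limits AlgebraicGeometry

namespace Groth.Agent.Lib.Cohomology.R3

open HHLES

variable {X : Scheme.{u}}

section sums

variable {E : X.Modules} {r : ℕ} (Ej : Fin r → X.Modules) (ι : ∀ j, Ej j ⟶ E) (π : ∀ j, E ⟶ Ej j)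
  (h : ∑ j, π j ≫ ι j = 𝟙 E)

include h in
lemma eq_sum_hmap (i : ℕ) (x : Coh.HH X E i) : x = ∑ j, hmap (ι j) i (hmap (π j) i x) := by
  have h1 : hmap (∑ j, π j ≫ ι j) i x = x := by rw [h, hmap_id]
  have h2 : ∀ (s : Finset (Fin r)), hmap (∑ j ∈ s, π j ≫ ι j) i x =
      ∑ j ∈ s, hmap (ι j) i (hmap (π j) i x) := by
    intro s
    induction s using Finset.induction_on with
    | empty => simp only [Finset.sum_empty]; exact hmap_zero i x
    | insert a s ha ih =>
      rw [Finset.sum_insert ha, Finset.sum_insert ha, hmap_add, ih, hmap_comp]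
  rw [← h2, h1]

include h in
/-- cohomology of a finite direct sum vanishes if it does for each summand -/
lemma subsingleton_of_sum_eq_id (i : ℕ) (hv : ∀ j, Subsingleton (Coh.HH X (Ej j) i)) :
    Subsingleton (Coh.HH X E i) := by
  refine subsingleton_of_forall_eq 0 fun x => ?_
  rw [eq_sum_hmap Ej ι π h i x]
  refine Finset.sum_eq_zero fun j _ => ?_
  rw [Subsingleton.elim (hmap (π j) i x) 0, map_zero]

variable (A : Type u) [CommRing A] [X.Over (Spec (CommRingCat.of A))]

include h in
/-- cohomology of a finite direct sum is finite if it is for each summand -/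
lemma finite_of_sum_eq_id (i : ℕ) (hv : ∀ j, Module.Finite A (Coh.HH X (Ej j) i)) :
    Module.Finite A (Coh.HH X E i) := by
  let Φ : (∀ j, Coh.HH X (Ej j) i) →ₗ[A] Coh.HH X E i :=
    LinearMap.lsum A _ A (fun j => Canon.HHlin A (ι j) i)
  refine Module.Finite.of_surjective Φ fun x => ⟨fun j => hmap (π j) i x, ?_⟩
  refine Eq.trans ?_ (eq_sum_hmap Ej ι π h i x).symm
  simp only [Φ, LinearMap.lsum_apply, LinearMap.coe_sum, Finset.sum_apply, LinearMap.coe_comp,
    Function.comp_apply, LinearMap.coe_proj, Function.eval]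
  rfl

end sums

section finiteness

variable (A : Type u) [CommRing A] [IsNoetherianRing A] [X.Over (Spec (CommRingCat.of A))]

/-- middle term of an exact sequence of modules over a Noetherian ring with finite ends -/
lemma finite_of_exact {M₁ M₂ M₃ : Type u} [AddCommGroup M₁] [AddCommGroup M₂] [AddCommGroup M₃]
    [Module A M₁] [Module A M₂] [Module A M₃] (f : M₁ →ₗ[A] M₂) (g : M₂ →ₗ[A] M₃)
    (hfg : LinearMap.range f = LinearMap.ker g) [Module.Finite A M₁] [Module.Finite A M₃] :
    Module.Finite A M₂ := by
  have h1 : Module.Finite A (LinearMap.ker g) := by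
    rw [← hfg]
    exact Module.Finite.range f
  have h2 : Module.Finite A (LinearMap.range g) := Module.Finite.of_injective (LinearMap.range g).subtype
    (Submodule.subtype_injective _)
  have h3 : Module.Finite A (M₂ ⧸ LinearMap.ker g) :=
    Module.Finite.equiv g.quotKerEquivRange.symm
  exact Module.Finite.of_submodule_quotient (LinearMap.ker g)

variable (P : X.Modules → Prop) (N : ℕ)
  (hvan : ∀ F, P F → ∀ i, N < i → Subsingleton (Coh.HH X F i))
  (hres : ∀ F, P F → ∃ (E : X.Modules) (g : E ⟶ F), Epi g ∧ P (kernel g) ∧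
    ∀ i, Module.Finite A (Coh.HH X E i))

include hvan hres in
/-- Finiteness of cohomology by descending induction. -/
theorem finite_of_resolution (F : X.Modules) (hF : P F) (i : ℕ) :
    Module.Finite A (Coh.HH X F i) := by
  suffices H : ∀ (k : ℕ) (F : X.Modules), P F → ∀ i, N + 1 ≤ i + k →
      Module.Finite A (Coh.HH X F i) from H (N + 1) F hF i (by omega)
  intro k
  induction k with
  | zero =>
    intro F hF i hi
    have := hvan F hF i (by omega)
    have : Finite (Coh.HH X F i) := Finite.of_subsingleton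
    exact Module.Finite.of_finite
  | succ k ih =>
    intro F hF i hi
    obtain ⟨E, g, hg, hK, hE⟩ := hres F hF
    let S : ShortComplex X.Modules := ShortComplex.mk (kernel.ι g) g (kernel.condition g)
    have hS : S.ShortExact :=
      { exact := ShortComplex.exact_of_f_is_kernel _ (kernelIsKernel g)
        mono_f := inferInstanceAs (Mono (kernel.ι g))
        epi_g := hg }
    have h1 : Module.Finite A (Coh.HH X E i) := hE i
    have h3 : Module.Finite A (Coh.HH X (kernel g) (i + 1)) := ih (kernel g) hK (i + 1) (by omega)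
    exact finite_of_exact A (Canon.HHlin A S.g i) (δlin hS A i) (range_g_eq_ker_δ hS A i)

end finiteness

section vanishing

variable (P : X.Modules → Prop) (N : ℕ) (T : ℤ → X.Modules ⥤ X.Modules)
  [∀ d, (T d).PreservesZeroMorphisms]
  (hT : ∀ (d : ℤ) (S : ShortComplex X.Modules), S.ShortExact → (S.map (T d)).ShortExact)
  (hvan : ∀ F, P F → ∀ i, N < i → ∀ d, Subsingleton (Coh.HH X ((T d).obj F) i))
  (hres : ∀ F, P F → ∃ (E : X.Modules) (g : E ⟶ F), Epi g ∧ P (kernel g) ∧
    ∃ d₀ : ℤ, ∀ d, d₀ ≤ d → ∀ i, 0 < i → Subsingleton (Coh.HH X ((T d).obj E) i))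

include hT hvan hres in
/-- Serre vanishing by descending induction. -/
theorem vanishing_of_resolution (F : X.Modules) (hF : P F) :
    ∃ d₀ : ℤ, ∀ d, d₀ ≤ d → ∀ i, 0 < i → Subsingleton (Coh.HH X ((T d).obj F) i) := by
  suffices H : ∀ (k : ℕ) (F : X.Modules), P F → ∃ d₀ : ℤ, ∀ d, d₀ ≤ d → ∀ i, 0 < i → N + 1 ≤ i + k →
      Subsingleton (Coh.HH X ((T d).obj F) i) by
    obtain ⟨d₀, h⟩ := H (N + 1) F hF
    exact ⟨d₀, fun d hd i hi => h d hd i hi (by omega)⟩
  intro k
  induction k with
  | zero =>
    intro F hF
    exact ⟨0, fun d _ i _ hi => hvan F hF i (by omega) d⟩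
  | succ k ih =>
    intro F hF
    obtain ⟨E, g, hg, hK, d₂, hE⟩ := hres F hF
    obtain ⟨d₁, hK'⟩ := ih (kernel g) hK
    refine ⟨max d₁ d₂, fun d hd i hi hik => ?_⟩
    let S : ShortComplex X.Modules := ShortComplex.mk (kernel.ι g) g (kernel.condition g)
    have hS : S.ShortExact :=
      { exact := ShortComplex.exact_of_f_is_kernel _ (kernelIsKernel g)
        mono_f := inferInstanceAs (Mono (kernel.ι g))
        epi_g := hg }
    have hS' := hT d S hS
    have h1 : Subsingleton (Coh.HH X ((T d).obj E) i) := hE d (le_trans (le_max_right _ _) hd) i hi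
    have h3 : Subsingleton (Coh.HH X ((T d).obj (kernel g)) (i + 1)) :=
      hK' d (le_trans (le_max_left _ _) hd) (i + 1) (by omega) (by omega)
    refine subsingleton_of_forall_eq 0 fun x => ?_
    obtain ⟨y, rfl⟩ := exact₃ hS' i x (h3.elim _ _)
    have hy : y = 0 := h1.elim y 0
    subst hy
    exact map_zero _

end vanishing

end Groth.Agent.Lib.Cohomology.R3
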