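import Groth.Agent.Lib.Cohomology.helper5_ResLE0
import Groth.Agent.Lib.Cohomology.Helper1_ExtPsi

/-!
# `CohPull.resLE` commutes with connecting homomorphisms (helper5)

`resLE_extδ`: for a short complex `S` of `O_X`-modules whose restrictions to `U' ≤ U` are short exact
as abelian sheaves, `resLE S.X₁ h (p+1) (extδ hA p x) = extδ hA' p (resLE S.X₃ h p x)`.
-/

set_option autoImplicit false
universe u
open CategoryTheory AlgebraicGeometry AlgebraicGeometry.Scheme.Modules TopologicalSpace Opposite

namespace Groth.Agent.Lib.Cohomology.ResLE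

section Delta

open Abelian CohCmp

lemma theta_naturality {X Y : Scheme.{u}} (g : X ⟶ Y) {M N : Y.Modules} (a : M ⟶ N) :
    (CohPull.inv g.base).map ((SheafOfModules.toSheaf Y.ringCatSheaf).map a) ≫ CohPull.theta g N =
      CohPull.theta g M ≫
        (SheafOfModules.toSheaf X.ringCatSheaf).map ((Scheme.Modules.pullback g).map a) := by
  unfold CohPull.theta
  rw [← Adjunction.homEquiv_naturality_left_symm, ← Adjunction.homEquiv_naturality_right_symm]
  congr 1
  have e := (pullbackPushforwardAdjunction g).unit.naturality a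
  have l1 : (SheafOfModules.toSheaf Y.ringCatSheaf).map a ≫
      (SheafOfModules.toSheaf Y.ringCatSheaf).map ((pullbackPushforwardAdjunction g).unit.app N) =
      (SheafOfModules.toSheaf Y.ringCatSheaf).map
        (a ≫ (pullbackPushforwardAdjunction g).unit.app N) :=
    ((SheafOfModules.toSheaf Y.ringCatSheaf).map_comp _ _).symm
  have l2 : (SheafOfModules.toSheaf Y.ringCatSheaf).map
        ((pullbackPushforwardAdjunction g).unit.app M) ≫
      (CohTop.push g.base).map ((SheafOfModules.toSheaf X.ringCatSheaf).map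
        ((Scheme.Modules.pullback g).map a)) =
      (SheafOfModules.toSheaf Y.ringCatSheaf).map
        ((pullbackPushforwardAdjunction g).unit.app M ≫
          (pushforward g).map ((Scheme.Modules.pullback g).map a)) :=
    ((SheafOfModules.toSheaf Y.ringCatSheaf).map_comp
      ((pullbackPushforwardAdjunction g).unit.app M)
      ((pushforward g).map ((Scheme.Modules.pullback g).map a))).symm
  exact l1.trans ((congrArg (SheafOfModules.toSheaf Y.ringCatSheaf).map e).trans l2.symm)

variable {X : Scheme.{u}} {U U' : X.Opens} (h : U' ≤ U)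

/-- the comparison of abelian sheaves `r⁻¹(F|_U) ⟶ F|_{U'}` underlying `CohPull.resLE` -/
noncomputable def lam (F : X.Modules) :
    (CohPull.inv (rr h).base).obj ((toAbOn X U).obj F) ⟶ (toAbOn X U').obj F :=
  CohPull.theta (rr h) (F.restrict U.ι) ≫
    (SheafOfModules.toSheaf (U' : Scheme.{u}).ringCatSheaf).map ((kappaNat h).app F)

lemma lam_eq (F : X.Modules) :
    lam h F = CohPull.theta (rr h) (F.restrict U.ι) ≫
      (SheafOfModules.toSheaf (U' : Scheme.{u}).ringCatSheaf).map
        (CohPull.pullOnIso (𝟙 X) U U' (le' h) F).hom ≫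
      (SheafOfModules.toSheaf (U' : Scheme.{u}).ringCatSheaf).map
        ((restrictFunctor U'.ι).map ((pullbackId X).hom.app F)) := by
  unfold lam
  rw [kappaNat_app]
  exact congrArg _ ((SheafOfModules.toSheaf (U' : Scheme.{u}).ringCatSheaf).map_comp _ _)

lemma lam_naturality {F G : X.Modules} (ψ : F ⟶ G) :
    (CohPull.inv (rr h).base).map ((toAbOn X U).map ψ) ≫ lam h G =
      lam h F ≫ (toAbOn X U').map ψ := by
  unfold lam
  have h1 := theta_naturality (rr h) ((restrictFunctor U.ι).map ψ)
  have h2 : (SheafOfModules.toSheaf (U' : Scheme.{u}).ringCatSheaf).map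
        ((Scheme.Modules.pullback (rr h)).map ((restrictFunctor U.ι).map ψ)) ≫
      (SheafOfModules.toSheaf (U' : Scheme.{u}).ringCatSheaf).map ((kappaNat h).app G) =
      (SheafOfModules.toSheaf (U' : Scheme.{u}).ringCatSheaf).map ((kappaNat h).app F) ≫
        (SheafOfModules.toSheaf (U' : Scheme.{u}).ringCatSheaf).map
          ((restrictFunctor U'.ι).map ψ) :=
    (((SheafOfModules.toSheaf (U' : Scheme.{u}).ringCatSheaf).map_comp _ _).symm.trans
      (congrArg (SheafOfModules.toSheaf (U' : Scheme.{u}).ringCatSheaf).map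
        ((kappaNat h).naturality ψ))).trans
      ((SheafOfModules.toSheaf (U' : Scheme.{u}).ringCatSheaf).map_comp _ _)
  calc _ = ((CohPull.inv (rr h).base).map ((SheafOfModules.toSheaf _).map
          ((restrictFunctor U.ι).map ψ)) ≫ CohPull.theta (rr h) (G.restrict U.ι)) ≫
          (SheafOfModules.toSheaf _).map ((kappaNat h).app G) := (Category.assoc _ _ _).symm
    _ = (CohPull.theta (rr h) (F.restrict U.ι) ≫ (SheafOfModules.toSheaf _).map
          ((Scheme.Modules.pullback (rr h)).map ((restrictFunctor U.ι).map ψ))) ≫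
          (SheafOfModules.toSheaf _).map ((kappaNat h).app G) := by rw [h1]
    _ = CohPull.theta (rr h) (F.restrict U.ι) ≫ ((SheafOfModules.toSheaf _).map
          ((Scheme.Modules.pullback (rr h)).map ((restrictFunctor U.ι).map ψ)) ≫
          (SheafOfModules.toSheaf _).map ((kappaNat h).app G)) := Category.assoc _ _ _
    _ = CohPull.theta (rr h) (F.restrict U.ι) ≫
          ((SheafOfModules.toSheaf (U' : Scheme.{u}).ringCatSheaf).map ((kappaNat h).app F) ≫
          (SheafOfModules.toSheaf (U' : Scheme.{u}).ringCatSheaf).map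
            ((restrictFunctor U'.ι).map ψ)) := by rw [h2]
    _ = _ := (Category.assoc _ _ _).symm

lemma resLE_eq (F : X.Modules) (p : ℕ) (x : Coh.HHon X F U p) :
    CohPull.resLE F h p x =
      (Groth.Agent.Lib.Cohomology.ExtPsi.psi (CohPull.inv (rr h).base) (CohPull.oneTo (rr h).base)
        ((toAbOn X U).obj F) p x).comp (Ext.mk₀ (lam h F)) (add_zero p) := by
  simp only [CohPull.resLE, CohPull.pullOn, CohPull.pullMod, AddMonoidHom.coe_comp,
    Function.comp_apply, Sheaf.H.map_apply]
  rw [Ext.comp_assoc_of_third_deg_zero, Ext.comp_assoc_of_third_deg_zero, Ext.mk₀_comp_mk₀,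
    Ext.mk₀_comp_mk₀, lam_eq]
  rfl

/-- **`resLE` commutes with the connecting homomorphisms.** -/
theorem resLE_extδ (S : ShortComplex X.Modules) (hA : (S.map (toAbOn X U)).ShortExact)
    (hA' : (S.map (toAbOn X U')).ShortExact) (p : ℕ) (x : Coh.HHon X S.X₃ U p) :
    CohPull.resLE S.X₁ h (p + 1) (extδ hA p x) = extδ hA' p (CohPull.resLE S.X₃ h p x) := by
  rw [resLE_eq, resLE_eq]
  let φ : (S.map (toAbOn X U)).map (CohPull.inv (rr h).base) ⟶ S.map (toAbOn X U') :=
    { τ₁ := lam h S.X₁
      τ₂ := lam h S.X₂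
      τ₃ := lam h S.X₃
      comm₁₂ := (lam_naturality h S.f).symm
      comm₂₃ := (lam_naturality h S.g).symm }
  have nat := ShortComplex.ShortExact.extClass_naturality
    (hA.map_of_exact (CohPull.inv (rr h).base)) hA' φ
  have e3 := Groth.Agent.Lib.Cohomology.ExtPsi.psi_comp_extClass (CohPull.inv (rr h).base)
    (CohPull.oneTo (rr h).base) hA p x (rfl : p + 1 = p + 1)
  refine (congrArg (fun z => z.comp (Ext.mk₀ (lam h S.X₁)) (add_zero (p + 1))) e3).trans ?_
  have e1 := Ext.comp_assoc (Groth.Agent.Lib.Cohomology.ExtPsi.psi (CohPull.inv (rr h).base)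
      (CohPull.oneTo (rr h).base) ((toAbOn X U).obj S.X₃) p x)
    (hA.map_of_exact (CohPull.inv (rr h).base)).extClass
    (Ext.mk₀ (lam h S.X₁)) (rfl : p + 1 = p + 1) (add_zero 1) (by omega : p + 1 + 0 = p + 1)
  have e2 := Ext.comp_assoc (Groth.Agent.Lib.Cohomology.ExtPsi.psi (CohPull.inv (rr h).base)
      (CohPull.oneTo (rr h).base) ((toAbOn X U).obj S.X₃) p x)
    (Ext.mk₀ (lam h S.X₃)) hA'.extClass (add_zero p) (zero_add 1)
    (by omega : p + 0 + 1 = p + 1)
  exact e1.trans ((congrArg (fun z => (Groth.Agent.Lib.Cohomology.ExtPsi.psi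
    (CohPull.inv (rr h).base) (CohPull.oneTo (rr h).base) ((toAbOn X U).obj S.X₃) p x).comp z _)
    nat).trans e2.symm)

end Delta

end Groth.Agent.Lib.Cohomology.ResLE
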