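import Groth.Prelude.Def_CohCmp

/-!
# `CohPull.resLE` in degree zero (helper5)

`resLE_sectH0`: `CohPull.resLE F h 0 (sectH0 F U s) = sectH0 F U' (s|_{U'})`, via a mates computation for the
comparison `kappaNat : (-)|_U ⋙ r^* ⟶ (-)|_{U'}` used in the definition of `CohPull.resLE`.
`mapH_sectH0`: naturality of `CohPull.sectH0` in the module.
-/

set_option autoImplicit false
universe u
open CategoryTheory CategoryTheory.Limits AlgebraicGeometry AlgebraicGeometry.Scheme.Modules TopologicalSpace Opposite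

namespace Groth.Agent.Lib.Cohomology.ResLE

section Conj

variable {X Y Z : Scheme.{u}}

lemma conj_restrictFunctorIsoPullback_hom (f : X ⟶ Y) [IsOpenImmersion f] :
    conjugateEquiv (pullbackPushforwardAdjunction f) (restrictAdjunction f)
      (restrictFunctorIsoPullback f).hom = 𝟙 _ := by
  simp [restrictFunctorIsoPullback, Adjunction.leftAdjointUniq]

lemma conj_restrictFunctorIsoPullback_inv (f : X ⟶ Y) [IsOpenImmersion f] :
    conjugateEquiv (restrictAdjunction f) (pullbackPushforwardAdjunction f)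
      (restrictFunctorIsoPullback f).inv = 𝟙 _ := by
  simp [restrictFunctorIsoPullback, Adjunction.leftAdjointUniq]

lemma conj_pullbackComp_hom (f : X ⟶ Y) (g : Y ⟶ Z) :
    conjugateEquiv (pullbackPushforwardAdjunction (f ≫ g))
      ((pullbackPushforwardAdjunction g).comp (pullbackPushforwardAdjunction f))
      (pullbackComp f g).hom = (pushforwardComp f g).inv := by
  have h1 := conjugateEquiv_pullbackComp_inv f g
  have h2 := conjugateEquiv_comm (pullbackPushforwardAdjunction (f ≫ g))
    ((pullbackPushforwardAdjunction g).comp (pullbackPushforwardAdjunction f))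
    (α := (pullbackComp f g).hom) (β := (pullbackComp f g).inv) (Iso.inv_hom_id _)
  rw [h1] at h2
  exact (Iso.comp_hom_eq_id _).1 h2

lemma conj_pullbackCongr_app_app {f g : X ⟶ Y} (e : f = g) (M : X.Modules) (V : Y.Opens) :
    ((conjugateEquiv (pullbackPushforwardAdjunction g) (pullbackPushforwardAdjunction f)
      (pullbackCongr e).hom).app M).app V = M.presheaf.map (eqToHom (by rw [e])).op := by
  subst e
  simp [pullbackCongr]

end Conj

section Kappa

variable {X : Scheme.{u}} {U U' : X.Opens} (h : U' ≤ U)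

include h in
lemma le' : U' ≤ (𝟙 X) ⁻¹ᵁ U := by rwa [Scheme.Hom.id_preimage]

/-- the open immersion `U' ⟶ U` used by `CohPull.resLE` -/
noncomputable abbrev rr : (U' : Scheme.{u}) ⟶ (U : Scheme.{u}) :=
  Scheme.Hom.resLE (𝟙 X) U U' (le' h)

lemma rr_comp : rr h ≫ U.ι = U'.ι ≫ 𝟙 X := Scheme.Hom.resLE_comp_ι (𝟙 X) (le' h)

/-- the natural comparison `r^*(F|_U) ⟶ F|_{U'}` underlying `CohPull.resLE` -/
noncomputable def kappaNat : restrictFunctor U.ι ⋙ pullback (rr h) ⟶ restrictFunctor U'.ι :=
  Functor.whiskerRight (restrictFunctorIsoPullback U.ι).hom (pullback (rr h)) ≫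
  (pullbackComp (rr h) U.ι).hom ≫
  (pullbackCongr (rr_comp h)).hom ≫
  (pullbackComp U'.ι (𝟙 X)).inv ≫
  Functor.whiskerLeft (pullback (𝟙 X)) (restrictFunctorIsoPullback U'.ι).inv ≫
  Functor.whiskerRight (pullbackId X).hom (restrictFunctor U'.ι) ≫
  (Functor.leftUnitor _).hom

lemma kappaNat_app (F : X.Modules) :
    (kappaNat h).app F = (CohPull.pullOnIso (𝟙 X) U U' (le' h) F).hom ≫
      (restrictFunctor U'.ι).map ((pullbackId X).hom.app F) := by
  simp [kappaNat, CohPull.pullOnIso]

lemma conj_kappaNat_app_app (M : (U' : Scheme.{u}).Modules) (V : X.Opens) :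
    ((conjugateEquiv (restrictAdjunction U'.ι)
      ((restrictAdjunction U.ι).comp (pullbackPushforwardAdjunction (rr h))) (kappaNat h)).app M).app V =
      M.presheaf.map (eqToHom (by
        change (rr h ≫ U.ι) ⁻¹ᵁ V = _
        rw [rr_comp]; rfl)).op := by
  unfold kappaNat
  rw [← conjugateEquiv_comp _
      ((pullbackPushforwardAdjunction U.ι).comp (pullbackPushforwardAdjunction (rr h))),
    ← conjugateEquiv_comp _ (pullbackPushforwardAdjunction (rr h ≫ U.ι)),
    ← conjugateEquiv_comp _ (pullbackPushforwardAdjunction (U'.ι ≫ 𝟙 X)),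
    ← conjugateEquiv_comp _
      ((pullbackPushforwardAdjunction (𝟙 X)).comp (pullbackPushforwardAdjunction U'.ι)),
    ← conjugateEquiv_comp _
      ((pullbackPushforwardAdjunction (𝟙 X)).comp (restrictAdjunction U'.ι)),
    ← conjugateEquiv_comp _ ((Adjunction.id).comp (restrictAdjunction U'.ι)),
    conjugateEquiv_leftUnitor_hom, conjugateEquiv_whiskerRight, conjugateEquiv_whiskerLeft,
    conjugateEquiv_whiskerRight, conj_restrictFunctorIsoPullback_hom,
    conj_restrictFunctorIsoPullback_inv, conj_pullbackComp_hom, conjugateEquiv_pullbackComp_inv,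
    conjugateEquiv_pullbackId_hom]
  simp only [NatTrans.comp_app, Hom.comp_app, conj_pullbackCongr_app_app]
  simp
  exact Category.id_comp _

end Kappa

section Zero

variable {X : Scheme.{u}} {U U' : X.Opens} (h : U' ≤ U) (F : X.Modules)

/-- the transpose of `kappa` under `r^* ⊣ r_*`, expressed through the conjugate of `kappaNat` -/
lemma unit_map_kappaNat_app :
    (pullbackPushforwardAdjunction (rr h)).unit.app (F.restrict U.ι) ≫
        (pushforward (rr h)).map ((kappaNat h).app F) =
      (restrictFunctor U.ι).map ((restrictAdjunction U'.ι).unit.app F ≫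
        (conjugateEquiv (restrictAdjunction U'.ι)
          ((restrictAdjunction U.ι).comp (pullbackPushforwardAdjunction (rr h)))
          (kappaNat h)).app (F.restrict U'.ι)) ≫
        (restrictAdjunction U.ι).counit.app ((pushforward (rr h)).obj (F.restrict U'.ι)) := by
  have K := unit_conjugateEquiv (restrictAdjunction U'.ι)
    ((restrictAdjunction U.ι).comp (pullbackPushforwardAdjunction (rr h))) (kappaNat h) F
  rw [Adjunction.comp_unit_app] at K
  refine Eq.trans ?_ (Adjunction.homEquiv_counit (restrictAdjunction U.ι) _ _ _)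
  rw [Equiv.eq_symm_apply, Adjunction.homEquiv_unit, K,
    Functor.map_comp, Functor.comp_map, Category.assoc]

include h in
lemma image_top_le : U'.ι ''ᵁ ⊤ ≤ U.ι ''ᵁ ⊤ := by
  rw [U'.ι_image_top, U.ι_image_top]; exact h

lemma tau_app_top (σ : F.presheaf.obj (op (U.ι ''ᵁ ⊤))) :
    ((pullbackPushforwardAdjunction (rr h)).unit.app (F.restrict U.ι) ≫
        (pushforward (rr h)).map ((kappaNat h).app F)).app ⊤ σ =
      F.presheaf.map (homOfLE (image_top_le h)).op σ := by
  rw [unit_map_kappaNat_app]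
  have hmap : ∀ {M N : X.Modules} (φ : M ⟶ N) (W : (U : Scheme.{u}).Opens),
      ((restrictFunctor U.ι).map φ).app W = φ.app (U.ι ''ᵁ W) := fun _ _ => rfl
  simp only [Hom.comp_app, hmap, restrictAdjunction_counit_app_app, restrictAdjunction_unit_app_app,
    conj_kappaNat_app_app]
  rw [restrict_map, pushforward_obj_presheaf_map, restrict_map]
  have key : ∀ {A B C D : X.Opens} (i : op A ⟶ op B) (j : op B ⟶ op C) (k : op C ⟶ op D)
      (l : op A ⟶ op D),
      (F.presheaf.map i ≫ F.presheaf.map j) ≫ F.presheaf.map k = F.presheaf.map l := by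
    intro A B C D i j k l
    rw [← Functor.map_comp, ← Functor.map_comp]
    exact congrArg _ (Subsingleton.elim _ _)
  exact congr($(key (A := U.ι ''ᵁ ⊤) (B := U'.ι ''ᵁ (U'.ι ⁻¹ᵁ (U.ι ''ᵁ ⊤)))
    (C := U'.ι ''ᵁ ((rr h) ⁻¹ᵁ (U.ι ⁻¹ᵁ (U.ι ''ᵁ ⊤)))) (D := U'.ι ''ᵁ ((rr h) ⁻¹ᵁ ⊤)) _ _ _ _) σ)


lemma equiv₀_sectH0 (W : X.Opens) (t : F.presheaf.obj (op W)) :
    Sheaf.H.equiv₀ (Coh.toAb (F.restrict W.ι)) isTerminalTop (CohPull.sectH0 F W t) =
      F.presheaf.map (eqToHom W.ι_image_top).op t := by
  simp only [CohPull.sectH0, AddEquiv.trans_apply, AddEquiv.apply_symm_apply]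
  rfl

lemma map_map_eq {A B B' C : X.Opens} (i : op A ⟶ op B) (j : op B ⟶ op C) (i' : op A ⟶ op B')
    (j' : op B' ⟶ op C) (x : F.presheaf.obj (op A)) :
    F.presheaf.map j (F.presheaf.map i x) = F.presheaf.map j' (F.presheaf.map i' x) := by
  rw [← ConcreteCategory.comp_apply, ← ConcreteCategory.comp_apply, ← Functor.map_comp,
    ← Functor.map_comp, Subsingleton.elim (i ≫ j) (i' ≫ j')]

/-- **degree zero**: `resLE` is the restriction of sections. -/
theorem resLE_sectH0 (s : F.presheaf.obj (op U)) :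
    CohPull.resLE F h 0 (CohPull.sectH0 F U s) =
      CohPull.sectH0 F U' (F.presheaf.map (homOfLE h).op s) := by
  apply (Sheaf.H.equiv₀ (Coh.toAb (F.restrict U'.ι)) isTerminalTop).injective
  rw [equiv₀_sectH0]
  simp only [CohPull.resLE, CohPull.pullOn, AddMonoidHom.coe_comp, Function.comp_apply]
  rw [← Sheaf.H.equiv₀_naturality, ← Sheaf.H.equiv₀_naturality, CohPull.equiv₀_pullMod,
    equiv₀_sectH0]
  have key := tau_app_top h F (F.presheaf.map (eqToHom U.ι_image_top).op s)
  rw [kappaNat_app] at key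
  refine Eq.trans ?_ (key.trans ?_)
  · rfl
  · exact map_map_eq F _ _ _ _ s

/-- `sectH0` is natural in the module. -/
theorem mapH_sectH0 {F G : X.Modules} (ψ : F ⟶ G) (W : X.Opens) (t : F.presheaf.obj (op W)) :
    CohPull.mapH ((restrictFunctor W.ι).map ψ) 0 (CohPull.sectH0 F W t) =
      CohPull.sectH0 G W (ψ.app W t) := by
  apply (Sheaf.H.equiv₀ (Coh.toAb (G.restrict W.ι)) isTerminalTop).injective
  rw [equiv₀_sectH0, ← Sheaf.H.equiv₀_naturality, equiv₀_sectH0]
  exact congr($(ψ.mapPresheaf.naturality (eqToHom W.ι_image_top).op) t)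

end Zero

end Groth.Agent.Lib.Cohomology.ResLE
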