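import Groth.Agent.Lib.Cohomology.helper5_SiteCechSurj

/-!
# Cartan's criterion on a small site (helper5)

`cartan` (S0861): if a class of objects `B` and a class of coverings `Cov` satisfy the usual
stability conditions and `F` has vanishing positive Čech cohomology for all coverings in `Cov`, then
`H^p(U, F) = 0` for all `p > 0` and `U ∈ B`.
-/

set_option autoImplicit false
universe u
open CategoryTheory Opposite CategoryTheory.Limits

namespace Groth.Agent.Lib.Cohomology.SiteLeray

open Groth.Agent.Lib.Cohomology.SiteCech Groth.Agent.Lib.Cohomology.SiteH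
open Groth.Agent.Lib.Cohomology.ExtShift Abelian

variable {C : Type u} [SmallCategory C] [HasPullbacks C] (J : GrothendieckTopology C)
  (B : Set C) (Cov : ∀ (U : C) (ι : Type u), (ι → Over U) → Prop)

/-- Čech-acyclicity with respect to a class of coverings -/
def CechGood (F : Sheaf J AddCommGrpCat.{u}) : Prop :=
  ∀ (U : C) (ι : Type u) (Y : ι → Over U), Cov U ι Y → ∀ p : ℕ,
    IsZero (CohCx.cechH F.obj Y (p + 1))

variable
  (h1 : ∀ (U : C) (ι : Type u) (Y : ι → Over U), Cov U ι Y → U ∈ B ∧
    Sieve.ofArrows (fun i => (Y i).left) (fun i => (Y i).hom) ∈ J U ∧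
    ∀ (p : ℕ) (a : Fin (p + 1) → ι), (inter Y a).left ∈ B)
  (h2 : ∀ U ∈ B, ∀ T ∈ J U, ∃ (ι : Type u) (Y : ι → Over U), Cov U ι Y ∧ ∀ i, T.arrows (Y i).hom)

variable {J B Cov}

include h1 h2 in
/-- sections of the injective hull surject onto sections of the quotient over members of `B` -/
lemma CechGood.surj {F : Sheaf J AddCommGrpCat.{u}} (hF : CechGood J Cov F) (U : C) (hU : U ∈ B) :
    Function.Surjective ((injSES F).g.hom.app (op U)) := by
  intro t
  have hS := injSES_shortExact F
  have hepi : Epi (injSES F).g := hS.epi_g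
  have hloc : Presheaf.IsLocallySurjective J (injSES F).g.hom :=
    (Sheaf.isLocallySurjective_iff_epi' (φ := (injSES F).g)).2 hepi
  have hT : Presheaf.imageSieve (injSES F).g.hom t ∈ J U :=
    Presheaf.imageSieve_mem J (injSES F).g.hom t
  obtain ⟨ι, Y, hY, hYT⟩ := h2 U hU _ hT
  exact exists_lift_of_cechH1 Y hS (h1 U ι Y hY).2.1 t hYT (hF U ι Y hY 0)

include h1 h2 in
/-- the quotient of a Čech-good sheaf by its injective hull is Čech-good -/
lemma CechGood.quot {F : Sheaf J AddCommGrpCat.{u}} (hF : CechGood J Cov F) :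
    CechGood J Cov (injSES F).X₃ := by
  intro U ι Y hY p
  have hS := injSES_shortExact F
  have hses : (cechSC Y (injSES F)).ShortExact :=
    cechSC_shortExact_of_surjective Y hS
      (fun n i => hF.surj h1 h2 _ ((h1 U ι Y hY).2.2 n i))
  have e := hses.δIso (p + 1) (p + 2) rfl (isZero_cechH_mid F p) (isZero_cechH_mid F (p + 1))
  exact IsZero.of_iso (hF U ι Y hY (p + 1)) e

include h1 h2 in
/-- Cartan's criterion. -/
theorem cartan (p : ℕ) : ∀ (F : Sheaf J AddCommGrpCat.{u}), CechGood J Cov F →
    ∀ U ∈ B, Subsingleton (CohSite.HU F (p + 1) U) := by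
  induction p with
  | zero =>
    intro F hF U hU
    have hS := injSES_shortExact F
    refine subsingleton_of_forall_eq 0 fun y => ?_
    obtain ⟨t, rfl⟩ := sectδ_surjective hS U y
    obtain ⟨s, rfl⟩ := hF.surj h1 h2 U hU t
    have : ((injSES F).g.hom.app (op U)).hom s ∈ (sectδ hS U).ker := by
      rw [sectδ_ker]
      exact ⟨s, rfl⟩
    exact this
  | succ p ih =>
    intro F hF U hU
    have hS := injSES_shortExact F
    have hQ : Subsingleton (Abelian.Ext.{u} (zz J U) (injSES F).X₃ (p + 1)) :=
      ih (injSES F).X₃ (hF.quot h1 h2) U hU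
    have hsurj := extδ_surjective hS (zz J U) (p + 1) (fun x => Ext.eq_zero_of_injective x)
    exact hsurj.subsingleton

end Groth.Agent.Lib.Cohomology.SiteLeray
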