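import Mathlib.CategoryTheory.Sites.SheafCohomology.Cech
import Mathlib.CategoryTheory.Limits.Shapes.ConcreteCategory
import Mathlib.Algebra.Category.Grp.Limits
import Mathlib.Algebra.Category.Grp.Abelian
import Mathlib.Algebra.Homology.ShortComplex.Ab
import Mathlib.Algebra.Homology.ShortComplex.HomologicalComplex
import Mathlib.Tactic

/-!
# Element-level API for Mathlib's Čech complex in a category with finite products (helper5)

Generalises helper4's `Helper4_Cech` (opens of a space) to an arbitrary category `E` with finite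
products (e.g. `Over U` in a category with pullbacks), a family `Y : ι → E` and a presheaf
`Q : Eᵒᵖ ⥤ AddCommGrpCat`.
-/

universe w v₁ u₁
open CategoryTheory Opposite CategoryTheory.Limits Simplicial

namespace Groth.Agent.Lib.Cohomology.SiteCech

/-- Elements of a product of abelian groups are families. -/
noncomputable def piAddEquiv {J : Type w} (F : J → AddCommGrpCat.{w}) :
    (∏ᶜ F : AddCommGrpCat.{w}) ≃+ (∀ j, F j) where
  toEquiv := Concrete.productEquiv F
  map_add' x y := by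
    funext j
    simp [Concrete.productEquiv_apply_apply]

@[simp] lemma piAddEquiv_apply {J : Type w} (F : J → AddCommGrpCat.{w})
    (x : (∏ᶜ F : AddCommGrpCat.{w})) (j : J) : piAddEquiv F x j = Pi.π F j x :=
  Concrete.productEquiv_apply_apply _ _ _

@[simp] lemma π_piAddEquiv_symm {J : Type w} (F : J → AddCommGrpCat.{w})
    (x : ∀ j, F j) (j : J) : Pi.π F j ((piAddEquiv F).symm x) = x j :=
  Concrete.productEquiv_symm_apply_π _ _ _

variable {E : Type u₁} [Category.{v₁} E] [HasFiniteProducts E]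
  (Q : Eᵒᵖ ⥤ AddCommGrpCat.{w}) {ι : Type w} (Y : ι → E)

/-- The object attached to a tuple of indices: the product of the `Y (i a)`. -/
noncomputable abbrev inter {n : ℕ} (i : Fin (n + 1) → ι) : E := ∏ᶜ (Y ∘ i)

/-- The face morphism forgetting the `k`-th factor. -/
noncomputable def faceHom {n : ℕ} (i : Fin (n + 2) → ι) (k : Fin (n + 2)) :
    inter Y i ⟶ inter Y (i ∘ k.succAbove) :=
  Pi.lift (fun b => Pi.π (Y ∘ i) (k.succAbove b))

@[reassoc (attr := simp)]
lemma faceHom_π {n : ℕ} (i : Fin (n + 2) → ι) (k : Fin (n + 2)) (b : Fin (n + 1)) :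
    faceHom Y i k ≫ Pi.π (Y ∘ (i ∘ k.succAbove)) b = Pi.π (Y ∘ i) (k.succAbove b) :=
  Pi.lift_π _ _

/-- The group of Čech `n`-cochains, as a pi type. -/
abbrev Coch (n : ℕ) : Type w := ∀ i : Fin (n + 1) → ι, Q.obj (op (inter Y i))

/-- The Čech complex (Mathlib's) of the presheaf `Q` for the family `Y`. -/
noncomputable abbrev cx : CochainComplex AddCommGrpCat.{w} ℕ := (cechComplexFunctor Y).obj Q

/-- Projection of a cochain to its `i`-th component. -/
noncomputable def proj (n : ℕ) (i : Fin (n + 1) → ι) : (cx Q Y).X n ⟶ Q.obj (op (inter Y i)) :=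
  Pi.π (fun i : Fin (n + 1) → ι => Q.obj (op (inter Y i))) i

/-- Cochains are functions. -/
noncomputable def cochEquiv (n : ℕ) : (cx Q Y).X n ≃+ Coch Q Y n :=
  piAddEquiv (fun i : Fin (n + 1) → ι => Q.obj (op (inter Y i)))

@[simp] lemma cochEquiv_apply (n : ℕ) (c : (cx Q Y).X n) (i : Fin (n + 1) → ι) :
    cochEquiv Q Y n c i = proj Q Y n i c :=
  piAddEquiv_apply _ _ _

@[simp] lemma proj_cochEquiv_symm (n : ℕ) (c : Coch Q Y n) (i : Fin (n + 1) → ι) :
    proj Q Y n i ((cochEquiv Q Y n).symm c) = c i :=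
  π_piAddEquiv_symm _ _ _

lemma cx_ext {n : ℕ} {c c' : (cx Q Y).X n} (h : ∀ i, proj Q Y n i c = proj Q Y n i c') : c = c' := by
  apply (cochEquiv Q Y n).injective
  funext i
  simpa using h i

/-- The `k`-th coface restriction. -/
noncomputable def face {n : ℕ} (i : Fin (n + 2) → ι) (k : Fin (n + 2)) :
    Q.obj (op (inter Y (i ∘ k.succAbove))) ⟶ Q.obj (op (inter Y i)) :=
  Q.map (faceHom Y i k).op

/-- The cosimplicial object underlying the Čech complex. -/
noncomputable abbrev cosimp : CosimplicialObject AddCommGrpCat.{w} :=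
  (FormalCoproduct.cosimplicialObjectFunctor (FormalCoproduct.mk _ Y).cech).obj Q

lemma cx_eq : cx Q Y = AlgebraicTopology.AlternatingCofaceMapComplex.obj (cosimp Q Y) := rfl

set_option backward.isDefEq.respectTransparency false in
lemma objD_comp {C : Type*} [Category C] [Preadditive C] (Z' : CosimplicialObject C) (n : ℕ)
    {Z : C} (g : Z'.obj ⦋n + 1⦌ ⟶ Z) :
    (AlgebraicTopology.AlternatingCofaceMapComplex.obj Z').d n (n + 1) ≫ g =
      ∑ k : Fin (n + 2), (-1 : ℤ) ^ (k : ℕ) • (Z'.δ k ≫ g) := by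
  simp only [AlgebraicTopology.AlternatingCofaceMapComplex.obj, CochainComplex.of_d,
    AlgebraicTopology.AlternatingCofaceMapComplex.objD]
  rw [Preadditive.sum_comp]
  refine Finset.sum_congr rfl fun k _ => ?_
  rw [Preadditive.zsmul_comp]

/-- projection, typed on the cosimplicial object -/
noncomputable def π' (n : ℕ) (i : Fin (n + 1) → ι) :
    (cosimp Q Y).obj ⦋n⦌ ⟶ Q.obj (op (inter Y i)) :=
  Pi.π (fun i : Fin (n + 1) → ι => Q.obj (op (inter Y i))) i

lemma cosimp_δ_π {n : ℕ} (k : Fin (n + 2)) (i : Fin (n + 2) → ι) :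
    (cosimp Q Y).δ k ≫ π' Q Y (n + 1) i = π' Q Y n (i ∘ k.succAbove) ≫ face Q Y i k := by
  dsimp [CosimplicialObject.δ, cosimp, FormalCoproduct.cosimplicialObjectFunctor, π']
  erw [Pi.lift_π]
  rfl

lemma d_proj (n : ℕ) (i : Fin (n + 2) → ι) :
    (cx Q Y).d n (n + 1) ≫ proj Q Y (n + 1) i =
      ∑ k : Fin (n + 2), (-1 : ℤ) ^ (k : ℕ) • (proj Q Y n (i ∘ k.succAbove) ≫ face Q Y i k) := by
  have := objD_comp (cosimp Q Y) n (π' Q Y (n + 1) i)
  simp only [cosimp_δ_π] at this
  exact this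

lemma hom_sum_apply {A B : AddCommGrpCat.{w}} {κ : Type*} (s : Finset κ) (f : κ → (A ⟶ B))
    (x : A) : (∑ k ∈ s, f k) x = ∑ k ∈ s, f k x := by
  classical
  induction s using Finset.induction_on with
  | empty => simp
  | insert a s ha ih =>
    rw [Finset.sum_insert ha, Finset.sum_insert ha, AddCommGrpCat.hom_add_apply, ih]

lemma hom_zsmul_apply {A B : AddCommGrpCat.{w}} (m : ℤ) (f : A ⟶ B) (x : A) :
    (m • f) x = m • f x := rfl

lemma proj_d_apply (n : ℕ) (c : (cx Q Y).X n) (i : Fin (n + 2) → ι) :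
    proj Q Y (n + 1) i ((cx Q Y).d n (n + 1) c) =
      ∑ k : Fin (n + 2), (-1 : ℤ) ^ (k : ℕ) • face Q Y i k (proj Q Y n (i ∘ k.succAbove) c) := by
  rw [← ConcreteCategory.comp_apply, d_proj, hom_sum_apply]
  refine Finset.sum_congr rfl fun k _ => ?_
  rw [hom_zsmul_apply, ConcreteCategory.comp_apply]

/-- Vanishing of Čech cohomology in degree `n+1`: every cocycle is a coboundary. -/
lemma isZero_homology_succ_iff (n : ℕ) :
    IsZero ((cx Q Y).homology (n + 1)) ↔
      ∀ c : (cx Q Y).X (n + 1), (cx Q Y).d (n + 1) (n + 2) c = 0 →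
        ∃ b : (cx Q Y).X n, (cx Q Y).d n (n + 1) b = c := by
  rw [← HomologicalComplex.exactAt_iff_isZero_homology,
    HomologicalComplex.exactAt_iff' (cx Q Y) n (n + 1) (n + 2) (by simp) (by simp),
    ShortComplex.ab_exact_iff]
  rfl

variable {Q} in
lemma map_proj {Q' : Eᵒᵖ ⥤ AddCommGrpCat.{w}} (φ : Q ⟶ Q') (n : ℕ) (i : Fin (n + 1) → ι) :
    ((cechComplexFunctor Y).map φ).f n ≫ proj Q' Y n i =
      proj Q Y n i ≫ φ.app (op (inter Y i)) := by
  exact Pi.map_π (fun i : Fin (n + 1) → ι => φ.app (op (inter Y i))) i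

variable {Q} in
lemma map_proj_apply {Q' : Eᵒᵖ ⥤ AddCommGrpCat.{w}} (φ : Q ⟶ Q') (n : ℕ)
    (i : Fin (n + 1) → ι) (c : (cx Q Y).X n) :
    proj Q' Y n i (((cechComplexFunctor Y).map φ).f n c) = φ.app (op (inter Y i)) (proj Q Y n i c) := by
  rw [← ConcreteCategory.comp_apply, map_proj, ConcreteCategory.comp_apply]

/-- If `Q` is a retract of `G` and the Čech cohomology of `G` vanishes in degree `n`, so does
that of `Q`. -/
lemma isZero_homology_of_retract {G : Eᵒᵖ ⥤ AddCommGrpCat.{w}} (η : Q ⟶ G) (ρ : G ⟶ Q)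
    (h : η ≫ ρ = 𝟙 Q) (n : ℕ) (h0 : IsZero ((cx G Y).homology n)) :
    IsZero ((cx Q Y).homology n) := by
  let F := cechComplexFunctor Y ⋙ HomologicalComplex.homologyFunctor AddCommGrpCat.{w} _ n
  have : IsZero (F.obj Q) := by
    rw [IsZero.iff_id_eq_zero, ← F.map_id, ← h, F.map_comp]
    have h0' : IsZero (F.obj G) := h0
    rw [h0'.eq_of_tgt (F.map η) 0, zero_comp]
  exact this

end Groth.Agent.Lib.Cohomology.SiteCech
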