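import Groth.Agent.Lib.Cohomology.helper5_SiteCech
import Mathlib.Algebra.Homology.HomologicalComplexAbelian

/-!
# Evaluation API for Čech cochains in a category with finite products (helper5)

`ev Q Y m W σ c`: for a cochain `c ∈ Č^m(Y, Q)`, an object `W` and a tuple
`σ : Fin (m+1) → Σ j, (W ⟶ Y j)`, the restriction to `W` of the component of `c` at the indices of
`σ` along the induced map `W ⟶ ∏ Y (σ k).1`.  With this encoding all the face identities are
equalities of non-dependent functions.  Also: short exact sequences of Čech complexes.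
-/

universe w v₁ u₁
open CategoryTheory Opposite CategoryTheory.Limits

namespace Groth.Agent.Lib.Cohomology.SiteCech

variable {E : Type u₁} [Category.{v₁} E] [HasFiniteProducts E]
  (Q : Eᵒᵖ ⥤ AddCommGrpCat.{w}) {ι : Type w} (Y : ι → E)

/-- Pairs (index, map to the corresponding member of the family). -/
abbrev Tup (W : E) : Type (max w v₁) := Σ j : ι, (W ⟶ Y j)

/-- the map into the product attached to a tuple -/
noncomputable abbrev tupLift {m : ℕ} {W : E} (σ : Fin (m + 1) → Tup Y W) :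
    W ⟶ inter Y (fun k => (σ k).1) :=
  Pi.lift (fun k => (σ k).2)

/-- Evaluation of a cochain at an object `W` and a tuple of maps `W ⟶ Y (j k)`. -/
noncomputable def ev (m : ℕ) (W : E) (σ : Fin (m + 1) → Tup Y W) :
    (cx Q Y).X m →+ Q.obj (op W) :=
  (Q.map (tupLift Y σ).op).hom.comp (proj Q Y m (fun k => (σ k).1)).hom

lemma ev_apply (m : ℕ) (W : E) (σ : Fin (m + 1) → Tup Y W) (c : (cx Q Y).X m) :
    ev Q Y m W σ c = Q.map (tupLift Y σ).op (proj Q Y m (fun k => (σ k).1) c) := rfl

/-- the identity tuple of a product -/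
noncomputable abbrev tupId {m : ℕ} (i : Fin (m + 1) → ι) : Fin (m + 1) → Tup Y (inter Y i) :=
  fun k => ⟨i k, Pi.π (Y ∘ i) k⟩

lemma ev_tupId (m : ℕ) (i : Fin (m + 1) → ι) (c : (cx Q Y).X m) :
    ev Q Y m (inter Y i) (tupId Y i) c = proj Q Y m i c := by
  have h : (Pi.lift (fun k => Pi.π (Y ∘ i) k) : inter Y i ⟶ inter Y i) = 𝟙 (inter Y i) := by
    apply Pi.hom_ext
    intro k
    exact (Pi.lift_π _ _).trans (Category.id_comp _).symm
  change Q.map (Pi.lift (fun k => Pi.π (Y ∘ i) k) : inter Y i ⟶ inter Y i).op (proj Q Y m i c) = _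
  rw [h, op_id, Q.map_id]
  rfl

/-- precomposition of a tuple with a morphism -/
def tupComp {m : ℕ} {W W' : E} (g : W' ⟶ W) (σ : Fin (m + 1) → Tup Y W) :
    Fin (m + 1) → Tup Y W' := fun k => ⟨(σ k).1, g ≫ (σ k).2⟩

lemma ev_map (m : ℕ) {W W' : E} (g : W' ⟶ W) (σ : Fin (m + 1) → Tup Y W) (c : (cx Q Y).X m) :
    Q.map g.op (ev Q Y m W σ c) = ev Q Y m W' (tupComp Y g σ) c := by
  rw [ev_apply, ev_apply, ← ConcreteCategory.comp_apply, ← Q.map_comp, ← op_comp]
  have : g ≫ tupLift Y σ = tupLift Y (tupComp Y g σ) := by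
    apply Pi.hom_ext
    intro k
    rw [Category.assoc]
    have h1 := Pi.lift_π (f := Y ∘ (fun k => (σ k).1)) (fun k => (σ k).2) k
    have h2 := Pi.lift_π (f := Y ∘ (fun k => (σ k).1)) (fun k => (tupComp Y g σ k).2) k
    exact (congrArg (g ≫ ·) h1).trans h2.symm
  rw [this]
  rfl

lemma cx_ext_ev {m : ℕ} {c c' : (cx Q Y).X m}
    (h : ∀ (W : E) (σ : Fin (m + 1) → Tup Y W), ev Q Y m W σ c = ev Q Y m W σ c') : c = c' := by
  apply cx_ext
  intro i
  rw [← ev_tupId, ← ev_tupId, h]

lemma ev_d (m : ℕ) (W : E) (σ : Fin (m + 2) → Tup Y W) (c : (cx Q Y).X m) :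
    ev Q Y (m + 1) W σ ((cx Q Y).d m (m + 1) c) =
      ∑ k : Fin (m + 2), (-1 : ℤ) ^ (k : ℕ) • ev Q Y m W (σ ∘ k.succAbove) c := by
  rw [ev_apply, proj_d_apply, map_sum]
  refine Finset.sum_congr rfl fun k _ => ?_
  rw [map_zsmul, ev_apply]
  congr 1
  change (Q.map _) ((Q.map _) _) = _
  rw [← ConcreteCategory.comp_apply, ← Q.map_comp, ← op_comp]
  have : tupLift Y σ ≫ faceHom Y (fun k => (σ k).1) k = tupLift Y (σ ∘ k.succAbove) := by
    apply Pi.hom_ext
    intro b
    rw [Category.assoc, faceHom_π]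
    have h1 := Pi.lift_π (f := Y ∘ (fun k => (σ k).1)) (fun k => (σ k).2) (k.succAbove b)
    have h2 := Pi.lift_π (f := Y ∘ ((fun k => (σ k).1) ∘ k.succAbove))
      (fun b => ((σ ∘ k.succAbove) b).2) b
    exact h1.trans h2.symm
  rw [this]
  rfl

variable {Q} in
lemma ev_naturality {Q' : Eᵒᵖ ⥤ AddCommGrpCat.{w}} (φ : Q ⟶ Q') (m : ℕ) (W : E)
    (σ : Fin (m + 1) → Tup Y W) (c : (cx Q Y).X m) :
    ev Q' Y m W σ (((cechComplexFunctor Y).map φ).f m c) = φ.app (op W) (ev Q Y m W σ c) := by
  rw [ev_apply, ev_apply, map_proj_apply]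
  exact (ConcreteCategory.congr_hom (φ.naturality (tupLift Y σ).op) _).symm

instance preservesZeroMorphisms_cechComplexFunctor :
    (cechComplexFunctor (A := AddCommGrpCat.{w}) Y).PreservesZeroMorphisms where
  map_zero P P' := by
    ext n : 1
    have key : ∀ i : Fin (n + 1) → ι, ((cechComplexFunctor Y).map (0 : P ⟶ P')).f n ≫ proj P' Y n i =
        (0 : (cx P Y).X n ⟶ (cx P' Y).X n) ≫ proj P' Y n i := by
      intro i
      rw [map_proj, zero_comp, NatTrans.app_zero, comp_zero]
    exact Pi.hom_ext _ _ key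

/-- Short exactness of the Čech complexes of a short complex of presheaves which is short exact on
sections over all finite products of members of the family. -/
theorem cechSC_shortExact (T : ShortComplex (Eᵒᵖ ⥤ AddCommGrpCat.{w}))
    (hinj : ∀ (n : ℕ) (i : Fin (n + 1) → ι), Function.Injective (T.f.app (op (inter Y i))))
    (hex : ∀ (n : ℕ) (i : Fin (n + 1) → ι) (x : T.X₂.obj (op (inter Y i))),
      T.g.app (op (inter Y i)) x = 0 → ∃ t, T.f.app (op (inter Y i)) t = x)
    (hsurj : ∀ (n : ℕ) (i : Fin (n + 1) → ι), Function.Surjective (T.g.app (op (inter Y i)))) :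
    (T.map (cechComplexFunctor Y)).ShortExact := by
  apply HomologicalComplex.shortExact_of_degreewise_shortExact
  intro n
  refine ShortComplex.ShortExact.mk' ?_ ?_ ?_
  · rw [ShortComplex.ab_exact_iff]
    intro c hc
    have h1 : ∀ i : Fin (n + 1) → ι, ∃ t : T.X₁.obj (op (inter Y i)),
        T.f.app (op (inter Y i)) t = proj T.X₂ Y n i c := by
      intro i
      apply hex n i
      have h0 : proj T.X₃ Y n i (((cechComplexFunctor Y).map T.g).f n c) = 0 := by
        have := congrArg (proj T.X₃ Y n i) hc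
        exact this.trans (map_zero _)
      rw [← h0]
      exact (map_proj_apply Y T.g n i c).symm
    choose t ht using h1
    refine ⟨(cochEquiv T.X₁ Y n).symm t, ?_⟩
    apply cx_ext
    intro i
    refine (map_proj_apply Y T.f n i _).trans ?_
    rw [proj_cochEquiv_symm, ht]
  · rw [AddCommGrpCat.mono_iff_injective]
    intro c c' hcc
    apply cx_ext
    intro i
    apply hinj n i
    have := congrArg (proj T.X₂ Y n i) hcc
    exact (map_proj_apply Y T.f n i c).symm.trans (this.trans (map_proj_apply Y T.f n i c'))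
  · rw [AddCommGrpCat.epi_iff_surjective]
    intro c
    have h1 : ∀ i : Fin (n + 1) → ι, ∃ t : T.X₂.obj (op (inter Y i)),
        T.g.app (op (inter Y i)) t = proj T.X₃ Y n i c := fun i => hsurj n i _
    choose t ht using h1
    refine ⟨(cochEquiv T.X₂ Y n).symm t, ?_⟩
    apply cx_ext
    intro i
    refine (map_proj_apply Y T.g n i _).trans ?_
    rw [proj_cochEquiv_symm, ht]

end Groth.Agent.Lib.Cohomology.SiteCech
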