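import Groth.Agent.Lib.Cohomology.helper5_SiteCech
import Mathlib.CategoryTheory.Limits.Preserves.Shapes.Products
import Mathlib.CategoryTheory.Limits.Preserves.Finite

/-!
# The Čech complex and functors preserving finite products (helper5)

For `v : E ⥤ E'` preserving finite products, a presheaf `Q'` on `E'` and a family `Y` in `E`, the
Čech complex of `v.op ⋙ Q'` for `Y` is isomorphic to the Čech complex of `Q'` for `v ∘ Y`.
-/

universe w v₁ u₁ v₂ u₂
open CategoryTheory Opposite CategoryTheory.Limits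

namespace Groth.Agent.Lib.Cohomology.SiteCech

variable {E : Type u₁} [Category.{v₁} E] [HasFiniteProducts E]
  {E' : Type u₂} [Category.{v₂} E'] [HasFiniteProducts E']
  (v : E ⥤ E') [PreservesFiniteProducts v]
  (Q' : E'ᵒᵖ ⥤ AddCommGrpCat.{w}) {ι : Type w} (Y : ι → E)

/-- the image family -/
abbrev imgFam : ι → E' := fun j => v.obj (Y j)

/-- comparison iso `v (∏ Y∘i) ≅ ∏ (vY)∘i` -/
noncomputable def cmpIso {n : ℕ} (i : Fin (n + 1) → ι) :
    v.obj (inter Y i) ≅ inter (imgFam v Y) i :=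
  PreservesProduct.iso v (Y ∘ i)

lemma cmpIso_hom_π {n : ℕ} (i : Fin (n + 1) → ι) (k : Fin (n + 1)) :
    (cmpIso v Y i).hom ≫ Pi.π (imgFam v Y ∘ i) k = v.map (Pi.π (Y ∘ i) k) := by
  rw [cmpIso, PreservesProduct.iso_hom]
  exact piComparison_comp_π v (Y ∘ i) k

lemma map_faceHom_cmpIso {n : ℕ} (i : Fin (n + 2) → ι) (k : Fin (n + 2)) :
    v.map (faceHom Y i k) ≫ (cmpIso v Y (i ∘ k.succAbove)).hom =
      (cmpIso v Y i).hom ≫ faceHom (imgFam v Y) i k := by
  apply Pi.hom_ext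
  intro b
  rw [Category.assoc, Category.assoc, faceHom_π]
  have h1 := cmpIso_hom_π v Y (i ∘ k.succAbove) b
  have h2 := cmpIso_hom_π v Y i (k.succAbove b)
  rw [h2]
  refine (congrArg (v.map (faceHom Y i k) ≫ ·) h1).trans ?_
  rw [← v.map_comp, faceHom_π]

/-- degreewise comparison -/
noncomputable def cmpX (n : ℕ) : (cx (v.op ⋙ Q') Y).X n ≅ (cx Q' (imgFam v Y)).X n :=
  Pi.mapIso (fun i : Fin (n + 1) → ι => Q'.mapIso (cmpIso v Y i).op.symm)

lemma cmpX_hom_proj (n : ℕ) (i : Fin (n + 1) → ι) :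
    (cmpX v Q' Y n).hom ≫ proj Q' (imgFam v Y) n i =
      proj (v.op ⋙ Q') Y n i ≫ Q'.map (cmpIso v Y i).inv.op := by
  exact Pi.map_π (fun i : Fin (n + 1) → ι => Q'.map (cmpIso v Y i).inv.op) i

lemma face_cmp {n : ℕ} (i : Fin (n + 2) → ι) (k : Fin (n + 2)) :
    face (v.op ⋙ Q') Y i k ≫ Q'.map (cmpIso v Y i).inv.op =
      Q'.map (cmpIso v Y (i ∘ k.succAbove)).inv.op ≫ face Q' (imgFam v Y) i k := by
  change Q'.map (v.map (faceHom Y i k)).op ≫ _ = _ ≫ Q'.map (faceHom (imgFam v Y) i k).op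
  rw [← Q'.map_comp, ← Q'.map_comp, ← op_comp, ← op_comp]
  congr 2
  rw [Iso.inv_comp_eq, ← Category.assoc, Iso.eq_comp_inv]
  exact map_faceHom_cmpIso v Y i k

/-- The Čech complex of `v.op ⋙ Q'` for `Y` is the Čech complex of `Q'` for `v ∘ Y`. -/
noncomputable def cxCmpIso : cx (v.op ⋙ Q') Y ≅ cx Q' (imgFam v Y) :=
  HomologicalComplex.Hom.isoOfComponents (fun n => cmpX v Q' Y n) (by
    intro n m hnm
    obtain rfl : n + 1 = m := hnm
    apply Pi.hom_ext
    intro i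
    change (_ ≫ _) ≫ proj Q' (imgFam v Y) (n + 1) i = (_ ≫ _) ≫ proj Q' (imgFam v Y) (n + 1) i
    rw [Category.assoc, Category.assoc, d_proj, cmpX_hom_proj, ← Category.assoc, d_proj,
      Preadditive.sum_comp, Preadditive.comp_sum]
    refine Finset.sum_congr rfl fun k _ => ?_
    rw [Preadditive.zsmul_comp, Preadditive.comp_zsmul, Category.assoc, face_cmp,
      ← Category.assoc, ← Category.assoc, cmpX_hom_proj])

lemma isZero_homology_iff (n : ℕ) :
    IsZero ((cx (v.op ⋙ Q') Y).homology n) ↔ IsZero ((cx Q' (imgFam v Y)).homology n) :=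
  Iso.isZero_iff ((HomologicalComplex.homologyFunctor _ _ n).mapIso (cxCmpIso v Q' Y))

end Groth.Agent.Lib.Cohomology.SiteCech
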