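import Groth.Agent.Lib.Cohomology.helper5_SiteCech
import Mathlib.CategoryTheory.Preadditive.Injective.Basic

/-!
# Čech acyclicity of "God presheaves" on a small category with finite products (helper5)

For a presheaf `Q` on a small category `E` with finite products, `GodE Q` is the presheaf
`W ↦ ∏_{V, f : V ⟶ W} Q(V)`.  Its Čech complex with respect to any family is exact in positive
degrees (explicit contraction), hence the same holds for any retract of `GodE Q`.
-/

universe w
open CategoryTheory Opposite CategoryTheory.Limits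

namespace Groth.Agent.Lib.Cohomology.SiteCech

variable {E : Type w} [Category.{w} E] (Q : Eᵒᵖ ⥤ AddCommGrpCat.{w})

/-- The presheaf `W ↦ ∏_{V, f : V ⟶ W} Q(V)`. -/
def GodE : Eᵒᵖ ⥤ AddCommGrpCat.{w} where
  obj W := AddCommGrpCat.of (∀ (V : E) (_ : V ⟶ W.unop), Q.obj (op V))
  map g := AddCommGrpCat.ofHom
    { toFun := fun s V f => s V (f ≫ g.unop)
      map_zero' := rfl
      map_add' := fun _ _ => rfl }
  map_id W := by
    ext s V f
    exact congrArg (s V) (Category.comp_id f)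
  map_comp g h := by
    ext s V f
    exact congrArg (s V) (Category.assoc f h.unop g.unop).symm

lemma GodE_map_apply {W W' : Eᵒᵖ} (g : W ⟶ W') (s : (GodE Q).obj W) (V : E) (f : V ⟶ W'.unop) :
    ((GodE Q).map g s) V f = s V (f ≫ g.unop) := rfl

/-- The canonical map `Q ⟶ GodE Q`. -/
def toGodE : Q ⟶ GodE Q where
  app W := AddCommGrpCat.ofHom
    { toFun := fun s V f => Q.map f.op s
      map_zero' := by funext V f; simp
      map_add' := fun s t => by funext V f; simp }
  naturality W W' g := by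
    ext s
    funext V f
    change Q.map f.op (Q.map g s) = Q.map (f ≫ g.unop).op s
    rw [← ConcreteCategory.comp_apply, ← Q.map_comp]
    rfl

lemma toGodE_apply {W : Eᵒᵖ} (s : Q.obj W) (V : E) (f : V ⟶ W.unop) :
    ((toGodE Q).app W s) V f = Q.map f.op s := rfl

variable [HasFiniteProducts E] {ι : Type w} (Y : ι → E)

/-- Pairs (index, map to the corresponding member of the family). -/
abbrev T (V : E) : Type w := Σ j : ι, (V ⟶ Y j)

/-- Evaluation of a cochain of `GodE Q` at an object `V` and a tuple of maps `V ⟶ Y (j k)`. -/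
noncomputable def gev (m : ℕ) (V : E) (σ : Fin (m + 1) → T Y V) :
    (cx (GodE Q) Y).X m →+ Q.obj (op V) where
  toFun c := (proj (GodE Q) Y m (fun k => (σ k).1) c) V (Pi.lift (fun k => (σ k).2))
  map_zero' := by rw [map_zero]; rfl
  map_add' c c' := by rw [map_add]; rfl

lemma gev_apply (m : ℕ) (V : E) (σ : Fin (m + 1) → T Y V) (c : (cx (GodE Q) Y).X m) :
    gev Q Y m V σ c = (proj (GodE Q) Y m (fun k => (σ k).1) c) V (Pi.lift (fun k => (σ k).2)) := rfl

/-- the tuple attached to a map into a product -/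
noncomputable def tup {m : ℕ} (i : Fin (m + 1) → ι) (V : E) (f : V ⟶ inter Y i) :
    Fin (m + 1) → T Y V := fun k => ⟨i k, f ≫ Pi.π (Y ∘ i) k⟩

lemma gev_tup (m : ℕ) (i : Fin (m + 1) → ι) (V : E) (f : V ⟶ inter Y i)
    (c : (cx (GodE Q) Y).X m) :
    gev Q Y m V (tup Y i V f) c = (proj (GodE Q) Y m i c) V f := by
  rw [gev_apply]
  have : (Pi.lift (fun k => ((tup Y i V f) k).2) : V ⟶ inter Y i) = f := by
    apply Pi.hom_ext
    intro k
    rw [Pi.lift_π]
    rfl
  exact congrArg ((proj (GodE Q) Y m i c) V) this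

lemma tup_lift {m : ℕ} (V : E) (σ : Fin (m + 1) → T Y V) :
    tup Y (fun k => (σ k).1) V (Pi.lift (fun k => (σ k).2)) = σ := by
  funext k
  change (⟨(σ k).1, Pi.lift (fun k => (σ k).2) ≫ Pi.π _ k⟩ : T Y V) = σ k
  rw [Pi.lift_π]

lemma gev_ext {m : ℕ} {c c' : (cx (GodE Q) Y).X m}
    (h : ∀ (V : E) (σ : Fin (m + 1) → T Y V), gev Q Y m V σ c = gev Q Y m V σ c') : c = c' := by
  apply cx_ext
  intro i
  funext V f
  rw [← gev_tup, ← gev_tup, h]

lemma gev_d (m : ℕ) (V : E) (σ : Fin (m + 2) → T Y V) (c : (cx (GodE Q) Y).X m) :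
    gev Q Y (m + 1) V σ ((cx (GodE Q) Y).d m (m + 1) c) =
      ∑ k : Fin (m + 2), (-1 : ℤ) ^ (k : ℕ) • gev Q Y m V (σ ∘ k.succAbove) c := by
  rw [gev_apply, proj_d_apply]
  have hsum : ∀ (s : Finset (Fin (m + 2))) (g : Fin (m + 2) → (GodE Q).obj (op (inter Y (fun k => (σ k).1)))),
      (∑ k ∈ s, g k) V (Pi.lift (fun k => (σ k).2)) = ∑ k ∈ s, (g k) V (Pi.lift (fun k => (σ k).2)) := by
    intro s g
    classical
    induction s using Finset.induction_on with
    | empty => simp; rfl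
    | insert a s ha ih =>
      rw [Finset.sum_insert ha, Finset.sum_insert ha, ← ih]
      rfl
  rw [hsum]
  refine Finset.sum_congr rfl fun k _ => ?_
  have hz : ∀ (z : ℤ) (x : (GodE Q).obj (op (inter Y (fun k => (σ k).1)))),
      (z • x) V (Pi.lift (fun k => (σ k).2)) = z • (x V (Pi.lift (fun k => (σ k).2))) := by
    intro z x
    rfl
  rw [hz]
  congr 1
  rw [gev_apply]
  change (proj (GodE Q) Y m _ c) V (Pi.lift (fun k => (σ k).2) ≫ faceHom Y _ k) = _
  have : (Pi.lift (fun k => (σ k).2) ≫ faceHom Y (fun k => (σ k).1) k) =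
      Pi.lift (fun b => ((σ ∘ k.succAbove) b).2) := by
    apply Pi.hom_ext
    intro b
    rw [Category.assoc, faceHom_π]
    have h1 := Pi.lift_π (f := Y ∘ (fun k => (σ k).1)) (fun k => (σ k).2) (k.succAbove b)
    have h2 := Pi.lift_π (f := Y ∘ ((fun k => (σ k).1) ∘ k.succAbove))
      (fun b => ((σ ∘ k.succAbove) b).2) b
    exact h1.trans h2.symm
  exact congrArg ((proj (GodE Q) Y m _ c) V) this

lemma cons_comp_succAbove_succ {α : Type*} {n : ℕ} (j : α) (i : Fin (n + 2) → α) (k : Fin (n + 2)) :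
    (Fin.cons j i : Fin (n + 3) → α) ∘ k.succ.succAbove = Fin.cons j (i ∘ k.succAbove) := by
  funext a
  refine Fin.cases ?_ (fun a' => ?_) a
  · simp
  · simp

lemma cons_comp_succAbove_zero {α : Type*} {n : ℕ} (j : α) (i : Fin (n + 2) → α) :
    (Fin.cons j i : Fin (n + 3) → α) ∘ (0 : Fin (n + 3)).succAbove = i := by
  funext a
  simp

/-- The Čech complex of `GodE Q` is exact in positive degrees. -/
theorem isZero_homology_GodE (n : ℕ) : IsZero ((cx (GodE Q) Y).homology (n + 1)) := by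
  classical
  rw [isZero_homology_succ_iff]
  intro c hc
  let τ : ∀ V : E, Nonempty (T Y V) → T Y V := fun V h => h.some
  let b : Coch (GodE Q) Y n := fun i => fun V f =>
    gev Q Y (n + 1) V (Fin.cons (τ V ⟨tup Y i V f 0⟩) (tup Y i V f)) c
  refine ⟨(cochEquiv (GodE Q) Y n).symm b, ?_⟩
  apply gev_ext
  intro V σ
  rw [gev_d]
  have hb : ∀ (σ' : Fin (n + 1) → T Y V),
      gev Q Y n V σ' ((cochEquiv (GodE Q) Y n).symm b) =
        gev Q Y (n + 1) V (Fin.cons (τ V ⟨σ' 0⟩) σ') c := by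
    intro σ'
    rw [gev_apply, proj_cochEquiv_symm]
    change gev Q Y (n + 1) V (Fin.cons (τ V ⟨tup Y (fun k => (σ' k).1) V
      (Pi.lift (fun k => (σ' k).2)) 0⟩) (tup Y (fun k => (σ' k).1) V (Pi.lift (fun k => (σ' k).2)))) c = _
    rw [tup_lift]
  set t := τ V ⟨σ 0⟩ with ht
  have hb' : ∀ k : Fin (n + 2), gev Q Y n V (σ ∘ k.succAbove) ((cochEquiv (GodE Q) Y n).symm b) =
      gev Q Y (n + 1) V (Fin.cons t (σ ∘ k.succAbove)) c := fun k => hb _
  rw [Finset.sum_congr rfl (fun k _ => by rw [hb' k])]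
  have hcoc := congrArg (gev Q Y (n + 2) V (Fin.cons t σ)) hc
  rw [gev_d, map_zero, Fin.sum_univ_succ] at hcoc
  rw [cons_comp_succAbove_zero] at hcoc
  simp only [cons_comp_succAbove_succ, Fin.val_succ, pow_succ, Fin.val_zero, pow_zero,
    one_smul] at hcoc
  simp only [mul_neg, mul_one, neg_smul, Finset.sum_neg_distrib] at hcoc
  exact (eq_of_sub_eq_zero (by rw [← hcoc]; abel)).symm

/-- If `Q` is a retract of `GodE Q`, its Čech cohomology vanishes in positive degrees. -/
theorem isZero_homology_of_retract_GodE (ρ : GodE Q ⟶ Q) (h : toGodE Q ≫ ρ = 𝟙 Q) (n : ℕ) :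
    IsZero ((cx Q Y).homology (n + 1)) :=
  isZero_homology_of_retract Q Y (toGodE Q) ρ h (n + 1) (isZero_homology_GodE Q Y n)

end Groth.Agent.Lib.Cohomology.SiteCech
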