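import Groth.Agent.Lib.Cohomology.helper5_SiteCechGod
import Groth.Prelude.Def_CohCx

/-!
# Čech cohomology of injective (pre)sheaves on a small site vanishes (helper5)

`isZero_cechH_of_injective_presheaf`, `isZero_cechH_of_injective_sheaf` (S0858).
-/

universe u
open CategoryTheory Opposite CategoryTheory.Limits

namespace Groth.Agent.Lib.Cohomology.SiteCech

variable {C : Type u} [SmallCategory C] (P : Cᵒᵖ ⥤ AddCommGrpCat.{u})

instance mono_toGodE : Mono (toGodE P) := by
  have : ∀ W, Mono ((toGodE P).app W) := by
    intro W
    rw [AddCommGrpCat.mono_iff_injective]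
    intro s t hst
    have := congrFun (congrFun hst W.unop) (𝟙 _)
    change P.map (𝟙 _) s = P.map (𝟙 _) t at this
    simpa using this
  exact NatTrans.mono_of_mono_app _

variable (U : C)

/-- restriction of a presheaf to the over category -/
abbrev overRestr : (Over U)ᵒᵖ ⥤ AddCommGrpCat.{u} := (Over.forget U).op ⋙ P

lemma god_congr {W : Over U} (y : ∀ (V' : Over U) (_ : V' ⟶ W), P.obj (op V'.left)) (V : C)
    (s s' : V ⟶ U) (hs : s = s') (a : Over.mk s ⟶ W) (a' : Over.mk s' ⟶ W)
    (h : a.left = a'.left) : y (Over.mk s) a = y (Over.mk s') a' := by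
  subst hs
  congr 1
  ext
  exact h

/-- comparison from the God presheaf of the restriction to the restriction of the God presheaf -/
def godComparison : GodE (overRestr P U) ⟶ overRestr (GodE P) U where
  app W := AddCommGrpCat.ofHom
    { toFun := fun y V f => y (Over.mk (f ≫ W.unop.hom)) (Over.homMk f rfl)
      map_zero' := rfl
      map_add' := fun _ _ => rfl }
  naturality W W' g := by
    ext y
    funext V f
    change y (Over.mk (f ≫ W'.unop.hom)) (Over.homMk f rfl ≫ g.unop) =
      y (Over.mk ((f ≫ g.unop.left) ≫ W.unop.hom)) (Over.homMk (f ≫ g.unop.left) rfl)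
    apply god_congr P U y V
    · have hw : g.unop.left ≫ W.unop.hom = W'.unop.hom := Over.w g.unop
      have f' : V ⟶ W'.unop.left := f
      have : ∀ f' : V ⟶ W'.unop.left, f' ≫ W'.unop.hom = (f' ≫ g.unop.left) ≫ W.unop.hom := by
        intro f'
        rw [Category.assoc, hw]
      exact this f
    · rfl

lemma toGodE_godComparison :
    toGodE (overRestr P U) ≫ godComparison P U = Functor.whiskerLeft (Over.forget U).op (toGodE P) := by
  ext W s
  funext V f
  rfl

variable [HasPullbacks C] {ι : Type u} {U} (Y : ι → Over U)

/-- Čech cohomology of an injective presheaf vanishes in positive degrees (any family). -/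
theorem isZero_cechH_of_injective_presheaf [Injective P] (n : ℕ) :
    IsZero (CohCx.cechH P Y (n + 1)) := by
  let r : GodE P ⟶ P := Injective.factorThru (𝟙 P) (toGodE P)
  have hr : toGodE P ≫ r = 𝟙 P := Injective.comp_factorThru _ _
  let ρ : GodE (overRestr P U) ⟶ overRestr P U :=
    godComparison P U ≫ Functor.whiskerLeft (Over.forget U).op r
  have hρ : toGodE (overRestr P U) ≫ ρ = 𝟙 _ := by
    rw [← Category.assoc, toGodE_godComparison, ← Functor.whiskerLeft_comp, hr]
    rfl
  exact isZero_homology_of_retract_GodE (overRestr P U) Y ρ hρ n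

omit [HasPullbacks C] in
/-- An injective abelian sheaf is injective as a presheaf. -/
lemma injective_presheaf_of_injective_sheaf (J : GrothendieckTopology C)
    (F : Sheaf J AddCommGrpCat.{u}) [Injective F] : Injective F.obj :=
  Injective.injective_of_adjoint (sheafificationAdjunction J AddCommGrpCat.{u}) F

/-- Čech cohomology of an injective abelian sheaf vanishes in positive degrees (any family). -/
theorem isZero_cechH_of_injective_sheaf (J : GrothendieckTopology C)
    (F : Sheaf J AddCommGrpCat.{u}) [Injective F] (n : ℕ) :
    IsZero (CohCx.cechH F.obj Y (n + 1)) := by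
  have := injective_presheaf_of_injective_sheaf J F
  exact isZero_cechH_of_injective_presheaf F.obj Y n

end Groth.Agent.Lib.Cohomology.SiteCech
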