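import Groth.Agent.Lib.Cohomology.helper5_SiteCechEv
import Groth.Agent.Lib.Cohomology.helper5_SiteCechInj

/-!
# `Ȟ^0` of a sheaf on a small site for a covering family (helper5)

`sectionsEquivCechH0 Y hY G : G(U) ≃+ Ȟ^0(Y, G)` for a covering family `Y i → U`, natural in `G`.
-/

set_option autoImplicit false
universe u
open CategoryTheory Opposite CategoryTheory.Limits

namespace Groth.Agent.Lib.Cohomology.SiteCech

variable {C : Type u} [SmallCategory C] [HasPullbacks C] {J : GrothendieckTopology C} {U : C}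
  {ι : Type u} (Y : ι → Over U)

section H0

variable (G : Sheaf J AddCommGrpCat.{u})

/-- The restriction map from sections over `U` to `0`-cochains. -/
noncomputable def toC0 : G.obj.obj (op U) ⟶ (cx (overRestr G.obj U) Y).X 0 :=
  Pi.lift (fun i : Fin 1 → ι => G.obj.map ((inter Y i).hom).op)

lemma toC0_proj (i : Fin 1 → ι) :
    toC0 Y G ≫ proj (overRestr G.obj U) Y 0 i = G.obj.map ((inter Y i).hom).op :=
  Pi.lift_π _ _

lemma toC0_proj_apply (i : Fin 1 → ι) (s : G.obj.obj (op U)) :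
    proj (overRestr G.obj U) Y 0 i (toC0 Y G s) = G.obj.map ((inter Y i).hom).op s := by
  rw [← ConcreteCategory.comp_apply, toC0_proj]
  rfl

lemma ev_toC0 (W : Over U) (σ : Fin 1 → Tup Y W) (s : G.obj.obj (op U)) :
    ev (overRestr G.obj U) Y 0 W σ (toC0 Y G s) = G.obj.map W.hom.op s := by
  rw [ev_apply, toC0_proj_apply]
  change G.obj.map (tupLift Y σ).left.op (G.obj.map _ s) = _
  rw [← ConcreteCategory.comp_apply, ← G.obj.map_comp, ← op_comp, Over.w]

lemma toC0_d : toC0 Y G ≫ (cx (overRestr G.obj U) Y).d 0 1 = 0 := by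
  ext s
  change (cx (overRestr G.obj U) Y).d 0 1 (toC0 Y G s) = 0
  apply cx_ext_ev
  intro W σ
  rw [map_zero, ev_d, Fin.sum_univ_succ, Fin.sum_univ_succ, Fin.sum_univ_zero,
    ev_toC0, ev_toC0]
  simp only [Fin.val_zero, pow_zero, one_smul, Fin.val_succ, zero_add, pow_one, neg_smul, add_zero]
  exact add_neg_cancel _

/-- sections over `U` map to `0`-cocycles -/
noncomputable def toZ0 : G.obj.obj (op U) ⟶ (cx (overRestr G.obj U) Y).cycles 0 :=
  (cx (overRestr G.obj U) Y).liftCycles (toC0 Y G) 1 (by simp) (toC0_d Y G)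

lemma toZ0_i : toZ0 Y G ≫ (cx (overRestr G.obj U) Y).iCycles 0 = toC0 Y G :=
  (cx (overRestr G.obj U) Y).liftCycles_i _ _ _ _

variable (hY : Sieve.ofArrows (fun i => (Y i).left) (fun i => (Y i).hom) ∈ J U)

include hY in
lemma isSheafFor_arrows :
    (Presieve.ofArrows (fun i => (Y i).left) (fun i => (Y i).hom)).IsSheafFor
      (G.obj ⋙ forget AddCommGrpCat.{u}) := by
  have h1 : Presieve.IsSheaf J (G.obj ⋙ forget AddCommGrpCat.{u}) :=
    (isSheaf_iff_isSheaf_of_type J _).1
      ((Presheaf.isSheaf_iff_isSheaf_forget J G.obj (forget AddCommGrpCat.{u})).1 G.property)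
  exact (Presieve.isSheafFor_iff_generate _).2 (h1 _ hY)

/-- the constant 1-tuple -/
abbrev tup1 {W : Over U} (t : Tup Y W) : Fin 1 → Tup Y W := fun _ => t

lemma eq_tup1 {W : Over U} (σ : Fin 1 → Tup Y W) : σ = tup1 Y (σ 0) := by
  funext a
  rw [Subsingleton.elim a 0]

/-- the restriction of `s` to `Y i` in terms of the cochain `toC0 s` -/
lemma map_hom_eq_ev (i : ι) (s : G.obj.obj (op U)) :
    G.obj.map (Y i).hom.op s =
      ev (overRestr G.obj U) Y 0 (Y i) (tup1 Y ⟨i, 𝟙 _⟩) (toC0 Y G s) :=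
  (ev_toC0 Y G (Y i) _ s).symm

include hY in
lemma toC0_injective : Function.Injective (toC0 Y G) := by
  intro s t hst
  have key : ∀ i : ι, G.obj.map (Y i).hom.op s = G.obj.map (Y i).hom.op t := by
    intro i
    rw [map_hom_eq_ev, map_hom_eq_ev, hst]
  refine (isSheafFor_arrows Y G hY).isSeparatedFor.ext ?_
  intro Z f hf
  obtain ⟨i⟩ := hf
  exact key i

lemma iCycles_injective :
    Function.Injective ((cx (overRestr G.obj U) Y).iCycles 0) :=
  (AddCommGrpCat.mono_iff_injective _).1 inferInstance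

/-- a `0`-cocycle has a well defined restriction to any object mapping to a member of the family -/
lemma ev_cocycle_indep {Q : (Over U)ᵒᵖ ⥤ AddCommGrpCat.{u}} (x : (cx Q Y).X 0)
    (hx : (cx Q Y).d 0 1 x = 0) (W : Over U) (t₀ t₁ : Tup Y W) :
    ev Q Y 0 W (tup1 Y t₀) x = ev Q Y 0 W (tup1 Y t₁) x := by
  have h := ev_d Q Y 0 W (Fin.cons t₀ (tup1 Y t₁)) x
  rw [hx, map_zero, Fin.sum_univ_succ, Fin.sum_univ_succ, Fin.sum_univ_zero] at h
  have e0 : (Fin.cons t₀ (tup1 Y t₁) : Fin 2 → Tup Y W) ∘ (0 : Fin 2).succAbove = tup1 Y t₁ := by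
    funext a
    have : a = 0 := Subsingleton.elim _ _
    subst this
    rfl
  have e1 : (Fin.cons t₀ (tup1 Y t₁) : Fin 2 → Tup Y W) ∘ (Fin.succ 0 : Fin 2).succAbove =
      tup1 Y t₀ := by
    funext a
    have : a = 0 := Subsingleton.elim _ _
    subst this
    rfl
  rw [e0, e1] at h
  simp only [Fin.val_zero, pow_zero, one_smul, Fin.val_succ, zero_add, pow_one, neg_smul,
    add_zero] at h
  have h2 := eq_neg_of_add_eq_zero_left h.symm
  rw [neg_neg] at h2
  exact h2.symm

include hY in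
/-- every `0`-cocycle comes from a section over `U` -/
lemma exists_toC0_eq (x : (cx (overRestr G.obj U) Y).X 0)
    (hdx : (cx (overRestr G.obj U) Y).d 0 1 x = 0) : ∃ s : G.obj.obj (op U), toC0 Y G s = x := by
  let xx : ∀ i : ι, (G.obj ⋙ forget AddCommGrpCat.{u}).obj (op (Y i).left) :=
    fun i => ev (overRestr G.obj U) Y 0 (Y i) (tup1 Y ⟨i, 𝟙 _⟩) x
  have hcompat : Presieve.Arrows.Compatible (G.obj ⋙ forget AddCommGrpCat.{u})
      (fun i => (Y i).hom) xx := by
    intro i j Z gi gj h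
    let Z' : Over U := Over.mk (gi ≫ (Y i).hom)
    let gi' : Z' ⟶ Y i := Over.homMk gi rfl
    let gj' : Z' ⟶ Y j := Over.homMk gj h.symm
    have h1 : (overRestr G.obj U).map gi'.op (xx i) =
        ev (overRestr G.obj U) Y 0 Z' (tup1 Y ⟨i, gi' ≫ 𝟙 _⟩) x := ev_map _ Y 0 gi' _ x
    have h2 : (overRestr G.obj U).map gj'.op (xx j) =
        ev (overRestr G.obj U) Y 0 Z' (tup1 Y ⟨j, gj' ≫ 𝟙 _⟩) x := ev_map _ Y 0 gj' _ x
    change (overRestr G.obj U).map gi'.op (xx i) = (overRestr G.obj U).map gj'.op (xx j)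
    rw [h1, h2]
    exact ev_cocycle_indep Y x hdx Z' _ _
  obtain ⟨s, hs, -⟩ := (Presieve.isSheafFor_arrows_iff _ _).1 (isSheafFor_arrows Y G hY) xx hcompat
  refine ⟨s, ?_⟩
  apply cx_ext_ev
  intro W σ
  rw [ev_toC0, eq_tup1 Y σ]
  obtain ⟨j, g⟩ := σ 0
  have h1 : (overRestr G.obj U).map g.op (xx j) =
      ev (overRestr G.obj U) Y 0 W (tup1 Y ⟨j, g ≫ 𝟙 _⟩) x := ev_map _ Y 0 g _ x
  rw [Category.comp_id] at h1
  rw [← h1]
  have h2 : xx j = G.obj.map (Y j).hom.op s := (hs j).symm
  rw [h2]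
  change _ = G.obj.map g.left.op (G.obj.map (Y j).hom.op s)
  rw [← ConcreteCategory.comp_apply, ← G.obj.map_comp, ← op_comp, Over.w]

include hY in
lemma toZ0_bijective : Function.Bijective (toZ0 Y G) := by
  constructor
  · intro s t hst
    apply toC0_injective Y G hY
    rw [← toZ0_i, ConcreteCategory.comp_apply, ConcreteCategory.comp_apply, hst]
  · intro z
    set x := (cx (overRestr G.obj U) Y).iCycles 0 z with hx
    have hdx : (cx (overRestr G.obj U) Y).d 0 1 x = 0 := by
      rw [hx, ← ConcreteCategory.comp_apply, (cx (overRestr G.obj U) Y).iCycles_d]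
      rfl
    obtain ⟨s, hs⟩ := exists_toC0_eq Y G hY x hdx
    refine ⟨s, ?_⟩
    apply iCycles_injective Y G
    rw [← ConcreteCategory.comp_apply, toZ0_i]
    exact hs

/-- `Ȟ^0` of a sheaf for a covering family is the group of sections over the base. -/
noncomputable def sectionsEquivCechH0 : G.obj.obj (op U) ≃+ CohCx.cechH G.obj Y 0 :=
  AddEquiv.ofBijective (toZ0 Y G ≫ (cx (overRestr G.obj U) Y).homologyπ 0).hom (by
    have h1 : Function.Bijective ((cx (overRestr G.obj U) Y).homologyπ 0) :=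
      (ConcreteCategory.isIso_iff_bijective _).1 inferInstance
    exact h1.comp (toZ0_bijective Y G hY))

lemma sectionsEquivCechH0_apply (s : G.obj.obj (op U)) :
    sectionsEquivCechH0 Y G hY s = (cx (overRestr G.obj U) Y).homologyπ 0 (toZ0 Y G s) := rfl

variable {G} in
lemma toZ0_naturality {G' : Sheaf J AddCommGrpCat.{u}} (φ : G ⟶ G') :
    toZ0 Y G ≫ HomologicalComplex.cyclesMap
        ((cechComplexFunctor Y).map (Functor.whiskerLeft (Over.forget U).op φ.hom)) 0 =
      φ.hom.app (op U) ≫ toZ0 Y G' := by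
  rw [← cancel_mono ((cx (overRestr G'.obj U) Y).iCycles 0), Category.assoc, Category.assoc,
    HomologicalComplex.cyclesMap_i, toZ0_i, ← Category.assoc, toZ0_i]
  apply Pi.hom_ext
  intro i
  change (_ ≫ _) ≫ proj (overRestr G'.obj U) Y 0 i = (_ ≫ _) ≫ proj (overRestr G'.obj U) Y 0 i
  rw [Category.assoc, map_proj, ← Category.assoc, toC0_proj, Category.assoc, toC0_proj]
  exact φ.hom.naturality _

variable {G} in
lemma sectionsEquivCechH0_naturality {G' : Sheaf J AddCommGrpCat.{u}} (φ : G ⟶ G')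
    (s : G.obj.obj (op U)) :
    HomologicalComplex.homologyMap
        ((cechComplexFunctor Y).map (Functor.whiskerLeft (Over.forget U).op φ.hom)) 0
      (sectionsEquivCechH0 Y G hY s) = sectionsEquivCechH0 Y G' hY (φ.hom.app (op U) s) := by
  rw [sectionsEquivCechH0_apply, sectionsEquivCechH0_apply, ← ConcreteCategory.comp_apply,
    HomologicalComplex.homologyπ_naturality, ConcreteCategory.comp_apply,
    ← ConcreteCategory.comp_apply (toZ0 Y G), toZ0_naturality, ConcreteCategory.comp_apply]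

end H0

end Groth.Agent.Lib.Cohomology.SiteCech
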