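import Groth.Agent.Lib.Cohomology.helper5_SiteLeray

/-!
# Surjectivity of sections from vanishing of `Ȟ^1` on a cofinal system of coverings (helper5)

`sections_surjective_of_cechH1` (S0859) and the degreewise left exactness of Čech complexes.
-/

set_option autoImplicit false
universe u
open CategoryTheory Opposite CategoryTheory.Limits

namespace Groth.Agent.Lib.Cohomology.SiteLeray

open Groth.Agent.Lib.Cohomology.SiteCech Groth.Agent.Lib.Cohomology.SiteH

variable {C : Type u} [SmallCategory C] [HasPullbacks C] {J : GrothendieckTopology C} {U : C}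
  {ι : Type u} (Y : ι → Over U)

/-- the map of Čech complexes induced by a morphism of sheaves -/
noncomputable abbrev cechMap {F G : Sheaf J AddCommGrpCat.{u}} (φ : F ⟶ G) :
    cx (overRestr F.obj U) Y ⟶ cx (overRestr G.obj U) Y :=
  (cechComplexFunctor Y).map (Functor.whiskerLeft (Over.forget U).op φ.hom)

variable {S : ShortComplex (Sheaf J AddCommGrpCat.{u})} (hS : S.ShortExact)

include hS in
lemma cechMap_f_injective (n : ℕ) : Function.Injective ((cechMap Y S.f).f n) := by
  intro c c' hcc
  apply cx_ext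
  intro i
  apply sections_injective hS (inter Y i).left
  have := congrArg (proj (overRestr S.X₂.obj U) Y n i) hcc
  exact (map_proj_apply Y (Functor.whiskerLeft (Over.forget U).op S.f.hom) n i c).symm.trans
    (this.trans (map_proj_apply Y (Functor.whiskerLeft (Over.forget U).op S.f.hom) n i c'))

include hS in
lemma cechMap_exact (n : ℕ) (c : (cx (overRestr S.X₂.obj U) Y).X n)
    (hc : (cechMap Y S.g).f n c = 0) : ∃ a, (cechMap Y S.f).f n a = c := by
  have h1 : ∀ i : Fin (n + 1) → ι, ∃ t : S.X₁.obj.obj (op (inter Y i).left),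
      S.f.hom.app (op (inter Y i).left) t = proj (overRestr S.X₂.obj U) Y n i c := by
    intro i
    apply sections_exact hS (inter Y i).left
    have h0 : proj (overRestr S.X₃.obj U) Y n i ((cechMap Y S.g).f n c) = 0 := by
      have := congrArg (proj (overRestr S.X₃.obj U) Y n i) hc
      exact this.trans (map_zero _)
    refine Eq.trans ?_ h0
    exact (map_proj_apply Y (Functor.whiskerLeft (Over.forget U).op S.g.hom) n i c).symm
  choose t ht using h1
  refine ⟨(cochEquiv (overRestr S.X₁.obj U) Y n).symm t, ?_⟩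
  apply cx_ext
  intro i
  refine (map_proj_apply Y (Functor.whiskerLeft (Over.forget U).op S.f.hom) n i _).trans ?_
  rw [proj_cochEquiv_symm]
  exact ht i

lemma cechMap_comp_zero (n : ℕ) (a : (cx (overRestr S.X₁.obj U) Y).X n) :
    (cechMap Y S.g).f n ((cechMap Y S.f).f n a) = 0 := by
  have h := (cechSC Y S).zero
  have h2 := congrArg (fun φ : (cechSC Y S).X₁ ⟶ (cechSC Y S).X₃ => HomologicalComplex.Hom.f φ n) h
  exact ConcreteCategory.congr_hom h2 a

lemma cechMap_toC0 {F G : Sheaf J AddCommGrpCat.{u}} (φ : F ⟶ G) (s : F.obj.obj (op U)) :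
    (cechMap Y φ).f 0 (toC0 Y F s) = toC0 Y G (φ.hom.app (op U) s) := by
  apply cx_ext
  intro i
  rw [map_proj_apply, toC0_proj_apply, toC0_proj_apply]
  exact ConcreteCategory.congr_hom (φ.hom.naturality ((inter Y i).hom).op) s

variable (hY : Sieve.ofArrows (fun i => (Y i).left) (fun i => (Y i).hom) ∈ J U)

include hS hY in
/-- If every member of the family lies in the image sieve of `t` and `Ȟ^1(Y, X₁) = 0`, then `t`
lifts to a section of `X₂` over `U`. -/
lemma exists_lift_of_cechH1 (t : S.X₃.obj.obj (op U))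
    (hT : ∀ i, (Presheaf.imageSieve S.g.hom t).arrows (Y i).hom)
    (hZ : IsZero (CohCx.cechH S.X₁.obj Y 1)) :
    ∃ s : S.X₂.obj.obj (op U), S.g.hom.app (op U) s = t := by
  -- local lifts on all `inter Y i`
  have hx : ∀ i : Fin 1 → ι, ∃ x : S.X₂.obj.obj (op (inter Y i).left),
      S.g.hom.app (op (inter Y i).left) x = S.X₃.obj.map ((inter Y i).hom).op t := by
    intro i
    have hw : (Pi.π (Y ∘ i) 0 : inter Y i ⟶ Y (i 0)).left ≫ (Y (i 0)).hom = (inter Y i).hom :=
      Over.w _
    have := (Presheaf.imageSieve S.g.hom t).downward_closed (hT (i 0))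
      (Pi.π (Y ∘ i) 0 : inter Y i ⟶ Y (i 0)).left
    rw [hw] at this
    exact this
  choose x hx using hx
  let s₀ : (cx (overRestr S.X₂.obj U) Y).X 0 := (cochEquiv (overRestr S.X₂.obj U) Y 0).symm x
  have hs₀ : (cechMap Y S.g).f 0 s₀ = toC0 Y S.X₃ t := by
    apply cx_ext
    intro i
    rw [map_proj_apply, proj_cochEquiv_symm, toC0_proj_apply]
    exact hx i
  -- the 1-cochain of differences
  have hds₀ : (cechMap Y S.g).f 1 ((cx (overRestr S.X₂.obj U) Y).d 0 1 s₀) = 0 := by
    have h1 := ConcreteCategory.congr_hom ((cechMap Y S.g).comm 0 1) s₀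
    rw [ConcreteCategory.comp_apply, ConcreteCategory.comp_apply] at h1
    rw [← h1, hs₀]
    exact ConcreteCategory.congr_hom (toC0_d Y S.X₃) t
  obtain ⟨a, ha⟩ := cechMap_exact Y hS 1 _ hds₀
  have hda : (cx (overRestr S.X₁.obj U) Y).d 1 2 a = 0 := by
    apply cechMap_f_injective Y hS 2
    rw [map_zero]
    have h1 := ConcreteCategory.congr_hom ((cechMap Y S.f).comm 1 2) a
    rw [ConcreteCategory.comp_apply, ConcreteCategory.comp_apply] at h1
    rw [← h1, ha, ← ConcreteCategory.comp_apply, HomologicalComplex.d_comp_d]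
    rfl
  obtain ⟨b, hb⟩ := (isZero_homology_succ_iff (overRestr S.X₁.obj U) Y 0).1 hZ a hda
  -- corrected cochain
  let s₁ := s₀ - (cechMap Y S.f).f 0 b
  have hds₁ : (cx (overRestr S.X₂.obj U) Y).d 0 1 s₁ = 0 := by
    have h1 := ConcreteCategory.congr_hom ((cechMap Y S.f).comm 0 1) b
    rw [ConcreteCategory.comp_apply, ConcreteCategory.comp_apply] at h1
    have hb' : (cx (overRestr S.X₁.obj U) Y).d 0 1 b = a := hb
    simp only [s₁, map_sub]
    rw [h1, hb', ha, sub_self]
  -- glue
  obtain ⟨s, hs⟩ := exists_toC0_eq Y S.X₂ hY s₁ hds₁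
  refine ⟨s, ?_⟩
  apply toC0_injective Y S.X₃ hY
  rw [← cechMap_toC0, hs]
  simp only [s₁, map_sub]
  rw [cechMap_comp_zero, sub_zero, hs₀]

end Groth.Agent.Lib.Cohomology.SiteLeray
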