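import Groth.Agent.Lib.Cohomology.helper5_SiteCechH0
import Groth.Agent.Lib.Cohomology.helper5_SiteH

/-!
# Leray's theorem on a small site (helper5)

`leray_zero`, `leray_succ`: for a covering family `Y i → U` and an abelian sheaf `F` with vanishing
higher cohomology on all finite fibre products of the family, `Ȟ^p(Y, F) ≃+ H^p(U, F)`.
Also `cechSC`, `cechSC_shortExact_of_surjective`, `isZero_cechH_quot`.
-/

set_option autoImplicit false
universe u
open CategoryTheory Opposite CategoryTheory.Limits

namespace Groth.Agent.Lib.Cohomology.SiteLeray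

open Groth.Agent.Lib.Cohomology.SiteCech Groth.Agent.Lib.Cohomology.SiteH
open Groth.Agent.Lib.Cohomology.ExtShift Abelian

variable {C : Type u} [SmallCategory C] [HasPullbacks C] {J : GrothendieckTopology C} {U : C}
  {ι : Type u} (Y : ι → Over U)

/-- the short complex of presheaves on `Over U` attached to a short complex of sheaves -/
noncomputable def overSC (U : C) (S : ShortComplex (Sheaf J AddCommGrpCat.{u})) :
    ShortComplex ((Over U)ᵒᵖ ⥤ AddCommGrpCat.{u}) :=
  ShortComplex.mk (Functor.whiskerLeft (Over.forget U).op S.f.hom)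
    (Functor.whiskerLeft (Over.forget U).op S.g.hom) (by
      rw [← Functor.whiskerLeft_comp]
      have : S.f.hom ≫ S.g.hom = 0 := congrArg (fun φ => φ.hom) S.zero
      rw [this]
      rfl)

/-- The short complex of Čech complexes attached to a short complex of abelian sheaves. -/
noncomputable def cechSC (S : ShortComplex (Sheaf J AddCommGrpCat.{u})) :
    ShortComplex (CochainComplex AddCommGrpCat.{u} ℕ) :=
  (overSC U S).map (cechComplexFunctor Y)

omit [HasPullbacks C] in
lemma sections_injective {S : ShortComplex (Sheaf J AddCommGrpCat.{u})} (hS : S.ShortExact) (V : C) :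
    Function.Injective (S.f.hom.app (op V)) := by
  have := hS.mono_f
  have h1 : Mono S.f.hom := (Sheaf.Hom.mono_iff_presheaf_mono _ _ S.f).1 this
  have h2 : Mono (S.f.hom.app (op V)) := inferInstance
  exact (AddCommGrpCat.mono_iff_injective _).1 h2

omit [HasPullbacks C] in
lemma sections_exact {S : ShortComplex (Sheaf J AddCommGrpCat.{u})} (hS : S.ShortExact) (V : C)
    (x : S.X₂.obj.obj (op V)) (hx : S.g.hom.app (op V) x = 0) :
    ∃ t : S.X₁.obj.obj (op V), S.f.hom.app (op V) t = x := by
  have := hS.mono_f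
  have h0 : CohFree.ofSect J V S.X₂ x ≫ S.g = 0 := by
    rw [ofSect_comp]
    have : (S.g.hom.app (op V)).hom x = 0 := hx
    rw [this]
    exact (CohFree.homEquivSect J V S.X₃).symm.map_zero
  refine ⟨CohFree.evalGen J V S.X₁ (hS.exact.lift _ h0), ?_⟩
  have h1 := evalGen_comp J V (hS.exact.lift _ h0) S.f
  rw [hS.exact.lift_f, CohFree.evalGen_ofSect] at h1
  exact h1.symm

/-- Short exactness of the Čech complexes. -/
theorem cechSC_shortExact_of_surjective {S : ShortComplex (Sheaf J AddCommGrpCat.{u})}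
    (hS : S.ShortExact)
    (hsurj : ∀ (n : ℕ) (i : Fin (n + 1) → ι),
      Function.Surjective (S.g.hom.app (op (inter Y i).left))) :
    (cechSC Y S).ShortExact :=
  cechSC_shortExact Y (overSC U S)
    (fun _ i => sections_injective hS (inter Y i).left)
    (fun _ i x hx => sections_exact hS (inter Y i).left x hx)
    hsurj

/-- Higher cohomology vanishes on all finite fibre products of the family. -/
def Acyclic (F : Sheaf J AddCommGrpCat.{u}) : Prop :=
  ∀ (n : ℕ) (i : Fin (n + 1) → ι) (q : ℕ), Subsingleton (CohSite.HU F (q + 1) (inter Y i).left)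

variable {Y}

lemma Acyclic.surj {F : Sheaf J AddCommGrpCat.{u}} (hF : Acyclic Y F) (n : ℕ) (i : Fin (n + 1) → ι) :
    Function.Surjective ((injSES F).g.hom.app (op (inter Y i).left)) :=
  sections_surjective_of_H1 (injSES_shortExact F) _ (hF n i 0)

lemma Acyclic.quot {F : Sheaf J AddCommGrpCat.{u}} (hF : Acyclic Y F) : Acyclic Y (injSES F).X₃ :=
  fun n i q => subsingleton_ext_X₃ (injSES_shortExact F) (zz J (inter Y i).left) q (hF n i (q + 1))

lemma Acyclic.cechSES {F : Sheaf J AddCommGrpCat.{u}} (hF : Acyclic Y F) :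
    (cechSC Y (injSES F)).ShortExact :=
  cechSC_shortExact_of_surjective Y (injSES_shortExact F) hF.surj

lemma isZero_cechH_mid (F : Sheaf J AddCommGrpCat.{u}) (p : ℕ) :
    IsZero ((cechSC Y (injSES F)).X₂.homology (p + 1)) :=
  isZero_cechH_of_injective_sheaf Y J (injSES F).X₂ p

variable (hY : Sieve.ofArrows (fun i => (Y i).left) (fun i => (Y i).hom) ∈ J U)

variable (Y) in
/-- degree zero -/
noncomputable def leray_zero (F : Sheaf J AddCommGrpCat.{u}) :
    CohCx.cechH F.obj Y 0 ≃+ CohSite.HU F 0 U :=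
  (sectionsEquivCechH0 Y F hY).symm.trans (sectionsEquivH0 J F U)

/-- the Čech connecting map in degree one, from sections -/
noncomputable def cechδ₁ {F : Sheaf J AddCommGrpCat.{u}} (hF : Acyclic Y F) :
    (injSES F).X₃.obj.obj (op U) →+ CohCx.cechH F.obj Y 1 :=
  (hF.cechSES.δ 0 1 rfl).hom.comp (sectionsEquivCechH0 Y (injSES F).X₃ hY).toAddMonoidHom

lemma cechδ₁_surjective {F : Sheaf J AddCommGrpCat.{u}} (hF : Acyclic Y F) :
    Function.Surjective (cechδ₁ hY hF) := by
  have h1 : Epi (hF.cechSES.δ 0 1 rfl) := hF.cechSES.epi_δ 0 1 rfl (isZero_cechH_mid F 0)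
  exact ((AddCommGrpCat.epi_iff_surjective _).1 h1).comp
    (sectionsEquivCechH0 Y (injSES F).X₃ hY).surjective

lemma cechδ₁_ker {F : Sheaf J AddCommGrpCat.{u}} (hF : Acyclic Y F) :
    (cechδ₁ hY hF).ker = ((injSES F).g.hom.app (op U)).hom.range := by
  ext t
  rw [AddMonoidHom.mem_ker, AddMonoidHom.mem_range]
  constructor
  · intro ht
    have hex := hF.cechSES.homology_exact₃ 0 1 rfl
    rw [ShortComplex.ab_exact_iff] at hex
    obtain ⟨y₂, hy₂⟩ := hex (sectionsEquivCechH0 Y (injSES F).X₃ hY t) ht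
    obtain ⟨s, rfl⟩ := (sectionsEquivCechH0 Y (injSES F).X₂ hY).surjective y₂
    refine ⟨s, ?_⟩
    apply (sectionsEquivCechH0 Y (injSES F).X₃ hY).injective
    rw [← hy₂]
    exact (sectionsEquivCechH0_naturality Y hY (injSES F).g s).symm
  · rintro ⟨s, rfl⟩
    change (hF.cechSES.δ 0 1 rfl) (sectionsEquivCechH0 Y (injSES F).X₃ hY _) = 0
    rw [← sectionsEquivCechH0_naturality Y hY (injSES F).g s]
    have := hF.cechSES.comp_δ 0 1 rfl
    exact ConcreteCategory.congr_hom this _

include hY in
/-- Leray's theorem in positive degrees. -/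
theorem leray_succ (p : ℕ) : ∀ (F : Sheaf J AddCommGrpCat.{u}), Acyclic Y F →
    Nonempty (CohCx.cechH F.obj Y (p + 1) ≃+ CohSite.HU F (p + 1) U) := by
  induction p with
  | zero =>
    intro F hF
    let e1 := QuotientAddGroup.quotientKerEquivOfSurjective (cechδ₁ hY hF) (cechδ₁_surjective hY hF)
    let e2 := QuotientAddGroup.quotientKerEquivOfSurjective
      (sectδ (injSES_shortExact F) U) (sectδ_surjective (injSES_shortExact F) U)
    have hk : (cechδ₁ hY hF).ker = (sectδ (injSES_shortExact F) U).ker := by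
      rw [cechδ₁_ker, sectδ_ker]
    exact ⟨e1.symm.trans ((QuotientAddGroup.quotientAddEquivOfEq hk).trans e2)⟩
  | succ p ih =>
    intro F hF
    obtain ⟨e⟩ := ih (injSES F).X₃ hF.quot
    let e1 : CohCx.cechH (injSES F).X₃.obj Y (p + 1) ≃+ CohCx.cechH F.obj Y (p + 2) :=
      (hF.cechSES.δIso (p + 1) (p + 2) rfl (isZero_cechH_mid F p)
        (isZero_cechH_mid F (p + 1))).addCommGroupIsoToAddEquiv
    let e2 : CohSite.HU (injSES F).X₃ (p + 1) U ≃+ CohSite.HU F (p + 2) U :=
      AddEquiv.ofBijective (extδ (injSES_shortExact F) (zz J U) (p + 1))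
        ⟨extδ_injective _ _ _ (fun x => Ext.eq_zero_of_injective x),
          extδ_surjective _ _ _ (fun x => Ext.eq_zero_of_injective x)⟩
    exact ⟨e1.symm.trans (e.trans e2)⟩

include hY in
/-- Leray's theorem. -/
theorem leray (p : ℕ) (F : Sheaf J AddCommGrpCat.{u}) (hF : Acyclic Y F) :
    Nonempty (CohCx.cechH F.obj Y p ≃+ CohSite.HU F p U) := by
  cases p with
  | zero => exact ⟨leray_zero Y hY F⟩
  | succ p => exact leray_succ hY p F hF

end Groth.Agent.Lib.Cohomology.SiteLeray
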