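import Groth.Agent.Lib.Cohomology.helper5_RightDerivedShift
import Groth.Agent.Lib.Cohomology.helper5_SiteH

/-!
# `R^i u_* F` is the sheafification of `V ↦ H^i(u V, F)` on small sites (helper5)
-/

set_option autoImplicit false
universe u
open CategoryTheory CategoryTheory.Limits Opposite

namespace Groth.Agent.Lib.Cohomology.SiteRpushSh

open Abelian Groth.Agent.Lib.Cohomology.ExtShift Groth.Agent.Lib.Cohomology.SiteH

variable {C D : Type u} [SmallCategory C] [SmallCategory D]
  (J : GrothendieckTopology C) (K : GrothendieckTopology D) (u : D ⥤ C) [u.IsContinuous K J]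

/-- the presheaf `V ↦ H^i(u V, F)` -/
noncomputable abbrev Ppre (F : Sheaf J AddCommGrpCat.{u}) (i : ℕ) : Dᵒᵖ ⥤ AddCommGrpCat.{u} :=
  u.op ⋙ Sheaf.cohomologyPresheaf.{u} F i

variable {J} {S : ShortComplex (Sheaf J AddCommGrpCat.{u})} (hS : S.ShortExact)

/-- the connecting map of presheaves `H^i(u -, X₃) ⟶ H^{i+1}(u -, X₁)` -/
noncomputable def δpre (i : ℕ) : Ppre J u S.X₃ i ⟶ Ppre J u S.X₁ (i + 1) where
  app V := AddCommGrpCat.ofHom (extδ hS (zz J (u.obj V.unop)) i)
  naturality V V' j := by
    ext x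
    change extδ hS _ i ((Sheaf.cohomologyPresheaf.{u} S.X₃ i).map (u.op.map j) x) =
      (Sheaf.cohomologyPresheaf.{u} S.X₁ (i + 1)).map (u.op.map j) (extδ hS _ i x)
    rw [cohomologyPresheaf_map_apply, cohomologyPresheaf_map_apply, extδ_apply, extδ_apply]
    exact Ext.comp_assoc _ _ _ (zero_add i) rfl (by omega)

lemma isIso_δpre [Injective S.X₂] (i : ℕ) : IsIso (δpre u hS (i + 1)) := by
  have : ∀ V, IsIso ((δpre u hS (i + 1)).app V) := by
    intro V
    rw [ConcreteCategory.isIso_iff_bijective]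
    exact ⟨extδ_injective hS _ i (fun x => Ext.eq_zero_of_injective x),
      extδ_surjective hS _ (i + 1) (fun x => Ext.eq_zero_of_injective x)⟩
  exact NatIso.isIso_of_isIso_app _

/-- sheafified version: `T'^{i+1}(Q) ≅ T'^{i+2}(A)` -/
noncomputable def sheafifyδIso [Injective S.X₂] (i : ℕ) :
    (presheafToSheaf K AddCommGrpCat.{u}).obj (Ppre J u S.X₃ (i + 1)) ≅
      (presheafToSheaf K AddCommGrpCat.{u}).obj (Ppre J u S.X₁ (i + 2)) :=
  have := isIso_δpre u hS i
  (presheafToSheaf K AddCommGrpCat.{u}).mapIso (asIso (δpre u hS (i + 1)))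

/-- the degree one connecting map of presheaves `(u_* X₃) ⟶ H^1(u -, X₁)` -/
noncomputable def apre : ((CohSite.push J K u).obj S.X₃).obj ⟶ Ppre J u S.X₁ 1 where
  app V := AddCommGrpCat.ofHom (sectδ hS (u.obj V.unop))
  naturality V V' j := by
    ext t
    change sectδ hS _ (S.X₃.obj.map (u.op.map j) t) =
      (Sheaf.cohomologyPresheaf.{u} S.X₁ 1).map (u.op.map j) (sectδ hS _ t)
    rw [cohomologyPresheaf_map_apply, sectδ_apply, sectδ_apply]
    rw [← Ext.comp_assoc (Ext.mk₀ _) (Ext.mk₀ _) hS.extClass (zero_add 0) (zero_add 1) (by omega),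
      Ext.mk₀_comp_mk₀]
    congr 2
    exact ofSect_res J S.X₃ (u.op.map j).unop t

/-- exactness of a short complex of presheaves of abelian groups can be checked sectionwise -/
lemma functor_exact_of_app {I : Type*} [Category I] (T : ShortComplex (I ⥤ AddCommGrpCat.{u}))
    (h : ∀ j : I, (T.map ((evaluation I AddCommGrpCat.{u}).obj j)).Exact) : T.Exact := by
  rw [ShortComplex.exact_iff_isZero_homology]
  apply Functor.isZero
  intro j
  have e := T.mapHomologyIso ((evaluation I AddCommGrpCat.{u}).obj j)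
  exact IsZero.of_iso ((ShortComplex.exact_iff_isZero_homology _).1 (h j)) e.symm

section DegreeOne

lemma map_g_apre :
    (sheafToPresheaf _ _).map ((CohSite.push J K u).map S.g) ≫ apre K u hS = 0 := by
  ext V t
  have : (S.g.hom.app (op (u.obj V.unop))).hom t ∈ (sectδ hS (u.obj V.unop)).ker := by
    rw [sectδ_ker]
    exact ⟨t, rfl⟩
  exact this

/-- the presheaf short complex `u_* I → u_* Q → H^1(u -, A)` -/
noncomputable abbrev preSC : ShortComplex (Dᵒᵖ ⥤ AddCommGrpCat.{u}) :=
  ShortComplex.mk _ _ (map_g_apre K u hS)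

lemma preSC_exact : (preSC K u hS).Exact := by
  apply functor_exact_of_app
  intro V
  rw [ShortComplex.ab_exact_iff]
  intro t ht
  have : t ∈ (sectδ hS (u.obj V.unop)).ker := ht
  rw [sectδ_ker] at this
  obtain ⟨s, hs⟩ := this
  exact ⟨s, hs⟩

lemma epi_apre [Injective S.X₂] : Epi (apre K u hS) := by
  have : ∀ V, Epi ((apre K u hS).app V) := by
    intro V
    rw [AddCommGrpCat.epi_iff_surjective]
    exact sectδ_surjective hS _
  exact NatTrans.epi_of_epi_app _

/-- sheafification functor on `D` -/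
noncomputable abbrev shY : (Dᵒᵖ ⥤ AddCommGrpCat.{u}) ⥤ Sheaf K AddCommGrpCat.{u} :=
  presheafToSheaf K AddCommGrpCat.{u}

/-- a sheaf is the sheafification of its underlying presheaf -/
noncomputable def counitIso (G : Sheaf K AddCommGrpCat.{u}) : (shY K).obj G.obj ≅ G :=
  asIso ((sheafificationAdjunction K AddCommGrpCat.{u}).counit.app G)

lemma counitIso_naturality {G G' : Sheaf K AddCommGrpCat.{u}} (φ : G ⟶ G') :
    (shY K).map φ.hom ≫ (counitIso K G').hom = (counitIso K G).hom ≫ φ :=
  (sheafificationAdjunction K AddCommGrpCat.{u}).counit.naturality φ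

lemma counitIso_inv_naturality {G G' : Sheaf K AddCommGrpCat.{u}} (φ : G ⟶ G') :
    φ ≫ (counitIso K G').inv = (counitIso K G).inv ≫ (shY K).map φ.hom := by
  rw [Iso.comp_inv_eq, Category.assoc, counitIso_naturality, Iso.inv_hom_id_assoc]

/-- the sheaf-level map `u_* Q ⟶ sheafify (H^1(u -, A))` -/
noncomputable def ρ : (CohSite.push J K u).obj S.X₃ ⟶ (shY K).obj (Ppre J u S.X₁ 1) :=
  (counitIso K ((CohSite.push J K u).obj S.X₃)).inv ≫ (shY K).map (apre K u hS)

lemma epi_ρ [Injective S.X₂] : Epi (ρ K u hS) := by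
  have := epi_apre K u hS
  have : Epi ((shY K).map (apre K u hS)) := inferInstance
  exact epi_comp _ _

lemma map_g_ρ : (CohSite.push J K u).map S.g ≫ ρ K u hS = 0 := by
  rw [ρ, ← Category.assoc, counitIso_inv_naturality, Category.assoc, ← Functor.map_comp]
  have := map_g_apre K u hS
  change ((CohSite.push J K u).map S.g).hom ≫ apre K u hS = 0 at this
  rw [this, Functor.map_zero, comp_zero]

lemma exact_ρ : (ShortComplex.mk _ _ (map_g_ρ K u hS)).Exact := by
  have h1 : ((preSC K u hS).map (shY K)).Exact := (preSC_exact K u hS).map _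
  refine (ShortComplex.exact_iff_of_iso ?_).2 h1
  refine ShortComplex.isoMk (counitIso K _).symm (counitIso K _).symm (Iso.refl _) ?_ ?_
  · exact (counitIso_inv_naturality K ((CohSite.push J K u).map S.g)).symm
  · exact (Category.comp_id _).symm

end DegreeOne

section Main

variable (J)

/-- degree zero: `V ↦ H^0(u V, F)` is the presheaf underlying `u_* F` -/
noncomputable def preIso₀ (F : Sheaf J AddCommGrpCat.{u}) :
    ((CohSite.push J K u).obj F).obj ≅ Ppre J u F 0 :=
  NatIso.ofComponents
    (fun V => (sectionsEquivH0 J F (u.obj V.unop)).toAddCommGrpIso)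
    (by
      intro V V' j
      ext t
      change sectionsEquivH0 J F _ (F.obj.map (u.op.map j) t) =
        (Sheaf.cohomologyPresheaf.{u} F 0).map (u.op.map j) (sectionsEquivH0 J F _ t)
      rw [cohomologyPresheaf_map_apply, sectionsEquivH0_apply, sectionsEquivH0_apply,
        Ext.mk₀_comp_mk₀]
      congr 1
      exact ofSect_res J F (u.op.map j).unop t)

/-- `R^i u_* F` is the sheafification of `V ↦ H^i(u V, F)`, positive degrees. -/
theorem rpush_iso_sheafify_succ (i : ℕ) : ∀ F : Sheaf J AddCommGrpCat.{u},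
    Nonempty ((CohSite.Rpush J K u (i + 1)).obj F ≅ (shY K).obj (Ppre J u F (i + 1))) := by
  induction i with
  | zero =>
    intro F
    have hS := injSES_shortExact F
    obtain ⟨π, w, hπ, hex⟩ :=
      Groth.Agent.Lib.Cohomology.RDShift.exists_rightDerived_one_cokernel hS (CohSite.push J K u)
    have := epi_ρ K u hS
    have hex' := exact_ρ K u hS
    exact ⟨IsColimit.coconePointUniqueUpToIso hex.gIsCokernel hex'.gIsCokernel⟩
  | succ i ih =>
    intro F
    have hS := injSES_shortExact F
    obtain ⟨e1⟩ := Groth.Agent.Lib.Cohomology.RDShift.rightDerived_shift hS (CohSite.push J K u) i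
    obtain ⟨e2⟩ := ih (injSES F).X₃
    exact ⟨e1 ≪≫ e2 ≪≫ sheafifyδIso K u hS i⟩

/-- `R^i u_* F` is the sheafification of `V ↦ H^i(u V, F)`. -/
theorem rpush_iso_sheafify (i : ℕ) (F : Sheaf J AddCommGrpCat.{u}) :
    Nonempty ((CohSite.Rpush J K u i).obj F ≅ (shY K).obj (Ppre J u F i)) := by
  cases i with
  | zero =>
    exact ⟨(Functor.rightDerivedZeroIsoSelf (CohSite.push J K u)).app F ≪≫
      (counitIso K ((CohSite.push J K u).obj F)).symm ≪≫ (shY K).mapIso (preIso₀ J K u F)⟩
  | succ i => exact rpush_iso_sheafify_succ J K u i F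

end Main

end Groth.Agent.Lib.Cohomology.SiteRpushSh
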