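import Mathlib.CategoryTheory.Triangulated.Pretriangulated
import Mathlib.CategoryTheory.Triangulated.Yoneda
import Mathlib.Algebra.Homology.ExactSequence
import Mathlib.Algebra.Homology.ShortComplex.Ab
import Mathlib.Algebra.Category.Grp.Abelian

/-!
# Long exact `Hom(-, K⟦n⟧)` sequence of a distinguished triangle, elementwise (helper5)
-/

set_option autoImplicit false
universe v u
open CategoryTheory CategoryTheory.Limits CategoryTheory.Pretriangulated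

namespace Groth.Agent.Lib.Cohomology.TriLES

/-- exactness of a two-step sequence of abelian groups from element-level data -/
lemma exact_mk₂ {A B E : Type u} [AddCommGroup A] [AddCommGroup B] [AddCommGroup E]
    (f : A →+ B) (g : B →+ E) (h0 : ∀ a, g (f a) = 0) (h1 : ∀ b, g b = 0 → ∃ a, f a = b) :
    (ComposableArrows.mk₂ (AddCommGrpCat.ofHom f) (AddCommGrpCat.ofHom g)).Exact := by
  refine ComposableArrows.exact₂_mk _ ?_ ?_
  · ext a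
    exact h0 a
  · rw [ShortComplex.ab_exact_iff]
    intro b hb
    exact h1 b hb

variable {D : Type u} [Category.{v} D] [Preadditive D] [HasZeroObject D] [HasShift D ℤ]
  [∀ n : ℤ, (shiftFunctor D n).Additive] [Pretriangulated D]

variable (T : Triangle D) (K : D)

/-- the connecting map `Hom(T.obj₁, K⟦n⟧) → Hom(T.obj₃, K⟦n+1⟧)` -/
noncomputable def conn (n : ℤ) : (T.obj₁ ⟶ K⟦n⟧) →+ (T.obj₃ ⟶ K⟦n + 1⟧) where
  toFun x := T.mor₃ ≫ x⟦(1 : ℤ)⟧' ≫ (shiftFunctorAdd' D n 1 (n + 1) rfl).inv.app K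
  map_zero' := by simp
  map_add' x y := by simp [Functor.map_add]

omit [HasZeroObject D] [Pretriangulated D] in
lemma conn_apply (n : ℤ) (x : T.obj₁ ⟶ K⟦n⟧) :
    conn T K n x = T.mor₃ ≫ x⟦(1 : ℤ)⟧' ≫ (shiftFunctorAdd' D n 1 (n + 1) rfl).inv.app K := rfl

variable {T} (hT : T ∈ distTriang D)

include hT

lemma conn_mor₁ (n : ℤ) (y : T.obj₂ ⟶ K⟦n⟧) : conn T K n (T.mor₁ ≫ y) = 0 := by
  rw [conn_apply, Functor.map_comp, ← Category.assoc, ← Category.assoc,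
    comp_distTriang_mor_zero₃₁ _ hT, zero_comp, zero_comp]

lemma mor₂_conn (n : ℤ) (x : T.obj₁ ⟶ K⟦n⟧) : T.mor₂ ≫ conn T K n x = 0 := by
  rw [conn_apply, ← Category.assoc, comp_distTriang_mor_zero₂₃ _ hT, zero_comp]

lemma exact_mid {M : D} (y : T.obj₂ ⟶ M) (hy : T.mor₁ ≫ y = 0) : ∃ g : T.obj₃ ⟶ M, T.mor₂ ≫ g = y := by
  obtain ⟨g, hg⟩ := Triangle.yoneda_exact₂ T hT y hy
  exact ⟨g, hg.symm⟩

lemma exact_left (n : ℤ) (x : T.obj₁ ⟶ K⟦n⟧) (hx : conn T K n x = 0) :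
    ∃ y : T.obj₂ ⟶ K⟦n⟧, T.mor₁ ≫ y = x := by
  have h1 : T.mor₃ ≫ x⟦(1 : ℤ)⟧' = 0 := by
    have := congrArg (fun z => z ≫ (shiftFunctorAdd' D n 1 (n + 1) rfl).hom.app K) hx
    simpa [conn_apply] using this
  obtain ⟨g, hg⟩ : ∃ g : T.obj₂⟦(1 : ℤ)⟧ ⟶ K⟦n⟧⟦(1 : ℤ)⟧,
      x⟦(1 : ℤ)⟧' = (-T.mor₁⟦(1 : ℤ)⟧') ≫ g :=
    Triangle.yoneda_exact₃ T.rotate (rot_of_distTriang _ hT) (x⟦(1 : ℤ)⟧') h1
  obtain ⟨y', rfl⟩ : ∃ y' : T.obj₂ ⟶ K⟦n⟧, y'⟦(1 : ℤ)⟧' = g :=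
    (shiftFunctor D (1 : ℤ)).map_surjective g
  refine ⟨-y', (shiftFunctor D (1 : ℤ)).map_injective ?_⟩
  rw [hg, Functor.map_comp, Functor.map_neg, Preadditive.comp_neg, Preadditive.neg_comp]

lemma exact_right (n : ℤ) (g : T.obj₃ ⟶ K⟦n + 1⟧) (hg : T.mor₂ ≫ g = 0) :
    ∃ x : T.obj₁ ⟶ K⟦n⟧, conn T K n x = g := by
  obtain ⟨h, hh⟩ := Triangle.yoneda_exact₃ T hT g hg
  obtain ⟨x, hx⟩ := (shiftFunctor D (1 : ℤ)).map_surjective
    (h ≫ (shiftFunctorAdd' D n 1 (n + 1) rfl).hom.app K)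
  refine ⟨x, ?_⟩
  rw [conn_apply, hx, hh]
  simp

end Groth.Agent.Lib.Cohomology.TriLES
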